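import Mathlib.AlgebraicGeometry.Morphisms.Finite
import Mathlib.AlgebraicGeometry.Morphisms.Flat
import Mathlib.AlgebraicGeometry.Noetherian
import Mathlib.AlgebraicGeometry.ResidueField
import Mathlib.AlgebraicGeometry.Pullbacks
import Mathlib.RingTheory.Ideal.KrullsHeightTheorem
import Mathlib.RingTheory.LocalProperties.Exactness
import Mathlib.RingTheory.Localization.BaseChange
import Mathlib.RingTheory.TensorProduct.Free
import Mathlib.LinearAlgebra.Matrix.ToLin
import Mathlib.LinearAlgebra.Dimension.Constructions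
import Mathlib.LinearAlgebra.Determinant
import Mathlib.RingTheory.Flat.Basic
import Mathlib.RingTheory.LocalRing.Module

/-!
A morphism of finite flat schemes over a Noetherian base is an isomorphism if its fibres over the
points of codimension at most one are: the determinant is a unit.
-/

set_option autoImplicit false
set_option backward.isDefEq.respectTransparency false

universe u

open CategoryTheory CategoryTheory.Limits AlgebraicGeometry TensorProduct

namespace Groth.Agent.L13.CodimOne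

section Alg

variable {R : Type u} [CommRing R] [IsNoetherianRing R] {M N : Type u} [AddCommGroup M] [Module R M]
  [AddCommGroup N] [Module R N]

lemma exists_height_le_one {d : R} (hd : ¬ IsUnit d) :
    ∃ q : Ideal R, q.IsPrime ∧ d ∈ q ∧ q.height ≤ 1 := by
  have hne : Ideal.span {d} ≠ ⊤ := fun e => hd (Ideal.span_singleton_eq_top.mp e)
  obtain ⟨m, hm, hdm⟩ := Ideal.exists_le_maximal _ hne
  haveI := hm.isPrime
  obtain ⟨q, hq, -⟩ := Ideal.exists_minimalPrimes_le hdm
  exact ⟨q, hq.isPrime, hq.1.2 (Ideal.mem_span_singleton_self d),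
    Ideal.height_le_one_of_isPrincipal_of_mem_minimalPrimes _ q hq⟩

lemma bijective_free [Nontrivial R] [Module.Free R M] [Module.Free R N] [Module.Finite R M]
    [Module.Finite R N] (l : M →ₗ[R] N)
    (h : ∀ (K : Type u) [Field K] [Algebra R K], (RingHom.ker (algebraMap R K)).height ≤ 1 →
      Function.Bijective (l.baseChange K)) : Function.Bijective l := by
  classical
  have key : ∀ d : R, ¬ IsUnit d → ∃ (K : Type u) (_ : Field K) (_ : Algebra R K),
      algebraMap R K d = 0 ∧ (RingHom.ker (algebraMap R K)).height ≤ 1 := by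
    intro d hd
    obtain ⟨q, hq, hdq, hht⟩ := exists_height_le_one hd
    refine ⟨FractionRing (R ⧸ q), inferInstance, inferInstance, ?_, ?_⟩
    · rw [IsScalarTower.algebraMap_apply R (R ⧸ q) (FractionRing (R ⧸ q)),
        Ideal.Quotient.algebraMap_eq, Ideal.Quotient.eq_zero_iff_mem.mpr hdq, map_zero]
    · rwa [IsScalarTower.algebraMap_eq R (R ⧸ q) (FractionRing (R ⧸ q)), ← RingHom.comap_ker,
        (RingHom.injective_iff_ker_eq_bot _).mp (IsFractionRing.injective (R ⧸ q) _),
        ← RingHom.ker_eq_comap_bot, Ideal.Quotient.algebraMap_eq, Ideal.mk_ker]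
  have hrk : Module.finrank R M = Module.finrank R N := by
    obtain ⟨K, _, _, -, hK⟩ := key 0 not_isUnit_zero
    have := LinearEquiv.finrank_eq (LinearEquiv.ofBijective _ (h K hK))
    rwa [Module.finrank_baseChange, Module.finrank_baseChange] at this
  let e : N ≃ₗ[R] M := LinearEquiv.ofFinrankEq _ _ hrk.symm
  have hdet : IsUnit (LinearMap.det (e.toLinearMap ∘ₗ l)) := by
    by_contra hd
    obtain ⟨K, _, _, h0, hK⟩ := key _ hd
    rw [← LinearMap.det_baseChange] at h0
    have hb : Function.Bijective ((e.toLinearMap ∘ₗ l).baseChange K) := by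
      rw [LinearMap.baseChange_comp, LinearMap.coe_comp]
      exact Function.Bijective.comp (LinearEquiv.baseChange R K N M e).bijective (h K hK)
    have := ((LinearMap.isUnit_iff_isUnit_det _).mp ((Module.End.isUnit_iff _).mpr hb))
    rw [h0] at this
    exact not_isUnit_zero this
  have hb := (Module.End.isUnit_iff _).mp ((LinearMap.isUnit_iff_isUnit_det _).mpr hdet)
  rw [LinearMap.coe_comp] at hb
  exact (Function.Bijective.of_comp_iff' e.bijective _).mp hb

/-- Bijectivity of a map of finite flat modules is tested at the primes of height at most one. -/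
theorem bijective_of_height_le_one [Module.Flat R M] [Module.Flat R N] [Module.Finite R M]
    [Module.Finite R N] (l : M →ₗ[R] N)
    (h : ∀ (K : Type u) [Field K] [Algebra R K], (RingHom.ker (algebraMap R K)).height ≤ 1 →
      Function.Bijective (l.baseChange K)) : Function.Bijective l := by
  refine bijective_of_isLocalized_maximal (fun P _ => Localization.AtPrime P ⊗[R] M)
    (fun P _ => TensorProduct.mk R (Localization.AtPrime P) M 1)
    (fun P _ => Localization.AtPrime P ⊗[R] N)
    (fun P _ => TensorProduct.mk R (Localization.AtPrime P) N 1) l fun P _ => ?_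
  let Rp := Localization.AtPrime P
  haveI : Module.Free Rp (Rp ⊗[R] M) := Module.free_of_flat_of_isLocalRing
  haveI : Module.Free Rp (Rp ⊗[R] N) := Module.free_of_flat_of_isLocalRing
  haveI : IsNoetherianRing Rp := IsLocalization.isNoetherianRing P.primeCompl Rp inferInstance
  have hmap : (IsLocalizedModule.map P.primeCompl (TensorProduct.mk R Rp M 1)
      (TensorProduct.mk R Rp N 1) l) = (l.baseChange Rp).restrictScalars R := by
    apply IsLocalizedModule.ext P.primeCompl (TensorProduct.mk R Rp M 1)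
      (IsLocalizedModule.map_units (TensorProduct.mk R Rp N 1))
    refine LinearMap.ext fun x => ?_
    simp only [LinearMap.comp_apply, IsLocalizedModule.map_apply]
    simp
  rw [hmap, LinearMap.coe_restrictScalars]
  refine bijective_free (l.baseChange Rp) fun K _ _ hK => ?_
  letI : Algebra R K := ((algebraMap Rp K).comp (algebraMap R Rp)).toAlgebra
  haveI : IsScalarTower R Rp K := IsScalarTower.of_algebraMap_eq fun _ => rfl
  have hker : (RingHom.ker (algebraMap R K)).height ≤ 1 := by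
    refine le_of_eq_of_le ?_ hK
    exact IsLocalization.height_under P.primeCompl (RingHom.ker (algebraMap Rp K))
  let eM := TensorProduct.AlgebraTensorModule.cancelBaseChange R Rp K K M
  let eN := TensorProduct.AlgebraTensorModule.cancelBaseChange R Rp K K N
  have hcomm : eN.toLinearMap ∘ₗ (l.baseChange Rp).baseChange K = l.baseChange K ∘ₗ eM.toLinearMap := by
    ext x
    simp [eM, eN]
  have := (h K hker).comp eM.bijective
  rw [← LinearEquiv.coe_toLinearMap, ← LinearMap.coe_comp, ← hcomm, LinearMap.coe_comp] at this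
  exact (Function.Bijective.of_comp_iff' eN.bijective _).mp this

end Alg

section Scheme

variable {P Q S : Scheme.{u}} (g : P ⟶ Q) (p : P ⟶ S) (q : Q ⟶ S)

/-- `g` is an isomorphism after base change along `t`. -/
def IsoAlong {T : Scheme.{u}} (t : T ⟶ S) : Prop :=
  IsPullback (pullback.fst p t ≫ g) (pullback.snd p t) q t

lemma isoAlong_of_isIso {T : Scheme.{u}} (t : T ⟶ S) (e₁ : p ≫ 𝟙 S = g ≫ q)
    (e₂ : t ≫ 𝟙 S = 𝟙 T ≫ t) [IsIso (pullback.map p t q t g (𝟙 _) (𝟙 S) e₁ e₂)] :
    IsoAlong g p q t :=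
  IsPullback.of_iso_pullback ⟨by rw [Category.assoc, ← e₁, Category.comp_id, pullback.condition]⟩
    (asIso (pullback.map p t q t g (𝟙 _) (𝟙 S) e₁ e₂)) (by simp) (by simp)

variable {g p q}

lemma IsoAlong.of_isPullback (hw : g ≫ q = p) {T : Scheme.{u}} {t : T ⟶ S} (h : IsoAlong g p q t)
    {T' P' : Scheme.{u}} {t' : T' ⟶ S} (r : T' ⟶ T) (ht : r ≫ t = t') {a : P' ⟶ P} {b : P' ⟶ T'}
    (H : IsPullback a b p t') : IsPullback (a ≫ g) b q t' := by
  subst ht
  let c : P' ⟶ pullback p t := pullback.lift a (b ≫ r) (by rw [H.w, Category.assoc])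
  have hc1 : c ≫ pullback.fst p t = a := pullback.lift_fst _ _ _
  have hc2 : c ≫ pullback.snd p t = b ≫ r := pullback.lift_snd _ _ _
  have H1 : IsPullback c b (pullback.snd p t) r :=
    IsPullback.of_right (h₁₂ := pullback.fst p t) (by rw [hc1]; exact H) hc2
      (IsPullback.of_hasPullback p t)
  have := H1.paste_horiz h
  rwa [← Category.assoc, hc1] at this

open CommRingCat in
/-- The ring level of the base change to a field. -/
lemma bijective_baseChange_of_isPullback {R M N K : Type u} [CommRing R] [CommRing M] [CommRing N]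
    [CommRing K] [Algebra R M] [Algebra R N] [Algebra R K] (l : M →ₐ[R] N)
    (H : IsPullback
      (Spec.map (ofHom (Algebra.TensorProduct.includeLeftRingHom : N →+* N ⊗[R] K)) ≫
        Spec.map (ofHom l.toRingHom))
      (Spec.map (ofHom (Algebra.TensorProduct.includeRight.toRingHom : K →+* N ⊗[R] K)))
      (Spec.map (ofHom (algebraMap R M))) (Spec.map (ofHom (algebraMap R K)))) :
    Function.Bijective (l.toLinearMap.baseChange K) := by
  have HM := isPullback_SpecMap_of_isPushout _ _ _ _ (CommRingCat.isPushout_tensorProduct R M K)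
  let L : M ⊗[R] K →ₐ[R] N ⊗[R] K := Algebra.TensorProduct.map l (AlgHom.id R K)
  have e : Spec.map (ofHom L.toRingHom) = (H.isoIsPullback _ _ HM).hom := by
    apply HM.hom_ext
    · rw [IsPullback.isoIsPullback_hom_fst, ← Spec.map_comp, ← Spec.map_comp]
      congr 1
    · rw [IsPullback.isoIsPullback_hom_snd, ← Spec.map_comp]
      congr 1
      ext x <;> simp [L]
  haveI : IsIso (Spec.map (ofHom L.toRingHom)) := by rw [e]; infer_instance
  haveI : IsIso (Scheme.Spec.map (ofHom L.toRingHom).op) :=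
    (inferInstance : IsIso (Spec.map (ofHom L.toRingHom)))
  haveI : IsIso (ofHom L.toRingHom).op := isIso_of_reflects_iso _ Scheme.Spec
  haveI : IsIso (ofHom L.toRingHom) := isIso_of_op _
  have hL : Function.Bijective L := ConcreteCategory.bijective_of_isIso (ofHom L.toRingHom)
  have hcomm : ⇑(l.toLinearMap.baseChange K) =
      ⇑(TensorProduct.comm R N K) ∘ ⇑L ∘ ⇑(TensorProduct.comm R K M) := by
    funext z
    induction z with
    | zero => simp
    | tmul x y => simp [L]
    | add x y hx hy => simp [map_add, hx, hy] at *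
  rw [hcomm]
  exact (TensorProduct.comm R N K).bijective.comp (hL.comp (TensorProduct.comm R K M).bijective)

lemma isPullback_fromSpec {X Y : Scheme.{u}} (f : X ⟶ Y) {V : Y.Opens} (hV : IsAffineOpen V)
    (hW : IsAffineOpen (f ⁻¹ᵁ V)) :
    IsPullback hW.fromSpec (Spec.map (f.app V)) f hV.fromSpec := by
  have e : f ∣_ V ≫ hV.isoSpec.hom = hW.isoSpec.hom ≫ Spec.map (f.app V) := by
    rw [← cancel_mono hV.isoSpec.inv, ← cancel_mono V.ι]
    simp only [Category.assoc, IsAffineOpen.isoSpec_inv_ι, IsAffineOpen.isoSpec_hom_fromSpec,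
      morphismRestrict_ι]
    rw [Scheme.Hom.app_eq_appLE, hV.SpecMap_appLE_fromSpec f hW le_rfl,
      IsAffineOpen.isoSpec_hom_fromSpec_assoc]
  refine IsPullback.of_iso (isPullback_morphismRestrict f V).flip hW.isoSpec (Iso.refl _)
    hV.isoSpec (Iso.refl _) ?_ e ?_ ?_ <;> simp [← IsAffineOpen.isoSpec_inv_ι]

lemma height_le_of_stalk {U : S.Opens} (hU : IsAffineOpen U) (x : PrimeSpectrum Γ(S, U))
    (hx : x.asIdeal.height ≤ 1) : ringKrullDim (S.presheaf.stalk (hU.fromSpec x)) ≤ 1 := by
  have hmem : hU.fromSpec x ∈ U := hU.range_fromSpec.le ⟨x, rfl⟩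
  letI := TopCat.Presheaf.algebra_section_stalk S.presheaf ⟨hU.fromSpec x, hmem⟩
  haveI := hU.isLocalization_stalk' x hmem
  rw [IsLocalization.AtPrime.ringKrullDim_eq_height x.asIdeal (S.presheaf.stalk (hU.fromSpec x))]
  exact_mod_cast hx

variable (g p q)

/-- A morphism of finite flat schemes over a Noetherian base that is an isomorphism on the fibres over
the points of codimension at most one is an isomorphism. -/
theorem isIso_of_fibres [IsLocallyNoetherian S] [IsFinite p] [Flat p] [IsFinite q] [Flat q]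
    (hw : g ≫ q = p)
    (h : ∀ s : S, ringKrullDim (S.presheaf.stalk s) ≤ 1 → IsoAlong g p q (S.fromSpecResidueField s)) :
    IsIso g := by
  have hcov : ⨆ U : S.affineOpens, q ⁻¹ᵁ U.1 = ⊤ := by
    rw [← Scheme.Hom.preimage_iSup, iSup_affineOpens_eq_top]; rfl
  refine (IsZariskiLocalAtTarget.iff_of_iSup_eq_top (P := MorphismProperty.isomorphisms Scheme) _ hcov).mpr
    fun U => ?_
  show IsIso (g ∣_ (q ⁻¹ᵁ U.1))
  have hQ := U.2.preimage q
  have hP : IsAffineOpen (g ⁻¹ᵁ (q ⁻¹ᵁ U.1)) := by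
    rw [← Scheme.Hom.comp_preimage, hw]; exact U.2.preimage p
  have hgU := isPullback_fromSpec g hQ hP
  suffices hb : Function.Bijective (g.app (q ⁻¹ᵁ U.1)).hom by
    haveI : IsIso (g.app (q ⁻¹ᵁ U.1)) := (ConcreteCategory.isIso_iff_bijective _).mpr hb
    haveI : IsAffine (q ⁻¹ᵁ U.1).toScheme := hQ
    haveI : IsAffine (g ⁻¹ᵁ (q ⁻¹ᵁ U.1)).toScheme := hP
    have e : g ∣_ (q ⁻¹ᵁ U.1) =
        hP.isoSpec.hom ≫ Spec.map (g.app (q ⁻¹ᵁ U.1)) ≫ hQ.isoSpec.inv := by
      rw [← cancel_mono (q ⁻¹ᵁ U.1).ι, morphismRestrict_ι]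
      simp only [Category.assoc, IsAffineOpen.isoSpec_inv_ι]
      rw [← hgU.w, IsAffineOpen.isoSpec_hom_fromSpec_assoc]
    rw [e]
    infer_instance
  subst hw
  haveI : IsNoetherianRing Γ(S, U.1) := IsLocallyNoetherian.component_noetherian U
  let φq : Γ(S, U.1) →+* Γ(Q, q ⁻¹ᵁ U.1) := (q.app U.1).hom
  let φp : Γ(S, U.1) →+* Γ(P, g ⁻¹ᵁ (q ⁻¹ᵁ U.1)) := ((g ≫ q).app U.1).hom
  letI := φq.toAlgebra
  letI := φp.toAlgebra
  haveI : Module.Finite Γ(S, U.1) Γ(Q, q ⁻¹ᵁ U.1) := q.finite_app U.1 U.2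
  haveI : Module.Finite Γ(S, U.1) Γ(P, g ⁻¹ᵁ (q ⁻¹ᵁ U.1)) := (g ≫ q).finite_app U.1 U.2
  haveI : Module.Flat Γ(S, U.1) Γ(Q, q ⁻¹ᵁ U.1) := by
    have : φq.Flat := by
      show (q.app U.1).hom.Flat
      rw [Scheme.Hom.app_eq_appLE]
      exact q.flat_appLE U.2 hQ le_rfl
    exact this
  haveI : Module.Flat Γ(S, U.1) Γ(P, g ⁻¹ᵁ (q ⁻¹ᵁ U.1)) := by
    have : φp.Flat := by
      show ((g ≫ q).app U.1).hom.Flat
      rw [Scheme.Hom.app_eq_appLE]
      exact (g ≫ q).flat_appLE U.2 hP le_rfl
    exact this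
  let l : Γ(Q, q ⁻¹ᵁ U.1) →ₐ[Γ(S, U.1)] Γ(P, g ⁻¹ᵁ (q ⁻¹ᵁ U.1)) :=
    { (g.app (q ⁻¹ᵁ U.1)).hom with commutes' := fun _ => rfl }
  refine bijective_of_height_le_one l.toLinearMap fun K _ _ hK => ?_
  let x : PrimeSpectrum Γ(S, U.1) := ⟨RingHom.ker (algebraMap Γ(S, U.1) K), RingHom.ker_isPrime _⟩
  let r₀ : Spec (CommRingCat.of K) ⟶ Spec Γ(S, U.1) :=
    Spec.map (CommRingCat.ofHom (algebraMap Γ(S, U.1) K))
  let t : Spec (CommRingCat.of K) ⟶ S := r₀ ≫ U.2.fromSpec
  set s := t (IsLocalRing.closedPoint K)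
  have hs : s = U.2.fromSpec x := by
    show U.2.fromSpec (r₀ _) = _
    congr 1
    apply PrimeSpectrum.ext
    show Ideal.comap (algebraMap Γ(S, U.1) K) (IsLocalRing.maximalIdeal K) = _
    rw [(IsLocalRing.isField_iff_maximalIdeal_eq).mp (Field.toIsField K)]
    rfl
  have hdim : ringKrullDim (S.presheaf.stalk s) ≤ 1 := by
    rw [hs]; exact height_le_of_stalk U.2 x hK
  let r := Spec.map (S.descResidueField (Scheme.stalkClosedPointTo t))
  have hr : r ≫ S.fromSpecResidueField s = t :=
    Scheme.descResidueField_stalkClosedPointTo_fromSpecResidueField K S t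
  have HN := isPullback_SpecMap_of_isPushout _ _ _ _
    (CommRingCat.isPushout_tensorProduct Γ(S, U.1) Γ(P, g ⁻¹ᵁ (q ⁻¹ᵁ U.1)) K)
  have HP := HN.paste_horiz (isPullback_fromSpec (g ≫ q) U.2 hP)
  have HQt := (h s hdim).of_isPullback rfl r hr (a := _) (b := _) HP
  rw [Category.assoc] at HQt
  have e : (hP.fromSpec ≫ g : Spec Γ(P, g ⁻¹ᵁ (q ⁻¹ᵁ U.1)) ⟶ Q) =
      Spec.map (CommRingCat.ofHom l.toRingHom) ≫ hQ.fromSpec := hgU.w
  rw [show hP.fromSpec ≫ g = _ from e, ← Category.assoc] at HQt
  refine bijective_baseChange_of_isPullback l ?_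
  refine IsPullback.of_right HQt ?_ (isPullback_fromSpec q U.2 hQ)
  rw [Category.assoc]
  refine Eq.trans ?_ HN.w
  rw [← Spec.map_comp]
  rfl

/-- A closed subset containing all points of codimension at most one is everything. -/
theorem eq_univ_of_isClosed {Z : Set S} (hZ : IsClosed Z)
    (h : ∀ s : S, ringKrullDim (S.presheaf.stalk s) ≤ 1 → s ∈ Z) : Z = Set.univ := by
  refine Set.eq_univ_of_forall fun s => ?_
  obtain ⟨U, hU, hsU, -⟩ : ∃ U : S.Opens, IsAffineOpen U ∧ s ∈ U ∧ U ≤ ⊤ := by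
    obtain ⟨V, hV, hyV, hVU⟩ :=
      TopologicalSpace.Opens.isBasis_iff_nbhd.mp S.isBasis_affineOpens (TopologicalSpace.Opens.mem_top s)
    exact ⟨V, hV, hyV, hVU⟩
  set x : PrimeSpectrum Γ(S, U) := hU.primeIdealOf ⟨s, hsU⟩
  have hx : hU.fromSpec x = s := hU.fromSpec_primeIdealOf ⟨s, hsU⟩
  obtain ⟨m, hm, hmx⟩ := Ideal.exists_minimalPrimes_le (I := (⊥ : Ideal Γ(S, U))) (J := x.asIdeal) bot_le
  let y : PrimeSpectrum Γ(S, U) := ⟨m, hm.isPrime⟩
  have hy : hU.fromSpec y ∈ Z := h _ (height_le_of_stalk hU y (by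
    haveI := hm.isPrime; rw [Ideal.height_eq_zero_iff.mpr hm]; exact zero_le_one))
  have hsp : hU.fromSpec y ⤳ s := by
    rw [← hx]
    exact ((PrimeSpectrum.le_iff_specializes y x).mp hmx).map hU.fromSpec.continuous
  exact hsp.mem_closed hZ hy

end Scheme

end Groth.Agent.L13.CodimOne
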