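/-
Associated primes of quotients by ideals with Cohen–Macaulay or Gorenstein quotient are minimal.
-/
import Groth.Prelude.Def_CAlg
import Groth.Agent.L04.CMBasic
import Groth.Agent.L04.CMLoc
import Groth.Agent.S0341
import Mathlib.RingTheory.Ideal.AssociatedPrime.Finiteness

universe u

namespace Groth.L13.Liaison

theorem minimal_of_mem_associatedPrimes {Q : Type u} [CommRing Q] [LocCoh.IsCohenMacaulayRing Q]
    {P : Ideal Q} (hP : P ∈ associatedPrimes Q Q) : P ∈ minimalPrimes Q := by
  haveI := IsAssociatedPrime.isPrime hP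
  have h1 := Groth.L04.idealDepth_eq_zero_of_mem_associatedPrimes hP
  rw [Groth.L04.isCohenMacaulayRing_iff_height.mp inferInstance P (Ideal.IsPrime.ne_top ‹_›)] at h1
  have h0 : P.height = 0 := ENat.lt_one_iff_eq_zero.mp (not_le.mp h1)
  exact Ideal.height_eq_zero_iff.mp h0

theorem isCohenMacaulayRing_of_gorenstein (Q : Type u) [CommRing Q] [LocCoh.IsGorensteinRing Q] :
    LocCoh.IsCohenMacaulayRing Q :=
  { isCohenMacaulayLocalRing_localization := fun p _ =>
      haveI := LocCoh.IsGorensteinRing.isGorensteinLocalRing_localization p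
      Groth.Agent.S0341.result _ }

theorem minimalPrimes_of_mem_associatedPrimes_quotient {R : Type u} [CommRing R] [IsNoetherianRing R]
    {c p : Ideal R} [LocCoh.IsCohenMacaulayRing (R ⧸ c)]
    (hp : p ∈ associatedPrimes R (R ⧸ c)) : p ∈ c.minimalPrimes := by
  obtain ⟨hpp, x, hx⟩ := isAssociatedPrime_iff.mp hp
  have hcp : c ≤ p := by
    intro a ha
    rw [hx, Submodule.mem_colon_singleton]
    simp [Algebra.smul_def, Ideal.Quotient.eq_zero_iff_mem.mpr ha]
  set π := Ideal.Quotient.mk c
  have hcomap : (p.map π).comap π = p := by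
    rw [Ideal.comap_map_of_surjective π Ideal.Quotient.mk_surjective, sup_eq_left]
    rwa [← RingHom.ker_eq_comap_bot, Ideal.mk_ker]
  haveI : (p.map π).IsPrime :=
    Ideal.map_isPrime_of_surjective Ideal.Quotient.mk_surjective (by rwa [Ideal.mk_ker])
  have hP : p.map π ∈ associatedPrimes (R ⧸ c) (R ⧸ c) := by
    refine isAssociatedPrime_iff.mpr ⟨inferInstance, x, ?_⟩
    ext b
    obtain ⟨a, rfl⟩ := Ideal.Quotient.mk_surjective b
    rw [Submodule.mem_colon_singleton, ← Ideal.mem_comap, hcomap, hx, Submodule.mem_colon_singleton]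
    simp [Algebra.smul_def, π]
  have hmin := minimal_of_mem_associatedPrimes hP
  have h2 : (p.map π).comap π ∈ c.minimalPrimes := by
    rw [Ideal.minimalPrimes_eq_comap]
    exact ⟨_, hmin, rfl⟩
  rwa [hcomap] at h2

/-- Linked ideals without common associated primes intersect in the linking ideal. -/
theorem inf_eq_of_linked {R : Type u} [CommRing R] [IsNoetherianRing R] {c I J : Ideal R}
    [LocCoh.IsCohenMacaulayRing (R ⧸ c)]
    (hIJ : c.colon (I : Set R) = J) (hJI : c.colon (J : Set R) = I)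
    (hdisj : Disjoint (associatedPrimes R (R ⧸ I)) (associatedPrimes R (R ⧸ J))) :
    I ⊓ J = c := by
  have hcI : c ≤ I := hJI ▸ fun a ha => Submodule.mem_colon.mpr fun s _ => c.mul_mem_right s ha
  have hcJ : c ≤ J := hIJ ▸ fun a ha => Submodule.mem_colon.mpr fun s _ => c.mul_mem_right s ha
  refine le_antisymm (fun x hx => ?_) (le_inf hcI hcJ)
  by_contra hxc
  obtain ⟨p, hp, hle⟩ := exists_le_isAssociatedPrime_of_isNoetherianRing R
    (Ideal.Quotient.mk c x) (fun h => hxc (Ideal.Quotient.eq_zero_iff_mem.mp h))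
  have hmin := minimalPrimes_of_mem_associatedPrimes_quotient (c := c) hp
  have hJp : J ≤ p := fun j hj => hle <| by
    rw [Submodule.mem_colon_singleton]
    have h1 : x ∈ c.colon (J : Set R) := hJI.symm ▸ hx.1
    have h2 := Submodule.mem_colon.mp h1 j hj
    rw [smul_eq_mul, mul_comm] at h2
    simpa [Algebra.smul_def, ← map_mul, Ideal.Quotient.eq_zero_iff_mem] using h2
  have hIp : I ≤ p := fun i hi => hle <| by
    rw [Submodule.mem_colon_singleton]
    have h1 : x ∈ c.colon (I : Set R) := hIJ.symm ▸ hx.2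
    have h2 := Submodule.mem_colon.mp h1 i hi
    rw [smul_eq_mul, mul_comm] at h2
    simpa [Algebra.smul_def, ← map_mul, Ideal.Quotient.eq_zero_iff_mem] using h2
  have key : ∀ K : Ideal R, c ≤ K → K ≤ p → p ∈ associatedPrimes R (R ⧸ K) := fun K hcK hKp => by
    refine Module.associatedPrimes.minimalPrimes_annihilator_subset_associatedPrimes R (R ⧸ K) ?_
    rw [Ideal.annihilator_quotient]
    exact ⟨⟨hmin.1.1, hKp⟩, fun q hq hqp => hmin.2 ⟨hq.1, hcK.trans hq.2⟩ hqp⟩
  exact Set.disjoint_left.mp hdisj (key I hcI hIp) (key J hcJ hJp)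

end Groth.L13.Liaison
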