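/-
Homogeneous ideals with Cohen–Macaulay quotient are equidimensional.
-/
import Groth.Prelude.Def_GrSyz
import Groth.Agent.L13.LiaisonBasic
import Groth.Agent.L04.DepthLoc
import Groth.Agent.L04.RegularPd
import Groth.Agent.S0603
import Mathlib.RingTheory.RegularLocalRing.Polynomial
import Mathlib.RingTheory.GradedAlgebra.Radical
import Mathlib.RingTheory.GradedAlgebra.Homogeneous.Ideal
import Mathlib.RingTheory.Localization.Ideal

universe u

namespace Groth.L13.Liaison

/-- In a Cohen–Macaulay ring the height of a prime can be computed above any minimal prime. -/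
theorem height_map_eq_of_minimal {Q : Type u} [CommRing Q] [LocCoh.IsCohenMacaulayRing Q]
    {P M : Ideal Q} [P.IsPrime] [M.IsPrime] (hP : P ∈ minimalPrimes Q) (hPM : P ≤ M) :
    (M.map (Ideal.Quotient.mk P)).height = M.height := by
  let B := Localization.AtPrime M
  haveI := LocCoh.IsCohenMacaulayRing.isCohenMacaulayLocalRing_localization M
  have hd : Disjoint (M.primeCompl : Set Q) (P : Set Q) :=
    Set.disjoint_left.mpr fun x hx hxP => hx (hPM hxP)
  haveI := IsLocalization.isPrime_of_isPrime_disjoint M.primeCompl B P ‹_› hd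
  have h := Groth.Agent.S0603.height_add_quotient_of_cm (P.map (algebraMap Q B))
  rw [Groth.L04.ringKrullDim_localization_quotient hPM, IsLocalization.height_map_of_disjoint
    M.primeCompl P hd, Ideal.height_eq_zero_iff.mpr hP,
    IsLocalization.AtPrime.ringKrullDim_eq_height M] at h
  simpa using h

theorem isHomogeneous_of_mem_minimalPrimes {ι A σ : Type*} [CommRing A] [SetLike σ A]
    [AddSubmonoidClass σ A] [AddCommMonoid ι] [LinearOrder ι] [IsOrderedCancelAddMonoid ι]
    {𝒜 : ι → σ} [GradedRing 𝒜] {I q : Ideal A} (hI : I.IsHomogeneous 𝒜) (hq : q ∈ I.minimalPrimes) :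
    q.IsHomogeneous 𝒜 := by
  have h1 : (q.homogeneousCore 𝒜).toIdeal.IsPrime := hq.1.1.homogeneousCore
  have hle := Ideal.toIdeal_homogeneousCore_le 𝒜 q
  have h2 : I ≤ (q.homogeneousCore 𝒜).toIdeal :=
    (Ideal.homogeneousCore.gc 𝒜 ⟨I, hI⟩ q).1 hq.1.2
  rw [← le_antisymm hle (hq.2 ⟨h1, h2⟩ hle)]
  exact (q.homogeneousCore 𝒜).isHomogeneous

theorem height_map_map {R : Type u} [CommRing R] {c p : Ideal R} (h : c ≤ p) (m : Ideal R) :
    ((m.map (Ideal.Quotient.mk c)).map (Ideal.Quotient.mk (p.map (Ideal.Quotient.mk c)))).height =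
      (m.map (Ideal.Quotient.mk p)).height := by
  let e := DoubleQuot.quotQuotEquivQuotOfLE h
  rw [← RingEquiv.height_map e]
  congr 1
  change Ideal.map (e : (R ⧸ c) ⧸ p.map (Ideal.Quotient.mk c) →+* R ⧸ p) _ = _
  rw [Ideal.map_map, Ideal.map_map]
  rfl

section Poly

variable {K : Type u} [Field K] {n : ℕ} {c : Ideal (MvPolynomial (Fin n) K)}

/-- The vertex. -/
noncomputable abbrev vertex (K : Type u) [Field K] (n : ℕ) : Ideal (MvPolynomial (Fin n) K) :=
  RingHom.ker (MvPolynomial.constantCoeff : MvPolynomial (Fin n) K →+* K)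

theorem minimalPrimes_le_vertex (hc : c.IsHomogeneous (GrSyz.stdGr K (Fin n)))
    {q : Ideal (MvPolynomial (Fin n) K)} (hq : q ∈ c.minimalPrimes) : q ≤ vertex K n := by
  intro x hx
  have hh := isHomogeneous_of_mem_minimalPrimes hc hq
  classical
  have h0 : ((DirectSum.decompose (GrSyz.stdGr K (Fin n)) x) 0 : MvPolynomial (Fin n) K) ∈ q := hh 0 hx
  rw [RingHom.mem_ker]
  by_contra hne
  refine hq.1.1.ne_top (q.eq_top_of_isUnit_mem h0 ?_)
  have h1 : ((DirectSum.decompose (GrSyz.stdGr K (Fin n)) x) 0 : MvPolynomial (Fin n) K) =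
      MvPolynomial.C (MvPolynomial.constantCoeff x) := by
    rw [show ((DirectSum.decompose (GrSyz.stdGr K (Fin n)) x) 0 : MvPolynomial (Fin n) K) =
      MvPolynomial.weightedHomogeneousComponent (fun _ : Fin n => (1 : ℤ)) 0 x from
      MvPolynomial.decompose'_apply K (fun _ : Fin n => (1 : ℤ)) x 0]
    refine MvPolynomial.ext _ _ fun d => ?_
    rw [MvPolynomial.coeff_weightedHomogeneousComponent, MvPolynomial.coeff_C,
      MvPolynomial.constantCoeff_eq]
    by_cases hd : d = 0
    · subst hd; simp
    · rw [if_neg (Ne.symm hd), if_neg]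
      rw [Finsupp.weight_apply, Finsupp.sum]
      intro hsum
      apply hd
      ext i
      by_contra hi
      have h2 := (Finset.sum_eq_zero_iff_of_nonneg fun j _ => by simp).mp hsum i
        (Finsupp.mem_support_iff.mpr hi)
      exact hi (by simpa using h2)
  rw [h1]
  exact (IsUnit.mk0 _ hne).map MvPolynomial.C

/-- All minimal primes of a homogeneous ideal with Cohen–Macaulay quotient have the same height. -/
theorem height_eq_of_mem_minimalPrimes (hc : c.IsHomogeneous (GrSyz.stdGr K (Fin n)))
    [LocCoh.IsCohenMacaulayRing (MvPolynomial (Fin n) K ⧸ c)] {q : Ideal (MvPolynomial (Fin n) K)}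
    (hq : q ∈ c.minimalPrimes) : q.height = c.height := by
  let R := MvPolynomial (Fin n) K
  let m := vertex K n
  haveI hmmax : m.IsMaximal := RingHom.ker_isMaximal_of_surjective MvPolynomial.constantCoeff
    fun a => ⟨MvPolynomial.C a, MvPolynomial.constantCoeff_C _ a⟩
  let π := Ideal.Quotient.mk c
  have key : ∀ p : Ideal R, p ∈ c.minimalPrimes → p.height + (m.map π).height = m.height := by
    intro p hp
    haveI := hp.1.1
    have hpm := minimalPrimes_le_vertex hc hp
    haveI : (m.map π).IsPrime := Ideal.map_isPrime_of_surjective Ideal.Quotient.mk_surjective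
      (by rw [Ideal.mk_ker]; exact hp.1.2.trans hpm)
    haveI : (p.map π).IsPrime := Ideal.map_isPrime_of_surjective Ideal.Quotient.mk_surjective
      (by rw [Ideal.mk_ker]; exact hp.1.2)
    have hP : p.map π ∈ minimalPrimes (R ⧸ c) := by
      have h1 := hp
      rw [Ideal.minimalPrimes_eq_comap] at h1
      obtain ⟨P, hP, hPp⟩ := h1
      rw [← hPp, Ideal.map_comap_of_surjective π Ideal.Quotient.mk_surjective]
      exact hP
    have h2 := height_map_eq_of_minimal hP (Ideal.map_mono hpm)
    have h3 := Groth.L04.height_add_height_quotient p m hpm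
    rw [← h2, height_map_map hp.1.2 m]
    exact h3
  haveI : Nontrivial (R ⧸ c) := Ideal.Quotient.nontrivial_iff.mpr fun h => by
    rw [h, Ideal.minimalPrimes_top] at hq; exact hq
  refine le_antisymm ?_ (Ideal.height_mono hq.1.2)
  rw [Ideal.height_eq_inf_minimalPrimes (I := c)]
  refine le_iInf₂ fun p hp => ?_
  have h1 := (key q hq).trans (key p hp).symm
  have hfin : (m.map π).height ≠ ⊤ := Ideal.height_ne_top (by
    intro h
    have := Ideal.comap_map_of_surjective π Ideal.Quotient.mk_surjective (I := m)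
    rw [h, Ideal.comap_top, ← RingHom.ker_eq_comap_bot, Ideal.mk_ker,
      sup_eq_left.mpr (hq.1.2.trans (minimalPrimes_le_vertex hc hq))] at this
    exact hmmax.ne_top this.symm)
  exact ((ENat.add_le_add_iff_right hfin).mp h1.le)

end Poly

/-- Associated primes of a linked ideal are associated primes of the linking ideal. -/
theorem associatedPrimes_colon_subset {R : Type u} [CommRing R] [IsNoetherianRing R] (c I : Ideal R)
    {p : Ideal R} (hp : p ∈ associatedPrimes R (R ⧸ c.colon (I : Set R))) :
    p ∈ associatedPrimes R (R ⧸ c) := by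
  classical
  obtain ⟨hpp, x, hx⟩ := isAssociatedPrime_iff.mp hp
  obtain ⟨x, rfl⟩ := Ideal.Quotient.mk_surjective x
  obtain ⟨k, a, ha⟩ := Submodule.fg_iff_exists_fin_generating_family.mp I.fg_of_isNoetherianRing
  have hmem : ∀ r, r ∈ p ↔ ∀ i, r * (x * a i) ∈ c := by
    intro r
    rw [hx, Submodule.mem_colon_singleton, Submodule.mem_bot, Algebra.smul_def,
      Ideal.Quotient.algebraMap_eq, ← map_mul, Ideal.Quotient.eq_zero_iff_mem]
    constructor
    · intro h i
      have := Submodule.mem_colon.mp h (a i) (ha ▸ Submodule.subset_span ⟨i, rfl⟩)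
      rwa [smul_eq_mul, mul_assoc] at this
    · intro h
      refine Submodule.mem_colon.mpr fun b hb => ?_
      have hle : Submodule.span R (Set.range a) ≤ Submodule.comap (LinearMap.mulLeft R (r * x)) c := by
        refine Submodule.span_le.mpr ?_
        rintro _ ⟨i, rfl⟩
        change r * x * a i ∈ c
        rw [mul_assoc]; exact h i
      rw [← ha] at hb
      exact hle hb
  let A : Fin k → Ideal R := fun i => (⊥ : Submodule R (R ⧸ c)).colon {Ideal.Quotient.mk c (x * a i)}
  have hA : ∀ r i, r ∈ A i ↔ r * (x * a i) ∈ c := fun r i => by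
    rw [Submodule.mem_colon_singleton, Submodule.mem_bot, Algebra.smul_def,
      Ideal.Quotient.algebraMap_eq, ← map_mul, Ideal.Quotient.eq_zero_iff_mem]
  have hle : (Finset.univ : Finset (Fin k)).inf A ≤ p := fun r hr => (hmem r).mpr fun i =>
    (hA r i).mp (Finset.inf_le (f := A) (Finset.mem_univ i) hr)
  obtain ⟨i, -, hi⟩ := (hpp.inf_le').mp hle
  exact isAssociatedPrime_iff.mpr ⟨hpp, Ideal.Quotient.mk c (x * a i),
    le_antisymm (fun r hr => (hA r i).mpr ((hmem r).mp hr i)) hi⟩

end Groth.L13.Liaison
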