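/-
Double annihilators in zero-dimensional Gorenstein rings and linkage.
-/
import Groth.Agent.L13.LiaisonBasic
import Groth.Agent.L02.GorensteinReflexive
import Groth.Agent.L01.GorExt
import Mathlib.Algebra.Category.ModuleCat.Injective
import Mathlib.RingTheory.Localization.Ideal

universe u

open CategoryTheory CategoryTheory.Abelian IsLocalRing

attribute [local instance] HasDerivedCategory.standard

namespace Groth.L13.Liaison

set_option backward.isDefEq.respectTransparency false in
theorem injective_self_of_dim_zero {A : Type u} [CommRing A] [LocCoh.IsGorensteinLocalRing A]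
    (hd : ringKrullDim A = 0) : Module.Injective A A := by
  haveI : HasInjectiveDimensionLT (ModuleCat.of A A) 1 :=
    Groth.L06.ExtDim.hasInjectiveDimensionLT_of_forall_quotient 0 _ fun I =>
      Groth.L01.GorExt.subsingleton_ext_above (n := 0) hd (A ⧸ I) le_rfl
  haveI : Injective (ModuleCat.of A A) := injective_iff_hasInjectiveDimensionLT_one.mpr ‹_›
  exact Module.injective_module_of_injective_object A A

theorem mem_span_of_forall_annihilates {A : Type u} [CommRing A] [Module.Injective A A] {n : ℕ}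
    (a : Fin n → A) (x : A) (h : ∀ r : A, (∀ i, r * a i = 0) → r * x = 0) :
    x ∈ Ideal.span (Set.range a) := by
  let g : A →ₗ[A] (Fin n → A) := LinearMap.toSpanSingleton A _ a
  let v : A →ₗ[A] A := LinearMap.toSpanSingleton A A x
  have hle : LinearMap.ker g ≤ LinearMap.ker v := fun r hr =>
    h r fun i => congrFun hr i
  obtain ⟨e, he⟩ := Module.Injective.out ((LinearMap.ker g).liftQ g le_rfl)
    (LinearMap.ker_eq_bot.mp ((LinearMap.ker g).ker_liftQ_eq_bot g le_rfl le_rfl))
    ((LinearMap.ker g).liftQ v hle)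
  have h1 : e a = x := by
    have h2 := he (Submodule.Quotient.mk 1)
    rw [Submodule.liftQ_apply, Submodule.liftQ_apply, LinearMap.toSpanSingleton_apply,
      LinearMap.toSpanSingleton_apply, one_smul, one_smul] at h2
    exact h2
  rw [← h1]
  conv =>
    arg 2
    rw [pi_eq_sum_univ a]
  rw [map_sum]
  refine Ideal.sum_mem _ fun i _ => ?_
  rw [map_smul, smul_eq_mul]
  exact Ideal.mul_mem_right _ _ (Ideal.subset_span ⟨i, rfl⟩)

/-- Unmixed ideals of the same height as a Gorenstein ideal are recovered by linking twice. -/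
theorem colon_colon_eq_self {R : Type u} [CommRing R] [IsNoetherianRing R] {c I : Ideal R}
    [LocCoh.IsGorensteinRing (R ⧸ c)] (hcI : c ≤ I)
    (hI : ∀ p ∈ associatedPrimes R (R ⧸ I), p ∈ c.minimalPrimes) :
    c.colon ((c.colon (I : Set R) : Ideal R) : Set R) = I := by
  refine le_antisymm (fun x hx => ?_) (fun x hx => Submodule.mem_colon.mpr fun s hs => ?_)
  swap
  · have := Submodule.mem_colon.mp hs x hx
    rwa [smul_eq_mul, mul_comm] at this
  by_contra hxI
  obtain ⟨p, hp, hle⟩ := exists_le_isAssociatedPrime_of_isNoetherianRing R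
    (Ideal.Quotient.mk I x) (fun h => hxI (Ideal.Quotient.eq_zero_iff_mem.mp h))
  have hmin := hI p hp
  rw [Ideal.minimalPrimes_eq_comap] at hmin
  obtain ⟨P, hP, hPp⟩ := hmin
  haveI := hP.1.1
  let A := Localization.AtPrime P
  haveI := LocCoh.IsGorensteinRing.isGorensteinLocalRing_localization (A := R ⧸ c) P
  have hd : ringKrullDim A = 0 := by
    rw [IsLocalization.AtPrime.ringKrullDim_eq_height P A, Ideal.height_eq_zero_iff.mpr hP]
    rfl
  haveI := injective_self_of_dim_zero hd
  obtain ⟨n, a, ha⟩ := Submodule.fg_iff_exists_fin_generating_family.mp I.fg_of_isNoetherianRing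
  let f : R →+* A := (algebraMap (R ⧸ c) A).comp (Ideal.Quotient.mk c)
  have h1 : f x ∈ Ideal.span (Set.range (f ∘ a)) := by
    refine mem_span_of_forall_annihilates _ _ fun r hr => ?_
    obtain ⟨y, s, rfl⟩ := IsLocalization.exists_mk'_eq P.primeCompl r
    obtain ⟨r₀, rfl⟩ := Ideal.Quotient.mk_surjective y
    have h2 : ∀ i, ∃ t : R, t ∉ p ∧ t * (r₀ * a i) ∈ c := fun i => by
      have h3 := hr i
      rw [Function.comp_apply, RingHom.comp_apply, mul_comm, IsLocalization.mul_mk'_eq_mk'_of_mul,
        IsLocalization.mk'_eq_zero_iff] at h3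
      obtain ⟨⟨t, ht⟩, h4⟩ := h3
      obtain ⟨t, rfl⟩ := Ideal.Quotient.mk_surjective t
      refine ⟨t, fun h => ht ?_, ?_⟩
      · rw [← hPp] at h; exact h
      · rw [← Ideal.Quotient.eq_zero_iff_mem, map_mul, map_mul]
        rw [mul_comm (Ideal.Quotient.mk c (a i))] at h4
        exact h4
    choose t ht htc using h2
    have hT : (∏ i, t i) * r₀ ∈ c.colon (I : Set R) := by
      refine Submodule.mem_colon.mpr fun b hb => ?_
      rw [← ha] at hb
      change (∏ i, t i) * r₀ * b ∈ c
      have hle' : Submodule.span R (Set.range a) ≤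
          Submodule.comap (LinearMap.mulLeft R ((∏ i, t i) * r₀)) c := by
        refine Submodule.span_le.mpr ?_
        rintro _ ⟨i, rfl⟩
        change (∏ j, t j) * r₀ * a i ∈ c
        obtain ⟨d, hd⟩ := Finset.dvd_prod_of_mem t (Finset.mem_univ i)
        rw [hd, show t i * d * r₀ * a i = d * (t i * (r₀ * a i)) by ring]
        exact c.mul_mem_left d (htc i)
      exact hle' hb
    have h5 := Submodule.mem_colon.mp hx _ hT
    rw [smul_eq_mul] at h5
    rw [RingHom.comp_apply, mul_comm, IsLocalization.mul_mk'_eq_mk'_of_mul,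
      IsLocalization.mk'_eq_zero_iff]
    refine ⟨⟨Ideal.Quotient.mk c (∏ i, t i), fun h => ?_⟩, ?_⟩
    · have h6 : (∏ i, t i) ∈ p := hPp ▸ h
      obtain ⟨i, -, hi⟩ := (IsAssociatedPrime.isPrime hp).prod_mem_iff.mp h6
      exact ht i hi
    · change Ideal.Quotient.mk c _ * (Ideal.Quotient.mk c x * Ideal.Quotient.mk c r₀) = 0
      rw [← map_mul, ← map_mul, Ideal.Quotient.eq_zero_iff_mem,
        show (∏ i, t i) * (x * r₀) = x * ((∏ i, t i) * r₀) by ring]
      exact h5
  rw [Set.range_comp, ← Ideal.map_span, Ideal.span, ha, ← Ideal.map_map] at h1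
  replace h1 := (IsLocalization.algebraMap_mem_map_algebraMap_iff P.primeCompl A _ _).mp h1
  obtain ⟨m, hm, hmem⟩ := h1
  obtain ⟨m, rfl⟩ := Ideal.Quotient.mk_surjective m
  change Ideal.Quotient.mk c m * Ideal.Quotient.mk c x ∈ _ at hmem
  rw [← map_mul, Ideal.mem_map_iff_of_surjective _ Ideal.Quotient.mk_surjective] at hmem
  obtain ⟨b, hb, hbm⟩ := hmem
  have h7 : m * x ∈ I := by
    rw [Ideal.Quotient.mk_eq_mk_iff_sub_mem] at hbm
    have := I.sub_mem hb (hcI hbm)
    rwa [sub_sub_cancel] at this
  apply hm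
  have h8 : m ∈ p := hle (by
    rw [Submodule.mem_colon_singleton]
    simpa [Algebra.smul_def, ← map_mul, Ideal.Quotient.eq_zero_iff_mem] using h7)
  rw [← hPp] at h8
  exact h8

theorem mem_minimalPrimes_of_height_eq {R : Type u} [CommRing R] [IsNoetherianRing R]
    {c p : Ideal R} [p.IsPrime] (hcp : c ≤ p) (h : p.height ≤ c.height) : p ∈ c.minimalPrimes := by
  refine ⟨⟨‹_›, hcp⟩, fun q hq hqp => ?_⟩
  by_contra hne
  haveI := hq.1
  exact not_lt.mpr (h.trans (Ideal.height_mono hq.2))
    (Ideal.height_strict_mono_of_isPrime (hqp.lt_of_ne fun h => hne h.ge))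

end Groth.L13.Liaison
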