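import Groth.Agent.L13.Wild.Kunz
import Groth.Agent.L22.Cyc.FiniteDeg
import Groth.Agent.L22.FibreSemicont
import Groth.Agent.L22.LocalDim
import Groth.Prelude.Def_ModelsG
import Mathlib.AlgebraicGeometry.Morphisms.FormallyUnramified
import Mathlib.AlgebraicGeometry.FunctionField
import Mathlib.AlgebraicGeometry.Morphisms.QuasiFinite
import Mathlib.RingTheory.Unramified.LocalRing
import Mathlib.FieldTheory.IsAlgClosed.Basic

/-!
Finite unramified surjective maps of regular varieties: flatness and the number of points of the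
fibres.
-/

universe u

open CategoryTheory AlgebraicGeometry TopologicalSpace Topology

attribute [local instance] Curv2.resAlgebra

namespace Groth.L13.UnramDegree

theorem flat_of_map_maximalIdeal (R S : Type u) [CommRing R] [IsRegularLocalRing R] [CommRing S]
    [IsRegularLocalRing S] (φ : R →+* S) [IsLocalHom φ]
    (hm : (IsLocalRing.maximalIdeal R).map φ = IsLocalRing.maximalIdeal S)
    (hd : ringKrullDim R = ringKrullDim S) : φ.Flat := by
  classical
  obtain ⟨s, hs, hs'⟩ := Submodule.FG.exists_span_finset_card_eq_spanFinrank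
    (IsNoetherian.noetherian (IsLocalRing.maximalIdeal R))
  have hgen : Ideal.ofList s.toList = IsLocalRing.maximalIdeal R := by
    rw [← hs', Ideal.ofList]
    congr 1
    ext z
    simp
  have hlen : ringKrullDim R = s.toList.length := by
    rw [Finset.length_toList, hs]
    exact ((isRegularLocalRing_iff R).1 ‹_›).symm
  refine Groth.L13.Wild.Kunz.flat_of_map_isWeaklyRegular R S φ s.toList hgen
    (Groth.L01.isRegular_of_ofList_eq_maximalIdeal _ hgen hlen).toIsWeaklyRegular
    (Groth.L01.isRegular_of_ofList_eq_maximalIdeal _ ?_ ?_).toIsWeaklyRegular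
  · rw [← Ideal.map_ofList, hgen, hm]
  · rw [List.length_map, ← hd, hlen]

variable (k : Type u) [Field k] {X Y : Scheme.{u}}
  [X.Over (Spec (CommRingCat.of k))] [Y.Over (Spec (CommRingCat.of k))]
  [LocallyOfFiniteType (X ↘ Spec (CommRingCat.of k))]
  [LocallyOfFiniteType (Y ↘ Spec (CommRingCat.of k))]

omit [X.Over (Spec (CommRingCat.of k))] [LocallyOfFiniteType (X ↘ Spec (CommRingCat.of k))] in
include k in
theorem exists_dim_add [IsIntegral Y] (y : Y) :
    ∃ a b : ℕ, topologicalKrullDim (closure ({y} : Set Y)) = (a : WithBot ℕ∞) ∧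
      ringKrullDim (Y.presheaf.stalk y) = (b : WithBot ℕ∞) ∧
      topologicalKrullDim (closure ({genericPoint Y} : Set Y)) = ((a + b : ℕ) : WithBot ℕ∞) := by
  obtain ⟨a, b, ha, hb, hab⟩ := L22.SchemeDim.exists_localDim k Y y
  obtain ⟨c, hc, hct⟩ := L22.SchemeDim.exists_dim_closure_eq_trdeg k Y y
  have hca : c = a := by exact_mod_cast hct.symm.trans ha
  subst hca
  refine ⟨c, b, hc, hb, ?_⟩
  rw [← hab, L22.FibreSemicont.localDim_eq_iSup k]
  refine le_antisymm (le_iSup_of_le ⟨genericPoint Y, (genericPoint_spec Y).specializes trivial⟩ le_rfl)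
    (iSup_le fun η => L22.SchemeDim.topologicalKrullDim_mono ?_)
  rw [(genericPoint_spec Y).def]
  exact Set.subset_univ _

omit [LocallyOfFiniteType (Y ↘ Spec (CommRingCat.of k))] in
include k in
theorem dim_closure_image (π : Y ⟶ X) [IsFinite π]
    (hπ : π ≫ (X ↘ Spec (CommRingCat.of k)) = (Y ↘ Spec (CommRingCat.of k))) (y : Y) :
    topologicalKrullDim (closure ({y} : Set Y)) =
      topologicalKrullDim (closure ({π y} : Set X)) := by
  obtain ⟨a, b, ha, hb, hab⟩ := L22.FibreDim.exists_dim_closure_add k π hπ y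
  have hdisc : DiscreteTopology (π ⁻¹' {π y} : Set Y) := isDiscrete_iff_discreteTopology.1 (π.isDiscrete_preimage_singleton (π y))
  have hone : (closure ({y} : Set Y) ∩ π ⁻¹' {π y} : Set Y) = {y} := by
    refine Set.Subset.antisymm (fun z hz => ?_) (Set.singleton_subset_iff.2 ⟨subset_closure rfl, rfl⟩)
    have h : (⟨y, rfl⟩ : (π ⁻¹' {π y} : Set Y)) ⤳ ⟨z, hz.2⟩ :=
      IsEmbedding.subtypeVal.isInducing.specializes_iff.1 (specializes_iff_mem_closure.2 hz.1)
    exact congrArg Subtype.val h.eq.symm
  haveI : Unique (closure ({y} : Set Y) ∩ π ⁻¹' {π y} : Set Y) := by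
    rw [hone]
    exact Set.uniqueSingleton y
  have hb0 : b = 0 := by
    have h0 : topologicalKrullDim (closure ({y} : Set Y) ∩ π ⁻¹' {π y} : Set Y) ≤ 0 :=
      topologicalKrullDim_zero_of_discreteTopology _
    rw [hb] at h0
    exact Nat.le_zero.1 (by exact_mod_cast h0)
  rw [hab, hb0, add_zero, ha]

theorem isFlat [IsIntegral X] [IsIntegral Y]
    (hregX : ∀ x : X, IsRegularLocalRing (X.presheaf.stalk x))
    (hregY : ∀ y : Y, IsRegularLocalRing (Y.presheaf.stalk y))
    (π : Y ⟶ X) [IsFinite π] [FormallyUnramified π]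
    (hπ : π ≫ (X ↘ Spec (CommRingCat.of k)) = (Y ↘ Spec (CommRingCat.of k)))
    (e : π (genericPoint Y) = genericPoint X) :
    Flat π ∧ ∀ y : Y, ringKrullDim (X.presheaf.stalk (π y)) = ringKrullDim (Y.presheaf.stalk y) := by
  have hdim : ∀ y : Y, ringKrullDim (X.presheaf.stalk (π y)) = ringKrullDim (Y.presheaf.stalk y) := by
    intro y
    obtain ⟨a, b, ha, hb, hab⟩ := exists_dim_add k y
    obtain ⟨a', b', ha', hb', hab'⟩ := exists_dim_add k (π y)
    rw [dim_closure_image k π hπ, ha'] at ha
    rw [dim_closure_image k π hπ, e, hab'] at hab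
    have h1 : a' = a := by exact_mod_cast ha
    have h2 : a' + b' = a + b := by exact_mod_cast hab
    rw [hb, hb', show b' = b by omega]
  refine ⟨(Flat.iff_flat_stalkMap π).2 fun y => ?_, hdim⟩
  haveI := hregX (π y)
  haveI := hregY y
  refine flat_of_map_maximalIdeal _ _ (π.stalkMap y).hom ?_ (hdim y)
  algebraize [(π.stalkMap y).hom]
  haveI : IsLocalHom (algebraMap (X.presheaf.stalk (π y)) (Y.presheaf.stalk y)) :=
    inferInstanceAs <| IsLocalHom (π.stalkMap y).hom
  haveI : Algebra.EssFiniteType (X.presheaf.stalk (π y)) (Y.presheaf.stalk y) := by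
    rw [← RingHom.essFiniteType_algebraMap, RingHom.algebraMap_toAlgebra]
    exact LocallyOfFiniteType.stalkMap π y
  haveI : Algebra.FormallyUnramified (X.presheaf.stalk (π y)) (Y.presheaf.stalk y) := by
    rw [← RingHom.formallyUnramified_algebraMap, RingHom.algebraMap_toAlgebra]
    exact FormallyUnramified.stalkMap π y
  exact Algebra.FormallyUnramified.map_maximalIdeal

theorem mult_eq_one (π : Y ⟶ X) [LocallyOfFiniteType π] [FormallyUnramified π] (y : Y) :
    L22.Cyc.mult π y = 1 := by
  algebraize [(π.stalkMap y).hom]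
  haveI : IsLocalHom (algebraMap (X.presheaf.stalk (π y)) (Y.presheaf.stalk y)) :=
    inferInstanceAs <| IsLocalHom (π.stalkMap y).hom
  haveI : Algebra.EssFiniteType (X.presheaf.stalk (π y)) (Y.presheaf.stalk y) := by
    rw [← RingHom.essFiniteType_algebraMap, RingHom.algebraMap_toAlgebra]
    exact LocallyOfFiniteType.stalkMap π y
  haveI : Algebra.FormallyUnramified (X.presheaf.stalk (π y)) (Y.presheaf.stalk y) := by
    rw [← RingHom.formallyUnramified_algebraMap, RingHom.algebraMap_toAlgebra]
    exact FormallyUnramified.stalkMap π y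
  have h : L22.Cyc.fibIdeal π y = IsLocalRing.maximalIdeal (Y.presheaf.stalk y) :=
    Algebra.FormallyUnramified.map_maximalIdeal
  rw [L22.Cyc.mult, h, Module.length_eq_one_iff, isSimpleModule_iff_isCoatom]
  exact Ideal.isMaximal_def.1 (IsLocalRing.maximalIdeal.isMaximal _)

theorem residueDegree_closed [IsAlgClosed k] (π : Y ⟶ X)
    (hπ : π ≫ (X ↘ Spec (CommRingCat.of k)) = (Y ↘ Spec (CommRingCat.of k))) {y : Y}
    (hy : IsClosed ({y} : Set Y)) (hp : IsClosed ({π y} : Set X)) : π.residueDegree y = 1 := by
  have key : ∀ {Z : Scheme.{u}} [Z.Over (Spec (CommRingCat.of k))]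
      [LocallyOfFiniteType (Z ↘ Spec (CommRingCat.of k))] {z : Z}, IsClosed ({z} : Set Z) →
      Function.Bijective (Curv2.resMap k Z z) := by
    intro Z _ _ z hz
    obtain ⟨a, ha, hat⟩ := L22.SchemeDim.exists_dim_closure_eq_trdeg k Z z
    haveI : Unique (closure ({z} : Set Z)) := by
      rw [hz.closure_eq]
      exact Set.uniqueSingleton z
    have ha0 : a = 0 := by
      have h0 : topologicalKrullDim (closure ({z} : Set Z)) ≤ 0 :=
        topologicalKrullDim_zero_of_discreteTopology _
      rw [ha] at h0
      exact Nat.le_zero.1 (by exact_mod_cast h0)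
    rw [ha0, Nat.cast_zero, trdeg_eq_zero_iff] at hat
    haveI := hat
    exact IsAlgClosed.algebraMap_bijective_of_isIntegral (k := k) (K := Z.residueField z)
  refine L22.Cyc.residueDegree_eq_one π y ?_
  have hcomm : CommRingCat.ofHom (Curv2.resMap k X (π y)) ≫ π.residueFieldMap y =
      CommRingCat.ofHom (Curv2.resMap k Y y) := by
    apply Spec.map_injective
    rw [Spec.map_comp, L22.FibreDim.SpecMap_resMap, L22.FibreDim.SpecMap_resMap,
      Scheme.Hom.SpecMap_residueFieldMap_fromSpecResidueField_assoc, hπ]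
  have h := key hy
  rw [show ⇑(Curv2.resMap k Y y) = ⇑(π.residueFieldMap y).hom ∘ ⇑(Curv2.resMap k X (π y)) from
    funext fun c => (congrArg (fun r => r.hom c) hcomm).symm] at h
  exact (Function.Bijective.of_comp_iff _ (key hp)).1 h

theorem natCard_fibre [IsAlgClosed k] [IsIntegral X] [IsIntegral Y]
    (hregX : ∀ x : X, IsRegularLocalRing (X.presheaf.stalk x))
    (hregY : ∀ y : Y, IsRegularLocalRing (Y.presheaf.stalk y))
    (π : Y ⟶ X) [IsFinite π] [FormallyUnramified π]
    (hπ : π ≫ (X ↘ Spec (CommRingCat.of k)) = (Y ↘ Spec (CommRingCat.of k)))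
    (e : π (genericPoint Y) = genericPoint X) (p : X) (hp : IsClosed ({p} : Set X)) :
    Nat.card {q : Y // π q = p} = π.residueDegree (genericPoint Y) := by
  obtain ⟨hflat, hdim⟩ := isFlat k hregX hregY π hπ e
  haveI := hflat
  haveI : IsLocallyNoetherian X :=
    LocallyOfFiniteType.isLocallyNoetherian (X ↘ Spec (CommRingCat.of k))
  haveI : LocallyOfFinitePresentation π := inferInstance
  have hconst : π.finrank p = π.finrank (genericPoint X) :=
    π.isLocallyConstant_finrank.apply_eq_of_preconnectedSpace _ _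
  have hp' : π.finrank p = Nat.card {q : Y // π q = p} := by
    rw [L22.Cyc.finrank_eq_sum]
    have hfin : (π ⁻¹' {p}).Finite := π.finite_preimage_singleton p
    rw [finsum_mem_congr rfl (g := fun _ => 1) fun q hq => ?_, finsum_mem_eq_finite_toFinset_sum _ hfin,
      Finset.sum_const, smul_eq_mul, mul_one, ← Set.ncard_eq_toFinset_card _ hfin, ← Nat.card_coe_set_eq]
    · rfl
    · have hqc : IsClosed ({q} : Set Y) := by
        have hdisc : DiscreteTopology (π ⁻¹' {p} : Set Y) := isDiscrete_iff_discreteTopology.1 (π.isDiscrete_preimage_singleton p)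
        have hcl : IsClosed (π ⁻¹' {p}) := hp.preimage π.continuous
        have := (hcl.isClosedEmbedding_subtypeVal).isClosedMap _
          (isClosed_discrete ({⟨q, hq⟩} : Set (π ⁻¹' {p} : Set Y)))
        simpa using this
      rw [mult_eq_one π q, residueDegree_closed k π hπ hqc
        (by rw [show π q = p from hq]; exact hp)]
      rfl
  have hgen : π.finrank (genericPoint X) = π.residueDegree (genericPoint Y) := by
    rw [L22.Cyc.finrank_eq_sum]
    have hset : π ⁻¹' {genericPoint X} = {genericPoint Y} := by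
      refine Set.Subset.antisymm (fun y hy => ?_) (Set.singleton_subset_iff.2 e)
      by_contra hne
      have h1 := L22.LocalDim.one_le_dim_of_specializes
        ((genericPoint_spec Y).specializes (Set.mem_univ y)) (fun h => hne h.symm)
      rw [← hdim y, show π y = genericPoint X from hy] at h1
      haveI : IsDomain (X.presheaf.stalk (genericPoint X)) := inferInstance
      have h0 : ringKrullDim (X.presheaf.stalk (genericPoint X)) = 0 :=
        ringKrullDim_eq_zero_of_field X.functionField
      rw [h0] at h1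
      exact absurd h1 (by decide)
    rw [hset, finsum_mem_singleton, mult_eq_one]
    simp
  rw [← hp', hconst, hgen]

theorem homDegree_eq [IsIntegral X] [IsIntegral Y] (π : Y ⟶ X)
    (e : π (genericPoint Y) = genericPoint X) :
    Models.homDegree (X.presheaf.stalkSpecializes (specializes_of_eq e) ≫
      π.stalkMap (genericPoint Y)).hom = π.residueDegree (genericPoint Y) := by
  let φ := (X.presheaf.stalkSpecializes (specializes_of_eq e) ≫ π.stalkMap (genericPoint Y)).hom
  let a : X.functionField →+* X.residueField (π (genericPoint Y)) :=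
    (X.residue (π (genericPoint Y))).hom.comp
      (X.presheaf.stalkSpecializes (specializes_of_eq e)).hom
  haveI : IsIso (X.presheaf.stalkSpecializes (specializes_of_eq e)) := by
    refine ⟨X.presheaf.stalkSpecializes (specializes_of_eq e.symm), ?_, ?_⟩ <;>
      simp
  have ha : Function.Bijective a := ⟨RingHom.injective _, fun b => by
    obtain ⟨s, rfl⟩ := X.residue_surjective _ b
    obtain ⟨t, rfl⟩ := (ConcreteCategory.bijective_of_isIso
      (X.presheaf.stalkSpecializes (specializes_of_eq e))).2 s
    exact ⟨t, rfl⟩⟩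
  have hb : Function.Bijective (Y.residue (genericPoint Y)).hom :=
    ⟨RingHom.injective (show Y.functionField →+* _ from (Y.residue (genericPoint Y)).hom), Y.residue_surjective _⟩
  letI := φ.toAlgebra
  letI := (π.residueFieldMap (genericPoint Y)).hom.toAlgebra
  exact Algebra.finrank_eq_of_equiv_equiv (RingEquiv.ofBijective a ha)
    (RingEquiv.ofBijective _ hb) (RingHom.ext fun c => by
      exact congrArg (fun r => r.hom ((X.presheaf.stalkSpecializes (specializes_of_eq e)) c))
        (Scheme.residue_residueFieldMap π (genericPoint Y)))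

end Groth.L13.UnramDegree
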