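import Groth.Agent.S9687
import Groth.Agent.L07.DimToolkit
import Mathlib.AlgebraicGeometry.Properties
import Mathlib.Topology.KrullDimension
import Mathlib.Topology.Sober

/-!
Fibre dimension of modifications of two-dimensional schemes.
-/

set_option autoImplicit false
set_option linter.style.haveILetI false
universe u

open CategoryTheory CategoryTheory.Limits AlgebraicGeometry TopologicalSpace Order

namespace Groth.L13.ModFibre

attribute [local instance] specializationOrder

theorem topologicalKrullDim_eq_points (X : Scheme.{u}) : topologicalKrullDim X = Order.krullDim X :=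
  Order.krullDim_eq_of_orderIso irreducibleSetEquivPoints

theorem isIso_residueFieldMap_of_mem {X S : Scheme.{u}} (f : X ⟶ S) (U : S.Opens) [IsIso (f ∣_ U)]
    (x : X) (hx : f x ∈ U) : Function.Bijective (f.residueFieldMap x).hom := by
  haveI h1 : IsIso (f.stalkMap x) :=
    ((MorphismProperty.isomorphisms CommRingCat).arrow_mk_iso_iff
      (morphismRestrictStalkMap f U ⟨x, hx⟩)).mp (inferInstanceAs (IsIso ((f ∣_ U).stalkMap ⟨x, hx⟩)))
  refine ⟨RingHom.injective _, fun a => ?_⟩
  obtain ⟨b, rfl⟩ := X.residue_surjective x a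
  obtain ⟨c, rfl⟩ := (ConcreteCategory.bijective_of_isIso (f.stalkMap x)).surjective b
  refine ⟨S.residue (f x) c, ?_⟩
  exact congr($(Scheme.residue_residueFieldMap (f := f) x).hom c)

theorem ringKrullDim_stalk_le {X S : Scheme.{u}} [IsIntegral X] [IsLocallyNoetherian S] (f : X ⟶ S)
    [LocallyOfFiniteType f] (U : S.Opens) [IsIso (f ∣_ U)] (hne : ∃ x, f x ∈ U) (x : X) :
    ringKrullDim (X.presheaf.stalk x) ≤ ringKrullDim (S.presheaf.stalk (f x)) := by
  obtain ⟨n, -, hn⟩ := Groth.L07.DimToolkit.exists_fdim_rtrdeg f x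
  have hE : ∀ ξ : X, closure {ξ} ∈ irreducibleComponents ↥X → ξ ⤳ x →
      letI := (f.residueFieldMap ξ).hom.toAlgebra
      Algebra.trdeg (S.residueField (f.base ξ)) (X.residueField ξ) ≤ ((0 : ℕ) : Cardinal.{u}) := by
    intro ξ hξ _
    letI := (f.residueFieldMap ξ).hom.toAlgebra
    rw [irreducibleComponents_eq_singleton, Set.mem_singleton_iff] at hξ
    obtain ⟨z, hz⟩ := hne
    have hzξ : ξ ⤳ z := specializes_iff_mem_closure.mpr (hξ ▸ Set.mem_univ z)
    have hbij := isIso_residueFieldMap_of_mem f U ξ ((hzξ.map f.continuous).mem_open U.2 hz)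
    haveI : Algebra.IsAlgebraic (S.residueField (f.base ξ)) (X.residueField ξ) := ⟨fun b => by
      obtain ⟨a, rfl⟩ := hbij.surjective b
      exact isAlgebraic_algebraMap a⟩
    rw [trdeg_eq_zero, Nat.cast_zero]
  have h := Groth.Agent.S9687.result f x n 0 hn hE
  rw [Nat.cast_zero, add_zero] at h
  exact le_trans (le_add_of_nonneg_right (show (0 : WithBot ℕ∞) ≤ ((n : ℕ∞) : WithBot ℕ∞) from
    WithBot.coe_le_coe.mpr bot_le)) h

theorem topologicalKrullDim_fiber_le_one {X S : Scheme.{u}} [IsIntegral X] (f : X ⟶ S) (U : S.Opens)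
    [IsIso (f ∣_ U)] (hne : ∃ x, f x ∈ U)
    (hdim : ∀ x : X, ringKrullDim (X.presheaf.stalk x) ≤ 2) (s : S) :
    topologicalKrullDim ↥(f.fiber s) ≤ 1 := by
  rw [topologicalKrullDim_eq_points]
  let ι : ↥(f.fiber s) → X := f.fiberι s
  have hι : Topology.IsEmbedding ι := (f.fiberι s).isEmbedding
  have himg : ∀ z, f (ι z) = s := fun z => (f.range_fiberι s).subset ⟨z, rfl⟩
  by_cases hξ : f (genericPoint X) = s
  · obtain ⟨z, hz⟩ := hne
    have hsU : s ∈ U :=
      hξ ▸ (((genericPoint_spec X).specializes (Set.mem_univ z)).map f.continuous).mem_open U.2 hz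
    haveI : Subsingleton ↥(f.fiber s) := ⟨fun a b => hι.injective (by
      have ha : f (ι a) ∈ U := (himg a).symm ▸ hsU
      have hb : f (ι b) ∈ U := (himg b).symm ▸ hsU
      have hinj : Function.Injective (f ∣_ U) := (f ∣_ U).homeomorph.injective
      have := @hinj (⟨ι a, ha⟩ : ↥(f ⁻¹ᵁ U)) ⟨ι b, hb⟩ (by
        refine Subtype.ext ?_
        show ((f ∣_ U) ⟨ι a, ha⟩ : ↥U).1 = ((f ∣_ U) ⟨ι b, hb⟩ : ↥U).1
        rw [morphismRestrict_base_coe, morphismRestrict_base_coe]
        exact (himg a).trans (himg b).symm)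
      exact congrArg Subtype.val this)⟩
    refine le_trans (Order.krullDim_nonpos_of_subsingleton) (by norm_num)
  · refine iSup_le fun p => ?_
    have hmono : StrictMono ι := fun a b hab => by
      refine lt_of_le_of_ne ((hab.le : b ⤳ a).map (f.fiberι s).continuous) ?_
      exact fun h => hab.ne (hι.injective h)
    let q := p.map ι hmono
    have hlast : q.last < genericPoint X := by
      refine lt_of_le_of_ne ((genericPoint_spec X).specializes (Set.mem_univ _)) fun h => hξ ?_
      rw [← h]
      exact (congrArg f (LTSeries.last_map p ι hmono)).trans (himg _)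
    have hc : (((q.snoc _ hlast).length : ℕ∞) : WithBot ℕ∞) ≤ 2 := by
      refine le_trans ?_ (hdim (q.snoc _ hlast).head)
      rw [ringKrullDim_stalk_eq_coheight]
      exact_mod_cast Order.length_le_coheight le_rfl
    simp only [RelSeries.snoc_length] at hc
    have h2 : q.length + 1 ≤ 2 := ENat.natCast_le_natCast.mp (WithBot.coe_le_coe.mp hc)
    change ((p.length : ℕ∞) : WithBot ℕ∞) ≤ 1
    have h3 : p.length ≤ 1 := by simpa [q, LTSeries.map] using h2
    exact WithBot.coe_le_coe.mpr
      ((ENat.natCast_le_natCast.mpr h3).trans (le_of_eq Nat.cast_one))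

end Groth.L13.ModFibre

namespace Groth.L13.ModFibre

attribute [local instance] specializationOrder

theorem ringKrullDim_stalk_le_topologicalKrullDim {X : Scheme.{u}} (x : X) :
    ringKrullDim (X.presheaf.stalk x) ≤ topologicalKrullDim X := by
  rw [topologicalKrullDim_eq_points, ringKrullDim_stalk_eq_coheight]
  exact Order.coheight_le_krullDim x

/-- The fibres of a modification of a two-dimensional Noetherian affine scheme have dimension `≤ 1`. -/
theorem topologicalKrullDim_fiber_le_one_spec {A : Type u} [CommRing A] [IsNoetherianRing A]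
    (hdim : ringKrullDim A ≤ 2) {X : Scheme.{u}} [IsIntegral X] (f : X ⟶ Spec (CommRingCat.of A))
    [LocallyOfFiniteType f]
    (hbir : ∃ U : (Spec (CommRingCat.of A)).Opens, (U : Set (Spec (CommRingCat.of A))).Nonempty ∧ IsIso (f ∣_ U))
    (s : Spec (CommRingCat.of A)) : topologicalKrullDim ↥(f.fiber s) ≤ 1 := by
  obtain ⟨U, ⟨y, hy⟩, hU⟩ := hbir
  obtain ⟨z, hz⟩ := (f ∣_ U).homeomorph.surjective ⟨y, hy⟩
  have hne : ∃ x, f x ∈ U := ⟨z.1, z.2⟩
  refine topologicalKrullDim_fiber_le_one f U hne (fun x => ?_) s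
  refine (ringKrullDim_stalk_le f U hne x).trans ((ringKrullDim_stalk_le_topologicalKrullDim _).trans ?_)
  exact (PrimeSpectrum.topologicalKrullDim_eq_ringKrullDim A).trans_le hdim

end Groth.L13.ModFibre
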