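import Groth.Agent.L13.CplStalk
import Groth.Agent.L01.CompletionReg
import Mathlib.RingTheory.AdicCompletion.AsTensorProduct

/-!
Regularity of `X` and of its base change to the completion at points over the closed point.
-/

set_option autoImplicit false
set_option linter.style.haveILetI false
universe u

open CategoryTheory CategoryTheory.Limits AlgebraicGeometry IsLocalRing

namespace Groth.L13.CplRegular

variable {A : Type u} [CommRing A] [IsLocalRing A] [IsNoetherianRing A] {X : Scheme.{u}}
  (f : X ⟶ Spec (CommRingCat.of A))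

theorem flat_fst : Flat (Curv2.bcCplFst A f) :=
  MorphismProperty.pullback_fst f _
    ((HasRingHomProperty.Spec_iff (P := @Flat)).mpr
      ((RingHom.flat_algebraMap_iff).mpr inferInstance))

theorem apply_fst_eq_closedPoint {q : ↥(Curv2.bcCpl A f)}
    (hq : (Curv2.bcCplSnd A f) q = closedPoint (Curv2.cpl A)) :
    f ((Curv2.bcCplFst A f) q) = closedPoint A := by
  rw [← Scheme.Hom.comp_apply, show Curv2.bcCplFst A f ≫ f = _ from pullback.condition,
    Scheme.Hom.comp_apply]
  rw [show (pullback.snd f (Spec.map (CommRingCat.ofHom (algebraMap A (Curv2.cpl A))))) q = _ from hq]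
  exact IsLocalRing.comap_closedPoint (algebraMap A (Curv2.cpl A))

theorem regular_iff [LocallyOfFiniteType f] (q : ↥(Curv2.bcCpl A f))
    (hq : f ((Curv2.bcCplFst A f) q) = closedPoint A) :
    IsRegularLocalRing ((Curv2.bcCpl A f).presheaf.stalk q) ↔
      IsRegularLocalRing (X.presheaf.stalk ((Curv2.bcCplFst A f) q)) := by
  haveI : IsNoetherianRing (Curv2.cpl A) := Groth.L01.AnalUnram.isNoetherianRing_completion A
  haveI : IsLocallyNoetherian X := LocallyOfFiniteType.isLocallyNoetherian f
  haveI : IsLocallyNoetherian (Curv2.bcCpl A f) :=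
    LocallyOfFiniteType.isLocallyNoetherian (Curv2.bcCplSnd A f)
  haveI := flat_fst f
  letI := ((Curv2.bcCplFst A f).stalkMap q).hom.toAlgebra
  haveI : Module.Flat (X.presheaf.stalk ((Curv2.bcCplFst A f) q))
      ((Curv2.bcCpl A f).presheaf.stalk q) := Flat.stalkMap (Curv2.bcCplFst A f) q
  haveI : IsLocalHom (algebraMap (X.presheaf.stalk ((Curv2.bcCplFst A f) q))
      ((Curv2.bcCpl A f).presheaf.stalk q)) :=
    inferInstanceAs (IsLocalHom ((Curv2.bcCplFst A f).stalkMap q).hom)
  exact (Groth.L05.Henselization.isRegularLocalRing_iff_of_map_maximalIdeal _ _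
    (Groth.L13.CplStalk.map_maximalIdeal_stalkMap (maximalIdeal A).fg_of_isNoetherianRing f q hq)).symm

theorem exists_specializes_closedPoint {R : Type u} [CommRing R] [IsLocalRing R] {Z : Scheme.{u}}
    (g : Z ⟶ Spec (CommRingCat.of R)) [UniversallyClosed g] (z : Z) :
    ∃ w, z ⤳ w ∧ g w = closedPoint R := by
  obtain ⟨w, hw, hgw⟩ := g.isClosedMap.specializingMap
    (IsLocalRing.specializes_closedPoint (g z))
  exact ⟨w, hw, hgw⟩

theorem regular_global_iff [IsProper f] :
    (∀ x : X, IsRegularLocalRing (X.presheaf.stalk x)) ↔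
      ∀ y : Curv2.bcCpl A f, IsRegularLocalRing ((Curv2.bcCpl A f).presheaf.stalk y) := by
  constructor
  · intro h y
    obtain ⟨y₀, hy, hy₀⟩ := exists_specializes_closedPoint (Curv2.bcCplSnd A f) y
    exact Groth.L13.CplStalk.isRegularLocalRing_of_specializes hy
      ((regular_iff f y₀ (apply_fst_eq_closedPoint f hy₀)).mpr (h _))
  · intro h x
    obtain ⟨x₀, hx, hx₀⟩ := exists_specializes_closedPoint f x
    obtain ⟨y₀, hy₀, -⟩ := Scheme.Pullback.exists_preimage_pullback (f := f)
      (g := Spec.map (CommRingCat.ofHom (algebraMap A (Curv2.cpl A)))) x₀ (closedPoint (Curv2.cpl A))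
      (hx₀.trans (IsLocalRing.comap_closedPoint (algebraMap A (Curv2.cpl A))).symm)
    refine Groth.L13.CplStalk.isRegularLocalRing_of_specializes hx ?_
    have h1 := (regular_iff f y₀ (by rw [show (Curv2.bcCplFst A f) y₀ = x₀ from hy₀]; exact hx₀)).mp (h y₀)
    rwa [show (Curv2.bcCplFst A f) y₀ = x₀ from hy₀] at h1

end Groth.L13.CplRegular
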