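import Groth.Agent.L19.VanishFibre.QCoh
import Groth.Agent.L13.BlowTwo.Vanish
import Groth.Agent.L21.RR.Coh
import Groth.Agent.L21.RR.Equality
import Groth.Agent.L21.RR.Sections
import Groth.Agent.L16.ProjSpace.Twist
import Groth.Agent.L16.Devissage
import Groth.Agent.L29.Sib.QCohInj
import Groth.Agent.L00.AlgQCoh
import Groth.Agent.L19.ConormalAffine

/-!
If `H^1(O) = 0` and `H^2` of quasi-coherent modules vanishes then globally generated quasi-coherent
modules have no `H^1`.
-/

set_option autoImplicit false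
set_option linter.style.haveILetI false
set_option backward.isDefEq.respectTransparency.types false
set_option backward.isDefEq.respectTransparency false
universe u

open CategoryTheory CategoryTheory.Limits AlgebraicGeometry TopologicalSpace Opposite

noncomputable section

namespace Groth.L13.GGH1

open Groth.L17.BC
open Groth.L18.Frame (rs rs_rs)
open Groth.L19.VanishFibre (zρ cMap dL_cMap subsingleton_HH_succ_iff)
open Groth.L16.CohLinear (hmap hmap_comp hmap_id exact_hmap_delta)

variable {X : Scheme.{u}}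

theorem subsingleton_H1_finite {n : Type u} [Fintype n]
    (hO : Subsingleton (Coh.HH X (Coh.structureModule X) 1)) :
    Subsingleton (Coh.HH X (⨁ fun _ : n => Coh.structureModule X) 1) := by
  classical
  refine subsingleton_of_forall_eq 0 fun x => ?_
  have ht : 𝟙 (⨁ fun _ : n => Coh.structureModule X) = ∑ j : n,
      biproduct.π (fun _ : n => Coh.structureModule X) j ≫ biproduct.ι (fun _ : n => Coh.structureModule X) j :=
    by
      refine biproduct.hom_ext' _ _ fun j => ?_
      rw [Category.comp_id, Preadditive.comp_sum, Finset.sum_eq_single j]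
      · rw [biproduct.ι_π_self_assoc]
      · intro k _ hk
        rw [biproduct.ι_π_ne_assoc _ hk.symm, zero_comp]
      · simp
  rw [← hmap_id 1 x, ht, Groth.L21.RR.hmap_sum']
  refine Finset.sum_eq_zero fun j _ => ?_
  rw [hmap_comp, hO.elim (hmap (biproduct.π _ j) 1 x) 0, map_zero]

theorem subsingleton_H1_image (h2 : ∀ K : X.Modules, Coh.IsQCoh K → Subsingleton (Coh.HH X K 2))
    {P G : X.Modules} [hPq : Coh.IsQCoh P] [hGq : Coh.IsQCoh G] (π : P ⟶ G)
    (hP : Subsingleton (Coh.HH X P 1)) : Subsingleton (Coh.HH X (Abelian.image π) 1) := by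
  have hS := Groth.L16.Devissage.shortExact_kernel_image π
  refine subsingleton_of_forall_eq 0 fun y => ?_
  obtain ⟨w, hw⟩ := (exact_hmap_delta hS 1 y).1
    ((h2 _ (Groth.L00.AlgQCoh.isQCoh_kernel_cokernel π hPq hGq).1).elim _ _)
  rw [← hw, hP.elim w 0, map_zero]

theorem isQCoh_image {P G : X.Modules} [hPq : Coh.IsQCoh P] [hGq : Coh.IsQCoh G] (π : P ⟶ G) :
    Coh.IsQCoh (Abelian.image π) :=
  (Groth.L00.AlgQCoh.isQCoh_kernel_cokernel (cokernel.π π) hGq
    (Groth.L00.AlgQCoh.isQCoh_kernel_cokernel π hPq hGq).2).1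

theorem exists_preimage_of_mem_span {M G : X.Modules} (i : M ⟶ G) (W : X.Opens) (S : Set Γ(G, ⊤))
    (h : ∀ s ∈ S, ∃ σ : Γ(M, ⊤), i.app ⊤ σ = s) (z : Γ(G, W))
    (hz : z ∈ Submodule.span Γ(X, W) ((fun s : Γ(G, ⊤) => rs G (le_top : W ≤ ⊤) s) '' S)) :
    ∃ m : Γ(M, W), i.app W m = z := by
  induction hz using Submodule.span_induction with
  | mem z hz =>
    obtain ⟨s, hs, rfl⟩ := hz
    obtain ⟨σ, hσ⟩ := h s hs
    exact ⟨rs M le_top σ, (Groth.L16.EpiFrames.app_rs i le_top σ).trans (congrArg (rs G le_top) hσ)⟩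
  | zero => exact ⟨0, map_zero _⟩
  | add z w _ _ hz hw =>
    obtain ⟨m, hm⟩ := hz
    obtain ⟨m', hm'⟩ := hw
    exact ⟨m + m', by rw [map_add, hm, hm']⟩
  | smul r z _ hz =>
    obtain ⟨m, hm⟩ := hz
    exact ⟨r • m, by rw [Scheme.Modules.Hom.app_smul, hm]⟩

theorem subsingleton_H1_of_gg [CompactSpace X] [X.IsSeparated]
    (hO : Subsingleton (Coh.HH X (Coh.structureModule X) 1))
    (h2 : ∀ K : X.Modules, Coh.IsQCoh K → Subsingleton (Coh.HH X K 2))
    (G : X.Modules) [Coh.IsQCoh G] (hg : Curv2.IsGloballyGenerated G) :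
    Subsingleton (Coh.HH X G 1) := by
  classical
  obtain ⟨t, U, hcov, haff⟩ := exists_affine_cover (X := X)
  rw [subsingleton_HH_succ_iff U G hcov haff 0]
  intro x hx
  haveI := finite_idx (ι := ULift.{u} (Fin t)) ((0 : ℤ) + 1)
  have hgen : ∀ a : Idx (ULift.{u} (Fin t)) ((0 : ℤ) + 1), ∃ T : Finset Γ(G, ⊤),
      (show Γ(G, opn U a.1) from x a) ∈ Submodule.span Γ(X, opn U a.1)
        ((fun s : Γ(G, ⊤) => rs G (le_top : opn U a.1 ≤ ⊤) s) '' T) := by
    intro a
    have htop : (show Γ(G, opn U a.1) from x a) ∈ Submodule.span Γ(X, opn U a.1)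
        ((fun s : Γ(G, ⊤) => rs G (le_top : opn U a.1 ≤ ⊤) s) '' Set.univ) := by
      rw [Set.image_univ, Groth.Agent.L13.BlowTwo.span_rs_eq_top hg (isAffineOpen_opn U haff a)]
      trivial
    obtain ⟨T, hT, hxT⟩ := Submodule.mem_span_finite_of_mem_span htop
    obtain ⟨T', -, rfl⟩ := Finset.subset_set_image_iff.mp hT
    exact ⟨T', by simpa using hxT⟩
  choose T hT using hgen
  haveI : Fintype (Idx (ULift.{u} (Fin t)) ((0 : ℤ) + 1)) := Fintype.ofFinite _
  let S : Finset Γ(G, ⊤) := Finset.univ.biUnion T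
  haveI : Coh.IsQCoh (⨁ fun _ : S => Coh.structureModule X) :=
    Groth.L29.QCohInj.isQCoh_of_finite_biproduct _ fun _ => Groth.L19.Conormal.isQCoh_structureModule X
  let π : (⨁ fun _ : S => Coh.structureModule X) ⟶ G :=
    biproduct.desc fun s => Groth.L16.homOfSection G s.1
  let i := Abelian.image.ι π
  haveI : Coh.IsQCoh (Abelian.image π) := isQCoh_image π
  have htop : ∀ s ∈ S, ∃ σ : Γ(Abelian.image π, ⊤), i.app ⊤ σ = s := by
    intro s hs
    refine ⟨(biproduct.ι (fun _ : S => Coh.structureModule X) ⟨s, hs⟩ ≫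
      Abelian.factorThruImage π).app ⊤ (Groth.L21.RR.oneSec X), ?_⟩
    refine Eq.trans ?_ (Groth.L21.RR.app_homOfSection_one s)
    show ((biproduct.ι (fun _ : S => Coh.structureModule X) ⟨s, hs⟩ ≫
      Abelian.factorThruImage π) ≫ i).app ⊤ (Groth.L21.RR.oneSec X) = _
    rw [Category.assoc, Abelian.image.fac, biproduct.ι_desc]
  have hmem : ∀ a : Idx (ULift.{u} (Fin t)) ((0 : ℤ) + 1), ∃ m : Γ(Abelian.image π, opn U a.1), i.app (opn U a.1) m = (show Γ(G, opn U a.1) from x a) := by
    intro a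
    exact exists_preimage_of_mem_span i (opn U a.1) (T a)
      (fun s hs => htop s (Finset.mem_biUnion.mpr ⟨a, Finset.mem_univ a, hs⟩)) _ (hT a)
  choose x' hx' using hmem
  have hxe : cMap U (zρ X) i (x' : C (zρ X) (Abelian.image π) U ((0 : ℤ) + 1)) = x := funext hx'
  have hd : dL (zρ X) (Abelian.image π) U ((0 : ℤ) + 1) x' = 0 := funext fun a => by
    refine Groth.L20.Strat.app_injective_of_mono i _ ?_
    refine (congrFun (dL_cMap U (zρ X) i (by omega) x').symm a).trans ?_
    rw [hxe]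
    exact (congrFun hx a).trans (map_zero _).symm
  obtain ⟨y', hy'⟩ := (subsingleton_HH_succ_iff U (Abelian.image π) hcov haff 0).1
    (subsingleton_H1_image h2 π (subsingleton_H1_finite hO)) x' hd
  exact ⟨cMap U _ i y', (dL_cMap U (zρ X) i (Int.natCast_nonneg 0) y').trans
    ((congrArg (cMap U (zρ X) i) hy').trans hxe)⟩

end Groth.L13.GGH1
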