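import Groth.Agent.L13.CplStalk
import Groth.Agent.L13.BlowUp.Exists
import Groth.Agent.L02.RelCartier.Scheme
import Groth.Agent.L01.CompletionReg
import Mathlib.RingTheory.AdicCompletion.AsTensorProduct
import Groth.Prelude.Def_FEt
import Groth.Prelude.Def_BlowUp2

/-!
Admissible blow-ups of the completion descend.
-/

set_option autoImplicit false
set_option linter.style.haveILetI false
universe u

open CategoryTheory CategoryTheory.Limits AlgebraicGeometry IsLocalRing

namespace Groth.L13.CplBlowUp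

open Groth.L13.BU

theorem support_idealOf {R : Type u} [CommRing R] (I : Ideal R) :
    ((idealOf I).support : Set (Spec (CommRingCat.of R))) = PrimeSpectrum.zeroLocus (I : Set R) := by
  rw [Scheme.IdealSheafData.coe_support_ofIdealTop, Spec_zeroLocus]
  congr 1
  ext r
  simp only [SetLike.mem_coe, Set.mem_preimage]
  refine ⟨fun h => ?_, fun h => Ideal.mem_map_of_mem _ h⟩
  have h2 := Ideal.mem_map_of_mem (Scheme.ΓSpecIso (CommRingCat.of R)).hom.hom h
  rw [Ideal.map_map, ← CommRingCat.hom_comp, Iso.inv_hom_id, CommRingCat.hom_id] at h2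
  erw [Ideal.map_id, Iso.inv_hom_id_apply] at h2
  exact h2

theorem exists_idealOf_eq {R : Type u} [CommRing R] (J : (Spec (CommRingCat.of R)).IdealSheafData) :
    ∃ J₀ : Ideal R, J = idealOf J₀ := by
  refine ⟨(J.ideal ⟨⊤, isAffineOpen_top _⟩).map (Scheme.ΓSpecIso (CommRingCat.of R)).hom.hom, ?_⟩
  refine Groth.L02.RelCartier.eq_idealOf _ _ ?_
  rw [Ideal.map_map, ← CommRingCat.hom_comp, Iso.hom_inv_id, CommRingCat.hom_id]
  exact (Ideal.map_id _).symm

theorem admissible_iff {R : Type u} [CommRing R] [IsLocalRing R] [IsNoetherianRing R] (J₀ : Ideal R) :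
    BlowUp.IsAdmissibleFor (FEt.puncturedSpec R) (idealOf J₀) ↔ maximalIdeal R ≤ J₀.radical := by
  have hsupp : Disjoint ((idealOf J₀).support : Set (Spec (CommRingCat.of R)))
      (FEt.puncturedSpec R : Set (Spec (CommRingCat.of R))) ↔ maximalIdeal R ≤ J₀.radical := by
    rw [support_idealOf]
    change Disjoint (PrimeSpectrum.zeroLocus (J₀ : Set R)) ({closedPoint R}ᶜ) ↔ _
    rw [Set.disjoint_compl_right_iff_subset, J₀.radical_eq_sInf, le_sInf_iff]
    constructor
    · rintro h p ⟨hp, hprime⟩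
      have := congr($(h (show (⟨p, hprime⟩ : PrimeSpectrum R) ∈ _ from hp)).asIdeal)
      exact this.ge
    · intro h p hp
      exact PrimeSpectrum.ext (le_antisymm (le_maximalIdeal p.isPrime.ne_top) (h _ ⟨hp, p.isPrime⟩))
  refine ⟨fun h => hsupp.mp h.2, fun h => ⟨fun U => ?_, hsupp.mpr h⟩⟩
  haveI : IsNoetherianRing Γ(Spec (CommRingCat.of R), U) := IsLocallyNoetherian.component_noetherian U
  exact Ideal.fg_of_isNoetherianRing _

theorem exists_descent (A : Type u) [CommRing A] [IsLocalRing A] [IsNoetherianRing A]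
    {Y : Scheme.{u}} (c : Y ⟶ Spec (CommRingCat.of (Curv2.cpl A)))
    (J : (Spec (CommRingCat.of (Curv2.cpl A))).IdealSheafData)
    (hJ : BlowUp.IsAdmissibleFor (FEt.puncturedSpec (Curv2.cpl A)) J) (hc : BlowUp.IsBlowUp c J) :
    ∃ (I : (Spec (CommRingCat.of A)).IdealSheafData) (X : Scheme.{u}) (b : X ⟶ Spec (CommRingCat.of A)),
      BlowUp.IsAdmissibleFor (FEt.puncturedSpec A) I ∧ BlowUp.IsBlowUp b I ∧
      ∃ e : Y ≅ Curv2.bcCpl A b, e.hom ≫ Curv2.bcCplSnd A b = c := by
  haveI : IsNoetherianRing (Curv2.cpl A) := Groth.L01.AnalUnram.isNoetherianRing_completion A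
  obtain ⟨J₀, rfl⟩ := exists_idealOf_eq J
  obtain ⟨n, hn⟩ := Ideal.exists_pow_le_of_le_radical_of_fg ((admissible_iff J₀).mp hJ)
    (maximalIdeal (Curv2.cpl A)).fg_of_isNoetherianRing
  rw [AdicCompletion.maximalIdeal_eq_map, ← Ideal.map_pow] at hn
  let I₀ := J₀.comap (algebraMap A (Curv2.cpl A))
  have hI : maximalIdeal A ≤ I₀.radical := fun a ha =>
    ⟨n, hn (Ideal.mem_map_of_mem _ (Ideal.pow_mem_pow ha n))⟩
  have hmap : I₀.map (algebraMap A (Curv2.cpl A)) = J₀ := by
    refine le_antisymm Ideal.map_comap_le fun x hx => ?_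
    obtain ⟨a, ha⟩ := Groth.L13.CplStalk.exists_sub_algebraMap_mem A (maximalIdeal A).fg_of_isNoetherianRing n x
    have haJ : a ∈ I₀ := Ideal.mem_comap.mpr (by simpa using sub_mem hx (hn ha))
    have hle : (maximalIdeal A ^ n).map (algebraMap A (Curv2.cpl A)) ≤ I₀.map (algebraMap A (Curv2.cpl A)) :=
      Ideal.map_mono (Ideal.map_le_iff_le_comap.mp hn)
    simpa using add_mem (hle ha) (Ideal.mem_map_of_mem _ haJ)
  obtain ⟨X, b, hb⟩ := exists_isBlowUp (idealOf I₀)
  haveI : Flat (Spec.map (CommRingCat.ofHom (algebraMap A (Curv2.cpl A)))) :=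
    (HasRingHomProperty.Spec_iff (P := @Flat)).mpr (RingHom.flat_algebraMap_iff.mpr inferInstance)
  have hbc := isBlowUp_pullback (Spec.map (CommRingCat.ofHom (algebraMap A (Curv2.cpl A)))) hb
  rw [Groth.L02.RelCartier.comap_idealOf, hmap] at hbc
  obtain ⟨k, hk, -⟩ := hbc.2 Y c hc.1
  haveI := isIso_of_blowUps hbc hc k hk
  exact ⟨idealOf I₀, X, b, (admissible_iff I₀).mpr hI, hb, asIso k ≪≫ pullbackSymmetry _ _, by
    simp [Curv2.bcCplSnd, hk]⟩

end Groth.L13.CplBlowUp
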