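/-
Linkage preserves the Cohen–Macaulay property.
-/
import Groth.Agent.L13.LiaisonEquidim
import Groth.Agent.L01.GorExt
import Groth.Agent.L04.Depth2
import Groth.Agent.L06.FlatFibre

universe u

open CategoryTheory CategoryTheory.Abelian IsLocalRing RingTheory.Sequence

attribute [local instance] HasDerivedCategory.standard

set_option backward.isDefEq.respectTransparency false

namespace Groth.L13.LiaisonCM

section Local

variable {A : Type u} [CommRing A] [LocCoh.IsGorensteinLocalRing A] {d : ℕ}

theorem subsingleton_ext (hd : ringKrullDim A = d) (N : Type u) [AddCommGroup N] [Module A N]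
    [Module.Finite A N] (hN : (d : ℕ∞) ≤ LocCoh.idealDepth (maximalIdeal A) N) {i : ℕ} (hi : 1 ≤ i) :
    Subsingleton (Ext (ModuleCat.of A N) (ModuleCat.of A A) i) := by
  by_cases h : maximalIdeal A • (⊤ : Submodule A N) = ⊤
  · haveI : Subsingleton N := by
      rw [← Submodule.subsingleton_iff A]
      refine subsingleton_of_bot_eq_top (Eq.symm ?_)
      exact Submodule.eq_bot_of_le_smul_of_le_jacobson_bot (maximalIdeal A) _ Module.Finite.fg_top
        h.ge (maximalIdeal_le_jacobson _)
    exact subsingleton_of_forall_eq 0 fun z => by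
      rw [← Ext.mk₀_id_comp z, show 𝟙 (ModuleCat.of A N) = 0 from
        (ModuleCat.isZero_of_subsingleton _).eq_of_src _ _, Ext.mk₀_zero, Ext.zero_comp]
  · obtain ⟨rs, hlen, hrs, hmem⟩ := Groth.L04.exists_of_le_idealDepth h hN
    exact Groth.L01.GorExt.subsingleton_ext_of_regular hd rs N hrs hmem i (by omega)

theorem exists_extend {M₁ M₂ M₃ : Type u} [AddCommGroup M₁] [Module A M₁] [AddCommGroup M₂]
    [Module A M₂] [AddCommGroup M₃] [Module A M₃] [Module.Finite A M₃] [Module.Finite A M₁]
    [Module.Finite A M₂] (hd : ringKrullDim A = d)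
    (f : M₁ →ₗ[A] M₂) (g : M₂ →ₗ[A] M₃) (hf : Function.Injective f) (hg : Function.Surjective g)
    (hfg : Function.Exact f g) (h3 : (d : ℕ∞) ≤ LocCoh.idealDepth (maximalIdeal A) M₃)
    (φ : M₁ →ₗ[A] A) : ∃ e : M₂ →ₗ[A] A, e ∘ₗ f = φ := by
  obtain ⟨x, hx⟩ := Ext.contravariant_sequence_exact₁ (Groth.L04.shortExact_mk hf hg hfg)
    (ModuleCat.of A A) (Ext.mk₀ (ModuleCat.ofHom φ)) (show 1 + 0 = 1 by rfl)
    ((subsingleton_ext hd M₃ h3 le_rfl).elim _ _)
  obtain ⟨e, rfl⟩ : ∃ e, Ext.mk₀ e = x := ⟨_, Ext.mk₀_homEquiv₀_apply x⟩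
  rw [Ext.mk₀_comp_mk₀] at hx
  have hx' := (Ext.mk₀_bijective _ _).1 hx
  exact ⟨e.hom, LinearMap.ext fun c =>
    LinearMap.congr_fun (congrArg ModuleCat.Hom.hom hx') c⟩

theorem depth_self (hd : ringKrullDim A = d) :
    (d : ℕ∞) ≤ LocCoh.idealDepth (maximalIdeal A) A := by
  have h := (Groth.Agent.S0341.result A).supportDim_eq_depth
  rw [Module.supportDim_self_eq_ringKrullDim, hd] at h
  exact WithBot.coe_le_coe.mp (le_of_eq h)

theorem le_depth_hom (hd : ringKrullDim A = d) : ∀ (n : ℕ), n ≤ d → ∀ (M : Type u) [AddCommGroup M]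
    [Module A M] [Module.Finite A M], (d : ℕ∞) ≤ LocCoh.idealDepth (maximalIdeal A) M →
      (n : ℕ∞) ≤ LocCoh.idealDepth (maximalIdeal A) (M →ₗ[A] A) := by
  intro n
  induction n with
  | zero => intro _ M _ _ _ _; simp
  | succ n ih =>
    intro hn M _ _ _ hM
    obtain ⟨k, π, hπ⟩ := Module.Finite.exists_fin' A M
    let M₁ := LinearMap.ker π
    have hex : Function.Exact M₁.subtype π := π.exact_subtype_ker_map
    have hF : (d : ℕ∞) ≤ LocCoh.idealDepth (maximalIdeal A) (Fin k → A) :=
      Groth.L04.le_idealDepth_pi _ (depth_self hd) k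
    have hd' : ∃ d', d = d' + 1 := ⟨d - 1, by omega⟩
    obtain ⟨d', hd'⟩ := hd'
    have hM₁ : (d : ℕ∞) ≤ LocCoh.idealDepth (maximalIdeal A) M₁ := by
      subst hd'
      exact Groth.L04.le_idealDepth_left M₁.injective_subtype hπ hex hF
        ((Nat.cast_le.mpr (Nat.le_succ d')).trans hM)
    let α : (M →ₗ[A] A) →ₗ[A] ((Fin k → A) →ₗ[A] A) := LinearMap.lcomp A A π
    let β : ((Fin k → A) →ₗ[A] A) →ₗ[A] (M₁ →ₗ[A] A) := LinearMap.lcomp A A M₁.subtype
    have hα : Function.Injective α := fun a b hab =>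
      (LinearMap.cancel_right hπ).mp hab
    have hβ : Function.Surjective β := fun φ => exists_extend hd M₁.subtype π M₁.injective_subtype hπ hex hM φ
    have hαβ : Function.Exact α β := by
      intro φ
      constructor
      · intro h
        have hle : M₁ ≤ LinearMap.ker φ := fun x hx => LinearMap.congr_fun h ⟨x, hx⟩
        refine ⟨M₁.liftQ φ hle ∘ₗ (π.quotKerEquivOfSurjective hπ).symm.toLinearMap, ?_⟩
        refine LinearMap.ext fun x => ?_
        exact congrArg (M₁.liftQ φ hle)
          ((π.quotKerEquivOfSurjective hπ).symm_apply_apply (Submodule.Quotient.mk x))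
      · rintro ⟨ψ, rfl⟩
        refine LinearMap.ext fun x => ?_
        simp [α, β, M₁, LinearMap.mem_ker.mp x.2]
    haveI : Module.Finite A (M →ₗ[A] A) := Module.Finite.of_injective α hα
    haveI : Module.Finite A (M₁ →ₗ[A] A) := Module.Finite.of_surjective β hβ
    refine Groth.L04.le_idealDepth_left hα hβ hαβ ?_ (ih (by omega) M₁ hM₁)
    rw [Groth.L04.idealDepth_congr ((Pi.basisFun A (Fin k)).constr A).symm]
    exact (Nat.cast_le.mpr hn).trans hF

/-- The annihilator quotient of a maximal Cohen–Macaulay cyclic module. -/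
theorem le_depth_quotient_annihilator (hd : ringKrullDim A = d) (a b : Ideal A)
    (hb : ∀ r, r ∈ b ↔ ∀ x ∈ a, r * x = 0)
    (ha : (d : ℕ∞) ≤ LocCoh.idealDepth (maximalIdeal A) (A ⧸ a)) :
    (d : ℕ∞) ≤ LocCoh.idealDepth (maximalIdeal A) (A ⧸ b) := by
  have hMa : (d : ℕ∞) ≤ LocCoh.idealDepth (maximalIdeal A) a := by
    rcases Nat.eq_zero_or_pos d with h | h
    · subst h; simp
    · obtain ⟨d', rfl⟩ : ∃ d', d = d' + 1 := ⟨d - 1, by omega⟩
      exact Groth.L04.le_idealDepth_left (Submodule.injective_subtype a) a.mkQ_surjective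
        (LinearMap.exact_subtype_mkQ a) (depth_self hd)
        ((Nat.cast_le.mpr (Nat.le_succ d')).trans ha)
  let μ : A →ₗ[A] (a →ₗ[A] A) := LinearMap.toSpanSingleton A _ a.subtype
  have hker : LinearMap.ker μ = b := by
    ext r
    rw [LinearMap.mem_ker, LinearMap.ext_iff, hb]
    simp only [μ, LinearMap.toSpanSingleton_apply, LinearMap.smul_apply, Submodule.coe_subtype,
      smul_eq_mul, LinearMap.zero_apply, Subtype.forall]
  have hsurj : Function.Surjective μ := fun φ => by
    obtain ⟨e, he⟩ := exists_extend hd a.subtype a.mkQ (Submodule.injective_subtype a) a.mkQ_surjective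
      (LinearMap.exact_subtype_mkQ a) ha φ
    refine ⟨e 1, LinearMap.ext fun x => ?_⟩
    rw [← he]
    simp only [μ, LinearMap.toSpanSingleton_apply, LinearMap.smul_apply, Submodule.coe_subtype,
      LinearMap.coe_comp, Function.comp_apply, smul_eq_mul]
    rw [mul_comm, ← smul_eq_mul, ← map_smul, smul_eq_mul, mul_one]
  rw [Groth.L04.idealDepth_congr ((Submodule.quotEquivOfEq b _ hker.symm).trans
    (μ.quotKerEquivOfSurjective hsurj))]
  exact le_depth_hom hd d le_rfl a hMa

theorem cm_quotient_of_le_depth (hd : ringKrullDim A = d) (b : Ideal A) (hb : b ≠ ⊤)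
    (h : (d : ℕ∞) ≤ LocCoh.idealDepth (maximalIdeal A) (A ⧸ b)) :
    LocCoh.IsCohenMacaulayLocalRing (A ⧸ b) := by
  haveI : IsLocalRing (A ⧸ b) := Groth.L01.isLocalRing_quotient hb
  refine { supportDim_eq_depth := le_antisymm ?_ Groth.L04.depth_le_supportDim }
  rw [Module.supportDim_self_eq_ringKrullDim, LocCoh.depth,
    show maximalIdeal (A ⧸ b) = (maximalIdeal A).map (algebraMap A (A ⧸ b)) from
      Groth.L01.maximalIdeal_quotient_eq_map,
    ← Groth.L04.idealDepth_eq_idealDepth_map_of_finite (B := A ⧸ b) (maximalIdeal A) (A ⧸ b)]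
  refine (ringKrullDim_quotient_le b).trans (hd.le.trans ?_)
  exact WithBot.coe_le_coe.mpr h

end Local

/-- Localization of a quotient at a prime. -/
theorem nonempty_ringEquiv_localization_quotient {Q : Type u} [CommRing Q] (b : Ideal Q)
    (P' : Ideal (Q ⧸ b)) [P'.IsPrime] :
    Nonempty ((Localization.AtPrime (P'.comap (Ideal.Quotient.mk b)) ⧸
      b.map (algebraMap Q (Localization.AtPrime (P'.comap (Ideal.Quotient.mk b))))) ≃+*
        Localization.AtPrime P') := by
  let P := P'.comap (Ideal.Quotient.mk b)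
  let B := Localization.AtPrime P ⧸ b.map (algebraMap Q (Localization.AtPrime P))
  haveI : IsLocalization P'.primeCompl B := by
    have h : Algebra.algebraMapSubmonoid (Q ⧸ b) P.primeCompl = P'.primeCompl := by
      ext y
      obtain ⟨y, rfl⟩ := Ideal.Quotient.mk_surjective y
      constructor
      · rintro ⟨t, ht, hty⟩ hy
        rw [← hty] at hy
        exact ht hy
      · exact fun hy => ⟨y, hy, rfl⟩
    rw [← h]
    infer_instance
  exact ⟨(IsLocalization.algEquiv P'.primeCompl B (Localization.AtPrime P')).toRingEquiv⟩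

theorem cm_of_ringEquiv {S T : Type u} [CommRing S] [CommRing T] (e : S ≃+* T)
    (h : LocCoh.IsCohenMacaulayLocalRing S) : LocCoh.IsCohenMacaulayLocalRing T := by
  haveI := h
  haveI : IsLocalRing T := e.isLocalRing
  haveI : IsNoetherianRing T := isNoetherianRing_of_ringEquiv S e
  refine { supportDim_eq_depth := ?_ }
  rw [Module.supportDim_self_eq_ringKrullDim, ← ringKrullDim_eq_of_ringEquiv e,
    Groth.L06.FlatFibre.depth_eq_of_ringEquiv e, ← Module.supportDim_self_eq_ringKrullDim]
  exact h.supportDim_eq_depth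

/-- At every prime the localization of a Cohen–Macaulay quotient, all of whose associated primes are
minimal in the ambient ring, has maximal depth. -/
theorem le_depth_localized_quotient {Q : Type u} [CommRing Q] [LocCoh.IsGorensteinRing Q]
    {a : Ideal Q} (hass : ∀ p ∈ associatedPrimes Q (Q ⧸ a), p ∈ minimalPrimes Q)
    [LocCoh.IsCohenMacaulayRing (Q ⧸ a)] {P : Ideal Q} [P.IsPrime] {d : ℕ}
    (hd : ringKrullDim (Localization.AtPrime P) = d) :
    (d : ℕ∞) ≤ LocCoh.idealDepth (maximalIdeal (Localization.AtPrime P))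
      (Localization.AtPrime P ⧸ a.map (algebraMap Q (Localization.AtPrime P))) := by
  haveI hQ := Groth.L13.Liaison.isCohenMacaulayRing_of_gorenstein Q
  let A := Localization.AtPrime P
  haveI := LocCoh.IsGorensteinRing.isGorensteinLocalRing_localization (A := Q) P
  by_cases haP : a ≤ P
  · have haA : a.map (algebraMap Q A) ≠ ⊤ := fun h =>
      (maximalIdeal.isMaximal A).ne_top (top_le_iff.mp (h.symm.trans_le
        ((Ideal.map_mono haP).trans Localization.AtPrime.map_eq_maximalIdeal.le)))
    haveI : IsLocalRing (A ⧸ a.map (algebraMap Q A)) := Groth.L01.isLocalRing_quotient haA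
    -- `A ⧸ aA` is Cohen–Macaulay
    have hcm : LocCoh.IsCohenMacaulayLocalRing (A ⧸ a.map (algebraMap Q A)) := by
      haveI : (P.map (Ideal.Quotient.mk a)).IsPrime :=
        Ideal.map_isPrime_of_surjective Ideal.Quotient.mk_surjective (by rwa [Ideal.mk_ker])
      have hc : (P.map (Ideal.Quotient.mk a)).comap (Ideal.Quotient.mk a) = P := by
        rw [Ideal.comap_map_of_surjective _ Ideal.Quotient.mk_surjective, ← RingHom.ker_eq_comap_bot,
          Ideal.mk_ker, sup_eq_left.2 haP]
      haveI : IsLocalization (P.map (Ideal.Quotient.mk a)).primeCompl (A ⧸ a.map (algebraMap Q A)) := by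
        have h : Algebra.algebraMapSubmonoid (Q ⧸ a) P.primeCompl =
            (P.map (Ideal.Quotient.mk a)).primeCompl := by
          ext y
          obtain ⟨y, rfl⟩ := Ideal.Quotient.mk_surjective y
          constructor
          · rintro ⟨t, ht, hty⟩ hy
            refine ht ?_
            rw [← hc]
            rw [← hty] at hy
            exact hy
          · intro hy
            exact ⟨y, fun h => hy (Ideal.mem_map_of_mem _ h), rfl⟩
        rw [← h]
        infer_instance
      exact cm_of_ringEquiv (IsLocalization.algEquiv (P.map (Ideal.Quotient.mk a)).primeCompl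
        (Localization.AtPrime (P.map (Ideal.Quotient.mk a))) _).toRingEquiv
        (LocCoh.IsCohenMacaulayRing.isCohenMacaulayLocalRing_localization _)
    -- of full dimension
    obtain ⟨q, hq, hqP⟩ := Ideal.exists_minimalPrimes_le haP
    haveI := hq.1.1
    have hqass : q ∈ associatedPrimes Q (Q ⧸ a) :=
      Module.associatedPrimes.minimalPrimes_annihilator_subset_associatedPrimes Q (Q ⧸ a)
        (by rw [Ideal.annihilator_quotient]; exact hq)
    have hdim : (d : WithBot ℕ∞) ≤ ringKrullDim (A ⧸ a.map (algebraMap Q A)) := by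
      have h1 : ringKrullDim (A ⧸ q.map (algebraMap Q A)) = (d : WithBot ℕ∞) := by
        rw [Groth.L04.ringKrullDim_localization_quotient hqP,
          Groth.L13.Liaison.height_map_eq_of_minimal (hass q hqass) hqP,
          ← IsLocalization.AtPrime.ringKrullDim_eq_height P A, hd]
      rw [← h1]
      exact ringKrullDim_le_of_surjective (Ideal.Quotient.factor (Ideal.map_mono hq.1.2))
        (Ideal.Quotient.factor_surjective _)
    haveI := hcm
    have h2 := hcm.supportDim_eq_depth
    rw [Module.supportDim_self_eq_ringKrullDim] at h2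
    rw [h2, LocCoh.depth, show maximalIdeal (A ⧸ a.map (algebraMap Q A)) =
        (maximalIdeal A).map (algebraMap A (A ⧸ a.map (algebraMap Q A))) from
          Groth.L01.maximalIdeal_quotient_eq_map,
      ← Groth.L04.idealDepth_eq_idealDepth_map_of_finite (B := A ⧸ a.map (algebraMap Q A))
        (maximalIdeal A) (A ⧸ a.map (algebraMap Q A))] at hdim
    exact_mod_cast hdim
  · have htop : a.map (algebraMap Q A) = ⊤ := by
      obtain ⟨x, hx, hxP⟩ := SetLike.not_le_iff_exists.mp haP
      exact Ideal.eq_top_of_isUnit_mem _ (Ideal.mem_map_of_mem _ hx)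
        (IsLocalization.map_units A (⟨x, hxP⟩ : P.primeCompl))
    rw [Groth.L04.idealDepth_eq_top]
    · exact le_top
    · haveI : Subsingleton (A ⧸ a.map (algebraMap Q A)) := Ideal.Quotient.subsingleton_iff.mpr htop
      exact Subsingleton.elim _ _

/-- In a Gorenstein ring the linked quotient of a Cohen–Macaulay quotient is Cohen–Macaulay. -/
theorem isCohenMacaulayRing_linked {Q : Type u} [CommRing Q] [LocCoh.IsGorensteinRing Q]
    {a b : Ideal Q} (hb : ∀ r, r ∈ b ↔ ∀ x ∈ a, r * x = 0)
    (hass : ∀ p ∈ associatedPrimes Q (Q ⧸ a), p ∈ minimalPrimes Q)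
    [LocCoh.IsCohenMacaulayRing (Q ⧸ a)] : LocCoh.IsCohenMacaulayRing (Q ⧸ b) := by
  haveI hQ := Groth.L13.Liaison.isCohenMacaulayRing_of_gorenstein Q
  refine { isCohenMacaulayLocalRing_localization := fun P' _ => ?_ }
  obtain ⟨e⟩ := nonempty_ringEquiv_localization_quotient b P'
  refine cm_of_ringEquiv e ?_
  set P := P'.comap (Ideal.Quotient.mk b)
  let A := Localization.AtPrime P
  haveI := LocCoh.IsGorensteinRing.isGorensteinLocalRing_localization (A := Q) P
  obtain ⟨d, hd⟩ := Groth.L01.exists_dim_eq_nat (R := A)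
  have hbP : b ≤ P := fun x hx => by
    rw [Ideal.mem_comap, Ideal.Quotient.eq_zero_iff_mem.mpr hx]
    exact P'.zero_mem
  have hbA : b.map (algebraMap Q A) ≠ ⊤ := fun h =>
    (maximalIdeal.isMaximal A).ne_top (top_le_iff.mp (h.symm.trans_le
      ((Ideal.map_mono hbP).trans Localization.AtPrime.map_eq_maximalIdeal.le)))
  obtain ⟨n, g, hg⟩ := Submodule.fg_iff_exists_fin_generating_family.mp a.fg_of_isNoetherianRing
  have hbA' : ∀ r, r ∈ b.map (algebraMap Q A) ↔ ∀ x ∈ a.map (algebraMap Q A), r * x = 0 := by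
    intro r
    constructor
    · intro hr x hx
      have h0 : b.map (algebraMap Q A) * a.map (algebraMap Q A) = ⊥ := by
        rw [← Ideal.map_mul, eq_bot_iff, Ideal.map_le_iff_le_comap, Ideal.mul_le]
        intro s hs t ht
        rw [Ideal.mem_comap, (hb s).mp hs t ht, map_zero]
        exact Submodule.zero_mem _
      exact (Submodule.mem_bot A).mp (h0 ▸ Ideal.mul_mem_mul hr hx)
    · intro h
      obtain ⟨y, s, rfl⟩ := IsLocalization.exists_mk'_eq P.primeCompl r
      have h2 : ∀ i, ∃ t : P.primeCompl, (t : Q) * (g i * y) = 0 := fun i => by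
        have h3 := h _ (Ideal.mem_map_of_mem _ (hg ▸ Submodule.subset_span ⟨i, rfl⟩ : g i ∈ a))
        rw [mul_comm, IsLocalization.mul_mk'_eq_mk'_of_mul, IsLocalization.mk'_eq_zero_iff] at h3
        exact h3
      choose t ht using h2
      have hT : (∏ i, (t i : Q)) * y ∈ b := by
        refine (hb _).mpr fun x hx => ?_
        have hle : Submodule.span Q (Set.range g) ≤
            LinearMap.ker (LinearMap.mulLeft Q ((∏ i, (t i : Q)) * y)) := by
          refine Submodule.span_le.mpr ?_
          rintro _ ⟨i, rfl⟩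
          change (∏ j, (t j : Q)) * y * g i = 0
          obtain ⟨c, hc⟩ := Finset.dvd_prod_of_mem (fun j => (t j : Q)) (Finset.mem_univ i)
          rw [hc, show (t i : Q) * c * y * g i = c * ((t i : Q) * (g i * y)) by ring, ht i, mul_zero]
        exact hle (hg ▸ hx)
      rw [IsLocalization.mk'_mem_map_algebraMap_iff P.primeCompl]
      exact ⟨_, prod_mem fun i _ => (t i).2, hT⟩
  refine cm_quotient_of_le_depth hd _ hbA (le_depth_quotient_annihilator hd _ _ hbA' ?_)
  exact le_depth_localized_quotient hass hd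

/-- Linkage preserves the Cohen–Macaulay property. -/
theorem isCohenMacaulayRing_of_linked {R : Type u} [CommRing R] [IsNoetherianRing R] {c I J : Ideal R}
    [LocCoh.IsGorensteinRing (R ⧸ c)] (hIJ : c.colon (I : Set R) = J) (hJI : c.colon (J : Set R) = I)
    [LocCoh.IsCohenMacaulayRing (R ⧸ I)] : LocCoh.IsCohenMacaulayRing (R ⧸ J) := by
  haveI := Groth.L13.Liaison.isCohenMacaulayRing_of_gorenstein (R ⧸ c)
  have hcI : c ≤ I := hJI ▸ fun a ha => Submodule.mem_colon.mpr fun s _ => c.mul_mem_right s ha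
  have hcJ : c ≤ J := hIJ ▸ fun a ha => Submodule.mem_colon.mpr fun s _ => c.mul_mem_right s ha
  let π := Ideal.Quotient.mk c
  have hcomap : ∀ K : Ideal R, c ≤ K → (K.map π).comap π = K := fun K hK => by
    rw [Ideal.comap_map_of_surjective π Ideal.Quotient.mk_surjective, ← RingHom.ker_eq_comap_bot,
      Ideal.mk_ker, sup_eq_left.2 hK]
  let eI : (R ⧸ c) ⧸ I.map π ≃+* R ⧸ I := DoubleQuot.quotQuotEquivQuotOfLE hcI
  let eJ : (R ⧸ c) ⧸ J.map π ≃+* R ⧸ J := DoubleQuot.quotQuotEquivQuotOfLE hcJ
  haveI : LocCoh.IsCohenMacaulayRing ((R ⧸ c) ⧸ I.map π) := by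
    refine { isCohenMacaulayLocalRing_localization := fun p hp => ?_ }
    haveI : (p.comap (eI.symm : R ⧸ I →+* _)).IsPrime := Ideal.IsPrime.comap _
    exact cm_of_ringEquiv
      (IsLocalization.ringEquivOfRingEquiv (M := (p.comap (eI.symm : R ⧸ I →+* _)).primeCompl)
        (T := p.primeCompl) (Localization.AtPrime (p.comap (eI.symm : R ⧸ I →+* _)))
        (Localization.AtPrime p) eI.symm (by
          ext y
          constructor
          · rintro ⟨x, hx, rfl⟩; exact hx
          · intro hy
            exact ⟨eI y, fun h => hy (by simpa using h), eI.symm_apply_apply y⟩))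
      (LocCoh.IsCohenMacaulayRing.isCohenMacaulayLocalRing_localization _)
  haveI := isCohenMacaulayRing_linked (Q := R ⧸ c) (a := I.map π) (b := J.map π) (fun r => by
      obtain ⟨r, rfl⟩ := Ideal.Quotient.mk_surjective r
      rw [← Ideal.mem_comap, hcomap J hcJ, ← hIJ, Submodule.mem_colon]
      constructor
      · intro h x hx
        obtain ⟨x, rfl⟩ := Ideal.Quotient.mk_surjective x
        rw [← Ideal.mem_comap, hcomap I hcI] at hx
        rw [← map_mul, Ideal.Quotient.eq_zero_iff_mem]
        exact h x hx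
      · intro h x hx
        have := h _ (Ideal.mem_map_of_mem π hx)
        rwa [← map_mul, Ideal.Quotient.eq_zero_iff_mem] at this)
    (fun p hp => by
      obtain ⟨hpp, x, hx⟩ := isAssociatedPrime_iff.mp hp
      obtain ⟨x, rfl⟩ := Ideal.Quotient.mk_surjective x
      obtain ⟨x, rfl⟩ := Ideal.Quotient.mk_surjective x
      have hp' : p.comap π ∈ associatedPrimes R (R ⧸ I) := by
        refine isAssociatedPrime_iff.mpr ⟨Ideal.IsPrime.comap π, Ideal.Quotient.mk I x, ?_⟩
        ext r
        have e1 : π r • Ideal.Quotient.mk (I.map π) (π x) = Ideal.Quotient.mk (I.map π) (π (r * x)) := by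
          rw [map_mul π]; rfl
        have e2 : r • Ideal.Quotient.mk I x = Ideal.Quotient.mk I (r * x) := rfl
        rw [Ideal.mem_comap, hx, Submodule.mem_colon_singleton, Submodule.mem_colon_singleton,
          Submodule.mem_bot, Submodule.mem_bot, e1, e2, Ideal.Quotient.eq_zero_iff_mem,
          Ideal.Quotient.eq_zero_iff_mem, ← Ideal.mem_comap, hcomap I hcI]
      rw [← hJI] at hp'
      have h := Groth.L13.Liaison.minimalPrimes_of_mem_associatedPrimes_quotient (c := c)
        (Groth.L13.Liaison.associatedPrimes_colon_subset c J hp')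
      rw [Ideal.minimalPrimes_eq_comap] at h
      obtain ⟨P, hP, hPp⟩ := h
      rwa [← Ideal.comap_injective_of_surjective π Ideal.Quotient.mk_surjective hPp])
  refine { isCohenMacaulayLocalRing_localization := fun p hp => ?_ }
  haveI : (p.comap (eJ : (R ⧸ c) ⧸ J.map π →+* R ⧸ J)).IsPrime := Ideal.IsPrime.comap _
  exact cm_of_ringEquiv
    (IsLocalization.ringEquivOfRingEquiv (M := (p.comap (eJ : (R ⧸ c) ⧸ J.map π →+* R ⧸ J)).primeCompl)
      (T := p.primeCompl) (Localization.AtPrime (p.comap (eJ : (R ⧸ c) ⧸ J.map π →+* R ⧸ J)))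
      (Localization.AtPrime p) eJ (by
        ext y
        constructor
        · rintro ⟨x, hx, rfl⟩; exact hx
        · intro hy
          exact ⟨eJ.symm y, fun h => hy (by simpa using h), eJ.apply_symm_apply y⟩))
    (LocCoh.IsCohenMacaulayRing.isCohenMacaulayLocalRing_localization _)

end Groth.L13.LiaisonCM
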