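import Groth.Agent.L13.DblCovAlg
import Groth.Agent.L18.AffAlg
import Groth.Prelude.Def_SGA1
import Mathlib.AlgebraicGeometry.Morphisms.FlatRank
import Mathlib.Topology.Sheaves.SheafCondition.Sites
import Mathlib.Topology.Sheaves.SheafCondition.UniqueGluing
import Mathlib.Algebra.Group.Subgroup.ZPowers.Basic

/-!
The involution of a double cover.
-/

set_option autoImplicit false
set_option backward.isDefEq.respectTransparency false

universe u

open CategoryTheory CategoryTheory.Limits AlgebraicGeometry TopologicalSpace Opposite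

namespace Groth.Agent.L13.DblCov

variable {X Y : Scheme.{u}} (f : X ⟶ Y)

/-- Affine opens over which `1, θ` is a basis. -/
def Good (W : Y.Opens) : Prop := IsAffineOpen W ∧ ∃ θ, IsGen (f.app W).hom θ

lemma away_props {Z : Scheme.{u}} {W D : Z.Opens} (hW : IsAffineOpen W) (g : Γ(Z, W))
    (hD : D = Z.basicOpen g) (hle : D ≤ W) :
    IsUnit ((Z.presheaf.map (homOfLE hle).op).hom g) ∧
      (∀ x, ∃ (n : ℕ) (a : Γ(Z, W)),
        x * (Z.presheaf.map (homOfLE hle).op).hom g ^ n = (Z.presheaf.map (homOfLE hle).op).hom a) ∧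
      ∀ a, (Z.presheaf.map (homOfLE hle).op).hom a = 0 → ∃ n : ℕ, g ^ n * a = 0 := by
  subst hD
  haveI := hW.isLocalization_basicOpen g
  refine ⟨IsLocalization.Away.algebraMap_isUnit (S := Γ(Z, Z.basicOpen g)) g, fun x => ?_,
    fun a ha => ?_⟩
  · obtain ⟨n, a, e⟩ := IsLocalization.Away.surj g x
    exact ⟨n, a, e⟩
  · obtain ⟨⟨_, n, rfl⟩, e⟩ := (IsLocalization.map_eq_zero_iff (Submonoid.powers g)
      Γ(Z, Z.basicOpen g) a).mp ha
    exact ⟨n, e⟩

lemma naturality_apply {W V : Y.Opens} (h : V ≤ W) (a : Γ(Y, W)) :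
    (X.presheaf.map (homOfLE (f.preimage_mono h)).op).hom ((f.app W).hom a) =
      (f.app V).hom ((Y.presheaf.map (homOfLE h).op).hom a) :=
  (ConcreteCategory.congr_hom (f.naturality (homOfLE h).op) a).symm

variable [IsFinite f]

lemma isGen_basicOpen {W D : Y.Opens} (hW : IsAffineOpen W) (g : Γ(Y, W))
    (hD : D = Y.basicOpen g) (hle : D ≤ W) {θ : Γ(X, f ⁻¹ᵁ W)}
    (hs : ∀ b, ∃ (n : ℕ) (x y : Γ(Y, W)), (f.app W).hom (g ^ n) * b =
      (f.app W).hom x + (f.app W).hom y * θ)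
    (hi : ∀ x y, (f.app W).hom x + (f.app W).hom y * θ = 0 → ∃ n : ℕ, g ^ n * x = 0 ∧ g ^ n * y = 0) :
    IsGen (f.app D).hom ((X.presheaf.map (homOfLE (f.preimage_mono hle)).op).hom θ) := by
  obtain ⟨hu, sA, -⟩ := away_props hW g hD hle
  obtain ⟨-, sB, kB⟩ := away_props (hW.preimage f) ((f.app W).hom g)
    (D := f ⁻¹ᵁ D) (by rw [hD]; exact Scheme.preimage_basicOpen f g) (f.preimage_mono hle)
  exact isGen_away (fun a => naturality_apply f hle a) hu sA sB kB hs hi

lemma isGen_basicOpen_of_isGen {W D : Y.Opens} (hW : IsAffineOpen W) (g : Γ(Y, W))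
    (hD : D = Y.basicOpen g) (hle : D ≤ W) {θ : Γ(X, f ⁻¹ᵁ W)} (h : IsGen (f.app W).hom θ) :
    IsGen (f.app D).hom ((X.presheaf.map (homOfLE (f.preimage_mono hle)).op).hom θ) := by
  refine isGen_basicOpen f hW g hD hle (fun b => ?_) (fun x y e => ⟨0, ?_⟩)
  · obtain ⟨x, y, e⟩ := h.repr b
    exact ⟨0, x, y, by simp [e]⟩
  · simpa using h.eq (x' := 0) (y' := 0) (by simpa using e)

/-- The chosen conjugation over a good open. -/
noncomputable def conjOn (W : {W : Y.Opens // Good f W}) : Γ(X, f ⁻¹ᵁ W.1) →+* Γ(X, f ⁻¹ᵁ W.1) :=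
  (exists_conj W.2.2.choose_spec).choose

lemma conjOn_spec (W : {W : Y.Opens // Good f W}) :
    IsConj (f.app W.1).hom (conjOn f W) ∧ (∀ b, conjOn f W (conjOn f W b) = b) ∧
      (IsUnit (2 : Γ(Y, W.1)) → ∀ b, conjOn f W b = b → b ∈ (f.app W.1).hom.range) :=
  (exists_conj W.2.2.choose_spec).choose_spec

lemma conjOn_res (W W' : {W : Y.Opens // Good f W}) (hle : W'.1 ≤ W.1) (b : Γ(X, f ⁻¹ᵁ W.1)) :
    (X.presheaf.map (homOfLE (f.preimage_mono hle)).op).hom (conjOn f W b) =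
      conjOn f W' ((X.presheaf.map (homOfLE (f.preimage_mono hle)).op).hom b) := by
  let ι := {D : Y.Opens // D ≤ W'.1 ∧
    ∃ (g : Γ(Y, W.1)) (g' : Γ(Y, W'.1)), D = Y.basicOpen g ∧ D = Y.basicOpen g'}
  refine TopCat.Sheaf.eq_of_locally_eq' X.sheaf (fun D : ι => f ⁻¹ᵁ D.1) (f ⁻¹ᵁ W'.1)
    (fun D => homOfLE (f.preimage_mono D.2.1)) ?_ _ _ ?_
  · intro x hx
    obtain ⟨g, g', e, hg⟩ := exists_basicOpen_le_affine_inter W.2.1 W'.2.1 (f x) ⟨hle hx, hx⟩
    exact Opens.mem_iSup.mpr ⟨⟨Y.basicOpen g, e ▸ Y.basicOpen_le g', g, g', rfl, e⟩, hg⟩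
  rintro ⟨D, hD', g, g', hg, hg'⟩
  obtain ⟨θ, hθ⟩ := W.2.2
  obtain ⟨θ', hθ'⟩ := W'.2.2
  have g1 := isGen_basicOpen_of_isGen f W.2.1 g hg (hD'.trans hle) hθ
  have g2 := isGen_basicOpen_of_isGen f W'.2.1 g' hg' hD' hθ'
  obtain ⟨σ, hσ, -⟩ := exists_conj g1
  have c1 := RingHom.congr_fun (conj_comm (fun a => naturality_apply f (hD'.trans hle) a)
    hθ g1 (conjOn_spec f W).1 hσ) b
  have c2 := RingHom.congr_fun (conj_comm (fun a => naturality_apply f hD' a)
    hθ' g2 (conjOn_spec f W').1 hσ) ((X.presheaf.map (homOfLE (f.preimage_mono hle)).op).hom b)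
  simp only [RingHom.comp_apply] at c1 c2
  have comp : ∀ z, (X.presheaf.map (homOfLE (f.preimage_mono hD')).op).hom
      ((X.presheaf.map (homOfLE (f.preimage_mono hle)).op).hom z) =
      (X.presheaf.map (homOfLE (f.preimage_mono (hD'.trans hle))).op).hom z := fun z => by
    rw [← CategoryTheory.comp_apply, ← Functor.map_comp, ← op_comp, homOfLE_comp]
  rw [comp] at c2
  exact (comp _).trans (c1.trans c2.symm)

variable [Flat f] [LocallyOfFinitePresentation f]

lemma exists_good (hrk : ∀ y : Y, f.finrank y = 2) (y : Y) (U : Y.Opens) (hy : y ∈ U) :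
    ∃ W, Good f W ∧ y ∈ W ∧ W ≤ U := by
  obtain ⟨V, hV, hyV, hVU⟩ : ∃ V : Y.Opens, IsAffineOpen V ∧ y ∈ V ∧ V ≤ U := by
    obtain ⟨V, hV, hyV, hVU⟩ := Opens.isBasis_iff_nbhd.mp Y.isBasis_affineOpens hy
    exact ⟨V, hV, hyV, hVU⟩
  have hW := hV.preimage f
  haveI : IsAffine V.toScheme := hV
  haveI : IsAffine (f ⁻¹ᵁ V).toScheme := hW
  have e : f ∣_ V ≫ hV.isoSpec.hom = hW.isoSpec.hom ≫ Spec.map (f.app V) := by
    rw [← cancel_mono hV.isoSpec.inv, ← cancel_mono V.ι]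
    simp only [Category.assoc, Iso.hom_inv_id_assoc, morphismRestrict_ι,
      IsAffineOpen.isoSpec_inv_ι, IsAffineOpen.isoSpec_inv_ι_assoc]
    rw [Scheme.Hom.app_eq_appLE, hV.SpecMap_appLE_fromSpec f hW le_rfl,
      IsAffineOpen.isoSpec_hom_fromSpec_assoc, IsAffineOpen.isoSpec_hom_fromSpec, morphismRestrict_ι]
  have hpb : IsPullback hW.fromSpec (Spec.map (f.app V)) f hV.fromSpec := by
    refine IsPullback.of_iso (isPullback_morphismRestrict f V).flip hW.isoSpec (Iso.refl _)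
      hV.isoSpec (Iso.refl _) ?_ e ?_ ?_ <;>
      simp [← IsAffineOpen.isoSpec_inv_ι]
  have hfinite : (f.app V).hom.Finite := f.finite_app V hV
  have hflat : (f.app V).hom.Flat := by
    rw [Scheme.Hom.app_eq_appLE]; exact Flat.flat_of_affine_subset f hV hW le_rfl
  have hfp : (f.app V).hom.FinitePresentation := by
    rw [Scheme.Hom.app_eq_appLE]
    exact LocallyOfFinitePresentation.finitePresentation_of_affine_subset f hV hW le_rfl
  set p := hV.primeIdealOf ⟨y, hyV⟩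
  have hp : hV.fromSpec p = y := hV.fromSpec_primeIdealOf ⟨y, hyV⟩
  have hr : (f.app V).hom.finrank p = 2 := by
    rw [← Scheme.Hom.finrank_SpecMap_eq_finrank hfinite hflat,
      Scheme.Hom.finrank_of_isPullback _ _ _ _ hpb, hrk]
  obtain ⟨θ, g, hg, hs, hi⟩ := exists_gen_near _ hfinite hflat hfp p hr
  refine ⟨Y.basicOpen g, ⟨hV.basicOpen g, _, isGen_basicOpen f hV g rfl (Y.basicOpen_le g) hs hi⟩,
    ?_, (Y.basicOpen_le g).trans hVU⟩
  rw [← hp]
  show p ∈ hV.fromSpec ⁻¹ᵁ Y.basicOpen g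
  rw [hV.fromSpec_preimage_basicOpen]
  exact hg

lemma isBasis_good (hrk : ∀ y : Y, f.finrank y = 2) :
    Opens.IsBasis (Set.range fun W : {W : Y.Opens // Good f W} => W.1) := by
  rw [Opens.isBasis_iff_nbhd]
  intro U y hy
  obtain ⟨W, hW, hyW, hWU⟩ := exists_good f hrk y U hy
  exact ⟨W, ⟨⟨W, hW⟩, rfl⟩, hyW, hWU⟩

/-- The conjugation as an endomorphism of the direct image algebra. -/
noncomputable def conjHom (hrk : ∀ y : Y, f.finrank y = 2) : AffAlg.alg f ⟶ AffAlg.alg f :=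
  TopCat.Sheaf.restrictHomEquivHom (AffAlg.alg f)
    ((TopCat.Sheaf.pushforward CommRingCat.{u} f.base).obj X.sheaf) (isBasis_good f hrk)
    { app := fun W => CommRingCat.ofHom (conjOn f W.unop)
      naturality := fun W W' i => CommRingCat.hom_ext (RingHom.ext fun b =>
        (conjOn_res f W.unop W'.unop (leOfHom i.unop.hom) b).symm) }

lemma conjHom_app (hrk : ∀ y : Y, f.finrank y = 2) (W : {W : Y.Opens // Good f W}) :
    (conjHom f hrk).app (op W.1) = CommRingCat.ofHom (conjOn f W) :=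
  TopCat.Sheaf.extend_hom_app (F := AffAlg.alg f)
    (F' := (TopCat.Sheaf.pushforward CommRingCat.{u} f.base).obj X.sheaf) (isBasis_good f hrk) _ W

lemma c_comp_conjHom (hrk : ∀ y : Y, f.finrank y = 2) : f.c ≫ conjHom f hrk = f.c := by
  refine TopCat.Sheaf.hom_ext (F' := (TopCat.Sheaf.pushforward CommRingCat.{u} f.base).obj X.sheaf)
    _ (isBasis_good f hrk) fun W => ?_
  rw [NatTrans.comp_app, conjHom_app]
  exact CommRingCat.hom_ext (RingHom.ext fun a => (conjOn_spec f W).1.fix a)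

lemma conjHom_comp_self (hrk : ∀ y : Y, f.finrank y = 2) :
    conjHom f hrk ≫ conjHom f hrk = 𝟙 _ := by
  refine TopCat.Sheaf.hom_ext (F' := (TopCat.Sheaf.pushforward CommRingCat.{u} f.base).obj X.sheaf)
    _ (isBasis_good f hrk) fun W => ?_
  rw [NatTrans.comp_app, conjHom_app]
  exact CommRingCat.hom_ext (RingHom.ext fun a => (conjOn_spec f W).2.1 a)

omit [IsFinite f] [Flat f] [LocallyOfFinitePresentation f] in
lemma algHom_app_eq (h : X ⟶ X) (w : h ≫ f = f) (U : Y.Opens) :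
    (AffAlg.algHom f f h w).app (op U) =
      h.appLE (f ⁻¹ᵁ U) (f ⁻¹ᵁ U) (by rw [← Scheme.Hom.comp_preimage, w]) := by
  rw [AffAlg.algHom, Scheme.Hom.appLE]
  erw [NatTrans.comp_app, eqToHom_app]
  congr 1
  exact (eqToHom_map X.presheaf (by rw [← Scheme.Hom.comp_preimage, w] : op (h ⁻¹ᵁ (f ⁻¹ᵁ U)) =
    op (f ⁻¹ᵁ U))).symm

theorem exists_involution (hrk : ∀ y : Y, f.finrank y = 2) (h2 : IsUnit (2 : Γ(Y, ⊤))) :
    ∃ σ : Aut X, σ.hom ≫ f = f ∧ σ * σ = 1 ∧ SGA1.IsQuot (Subgroup.zpowers σ).subtype f := by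
  let h := Groth.L18.homOfAlg f f ⟨conjHom f hrk, c_comp_conjHom f hrk⟩
  have w : h ≫ f = f := Groth.L18.homOfAlg_comp f f _
  have hω : ∀ U, h.appLE (f ⁻¹ᵁ U) (f ⁻¹ᵁ U) (by rw [← Scheme.Hom.comp_preimage, w]) =
      (conjHom f hrk).app (op U) := fun U => by
    rw [← algHom_app_eq f h w U]
    exact congrArg (fun t => NatTrans.app t (op U))
      (Groth.L18.algHom_homOfAlg f f ⟨conjHom f hrk, c_comp_conjHom f hrk⟩)
  have hh : h ≫ h = 𝟙 X := by
    have := Groth.L18.algOf_injective f f (a₁ := ⟨h ≫ h, by rw [Category.assoc, w, w]⟩)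
      (a₂ := ⟨𝟙 X, Category.id_comp f⟩) (Subtype.ext (NatTrans.ext (funext fun U => by
        obtain ⟨U⟩ := U
        change (AffAlg.algHom f f (h ≫ h) (by rw [Category.assoc, w, w])).app (op U) =
          (AffAlg.algHom f f (𝟙 X) (Category.id_comp f)).app (op U)
        rw [algHom_app_eq f (h ≫ h) (by rw [Category.assoc, w, w]), algHom_app_eq f (𝟙 X) (Category.id_comp f),
          ← Scheme.Hom.appLE_comp_appLE h h (f ⁻¹ᵁ U) (f ⁻¹ᵁ U) (f ⁻¹ᵁ U)
            (by rw [← Scheme.Hom.comp_preimage, w]) (by rw [← Scheme.Hom.comp_preimage, w]),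
          hω, ← NatTrans.comp_app, conjHom_comp_self]
        simp [Scheme.Hom.appLE]
        erw [CategoryTheory.Functor.map_id]
        rfl)))
    exact congrArg Subtype.val this
  let σ : Aut X := ⟨h, h, hh, hh⟩
  have hσ2 : σ * σ = 1 := Iso.ext hh
  have htwo : ∀ g ∈ Subgroup.zpowers σ, g = 1 ∨ g = σ := by
    intro g hg
    obtain ⟨n, rfl⟩ := Subgroup.mem_zpowers_iff.mp hg
    rw [← Int.mul_ediv_add_emod n 2, zpow_add, zpow_mul, zpow_two, hσ2, one_zpow, one_mul]
    rcases Int.emod_two_eq n with e | e <;> simp [e]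
  have hinv : ∀ g : Subgroup.zpowers σ, ((Subgroup.zpowers σ).subtype g).hom ≫ f = f := by
    rintro ⟨g, hg⟩
    rcases htwo g hg with rfl | rfl
    · exact Category.id_comp f
    · exact w
  have hinj : ∀ U : Y.Opens, Function.Injective (f.app U).hom := by
    intro U a b e
    refine TopCat.Sheaf.eq_of_locally_eq' Y.sheaf
      (fun W : {W : {W : Y.Opens // Good f W} // W.1 ≤ U} => W.1.1) U
      (fun W => homOfLE W.2) (fun y hy => ?_) a b fun W => ?_
    · obtain ⟨W, hW, hyW, hWU⟩ := exists_good f hrk y U hy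
      exact Opens.mem_iSup.mpr ⟨⟨⟨W, hW⟩, hWU⟩, hyW⟩
    · obtain ⟨θ, hθ⟩ := W.1.2.2
      refine (hθ.eq (y := 0) (y' := 0) ?_).1
      have := congrArg (X.presheaf.map (homOfLE (f.preimage_mono W.2)).op).hom e
      rw [naturality_apply f W.2, naturality_apply f W.2] at this
      simp only [map_zero, zero_mul, add_zero]
      exact this
  refine ⟨σ, w, hσ2, ⟨inferInstance, hinv, hinj, fun U s => ⟨?_, fun hs => ?_⟩⟩⟩
  · rintro ⟨a, rfl⟩ g
    have hg := hinv g
    set k := ((Subgroup.zpowers σ).subtype g).hom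
    show (k.appLE _ _ _).hom ((f.app U).hom a) = (f.app U).hom a
    have e1 : f.app U ≫ k.appLE (f ⁻¹ᵁ U) (f ⁻¹ᵁ U) (by rw [← Scheme.Hom.comp_preimage, hg]) =
        f.app U := by
      rw [Scheme.Hom.app_eq_appLE, Scheme.Hom.appLE_comp_appLE]
      congr 1
    exact congrArg (fun t => t.hom a) e1
  · have hs' : ((conjHom f hrk).app (op U)).hom s = s := by
      rw [← hω U]
      exact hs ⟨σ, Subgroup.mem_zpowers σ⟩
    have key : ∀ W : {W : {W : Y.Opens // Good f W} // W.1 ≤ U},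
        ∃ a, (f.app W.1.1).hom a = (X.presheaf.map (homOfLE (f.preimage_mono W.2)).op).hom s := by
      intro W
      refine RingHom.mem_range.mp ((conjOn_spec f W.1).2.2 ?_ _ ?_)
      · have := h2.map (Y.presheaf.map (homOfLE (le_top : W.1.1 ≤ ⊤)).op).hom
        rwa [map_ofNat] at this
      · have n := ConcreteCategory.congr_hom ((conjHom f hrk).naturality (homOfLE W.2).op) s
        rw [conjHom_app] at n
        refine n.trans ?_
        exact congrArg (X.presheaf.map (homOfLE (f.preimage_mono W.2)).op).hom hs'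
    choose a ha using key
    obtain ⟨t, ht, -⟩ := TopCat.Sheaf.existsUnique_gluing' Y.sheaf
      (fun W : {W : {W : Y.Opens // Good f W} // W.1 ≤ U} => W.1.1) U (fun W => homOfLE W.2)
      (fun y hy => by
        obtain ⟨W, hW, hyW, hWU⟩ := exists_good f hrk y U hy
        exact Opens.mem_iSup.mpr ⟨⟨⟨W, hW⟩, hWU⟩, hyW⟩) a (fun W W' => by
        refine hinj _ ?_
        refine ((naturality_apply f inf_le_left (a W)).symm.trans ?_).trans
          (naturality_apply f inf_le_right (a W'))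
        rw [ha W, ha W', ← CategoryTheory.comp_apply, ← Functor.map_comp, ← CategoryTheory.comp_apply,
          ← Functor.map_comp]
        rfl)
    refine ⟨t, TopCat.Sheaf.eq_of_locally_eq' X.sheaf
      (fun W : {W : {W : Y.Opens // Good f W} // W.1 ≤ U} => f ⁻¹ᵁ W.1.1) (f ⁻¹ᵁ U)
      (fun W => homOfLE (f.preimage_mono W.2)) (fun x hx => ?_) _ _ fun W => ?_⟩
    · obtain ⟨W, hW, hyW, hWU⟩ := exists_good f hrk (f x) U hx
      exact Opens.mem_iSup.mpr ⟨⟨⟨W, hW⟩, hWU⟩, hyW⟩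
    · exact ((naturality_apply f W.2 t).trans (congrArg (f.app W.1.1).hom (ht W))).trans (ha W)

end Groth.Agent.L13.DblCov
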