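import Groth.Agent.L24.Retract.Torus

/-!
# A torus over a field is connected (and irreducible)
-/

set_option autoImplicit false
set_option backward.isDefEq.respectTransparency false
set_option backward.isDefEq.respectTransparency.types false

universe u

open CategoryTheory Limits AlgebraicGeometry

noncomputable section

namespace Groth.L13.TorusConn

variable {k : Type u} [Field k]

theorem exists_field_cover (T : Over (Spec (CommRingCat.of k))) [GrpObj T] (hT : Red.IsTorus T) :
    ∃ (W : Scheme.{u}) (_ : IsIntegral W) (π : W ⟶ T.left), Surjective π := by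
  obtain ⟨S', f, -, hsurj, -, hloc⟩ := hT
  obtain ⟨s', -⟩ := f.surjective (IsLocalRing.closedPoint k)
  obtain ⟨U, hs', r, ⟨eU⟩⟩ := hloc s'
  let M := Fin r → ℤ
  let K : Type u := (U : Scheme.{u}).residueField ⟨s', hs'⟩
  let p' : Spec (CommRingCat.of K) ⟶ (U : Scheme.{u}) := (U : Scheme.{u}).fromSpecResidueField ⟨s', hs'⟩
  haveI : Surjective (p' ≫ U.ι ≫ f) :=
    ⟨fun c => ⟨IsLocalRing.closedPoint K, Subsingleton.elim (α := PrimeSpectrum k) _ _⟩⟩
  let e₀ : (Red.bc (U.ι ≫ f) T) ≅ Red.DS (U : Scheme.{u}) M := (Grp.forget _).mapIso eU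
  let e : pullback T.hom (U.ι ≫ f) ≅ (Red.DS (U : Scheme.{u}) M).left := (Over.forget _).mapIso e₀
  have he : e.hom ≫ (Red.DS (U : Scheme.{u}) M).hom = pullback.snd T.hom (U.ι ≫ f) := Over.w e₀.hom
  have sqT : IsPullback (e.inv ≫ pullback.fst T.hom (U.ι ≫ f)) (Red.DS (U : Scheme.{u}) M).hom T.hom (U.ι ≫ f) :=
    (IsPullback.of_hasPullback T.hom (U.ι ≫ f)).of_iso e (Iso.refl _) (Iso.refl _) (Iso.refl _)
      (by rw [Iso.refl_hom, Category.comp_id, Iso.hom_inv_id_assoc])
      (by rw [Iso.refl_hom, Category.comp_id, he]) (by simp) (by simp)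
  have sq1 := (IsPullback.of_hasPullback (Red.DS (U : Scheme.{u}) M).hom p').paste_horiz sqT
  let t := Limits.IsTerminal.from specULiftZIsTerminal (U : Scheme.{u})
  have sqD : IsPullback (pullback.fst (Red.diag (ULift.{u} ℤ) M).hom t) (Red.DS (U : Scheme.{u}) M).hom
      (Red.diag (ULift.{u} ℤ) M).hom t := IsPullback.of_hasPullback _ _
  have sq2 := (IsPullback.of_hasPullback (Red.DS (U : Scheme.{u}) M).hom p').paste_horiz sqD
  letI : Algebra (ULift.{u} ℤ) K := ((Int.castRingHom K).comp ULift.ringEquiv.toRingHom).toAlgebra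
  rw [show p' ≫ t = Spec.map (CommRingCat.ofHom (algebraMap (ULift.{u} ℤ) K)) from
    specULiftZIsTerminal.hom_ext _ _] at sq2
  obtain ⟨e₂, -⟩ := Groth.L24.Retract.exists_iso_of_isPullback_diag (ULift.{u} ℤ) K M sq2
  haveI : IsDomain (MonoidAlgebra K (Multiplicative M)) := NoZeroDivisors.to_isDomain _
  haveI : Nonempty ↥(pullback (Red.DS (U : Scheme.{u}) M).hom p') := ⟨e₂.inv (Classical.arbitrary _)⟩
  haveI : IsIntegral (pullback (Red.DS (U : Scheme.{u}) M).hom p') := isIntegral_of_isOpenImmersion e₂.hom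
  exact ⟨_, inferInstance, _, MorphismProperty.of_isPullback (P := @Surjective) sq1.flip inferInstance⟩

theorem connectedSpace (T : Over (Spec (CommRingCat.of k))) [GrpObj T] (hT : Red.IsTorus T) :
    ConnectedSpace ↥T.left := by
  obtain ⟨W, hW, π, hπ⟩ := exists_field_cover T hT
  exact Function.Surjective.connectedSpace hπ.1 π.continuous

end Groth.L13.TorusConn
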