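import Mathlib.AlgebraicGeometry.Morphisms.FiniteType
import Mathlib.AlgebraicGeometry.Morphisms.QuasiCompact
import Mathlib.AlgebraicGeometry.Pullbacks
import Mathlib.FieldTheory.IsAlgClosed.AlgebraicClosure
import Mathlib.RingTheory.NoetherNormalization
import Mathlib.RingTheory.Ideal.GoingUp
import Mathlib.RingTheory.TensorProduct.Maps
import Mathlib.LinearAlgebra.Dual.Lemmas
import Mathlib.RingTheory.FiniteType
import Mathlib.RingTheory.Polynomial.Basic
import Mathlib.FieldTheory.IntermediateField.Algebraic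
import Mathlib.FieldTheory.AlgebraicClosure

/-!
Points with algebraic coordinates avoid a nowhere dense closed subset of `X_K` generically.
-/

set_option autoImplicit false
set_option backward.isDefEq.respectTransparency false

universe u

open CategoryTheory CategoryTheory.Limits AlgebraicGeometry TensorProduct

namespace Groth.Agent.L13.AlgPoints

variable {k K : Type u} [Field k] [Field K] [Algebra k K]

/-- A polynomial over `K` has a nonzero shadow over `k` on the points with algebraic coordinates. -/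
lemma exists_shadow {d : ℕ} (h : MvPolynomial (Fin d) K) (h0 : h ≠ 0) :
    ∃ g : MvPolynomial (Fin d) k, g ≠ 0 ∧ ∀ (Ω : Type u) [Field Ω] [Algebra k Ω] [Algebra K Ω]
      [IsScalarTower k K Ω] (t : Fin d → Ω), (∀ i, IsIntegral k (t i)) →
        MvPolynomial.aeval t h = 0 → MvPolynomial.aeval t g = 0 := by
  classical
  let KB := AlgebraicClosure K
  let E : IntermediateField k KB := algebraicClosure k KB
  obtain ⟨m, hm⟩ := MvPolynomial.ne_zero_iff.mp h0
  obtain ⟨ℓ, hℓ⟩ : ∃ ℓ : Module.Dual E KB, ℓ (algebraMap K KB (h.coeff m)) ≠ 0 :=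
    not_forall.mp ((not_congr (Module.forall_dual_apply_eq_zero_iff E _)).mpr
      ((map_ne_zero (algebraMap K KB)).mpr hm))
  let p : MvPolynomial (Fin d) E :=
    ∑ n ∈ h.support, MvPolynomial.monomial n (ℓ (algebraMap K KB (h.coeff n)))
  have hp0 : p ≠ 0 := by
    refine MvPolynomial.ne_zero_iff.mpr ⟨m, ?_⟩
    simp only [p, MvPolynomial.coeff_sum, MvPolynomial.coeff_monomial, Finset.sum_ite_eq']
    rw [if_pos (MvPolynomial.mem_support_iff.mpr hm)]
    exact hℓ
  letI : Algebra (MvPolynomial (Fin d) k) (MvPolynomial (Fin d) E) :=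
    (MvPolynomial.map (algebraMap k E)).toAlgebra
  haveI : Algebra.IsIntegral (MvPolynomial (Fin d) k) (MvPolynomial (Fin d) E) := by
    constructor
    intro x
    induction x using MvPolynomial.induction_on with
    | C a =>
      have ha : IsIntegral k a := by
        refine (isIntegral_algHom_iff E.val Subtype.coe_injective).mp ?_
        exact (mem_algebraicClosure_iff.mp a.2).isIntegral
      exact IsIntegral.map_of_comp_eq (MvPolynomial.C : k →+* MvPolynomial (Fin d) k)
        (MvPolynomial.C : E →+* MvPolynomial (Fin d) E)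
        (by ext z; simp [RingHom.algebraMap_toAlgebra]) ha
    | add x y hx hy => exact hx.add hy
    | mul_X x i hx =>
      refine hx.mul ?_
      have : MvPolynomial.X i = algebraMap (MvPolynomial (Fin d) k) (MvPolynomial (Fin d) E)
          (MvPolynomial.X i) := by simp [RingHom.algebraMap_toAlgebra]
      rw [this]; exact isIntegral_algebraMap
  obtain ⟨g, hg, hg0⟩ : ∃ g ∈ (Ideal.span {p}).comap
      (algebraMap (MvPolynomial (Fin d) k) (MvPolynomial (Fin d) E)), g ≠ 0 := by
    refine Submodule.exists_mem_ne_zero_of_ne_bot fun e => hp0 ?_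
    exact Ideal.span_singleton_eq_bot.mp (Ideal.eq_bot_of_comap_eq_bot e)
  obtain ⟨q, hq⟩ := Ideal.mem_span_singleton.mp (Ideal.mem_comap.mp hg)
  refine ⟨g, hg0, fun Ω _ _ _ _ t ht hh => ?_⟩
  let F := IntermediateField.adjoin K (Set.range t)
  haveI : Algebra.IsAlgebraic K F := IntermediateField.isAlgebraic_adjoin (by
    rintro _ ⟨i, rfl⟩
    exact (ht i).tower_top)
  let e : F →ₐ[K] KB := IsAlgClosed.lift
  let tF : Fin d → F := fun i => ⟨t i, IntermediateField.subset_adjoin K _ ⟨i, rfl⟩⟩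
  let tE : Fin d → E := fun i => ⟨e (tF i), by
    refine mem_algebraicClosure_iff.mpr (IsIntegral.isAlgebraic ?_)
    have h1 : IsIntegral k (tF i) :=
      (isIntegral_algHom_iff (F.val.restrictScalars k) Subtype.coe_injective).mp (ht i)
    exact h1.map (e.restrictScalars k)⟩
  have hhF : MvPolynomial.aeval tF h = 0 := by
    refine (map_eq_zero_iff F.val F.val.injective).mp ?_
    rw [← AlgHom.comp_apply, MvPolynomial.comp_aeval]
    exact hh
  have hhKB : MvPolynomial.aeval (fun i => (tE i : KB)) h = 0 := by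
    rw [show (fun i => (tE i : KB)) = fun i => e (tF i) from rfl, ← MvPolynomial.comp_aeval,
      AlgHom.comp_apply, hhF, map_zero]
  have hpE : MvPolynomial.eval tE p = 0 := by
    simp only [p, map_sum, MvPolynomial.eval_monomial]
    have := congrArg ℓ hhKB
    rw [map_zero, MvPolynomial.aeval_def, MvPolynomial.eval₂_eq, map_sum] at this
    rw [← this]
    refine Finset.sum_congr rfl fun n _ => ?_
    have hpr : (∏ i ∈ n.support, (tE i : KB) ^ n i) = ((∏ i ∈ n.support, tE i ^ n i : E) : KB) := by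
      push_cast; rfl
    rw [hpr, mul_comm (algebraMap K KB _), ← IntermediateField.algebraMap_apply, ← Algebra.smul_def,
      map_smul, smul_eq_mul, mul_comm, Finsupp.prod]
  have hgE : MvPolynomial.aeval tE g = 0 := by
    have := congrArg (MvPolynomial.eval tE) hq
    rw [map_mul, hpE, zero_mul, RingHom.algebraMap_toAlgebra, MvPolynomial.eval_map] at this
    exact this
  have hgKB : MvPolynomial.aeval (fun i => e (tF i)) g = 0 := by
    have := congrArg E.val hgE
    rw [← AlgHom.comp_apply, MvPolynomial.comp_aeval, map_zero] at this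
    exact this
  have hgF : MvPolynomial.aeval tF g = 0 := by
    refine (map_eq_zero_iff (e.restrictScalars k) (e.restrictScalars k).injective).mp ?_
    rw [← AlgHom.comp_apply, MvPolynomial.comp_aeval]
    exact hgKB
  have := congrArg (F.val.restrictScalars k) hgF
  rw [← AlgHom.comp_apply, MvPolynomial.comp_aeval, map_zero] at this
  exact this

/-- An ideal of `K ⊗ A` inside no minimal prime cuts the algebraic points in a proper closed subset. -/
lemma exists_alg (A : Type u) [CommRing A] [Algebra k A] [Algebra.FiniteType k A] [Nontrivial A]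
    (I : Ideal (K ⊗[k] A)) (hI : ∀ P ∈ minimalPrimes (K ⊗[k] A), ¬ I ≤ P) :
    ∃ a : A, ¬ IsNilpotent a ∧ ∀ (Ω : Type u) [Field Ω] [Algebra k Ω] [Algebra K Ω]
      [IsScalarTower k K Ω] (χ : K ⊗[k] A →ₐ[K] Ω), (∀ z ∈ I, χ z = 0) →
        (∀ b : A, IsIntegral k (χ (1 ⊗ₜ[k] b))) → χ (1 ⊗ₜ[k] a) = 0 := by
  classical
  obtain ⟨d, φ, hinj, hfin⟩ := exists_finite_inj_algHom_of_fg k A
  let θ : Fin d → K ⊗[k] A := fun i => (1 : K) ⊗ₜ[k] φ (MvPolynomial.X i)
  let ψ : MvPolynomial (Fin d) K →ₐ[K] K ⊗[k] A := MvPolynomial.aeval θ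
  letI := ψ.toRingHom.toAlgebra
  letI := φ.toRingHom.toAlgebra
  haveI : Algebra.IsIntegral (MvPolynomial (Fin d) K) (K ⊗[k] A) := by
    constructor
    intro x
    induction x using TensorProduct.induction_on with
    | zero => exact isIntegral_zero
    | add x y hx hy => exact hx.add hy
    | tmul c b =>
      rw [show c ⊗ₜ[k] b = (c ⊗ₜ[k] (1 : A)) * ((1 : K) ⊗ₜ[k] b) by simp]
      refine IsIntegral.mul ?_ ?_
      · have : c ⊗ₜ[k] (1 : A) = algebraMap (MvPolynomial (Fin d) K) (K ⊗[k] A) (MvPolynomial.C c) := by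
          simp [RingHom.algebraMap_toAlgebra, ψ, Algebra.TensorProduct.algebraMap_apply]
        rw [this]; exact isIntegral_algebraMap
      · have hb : IsIntegral (MvPolynomial (Fin d) k) b := RingHom.Finite.to_isIntegral hfin b
        exact IsIntegral.map_of_comp_eq (MvPolynomial.map (algebraMap k K))
          (Algebra.TensorProduct.includeRight (R := k) (A := K)).toRingHom (by
            apply MvPolynomial.ringHom_ext
            · intro r
              simp [RingHom.algebraMap_toAlgebra, ψ, Algebra.TensorProduct.algebraMap_apply,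
                Algebra.algebraMap_eq_smul_one]
              rw [Algebra.TensorProduct.one_def, TensorProduct.smul_tmul']
            · intro i
              simp [RingHom.algebraMap_toAlgebra, ψ, θ]) hb
  obtain ⟨h, hh, h0⟩ : ∃ h ∈ I.comap (algebraMap (MvPolynomial (Fin d) K) (K ⊗[k] A)), h ≠ 0 := by
    refine Submodule.exists_mem_ne_zero_of_ne_bot fun e => ?_
    obtain ⟨Q, hIQ, hQ, hQ0⟩ := Ideal.exists_ideal_over_prime_of_isIntegral
      (⊥ : Ideal (MvPolynomial (Fin d) K)) I e.le
    obtain ⟨Q0, hQ0min, hle⟩ := Ideal.exists_minimalPrimes_le (I := (⊥ : Ideal (K ⊗[k] A))) (J := Q) bot_le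
    haveI := hQ0min.isPrime
    refine hI Q0 hQ0min fun z hz => by_contra fun hzn => ?_
    have := Ideal.comap_lt_comap_of_integral_mem_sdiff (R := MvPolynomial (Fin d) K) hle
      ⟨hIQ hz, hzn⟩ (Algebra.IsIntegral.isIntegral z)
    rw [hQ0] at this
    exact not_lt_bot this
  obtain ⟨g, hg0, hg⟩ := exists_shadow (k := k) h h0
  refine ⟨φ g, fun hn => hg0 ?_, fun Ω _ _ _ _ χ hχ hint => ?_⟩
  · obtain ⟨n, hn⟩ := hn
    rw [← map_pow] at hn
    exact IsReduced.eq_zero _ ⟨n, hinj (hn.trans (map_zero φ).symm)⟩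
  have ht : MvPolynomial.aeval (fun i => χ (θ i)) h = 0 := by
    rw [← MvPolynomial.comp_aeval, AlgHom.comp_apply]
    exact hχ _ hh
  have := hg Ω (fun i => χ (θ i)) (fun i => hint _) ht
  rw [← this]
  have e : ((χ.restrictScalars k).comp (Algebra.TensorProduct.includeRight.comp φ)) =
      MvPolynomial.aeval (fun i => χ (θ i)) := by
    refine MvPolynomial.algHom_ext fun i => ?_
    simp [θ]
  exact AlgHom.congr_fun e g

/-- The complement of a dense open of a Noetherian spectrum contains no generic point. -/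
lemma not_le_minimalPrime {B : Type u} [CommRing B] [IsNoetherianRing B] {I : Ideal B}
    (hd : Dense (PrimeSpectrum.zeroLocus (I : Set B))ᶜ) {P : Ideal B} (hP : P ∈ minimalPrimes B) :
    ¬ I ≤ P := by
  classical
  intro hle
  haveI := hP.isPrime
  have hnil : ∀ a ∈ I, ∃ s ∉ P, IsNilpotent (s * a) := by
    intro a ha
    have h1 : algebraMap B (Localization.AtPrime P) a ∈ nilradical (Localization.AtPrime P) := by
      rw [mem_nilradical, nilpotent_iff_mem_prime]
      intro J hJ
      have hJP : J.comap (algebraMap B (Localization.AtPrime P)) ≤ P := by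
        conv_rhs => rw [← IsLocalization.AtPrime.under_maximalIdeal (Localization.AtPrime P) P]
        exact Ideal.comap_mono (IsLocalRing.le_maximalIdeal hJ.ne_top)
      haveI : (J.comap (algebraMap B (Localization.AtPrime P))).IsPrime := Ideal.comap_isPrime _ _
      exact Ideal.mem_comap.mp (hP.2 ⟨inferInstance, bot_le⟩ hJP (hle ha))
    obtain ⟨n, hn⟩ := mem_nilradical.mp h1
    rw [← map_pow, IsLocalization.map_eq_zero_iff P.primeCompl] at hn
    obtain ⟨⟨s, hs⟩, hsa⟩ := hn
    exact ⟨s, hs, n + 1, by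
      simp only at hsa
      rw [mul_pow, pow_succ s, pow_succ a]
      linear_combination (s ^ n * a) * hsa⟩
  obtain ⟨S, hS⟩ := IsNoetherian.noetherian I
  choose s hs hsn using fun a : S => hnil a (hS ▸ Submodule.subset_span a.2)
  let t := ∏ a, s a
  have ht : t ∉ P := fun h => by
    obtain ⟨a, -, ha⟩ := (Ideal.IsPrime.prod_mem_iff).mp h
    exact hs a ha
  obtain ⟨x, hx, hxI⟩ := hd.exists_mem_open (PrimeSpectrum.basicOpen t).isOpen ⟨⟨P, hP.isPrime⟩, ht⟩
  refine hx fun a ha => ?_
  have : Submodule.span B (S : Set B) ≤ x.asIdeal := by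
    rw [Submodule.span_le]
    intro b hb
    have h2 : t * b ∈ x.asIdeal := by
      refine x.isPrime.mem_of_pow_mem ((hsn ⟨b, hb⟩).choose) ?_
      rw [show t = s ⟨b, hb⟩ * ∏ a ∈ Finset.univ.erase ⟨b, hb⟩, s a from
        (Finset.mul_prod_erase _ _ (Finset.mem_univ _)).symm, mul_right_comm, mul_pow,
        (hsn ⟨b, hb⟩).choose_spec, zero_mul]
      exact zero_mem _
    exact (x.isPrime.mem_or_mem h2).resolve_left hxI
  exact this (hS.symm ▸ ha)

section Scheme

variable (X : Scheme.{u}) (f : X ⟶ Spec (CommRingCat.of k))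

/-- The defining property of a good open. -/
def Avoids (U' : (pullback f (Spec.map (CommRingCat.ofHom (algebraMap k K)))).Opens) (U : X.Opens) :
    Prop :=
  ∀ (kb Ω : Type u) [Field kb] [Algebra k kb] [IsAlgClosure k kb]
    [Field Ω] [Algebra k Ω] [Algebra kb Ω] [Algebra K Ω] [IsScalarTower k kb Ω] [IsScalarTower k K Ω]
    (x : Spec (CommRingCat.of kb) ⟶ X),
    x ≫ f = Spec.map (CommRingCat.ofHom (algebraMap k kb)) →
    (∀ t : ↥(Spec (CommRingCat.of kb)), x.base t ∈ U) →
    ∀ (y : Spec (CommRingCat.of Ω) ⟶ pullback f (Spec.map (CommRingCat.ofHom (algebraMap k K)))),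
      y ≫ pullback.fst f (Spec.map (CommRingCat.ofHom (algebraMap k K))) =
          Spec.map (CommRingCat.ofHom (algebraMap kb Ω)) ≫ x →
      y ≫ pullback.snd f (Spec.map (CommRingCat.ofHom (algebraMap k K))) =
          Spec.map (CommRingCat.ofHom (algebraMap K Ω)) →
      ∀ t : ↥(Spec (CommRingCat.of Ω)), y.base t ∈ U'

lemma exists_avoids_le [LocallyOfFiniteType f]
    (U' : (pullback f (Spec.map (CommRingCat.ofHom (algebraMap k K)))).Opens)
    (hU' : Dense (U' : Set ↥(pullback f (Spec.map (CommRingCat.ofHom (algebraMap k K))))))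
    {V : X.Opens} (hV : IsAffineOpen V) (hne : (V : Set X).Nonempty) :
    ∃ O : X.Opens, O ≤ V ∧ (O : Set X).Nonempty ∧ Avoids X f U' O := by
  obtain ⟨φ, hφ⟩ : ∃ φ, Spec.map φ = hV.fromSpec ≫ f := ⟨_, Spec.map_preimage _⟩
  letI : Algebra k Γ(X, V) := φ.hom.toAlgebra
  haveI : Algebra.FiniteType k Γ(X, V) := by
    have : LocallyOfFiniteType (Spec.map φ) := by rw [hφ]; infer_instance
    exact (HasRingHomProperty.Spec_iff (P := @LocallyOfFiniteType)).mp this
  haveI : Nontrivial Γ(X, V) := by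
    obtain ⟨w, hw⟩ := hne
    exact (hV.primeIdealOf ⟨w, hw⟩).nontrivial
  have HS := isPullback_SpecMap_of_isPushout _ _ _ _
    (CommRingCat.isPushout_tensorProduct k K Γ(X, V))
  let m := Spec.map (CommRingCat.ofHom (algebraMap k K))
  have hφ' : Spec.map (CommRingCat.ofHom (algebraMap k Γ(X, V))) = hV.fromSpec ≫ f := hφ
  let inc : Spec (CommRingCat.of (K ⊗[k] Γ(X, V))) ⟶ Spec Γ(X, V) :=
    Spec.map (CommRingCat.ofHom (Algebra.TensorProduct.includeRight (R := k) (A := K)).toRingHom)
  let sK : Spec (CommRingCat.of (K ⊗[k] Γ(X, V))) ⟶ Spec (CommRingCat.of K) :=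
    Spec.map (CommRingCat.ofHom Algebra.TensorProduct.includeLeftRingHom)
  let j : Spec (CommRingCat.of (K ⊗[k] Γ(X, V))) ⟶ pullback f m :=
    pullback.lift (inc ≫ hV.fromSpec) sK (by
      rw [Category.assoc, ← hφ']; exact HS.w.symm)
  have hpb : IsPullback j inc (pullback.fst f m) hV.fromSpec := by
    refine IsPullback.of_right (h₁₂ := pullback.snd f m) ?_ (pullback.lift_fst _ _ _)
      (IsPullback.of_hasPullback f m).flip
    rw [pullback.lift_snd, ← hφ']
    exact HS
  haveI : IsOpenImmersion j := MorphismProperty.of_isPullback hpb.flip inferInstance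
  have hd : Dense ((j ⁻¹ᵁ U' : Set ↥(Spec (CommRingCat.of (K ⊗[k] Γ(X, V)))))) :=
    hU'.preimage j.isOpenEmbedding.isOpenMap
  obtain ⟨I, hI⟩ := (PrimeSpectrum.isClosed_iff_zeroLocus_ideal
    ((j ⁻¹ᵁ U' : Set ↥(Spec (CommRingCat.of (K ⊗[k] Γ(X, V))))))ᶜ).mp (j ⁻¹ᵁ U').isOpen.isClosed_compl
  haveI : IsNoetherianRing (K ⊗[k] Γ(X, V)) := Algebra.FiniteType.isNoetherianRing K _
  obtain ⟨a, ha, hkill⟩ := exists_alg (K := K) Γ(X, V) I (fun P hP => not_le_minimalPrime (by
    rw [← hI, compl_compl]; exact hd) hP)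
  refine ⟨X.basicOpen a, X.basicOpen_le a, ?_, ?_⟩
  · obtain ⟨P, hP, haP⟩ : ∃ P : Ideal Γ(X, V), P.IsPrime ∧ a ∉ P := by
      by_contra h
      push Not at h
      exact ha (nilpotent_iff_mem_prime.mpr fun J hJ => h J hJ)
    refine ⟨hV.fromSpec ⟨P, hP⟩, ?_⟩
    show (⟨P, hP⟩ : PrimeSpectrum Γ(X, V)) ∈ hV.fromSpec ⁻¹ᵁ X.basicOpen a
    rw [hV.fromSpec_preimage_basicOpen]
    exact haP
  intro kb Ω _ _ _ _ _ _ _ _ _ x hxf hxU y hy₁ hy₂ t
  have hr : Set.range x.base ⊆ Set.range hV.fromSpec.base := by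
    rw [hV.range_fromSpec]
    rintro _ ⟨t', rfl⟩
    exact X.basicOpen_le a (hxU t')
  obtain ⟨χA, hχA⟩ : ∃ χA, Spec.map χA ≫ hV.fromSpec = x :=
    ⟨Spec.preimage (IsOpenImmersion.lift hV.fromSpec x hr), by
      rw [Spec.map_preimage, IsOpenImmersion.lift_fac]⟩
  have hk : ∀ r : k, χA.hom (algebraMap k Γ(X, V) r) = algebraMap k kb r := by
    intro r
    have e : CommRingCat.ofHom (algebraMap k Γ(X, V)) ≫ χA = CommRingCat.ofHom (algebraMap k kb) := by
      apply Spec.map_injective
      rw [Spec.map_comp, hφ', ← Category.assoc, hχA, hxf]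
    exact congrArg (fun ψ => ψ.hom r) e
  let χ₀ : Γ(X, V) →ₐ[k] kb := { χA.hom with commutes' := hk }
  let χ : K ⊗[k] Γ(X, V) →ₐ[K] Ω :=
    Algebra.TensorProduct.lift (Algebra.ofId K Ω) ((IsScalarTower.toAlgHom k kb Ω).comp χ₀)
      (fun _ _ => Commute.all _ _)
  have hy : y = Spec.map (CommRingCat.ofHom χ.toRingHom) ≫ j := by
    refine pullback.hom_ext ?_ ?_
    · rw [hy₁, Category.assoc, pullback.lift_fst, ← hχA, ← Category.assoc, ← Category.assoc,
        ← Spec.map_comp, ← Spec.map_comp]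
      congr 2
      ext b
      simp [χ, χ₀]
    · rw [hy₂, Category.assoc, pullback.lift_snd, ← Spec.map_comp]
      congr 1
      ext c
      simp [χ]
  subst hy
  by_contra hmem
  have hz : (Spec.map (CommRingCat.ofHom χ.toRingHom) t : PrimeSpectrum (K ⊗[k] Γ(X, V))) ∈
      PrimeSpectrum.zeroLocus (I : Set (K ⊗[k] Γ(X, V))) := by
    rw [← hI]; exact hmem
  have hker : ∀ z ∈ I, χ z = 0 := by
    intro z hzI
    have h1 : χ z ∈ (t : PrimeSpectrum Ω).asIdeal := hz hzI
    rcases Ideal.eq_bot_or_top (t : PrimeSpectrum Ω).asIdeal with e | e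
    · rwa [e] at h1
    · exact absurd e (t : PrimeSpectrum Ω).isPrime.ne_top
  haveI : Algebra.IsAlgebraic k kb := IsAlgClosure.isAlgebraic
  have h0 := hkill Ω χ hker fun b => by
    have h1 : IsIntegral k (χ₀ b) := (Algebra.IsAlgebraic.isAlgebraic (R := k) _).isIntegral
    simpa [χ] using h1.map (IsScalarTower.toAlgHom k kb Ω)
  have h2 : χA.hom a = 0 := by
    simpa [χ, χ₀, map_eq_zero_iff _ (algebraMap kb Ω).injective] using h0
  have h3 := hxU (IsLocalRing.closedPoint kb)
  rw [← hχA] at h3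
  have h4 : Spec.map χA (IsLocalRing.closedPoint kb) ∈ hV.fromSpec ⁻¹ᵁ X.basicOpen a := h3
  rw [hV.fromSpec_preimage_basicOpen] at h4
  refine h4 ?_
  show χA.hom a ∈ IsLocalRing.maximalIdeal kb
  rw [h2]
  exact zero_mem _

theorem exists_dense_avoids [LocallyOfFiniteType f]
    (U' : (pullback f (Spec.map (CommRingCat.ofHom (algebraMap k K)))).Opens)
    (hU' : Dense (U' : Set ↥(pullback f (Spec.map (CommRingCat.ofHom (algebraMap k K)))))) :
    ∃ U : X.Opens, Dense (U : Set ↥X) ∧ Avoids X f U' U := by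
  refine ⟨⨆ O : {O : X.Opens // Avoids X f U' O}, O.1, ?_, ?_⟩
  · rw [dense_iff_inter_open]
    intro W hW ⟨w, hw⟩
    obtain ⟨V, hV, hwV, hVW⟩ : ∃ V : X.Opens, IsAffineOpen V ∧ w ∈ V ∧ (V : Set X) ⊆ W := by
      obtain ⟨V, hV, hwV, hVW⟩ := TopologicalSpace.Opens.isBasis_iff_nbhd.mp X.isBasis_affineOpens
        (show w ∈ (⟨W, hW⟩ : X.Opens) from hw)
      exact ⟨V, hV, hwV, hVW⟩
    obtain ⟨O, hOV, ⟨z, hz⟩, hO⟩ := exists_avoids_le X f U' hU' hV ⟨w, hwV⟩
    exact ⟨z, hVW (hOV hz), TopologicalSpace.Opens.mem_iSup.mpr ⟨⟨O, hO⟩, hz⟩⟩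
  · intro kb Ω _ _ _ _ _ _ _ _ _ x hxf hxU y hy₁ hy₂ t
    obtain ⟨⟨O, hO⟩, hOx⟩ := TopologicalSpace.Opens.mem_iSup.mp (hxU (IsLocalRing.closedPoint kb))
    exact hO kb Ω x hxf (fun t' => by
      rwa [show t' = IsLocalRing.closedPoint kb from
        Subsingleton.elim (α := PrimeSpectrum kb) t' (IsLocalRing.closedPoint kb)]) y hy₁ hy₂ t

end Scheme

end Groth.Agent.L13.AlgPoints
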