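import Groth.Prelude.Def_W4c1arstab1appArSing
import Mathlib.RingTheory.PowerSeries.Order
import Mathlib.RingTheory.PowerSeries.Inverse
import Mathlib.RingTheory.PowerSeries.Substitution
import Mathlib.RingTheory.Polynomial.Basic
import Mathlib.Tactic

/-!
Parametrisations of the `A_r` algebras by power series in one variable: composition of series,
branch maps, the normal form `h₀(x) + y h₁(x)` and rigidity of homomorphisms.
-/

set_option autoImplicit false

universe u

namespace Groth.Agent.L13.ArSingBase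

open scoped PowerSeries

variable {k : Type u} [Field k]

/-- A `k`-algebra map between power series rings maps `X` to a series without constant term. -/
lemma constantCoeff_map_X (F : k⟦X⟧ →ₐ[k] k⟦X⟧) : PowerSeries.constantCoeff (F PowerSeries.X) = 0 := by
  set c := PowerSeries.constantCoeff (F PowerSeries.X) with hc
  by_contra h
  have hu : IsUnit (PowerSeries.X - PowerSeries.C c : k⟦X⟧) := by
    rw [PowerSeries.isUnit_iff_constantCoeff]
    simpa using h
  have := hu.map F
  rw [PowerSeries.isUnit_iff_constantCoeff] at this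
  have hC : F (PowerSeries.C c) = PowerSeries.C c := by
    rw [PowerSeries.C_eq_algebraMap, AlgHom.commutes]
  simp [map_sub, hC, ← hc] at this

lemma X_pow_dvd_map (F : k⟦X⟧ →ₐ[k] k⟦X⟧) {n : ℕ} {f : k⟦X⟧} (h : PowerSeries.X ^ n ∣ f) :
    PowerSeries.X ^ n ∣ F f := by
  obtain ⟨g, rfl⟩ := h
  rw [map_mul, map_pow]
  exact dvd_mul_of_dvd_left
    (pow_dvd_pow_of_dvd (PowerSeries.X_dvd_iff.mpr (constantCoeff_map_X F)) n) _

lemma sub_trunc_dvd (f : k⟦X⟧) (n : ℕ) :
    PowerSeries.X ^ n ∣ f - ((PowerSeries.trunc n f : Polynomial k) : k⟦X⟧) := by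
  rw [PowerSeries.X_pow_dvd_iff]
  intro m hm
  simp [Polynomial.coeff_coe, PowerSeries.coeff_trunc, hm]

lemma eq_of_forall_dvd {f g : k⟦X⟧} (h : ∀ n, PowerSeries.X ^ n ∣ f - g) : f = g := by
  ext m
  exact sub_eq_zero.mp ((PowerSeries.X_pow_dvd_iff.mp (h (m+1)) m (by omega)))

lemma map_coe_polynomial {A : Type*} [CommRing A] [Algebra k A] (F : k⟦X⟧ →ₐ[k] A)
    (p : Polynomial k) : F (p : k⟦X⟧) = Polynomial.aeval (F PowerSeries.X) p := by
  have : F.comp (Polynomial.coeToPowerSeries.algHom k : Polynomial k →ₐ[k] k⟦X⟧) =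
      Polynomial.aeval (F PowerSeries.X) := by
    apply Polynomial.algHom_ext
    simp [Polynomial.coeToPowerSeries.algHom_apply]
  simpa [Polynomial.coeToPowerSeries.algHom_apply] using AlgHom.congr_fun this p

/-- Algebra endomorphisms of `k⟦X⟧` are determined by the image of `X`. -/
lemma algHom_ext {F G : k⟦X⟧ →ₐ[k] k⟦X⟧} (h : F PowerSeries.X = G PowerSeries.X) : F = G := by
  apply AlgHom.ext
  intro f
  apply eq_of_forall_dvd
  intro n
  have e : F f - G f = F (f - ((PowerSeries.trunc n f : Polynomial k) : k⟦X⟧)) -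
      G (f - ((PowerSeries.trunc n f : Polynomial k) : k⟦X⟧)) := by
    rw [map_sub, map_sub, map_coe_polynomial, map_coe_polynomial, h]
    ring
  rw [e]
  exact dvd_sub (X_pow_dvd_map F (sub_trunc_dvd f n)) (X_pow_dvd_map G (sub_trunc_dvd f n))

/-- `f ↦ f ∘ a` for a series `a` without constant term. -/
noncomputable def comp (a : k⟦X⟧) (ha : PowerSeries.constantCoeff a = 0) : k⟦X⟧ →ₐ[k] k⟦X⟧ :=
  PowerSeries.substAlgHom (PowerSeries.HasSubst.of_constantCoeff_zero' ha)

lemma comp_X (a : k⟦X⟧) (ha : PowerSeries.constantCoeff a = 0) :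
    comp a ha PowerSeries.X = a :=
  PowerSeries.substAlgHom_X _

lemma eq_comp (F : k⟦X⟧ →ₐ[k] k⟦X⟧) :
    F = comp (F PowerSeries.X) (constantCoeff_map_X F) :=
  algHom_ext (comp_X _ _).symm

/-- If `a ≡ b` modulo `X ^ n` then `f ∘ a ≡ f ∘ b` modulo `X ^ n`. -/
lemma dvd_map_sub_map {F G : k⟦X⟧ →ₐ[k] k⟦X⟧} {n : ℕ}
    (h : PowerSeries.X ^ n ∣ F PowerSeries.X - G PowerSeries.X) (f : k⟦X⟧) :
    PowerSeries.X ^ n ∣ F f - G f := by
  have e : F f - G f = (F (f - ((PowerSeries.trunc n f : Polynomial k) : k⟦X⟧)) -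
      G (f - ((PowerSeries.trunc n f : Polynomial k) : k⟦X⟧))) +
      (Polynomial.aeval (F PowerSeries.X) (PowerSeries.trunc n f) -
        Polynomial.aeval (G PowerSeries.X) (PowerSeries.trunc n f)) := by
    rw [map_sub, map_sub, map_coe_polynomial, map_coe_polynomial]
    ring
  rw [e]
  refine dvd_add (dvd_sub (X_pow_dvd_map F (sub_trunc_dvd f n))
    (X_pow_dvd_map G (sub_trunc_dvd f n))) (dvd_trans h ?_)
  simp only [Polynomial.aeval_def, ← Polynomial.eval_map]
  exact Polynomial.sub_dvd_eval_sub _ _ _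

/-- A series with non-zero linear coefficient and no constant term has a compositional inverse. -/
lemma exists_comp_inverse (a : k⟦X⟧) (ha : PowerSeries.constantCoeff a = 0)
    (h1 : PowerSeries.coeff 1 a ≠ 0) :
    ∃ (b : k⟦X⟧) (hb : PowerSeries.constantCoeff b = 0), PowerSeries.coeff 1 b ≠ 0 ∧
      comp a ha b = PowerSeries.X ∧ comp b hb a = PowerSeries.X := by
  have hu : IsUnit (PowerSeries.coeff 1 a) := isUnit_iff_ne_zero.mpr h1
  refine ⟨a.substInvOfIsUnit hu, PowerSeries.constantCoeff_substInvOfIsUnit a hu, ?_, ?_, ?_⟩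
  · rw [PowerSeries.coeff_one_substInvOfIsUnit]
    exact Units.ne_zero _
  · simp only [comp, PowerSeries.coe_substAlgHom]
    exact PowerSeries.subst_substInvOfIsUnit_left a ha hu
  · simp only [comp, PowerSeries.coe_substAlgHom]
    exact PowerSeries.subst_substInvOfIsUnit_right a ha hu

lemma comp_comp_apply (a b : k⟦X⟧) (ha : PowerSeries.constantCoeff a = 0)
    (hb : PowerSeries.constantCoeff b = 0) (f : k⟦X⟧) :
    comp b hb (comp a ha f) = comp (comp b hb a)
      (by simpa [comp_X] using constantCoeff_map_X ((comp b hb).comp (comp a ha))) f := by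
  refine AlgHom.congr_fun (algHom_ext (F := (comp b hb).comp (comp a ha)) ?_) f
  simp [comp_X]

variable {r : ℕ}

open ArSing

lemma hasSubst_pair (a b : k⟦X⟧) (ha : PowerSeries.constantCoeff a = 0)
    (hb : PowerSeries.constantCoeff b = 0) :
    MvPowerSeries.HasSubst (![a, b] : Fin 2 → MvPowerSeries Unit k) := by
  apply MvPowerSeries.hasSubst_of_constantCoeff_zero
  intro s
  fin_cases s
  · exact ha
  · exact hb

/-- The map out of `A_r` given by a solution of `b ^ 2 = a ^ (r + 1)`. -/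
noncomputable def branch (a b : k⟦X⟧) (ha : PowerSeries.constantCoeff a = 0)
    (hb : PowerSeries.constantCoeff b = 0) (hab : b ^ 2 = a ^ (r + 1)) :
    ArSing.ring k r →ₐ[k] k⟦X⟧ :=
  Ideal.Quotient.liftₐ _
    (MvPowerSeries.substAlgHom (hasSubst_pair a b ha hb))
    (by
      intro z hz
      obtain ⟨w, rfl⟩ := Ideal.mem_span_singleton.mp hz
      simp only [map_mul, ArSing.eqn, map_sub, map_pow, MvPowerSeries.substAlgHom_X]
      simp [hab])

lemma branch_x (a b : k⟦X⟧) (ha : PowerSeries.constantCoeff a = 0)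
    (hb : PowerSeries.constantCoeff b = 0) (hab : b ^ 2 = a ^ (r + 1)) :
    branch a b ha hb hab (ArSing.x k r) = a := by
  show MvPowerSeries.substAlgHom (hasSubst_pair a b ha hb) (MvPowerSeries.X 0) = a
  rw [MvPowerSeries.substAlgHom_X]
  rfl

lemma branch_y (a b : k⟦X⟧) (ha : PowerSeries.constantCoeff a = 0)
    (hb : PowerSeries.constantCoeff b = 0) (hab : b ^ 2 = a ^ (r + 1)) :
    branch a b ha hb hab (ArSing.y k r) = b := by
  show MvPowerSeries.substAlgHom (hasSubst_pair a b ha hb) (MvPowerSeries.X 1) = b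
  rw [MvPowerSeries.substAlgHom_X]
  rfl

lemma xMap_X : ArSing.xMap k r PowerSeries.X = ArSing.x k r := by
  simp [ArSing.xMap, PowerSeries.substAlgHom_X]

lemma y_sq : ArSing.y k r ^ 2 = ArSing.x k r ^ (r + 1) := by
  rw [← map_pow, ← map_pow, Ideal.Quotient.mk_eq_mk_iff_sub_mem]
  exact Ideal.subset_span rfl

/-- The exponent with entries `i` and `j`. -/
noncomputable def expo (i j : ℕ) : Fin 2 →₀ ℕ := Finsupp.single 0 i + Finsupp.single 1 j

lemma expo_zero (i j : ℕ) : expo i j 0 = i := by simp [expo, Finsupp.single_apply]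

lemma expo_one (i j : ℕ) : expo i j 1 = j := by simp [expo, Finsupp.single_apply]

lemma eq_expo (e : Fin 2 →₀ ℕ) : e = expo (e 0) (e 1) := by
  ext t
  fin_cases t <;> simp [expo_zero, expo_one]

lemma coeff_X_pow_mul_expo (s : Fin 2) (n : ℕ) (φ : MvPowerSeries (Fin 2) k) (i j : ℕ) :
    MvPowerSeries.coeff (expo i j) (MvPowerSeries.X s ^ n * φ) =
      if s = 0 then (if n ≤ i then MvPowerSeries.coeff (expo (i - n) j) φ else 0)
      else (if n ≤ j then MvPowerSeries.coeff (expo i (j - n)) φ else 0) := by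
  rw [MvPowerSeries.X_pow_eq, MvPowerSeries.coeff_monomial_mul]
  have hle : Finsupp.single s n ≤ expo i j ↔ n ≤ expo i j s := Finsupp.single_le_iff
  fin_cases s
  · simp only [Fin.zero_eta, expo_zero] at hle ⊢
    by_cases h : n ≤ i
    · rw [if_pos (hle.mpr h), if_pos trivial, if_pos h, one_mul]
      congr 2
      ext t; fin_cases t <;> simp [expo_zero, expo_one]
    · rw [if_neg (hle.not.mpr h), if_pos trivial, if_neg h]
  · simp only [Fin.mk_one, expo_one] at hle ⊢
    by_cases h : n ≤ j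
    · rw [if_pos (hle.mpr h), if_neg (by simp), if_pos h, one_mul]
      congr 2
      ext t; fin_cases t <;> simp [expo_zero, expo_one]
    · rw [if_neg (hle.not.mpr h), if_neg (by simp), if_neg h]

/-- The quotient of the division of a series by `y ^ 2 - x ^ (r + 1)`. -/
noncomputable def quot (r : ℕ) (h : MvPowerSeries (Fin 2) k) : MvPowerSeries (Fin 2) k :=
  fun e => ∑ m ∈ Finset.range (e 0 / (r + 1) + 1),
    MvPowerSeries.coeff (expo (e 0 - (r + 1) * m) (e 1 + 2 + 2 * m)) h

lemma coeff_quot (h : MvPowerSeries (Fin 2) k) (i j : ℕ) :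
    MvPowerSeries.coeff (expo i j) (quot r h) = ∑ m ∈ Finset.range (i / (r + 1) + 1),
      MvPowerSeries.coeff (expo (i - (r + 1) * m) (j + 2 + 2 * m)) h := by
  show quot r h (expo i j) = _
  simp only [quot, expo_zero, expo_one]

lemma coeff_sub_eqn_mul_quot (h : MvPowerSeries (Fin 2) k) (i j : ℕ) :
    MvPowerSeries.coeff (expo i (j + 2)) (h - ArSing.eqn k r * quot r h) = 0 := by
  rw [ArSing.eqn, sub_mul, map_sub, map_sub, coeff_X_pow_mul_expo, coeff_X_pow_mul_expo,
    if_neg (by simp), if_pos rfl, if_pos (by omega), Nat.add_sub_cancel, coeff_quot,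
    Finset.sum_range_succ']
  by_cases hi : r + 1 ≤ i
  · rw [if_pos hi, coeff_quot]
    have hd : (i - (r + 1)) / (r + 1) + 1 = i / (r + 1) :=
      (Nat.div_eq_sub_div (by omega) hi).symm
    rw [hd]
    simp only [mul_zero, Nat.sub_zero, add_zero]
    have : ∀ m, expo (i - (r + 1) - (r + 1) * m) (j + 2 + 2 + 2 * m) =
        expo (i - (r + 1) * (m + 1)) (j + 2 + 2 * (m + 1)) := fun m => by
      congr 1
      · rw [mul_add, mul_one]; omega
      · omega
    simp only [this]
    ring
  · rw [if_neg hi, Nat.div_eq_of_lt (by omega)]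
    simp

/-- Normal form: every element of `A_r` is `h₀(x) + y h₁(x)`. -/
lemma exists_normal_form (z : ArSing.ring k r) :
    ∃ h₀ h₁ : k⟦X⟧, z = ArSing.xMap k r h₀ + ArSing.y k r * ArSing.xMap k r h₁ := by
  obtain ⟨h, rfl⟩ := Ideal.Quotient.mk_surjective z
  set R := h - ArSing.eqn k r * quot r h with hR
  let c : ℕ → k⟦X⟧ := fun j => PowerSeries.mk fun i => MvPowerSeries.coeff (expo i j) R
  refine ⟨c 0, c 1, ?_⟩
  have hx : ∀ f, ArSing.xMap k r f = Ideal.Quotient.mk _
      (PowerSeries.subst (MvPowerSeries.X (0 : Fin 2) : MvPowerSeries (Fin 2) k) f) := fun f => by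
    simp [ArSing.xMap, PowerSeries.coe_substAlgHom]
  rw [hx, hx, ← map_mul, ← map_add]
  have key : R = PowerSeries.subst (MvPowerSeries.X (0 : Fin 2)) (c 0) +
      MvPowerSeries.X 1 * PowerSeries.subst (MvPowerSeries.X (0 : Fin 2)) (c 1) := by
    have hsub : ∀ (f : k⟦X⟧) i j, MvPowerSeries.coeff (expo i j)
        (PowerSeries.subst (MvPowerSeries.X (0 : Fin 2)) f) =
        if j = 0 then PowerSeries.coeff i f else 0 := fun f i j => by
      rw [PowerSeries.coeff_subst_single, expo_zero]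
      refine if_congr ⟨fun e => ?_, fun e => ?_⟩ rfl rfl
      · simpa [expo_one] using DFunLike.congr_fun e 1
      · subst e; simp [expo]
    refine MvPowerSeries.ext fun e => ?_
    rw [eq_expo e, map_add, ← pow_one (MvPowerSeries.X (1 : Fin 2) : MvPowerSeries (Fin 2) k),
      coeff_X_pow_mul_expo, if_neg (by simp), hsub, hsub]
    obtain ⟨i, j, hi, hj⟩ : ∃ i j, e 0 = i ∧ e 1 = j := ⟨_, _, rfl, rfl⟩
    rw [hi, hj]
    rcases j with _ | _ | j
    · simp [c]
    · simp [c]
    · simp [hR, coeff_sub_eqn_mul_quot]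
  rw [← key, Ideal.Quotient.mk_eq_mk_iff_sub_mem, hR, sub_sub_cancel]
  exact Ideal.mul_mem_right _ _ (Ideal.subset_span rfl)

lemma map_normal_form (F : ArSing.ring k r →ₐ[k] k⟦X⟧) (h₀ h₁ : k⟦X⟧) :
    F (ArSing.xMap k r h₀ + ArSing.y k r * ArSing.xMap k r h₁) =
      comp (F (ArSing.x k r)) (by
        simpa [xMap_X] using constantCoeff_map_X (F.comp (ArSing.xMap k r))) h₀ +
      F (ArSing.y k r) * comp (F (ArSing.x k r)) (by
        simpa [xMap_X] using constantCoeff_map_X (F.comp (ArSing.xMap k r))) h₁ := by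
  have e : F.comp (ArSing.xMap k r) = comp (F (ArSing.x k r)) (by
      simpa [xMap_X] using constantCoeff_map_X (F.comp (ArSing.xMap k r))) :=
    algHom_ext (by simp [xMap_X, comp_X])
  simp [← e]

/-- Maps from `A_r` to `k⟦X⟧` are determined by the images of `x` and `y`. -/
lemma ring_hom_ext {F G : ArSing.ring k r →ₐ[k] k⟦X⟧} (hx : F (ArSing.x k r) = G (ArSing.x k r))
    (hy : F (ArSing.y k r) = G (ArSing.y k r)) : F = G := by
  apply AlgHom.ext
  intro z
  obtain ⟨h₀, h₁, rfl⟩ := exists_normal_form z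
  simp only [map_normal_form, hx, hy]

lemma constantCoeff_map_x (F : ArSing.ring k r →ₐ[k] k⟦X⟧) :
    PowerSeries.constantCoeff (F (ArSing.x k r)) = 0 := by
  simpa [xMap_X] using constantCoeff_map_X (F.comp (ArSing.xMap k r))

end Groth.Agent.L13.ArSingBase
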