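import Groth.Agent.L13.ArSingNode

/-!
Classification of the involutions of `A_r`, `r + 1 = 2 m`.
-/

set_option autoImplicit false

universe u

namespace Groth.Agent.L13.ArSingClassify

open scoped PowerSeries
open Groth.Agent.L13.ArSingBase Groth.Agent.L13.ArSingOdd Groth.Agent.L13.ArSingNode

variable {k : Type u} [Field k] {r m : ℕ}

lemma coeff_one_comp (a : k⟦X⟧) (ha : PowerSeries.constantCoeff a = 0) {f : k⟦X⟧}
    (hf : PowerSeries.constantCoeff f = 0) :
    PowerSeries.coeff 1 (comp a ha f) = PowerSeries.coeff 1 a * PowerSeries.coeff 1 f := by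
  obtain ⟨g, rfl⟩ := PowerSeries.X_dvd_iff.mpr hf
  rw [map_mul, comp_X, PowerSeries.coeff_one_mul, PowerSeries.coeff_one_mul, ha,
    PowerSeries.constantCoeff_X, PowerSeries.coeff_one_X, constantCoeff_map]
  ring

lemma map_C (F : k⟦X⟧ →ₐ[k] k⟦X⟧) (c : k) : F (PowerSeries.C c) = PowerSeries.C c := by
  rw [PowerSeries.C_eq_algebraMap, AlgHom.commutes]

/-- The linearisation `X + ε a` of an involution `a`. -/
lemma linearize (a : k⟦X⟧) (ha : PowerSeries.constantCoeff a = 0)
    (haa : comp a ha a = PowerSeries.X) (h2 : (2 : k) ≠ 0) :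
    ∃ (ε : k) (w : k⟦X⟧), (ε = 1 ∨ ε = -1) ∧ PowerSeries.coeff 1 a = ε ∧
      w = PowerSeries.X + PowerSeries.C ε * a ∧
      PowerSeries.constantCoeff w = 0 ∧ PowerSeries.coeff 1 w ≠ 0 ∧
      comp a ha w = PowerSeries.C ε * w ∧ (ε = 1 → a = PowerSeries.X) := by
  set ε := PowerSeries.coeff 1 a with hε
  have he : ε * ε = 1 := by
    have := congrArg (PowerSeries.coeff 1) haa
    rwa [coeff_one_comp a ha ha, PowerSeries.coeff_one_X] at this
  have hw1 : PowerSeries.coeff 1 (PowerSeries.X + PowerSeries.C ε * a) = 2 := by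
    rw [map_add, PowerSeries.coeff_one_X, PowerSeries.coeff_C_mul, ← hε, he, one_add_one_eq_two]
  have hw0 : PowerSeries.constantCoeff (PowerSeries.X + PowerSeries.C ε * a) = 0 := by simp [ha]
  have hCe : PowerSeries.C ε * PowerSeries.C ε = (1 : k⟦X⟧) := by rw [← map_mul, he, map_one]
  have hw : comp a ha (PowerSeries.X + PowerSeries.C ε * a) =
      PowerSeries.C ε * (PowerSeries.X + PowerSeries.C ε * a) := by
    rw [map_add, map_mul, comp_X, map_C, haa]
    linear_combination -a * hCe
  refine ⟨ε, _, mul_self_eq_one_iff.mp he, rfl, rfl, hw0, hw1 ▸ h2, hw, fun h1 => ?_⟩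
  obtain ⟨v, hv0, -, e, -⟩ := exists_comp_inverse _ hw0 (hw1 ▸ h2)
  rw [h1, map_one, one_mul, one_mul] at hw
  replace e : comp (PowerSeries.X + a) (by simp [ha]) v = PowerSeries.X := by
    simpa [h1] using e
  have := comp_comp_X (PowerSeries.X + a) a (by simp [ha]) ha v (PowerSeries.X + a)
    (by simp [ha]) hw
  rw [e, comp_X] at this
  exact this

variable (hm : 0 < m) (hr : r + 1 = 2 * m)

/-- Exchange of the two branches. -/
lemma exists_swap (h2 : (2 : k) ≠ 0) : ∃ τ : ArSing.ring k r ≃ₐ[k] ArSing.ring k r,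
    ∀ z, p₁ hm hr (τ z) = p₂ hm hr z ∧ p₂ hm hr (τ z) = p₁ hm hr z := by
  obtain ⟨φ, hφ⟩ := exists_endo hm hr h2 (p₂ hm hr) (p₁ hm hr)
    (fun z => dvd_sub_comm.mp (branches_congr hm hr h2 z))
  refine ⟨AlgEquiv.ofAlgHom φ φ ?_ ?_, hφ⟩ <;>
  · apply AlgHom.ext
    intro z
    exact eq_of_branches hm hr h2 (by simp [(hφ _).1, (hφ _).2]) (by simp [(hφ _).1, (hφ _).2])

/-- An automorphism preserves or exchanges the branches. -/
lemma aut_form (h2 : (2 : k) ≠ 0) (σ : ArSing.ring k r ≃ₐ[k] ArSing.ring k r) :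
    ∃ (a b : k⟦X⟧) (ha : PowerSeries.constantCoeff a = 0) (hb : PowerSeries.constantCoeff b = 0),
      PowerSeries.coeff 1 a ≠ 0 ∧ PowerSeries.coeff 1 b ≠ 0 ∧ PowerSeries.X ^ m ∣ a - b ∧
      ((∀ z, p₁ hm hr (σ z) = comp a ha (p₁ hm hr z) ∧
          p₂ hm hr (σ z) = comp b hb (p₂ hm hr z)) ∨
       (∀ z, p₁ hm hr (σ z) = comp a ha (p₂ hm hr z) ∧
          p₂ hm hr (σ z) = comp b hb (p₁ hm hr z))) := by
  set F := (p₁ hm hr).comp σ.toAlgHom with hF
  set G := (p₂ hm hr).comp σ.toAlgHom with hG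
  refine ⟨F (ArSing.x k r), G (ArSing.x k r), constantCoeff_map_x F, constantCoeff_map_x G,
    ?_, ?_, branches_congr hm hr h2 _, ?_⟩
  · intro h0
    obtain ⟨z, hz⟩ := σ.surjective (ArSing.x k r)
    have e : F z = PowerSeries.X := by simp [hF, hz, p₁_x]
    rcases factor hm hr F with hh | hh <;> rw [hh, AlgHom.comp_apply] at e
    · have hc : PowerSeries.constantCoeff (p₁ hm hr z) = 0 := by
        simpa [constantCoeff_map] using congrArg PowerSeries.constantCoeff e
      simpa [coeff_one_comp _ _ hc, h0] using congrArg (PowerSeries.coeff 1) e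
    · have hc : PowerSeries.constantCoeff (p₂ hm hr z) = 0 := by
        simpa [constantCoeff_map] using congrArg PowerSeries.constantCoeff e
      simpa [coeff_one_comp _ _ hc, h0] using congrArg (PowerSeries.coeff 1) e
  · intro h0
    obtain ⟨z, hz⟩ := σ.surjective (ArSing.x k r)
    have e : G z = PowerSeries.X := by simp [hG, hz, p₂_x]
    rcases factor hm hr G with hh | hh <;> rw [hh, AlgHom.comp_apply] at e
    · have hc : PowerSeries.constantCoeff (p₁ hm hr z) = 0 := by
        simpa [constantCoeff_map] using congrArg PowerSeries.constantCoeff e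
      simpa [coeff_one_comp _ _ hc, h0] using congrArg (PowerSeries.coeff 1) e
    · have hc : PowerSeries.constantCoeff (p₂ hm hr z) = 0 := by
        simpa [constantCoeff_map] using congrArg PowerSeries.constantCoeff e
      simpa [coeff_one_comp _ _ hc, h0] using congrArg (PowerSeries.coeff 1) e
  · have hX : (2 : k⟦X⟧) * PowerSeries.X ^ m ≠ 0 :=
      mul_ne_zero (two_ne h2) (pow_ne_zero _ PowerSeries.X_ne_zero)
    rcases factor hm hr F with h | h <;> rcases factor hm hr G with h' | h'
    · exfalso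
      obtain ⟨z, hz₁, hz₂⟩ := (exists_eq_iff hm hr h2 0 (2 * PowerSeries.X ^ m)).mpr
        ⟨-2, by ring⟩
      have e₁ : p₁ hm hr (σ z) = 0 := by
        show F z = 0; rw [h, AlgHom.comp_apply, hz₁, map_zero]
      have e₂ : p₂ hm hr (σ z) = 0 := by
        show G z = 0; rw [h', AlgHom.comp_apply, hz₁, map_zero]
      have : σ z = 0 := eq_of_branches hm hr h2 (by simpa using e₁) (by simpa using e₂)
      rw [map_eq_zero_iff σ σ.injective] at this
      exact hX (by rw [← hz₂, this, map_zero])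
    · exact Or.inl fun z => ⟨AlgHom.congr_fun h z, AlgHom.congr_fun h' z⟩
    · exact Or.inr fun z => ⟨AlgHom.congr_fun h z, AlgHom.congr_fun h' z⟩
    · exfalso
      obtain ⟨z, hz₁, hz₂⟩ := (exists_eq_iff hm hr h2 (2 * PowerSeries.X ^ m) 0).mpr
        ⟨2, by ring⟩
      have e₁ : p₁ hm hr (σ z) = 0 := by
        show F z = 0; rw [h, AlgHom.comp_apply, hz₂, map_zero]
      have e₂ : p₂ hm hr (σ z) = 0 := by
        show G z = 0; rw [h', AlgHom.comp_apply, hz₂, map_zero]
      have : σ z = 0 := eq_of_branches hm hr h2 (by simpa using e₁) (by simpa using e₂)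
      rw [map_eq_zero_iff σ σ.injective] at this
      exact hX (by rw [← hz₁, this, map_zero])

lemma C_neg_one : PowerSeries.C (-1 : k) = (-1 : k⟦X⟧) := by rw [map_neg, map_one]

include hm hr in
/-- Classification of the involutions up to conjugation. -/
theorem classify (h2 : (2 : k) ≠ 0) (σ : ArSing.ring k r ≃ₐ[k] ArSing.ring k r)
    (hσ : ∀ z, σ (σ z) = z) (hne : σ ≠ AlgEquiv.refl) :
    ∃ φ : ArSing.ring k r ≃ₐ[k] ArSing.ring k r,
      (σ (φ (ArSing.x k r)) = φ (ArSing.x k r) ∧ σ (φ (ArSing.y k r)) = -φ (ArSing.y k r)) ∨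
      (σ (φ (ArSing.x k r)) = -φ (ArSing.x k r) ∧
        σ (φ (ArSing.y k r)) = (-1) ^ m * φ (ArSing.y k r)) ∨
      (2 ≤ m ∧ σ (φ (ArSing.x k r)) = -φ (ArSing.x k r) ∧
        σ (φ (ArSing.y k r)) = -((-1) ^ m * φ (ArSing.y k r))) ∨
      (m = 1 ∧ σ (φ (ArSing.x k r)) = φ (ArSing.y k r) ∧
        σ (φ (ArSing.y k r)) = φ (ArSing.x k r)) := by
  obtain ⟨a, b, ha, hb, ha1, hb1, hab, hform⟩ := aut_form hm hr h2 σ
  have hcong : 2 ≤ m → PowerSeries.coeff 1 a = PowerSeries.coeff 1 b := fun h => by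
    have := PowerSeries.X_pow_dvd_iff.mp hab 1 h
    rwa [map_sub, sub_eq_zero] at this
  rcases hform with hform | hform
  · have haa : comp a ha a = PowerSeries.X := by
      simpa [(hform _).1, p₁_x, comp_X] using congrArg (p₁ hm hr) (hσ (ArSing.x k r))
    have hbb : comp b hb b = PowerSeries.X := by
      simpa [(hform _).2, p₂_x, comp_X] using congrArg (p₂ hm hr) (hσ (ArSing.x k r))
    obtain ⟨εa, wa, hεa, hae, hwa, hwa0, hwa1, hca, hida⟩ := linearize a ha haa h2
    obtain ⟨εb, wb, hεb, hbe, hwb, hwb0, hwb1, hcb, hidb⟩ := linearize b hb hbb h2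
    have hw : PowerSeries.X ^ m ∣ wa - wb := by
      by_cases hm2 : 2 ≤ m
      · rw [hwa, hwb, show εb = εa by rw [← hae, ← hbe, hcong hm2], add_sub_add_left_eq_sub,
          ← mul_sub]
        exact dvd_mul_of_dvd_right hab _
      · rw [show m = 1 by omega, X_dvd_sub_iff, hwa0, hwb0]
    obtain ⟨φ, hφ⟩ := exists_aut hm hr h2 wa wb hwa0 hwb0 hwa1 hwb1 hw
    obtain rfl | rfl := hεa <;> obtain rfl | rfl := hεb
    · refine absurd (AlgEquiv.ext fun z => ?_) hne
      obtain rfl := hida rfl
      obtain rfl := hidb rfl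
      exact eq_of_branches hm hr h2 (by simp [(hform z).1, comp_X_self])
        (by simp [(hform z).2, comp_X_self])
    · obtain rfl : m = 1 := by
        by_contra h
        have := hcong (by omega)
        rw [hae, hbe] at this
        exact h2 (by linear_combination this)
      refine ⟨φ, Or.inr (Or.inr (Or.inr ⟨rfl, ?_, ?_⟩))⟩ <;>
        apply eq_of_branches hm hr h2 <;>
        simp only [(hform _).1, (hform _).2, (hφ _).1, (hφ _).2, p₁_x, p₂_x, p₁_y, p₂_y, pow_one,
          comp_X, map_neg, hca, hcb, C_neg_one, map_one] <;> ring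
    · obtain rfl : m = 1 := by
        by_contra h
        have := hcong (by omega)
        rw [hae, hbe] at this
        exact h2 (by linear_combination -this)
      obtain ⟨τ, hτ⟩ := exists_swap hm hr h2
      refine ⟨τ.trans φ, Or.inr (Or.inr (Or.inr ⟨rfl, ?_, ?_⟩))⟩ <;>
        apply eq_of_branches hm hr h2 <;>
        simp only [AlgEquiv.trans_apply, (hform _).1, (hform _).2, (hφ _).1, (hφ _).2, (hτ _).1,
          (hτ _).2, p₁_x, p₂_x, p₁_y, p₂_y, pow_one, comp_X, map_neg, hca, hcb, C_neg_one,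
          map_one] <;> ring
    · refine ⟨φ, Or.inr (Or.inl ⟨?_, ?_⟩)⟩ <;>
        apply eq_of_branches hm hr h2 <;>
        simp only [(hform _).1, (hform _).2, (hφ _).1, (hφ _).2, p₁_x, p₂_x, p₁_y, p₂_y,
          map_mul, map_pow, map_one, comp_X, map_neg, hca, hcb, C_neg_one, mul_pow] <;> ring
  · have hab' : comp a ha b = PowerSeries.X := by
      simpa [(hform _).1, (hform _).2, p₁_x, comp_X] using
        congrArg (p₁ hm hr) (hσ (ArSing.x k r))
    have hba' : comp b hb a = PowerSeries.X := by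
      simpa [(hform _).1, (hform _).2, p₂_x, comp_X] using
        congrArg (p₂ hm hr) (hσ (ArSing.x k r))
    obtain ⟨η, w, hη, hη1, hw0, hw1, hw⟩ : ∃ (η : k) (w : k⟦X⟧), (η = 1 ∨ η = -1) ∧
        (m = 1 → η = 1) ∧ PowerSeries.constantCoeff w = 0 ∧ PowerSeries.coeff 1 w ≠ 0 ∧
        PowerSeries.X ^ m ∣ PowerSeries.C η * comp a ha w - w := by
      by_cases hm2 : 2 ≤ m
      · set ε := PowerSeries.coeff 1 a with hε
        have he : ε * ε = 1 := by
          have := congrArg (PowerSeries.coeff 1) hab'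
          rwa [coeff_one_comp a ha hb, PowerSeries.coeff_one_X, ← hcong hm2] at this
        refine ⟨ε, PowerSeries.X + PowerSeries.C ε * a, mul_self_eq_one_iff.mp he,
          fun h => absurd h (by omega), by simp [ha], ?_, ?_⟩
        · rw [map_add, PowerSeries.coeff_one_X, PowerSeries.coeff_C_mul, ← hε, he,
            one_add_one_eq_two]
          exact h2
        · have hCe : PowerSeries.C ε * PowerSeries.C ε = (1 : k⟦X⟧) := by
            rw [← map_mul, he, map_one]
          have : PowerSeries.X ^ m ∣ comp a ha a - PowerSeries.X := by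
            have h := X_pow_dvd_map (comp a ha) hab
            rwa [map_sub, hab'] at h
          rw [map_add, map_mul, comp_X, map_C]
          convert this using 1
          linear_combination (comp a ha a) * hCe
      · refine ⟨1, PowerSeries.X, Or.inl rfl, fun _ => rfl, PowerSeries.constantCoeff_X,
          by rw [PowerSeries.coeff_one_X]; exact one_ne_zero, ?_⟩
        rw [show m = 1 by omega, X_dvd_sub_iff, map_mul, constantCoeff_map]
        simp
    have hCη : PowerSeries.C η * PowerSeries.C η = (1 : k⟦X⟧) := by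
      rw [← map_mul]; obtain rfl | rfl := hη <;> simp
    have hη0 : η ≠ 0 := by obtain rfl | rfl := hη <;> simp
    set w₁ := PowerSeries.C η * comp a ha w with hw₁
    have hbw : comp b hb w₁ = PowerSeries.C η * w := by
      rw [hw₁, map_mul, map_C, comp_comp_X a b ha hb w PowerSeries.X PowerSeries.constantCoeff_X
        hba', comp_X_self]
    have haw : comp a ha w = PowerSeries.C η * w₁ := by
      rw [hw₁, ← mul_assoc, hCη, one_mul]
    obtain ⟨φ, hφ⟩ := exists_aut hm hr h2 w₁ w (by simp [hw₁, constantCoeff_map, hw0]) hw0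
      (by rw [hw₁, PowerSeries.coeff_C_mul, coeff_one_comp _ _ hw0]
          exact mul_ne_zero hη0 (mul_ne_zero ha1 hw1)) hw1 hw
    have hx : σ (φ (ArSing.x k r)) = algebraMap k _ η * φ (ArSing.x k r) := by
      apply eq_of_branches hm hr h2 <;>
        simp only [(hform _).1, (hform _).2, (hφ _).1, (hφ _).2, p₁_x, p₂_x, comp_X, map_mul,
          AlgHom.commutes, ← PowerSeries.C_eq_algebraMap, haw, hbw]
    have hy : σ (φ (ArSing.y k r)) = -(algebraMap k _ η ^ m * φ (ArSing.y k r)) := by
      apply eq_of_branches hm hr h2 <;>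
        simp only [(hform _).1, (hform _).2, (hφ _).1, (hφ _).2, p₁_y, p₂_y, comp_X, map_mul,
          map_neg, map_pow, AlgHom.commutes, ← PowerSeries.C_eq_algebraMap, haw, hbw, mul_pow] <;>
        ring
    obtain rfl | rfl := hη
    · exact ⟨φ, Or.inl ⟨by simpa using hx, by simpa using hy⟩⟩
    · replace hx : σ (φ (ArSing.x k r)) = -φ (ArSing.x k r) := by
        rw [hx, map_neg, map_one]
        exact neg_one_mul (φ (ArSing.x k r))
      rw [map_neg, map_one] at hy
      refine ⟨φ, Or.inr (Or.inr (Or.inl ⟨?_, hx, hy⟩))⟩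
      by_contra h
      exact h2 (by linear_combination -(hη1 (by omega)))

end Groth.Agent.L13.ArSingClassify
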