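import Groth.Agent.L13.ArSingClassify
import Mathlib.RingTheory.PowerSeries.Inverse

/-!
`A_r` for even `r` as a subalgebra of `k⟦X⟧` and the classification of its involutions.
-/

set_option autoImplicit false

universe u

namespace Groth.Agent.L13.ArSingEven

open scoped PowerSeries
open Groth.Agent.L13.ArSingBase Groth.Agent.L13.ArSingOdd Groth.Agent.L13.ArSingNode
  Groth.Agent.L13.ArSingClassify

variable {k : Type u} [Field k] {r : ℕ}

/-- The parametrisation `t ↦ (t ^ 2, t ^ (r + 1))`. -/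
noncomputable def q (r : ℕ) : ArSing.ring k r →ₐ[k] k⟦X⟧ :=
  branch (PowerSeries.X ^ 2) (PowerSeries.X ^ (r + 1)) (by simp) (by simp)
    (by rw [← pow_mul, ← pow_mul, mul_comm])

lemma q_x : q (k := k) r (ArSing.x k r) = PowerSeries.X ^ 2 := branch_x _ _ _ _ _

lemma q_y : q (k := k) r (ArSing.y k r) = PowerSeries.X ^ (r + 1) := branch_y _ _ _ _ _

lemma q_normal_form (h₀ h₁ : k⟦X⟧) :
    q r (ArSing.xMap k r h₀ + ArSing.y k r * ArSing.xMap k r h₁) =
      comp (PowerSeries.X ^ 2) (by simp) h₀ +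
        PowerSeries.X ^ (r + 1) * comp (PowerSeries.X ^ 2) (by simp) h₁ := by
  have : (q r).comp (ArSing.xMap k r) = comp (PowerSeries.X ^ 2 : k⟦X⟧) (by simp) :=
    algHom_ext (by simp [xMap_X, q_x, comp_X])
  rw [map_add, map_mul, q_y, ← this]
  rfl

lemma coeff_normal_form (hev : Even r) (h₀ h₁ : k⟦X⟧) (j : ℕ) :
    PowerSeries.coeff j (comp (PowerSeries.X ^ 2) (by simp) h₀ +
        PowerSeries.X ^ (r + 1) * comp (PowerSeries.X ^ 2) (by simp) h₁) =
      if Even j then PowerSeries.coeff (j / 2) h₀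
      else if r + 1 ≤ j then PowerSeries.coeff ((j - (r + 1)) / 2) h₁ else 0 := by
  rw [map_add, coeff_comp_X_sq, PowerSeries.coeff_X_pow_mul']
  simp only [coeff_comp_X_sq, ← even_iff_two_dvd]
  by_cases hj : Even j
  · rw [if_pos hj, if_pos hj]
    by_cases hle : r + 1 ≤ j
    · rw [if_pos hle, if_neg (by
        rw [Nat.even_sub hle, Nat.even_add_one]
        tauto), add_zero]
    · rw [if_neg hle, add_zero]
  · rw [if_neg hj, if_neg hj, zero_add]
    by_cases hle : r + 1 ≤ j
    · rw [if_pos hle, if_pos hle, if_pos (by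
        rw [Nat.even_sub hle, Nat.even_add_one]
        tauto)]
    · rw [if_neg hle, if_neg hle]

lemma q_injective (hev : Even r) : Function.Injective (q (k := k) r) := by
  intro z w h
  rw [← sub_eq_zero]
  obtain ⟨a, b, e⟩ := exists_normal_form (z - w)
  have hq : q r (z - w) = 0 := by rw [map_sub, h, sub_self]
  rw [e, q_normal_form] at hq
  have ha : a = 0 := PowerSeries.ext fun i => by
    have := congrArg (PowerSeries.coeff (2 * i)) hq
    rw [coeff_normal_form hev, if_pos (even_two_mul i), Nat.mul_div_cancel_left i two_pos,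
      map_zero] at this
    rw [this, map_zero]
  have hb : b = 0 := PowerSeries.ext fun i => by
    have := congrArg (PowerSeries.coeff (2 * i + (r + 1))) hq
    rw [coeff_normal_form hev, if_neg (by
        rw [Nat.even_add, Nat.even_add_one]
        simp [hev]), if_pos (by omega), Nat.add_sub_cancel,
      Nat.mul_div_cancel_left i two_pos, map_zero] at this
    rw [this, map_zero]
  simp [e, ha, hb]

/-- A series is in the image iff it is even modulo `X ^ (r + 1)`. -/
lemma exists_eq_iff (hev : Even r) (h2 : (2 : k) ≠ 0) (P : k⟦X⟧) :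
    (∃ z, q r z = P) ↔
      PowerSeries.X ^ (r + 1) ∣ comp (-PowerSeries.X) (by simp) P - P := by
  constructor
  · rintro ⟨z, rfl⟩
    obtain ⟨a, b, rfl⟩ := exists_normal_form z
    rw [q_normal_form, PowerSeries.X_pow_dvd_iff]
    intro j hj
    rw [map_sub, coeff_comp_neg_X, coeff_normal_form hev]
    by_cases he : Even j
    · rw [he.neg_one_pow, one_mul, sub_self]
    · rw [if_neg he, if_neg (by omega), mul_zero, sub_zero]
  · intro h
    refine ⟨ArSing.xMap k r (PowerSeries.mk fun i => PowerSeries.coeff (2 * i) P) +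
      ArSing.y k r * ArSing.xMap k r
        (PowerSeries.mk fun i => PowerSeries.coeff (2 * i + (r + 1)) P), PowerSeries.ext fun j => ?_⟩
    rw [q_normal_form, coeff_normal_form hev]
    split_ifs with he hle
    · rw [PowerSeries.coeff_mk, Nat.mul_div_cancel' (even_iff_two_dvd.mp he)]
    · rw [PowerSeries.coeff_mk, Nat.mul_div_cancel' (even_iff_two_dvd.mp (by
        rw [Nat.even_sub hle, Nat.even_add_one]
        tauto)), Nat.sub_add_cancel hle]
    · have := PowerSeries.X_pow_dvd_iff.mp h j (by omega)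
      rw [map_sub, coeff_comp_neg_X, (Nat.not_even_iff_odd.mp he).neg_one_pow] at this
      have h' : (2 : k) * PowerSeries.coeff j P = 0 := by linear_combination -this
      exact ((mul_eq_zero.mp h').resolve_left h2).symm

/-- A substitution that is odd modulo `X ^ r` preserves the image. -/
lemma exists_endo (hev : Even r) (h2 : (2 : k) ≠ 0) (a : k⟦X⟧)
    (ha : PowerSeries.constantCoeff a = 0)
    (h : PowerSeries.X ^ r ∣ comp (-PowerSeries.X) (by simp) a + a) :
    ∃ φ : ArSing.ring k r →ₐ[k] ArSing.ring k r, ∀ z, q r (φ z) = comp a ha (q r z) := by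
  set a' := comp (-PowerSeries.X) (by simp) a with ha'
  have ha'0 : PowerSeries.constantCoeff a' = 0 := by rw [ha', constantCoeff_map, ha]
  have hsq : PowerSeries.X ^ (r + 1) ∣ a' ^ 2 - a ^ 2 := by
    rw [sq_sub_sq, pow_succ]
    exact mul_dvd_mul h (PowerSeries.X_dvd_iff.mpr (by rw [map_sub, ha, ha'0, sub_zero]))
  have hpow : PowerSeries.X ^ (r + 1) ∣ a ^ (r + 1) :=
    pow_dvd_pow_of_dvd (PowerSeries.X_dvd_iff.mpr ha) _
  have key : ∀ z, ∃ y, q r y = comp a ha (q r z) := by
    intro z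
    rw [exists_eq_iff hev h2]
    obtain ⟨h₀, h₁, rfl⟩ := exists_normal_form z
    rw [q_normal_form, map_add (comp a ha), map_mul (comp a ha),
      show comp a ha (PowerSeries.X ^ (r + 1)) = a ^ (r + 1) by rw [map_pow, comp_X],
      comp_comp_X (PowerSeries.X ^ 2) a _ ha h₀ (a ^ 2) (by simp [ha]) (by simp [comp_X]),
      map_add, map_mul, add_sub_add_comm]
    refine dvd_add ?_ (dvd_sub ?_ (dvd_mul_of_dvd_left hpow _))
    · rw [comp_comp_X (a ^ 2) (-PowerSeries.X) _ _ h₀ (a' ^ 2) (by simp [ha'0])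
        (by rw [map_pow])]
      exact dvd_map_sub_map (by simpa [comp_X] using hsq) _
    · exact dvd_mul_of_dvd_left (X_pow_dvd_map _ hpow) _
  choose φ hφ using key
  refine ⟨{ toFun := φ, map_one' := ?_, map_mul' := ?_, map_zero' := ?_, map_add' := ?_,
            commutes' := ?_ }, hφ⟩
  all_goals intros
  all_goals apply q_injective hev
  all_goals simp [hφ, map_C]

/-- An odd substitution with non-zero linear term gives an automorphism. -/
lemma exists_aut (hev : Even r) (h2 : (2 : k) ≠ 0) (a : k⟦X⟧)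
    (ha : PowerSeries.constantCoeff a = 0) (ha1 : PowerSeries.coeff 1 a ≠ 0)
    (h : PowerSeries.X ^ r ∣ comp (-PowerSeries.X) (by simp) a + a) :
    ∃ φ : ArSing.ring k r ≃ₐ[k] ArSing.ring k r, ∀ z, q r (φ z) = comp a ha (q r z) := by
  obtain ⟨v, hv, -, eav, eva⟩ := exists_comp_inverse a ha ha1
  set a' := comp (-PowerSeries.X) (by simp) a with ha'
  have ha'0 : PowerSeries.constantCoeff a' = 0 := by rw [ha', constantCoeff_map, ha]
  set v' := comp (-PowerSeries.X) (by simp) v with hv'
  have h' : PowerSeries.X ^ r ∣ v' + v := by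
    have e₁ : comp a' ha'0 v = -PowerSeries.X := by
      rw [← comp_comp_X a (-PowerSeries.X) ha (by simp) v a' ha'0 rfl, eav, comp_X]
    have e₂ : PowerSeries.X ^ r ∣ comp a ha v' - comp a' ha'0 v := by
      rw [hv', comp_comp_X (-PowerSeries.X) a _ ha v (-a) (by simp [ha]) (by simp [comp_X])]
      refine dvd_map_sub_map ?_ _
      rw [comp_X, comp_X, show -a - a' = -(a' + a) by ring]
      exact dvd_neg.mpr h
    rw [e₁, sub_neg_eq_add] at e₂
    have e₃ := X_pow_dvd_map (comp v hv) e₂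
    rwa [map_add, comp_X, comp_comp_X a v ha hv v' PowerSeries.X PowerSeries.constantCoeff_X eva,
      comp_X_self] at e₃
  obtain ⟨φ, hφ⟩ := exists_endo hev h2 a ha h
  obtain ⟨ψ, hψ⟩ := exists_endo hev h2 v hv h'
  refine ⟨AlgEquiv.ofAlgHom φ ψ ?_ ?_, fun z => hφ z⟩ <;> apply AlgHom.ext <;> intro z <;>
    apply q_injective hev <;> simp only [AlgHom.comp_apply, hφ, hψ, AlgHom.id_apply]
  · rw [comp_comp_X v a hv ha _ PowerSeries.X PowerSeries.constantCoeff_X eav, comp_X_self]
  · rw [comp_comp_X a v ha hv _ PowerSeries.X PowerSeries.constantCoeff_X eva, comp_X_self]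

/-- An automorphism of `A_r` is induced by a substitution. -/
lemma aut_form (hev : Even r) (σ : ArSing.ring k r ≃ₐ[k] ArSing.ring k r) :
    ∃ (s : k⟦X⟧) (hs : PowerSeries.constantCoeff s = 0), ∀ z, q r (σ z) = comp s hs (q r z) := by
  set F := (q (k := k) r).comp σ.toAlgHom with hF
  set a := F (ArSing.x k r) with ha
  set b := F (ArSing.y k r) with hb
  obtain ⟨n, hn⟩ := hev
  have hab : b ^ 2 = a ^ (r + 1) := by rw [hb, ha, ← map_pow, y_sq, map_pow]
  obtain ⟨s, hs2, hsb⟩ : ∃ s, s ^ 2 = a ∧ s ^ (r + 1) = b := by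
    by_cases ha0 : a = 0
    · refine ⟨0, by simp [ha0], ?_⟩
      rw [ha0, zero_pow r.succ_ne_zero] at hab
      rw [(pow_eq_zero_iff two_ne_zero).mp hab, zero_pow r.succ_ne_zero]
    · obtain ⟨s, hs⟩ : a ^ n ∣ b := by
        refine (IsIntegrallyClosed.pow_dvd_pow_iff two_ne_zero).mp ⟨a, ?_⟩
        rw [hab, ← pow_mul, ← pow_succ, hn, mul_two]
      have hs2 : s ^ 2 = a := by
        apply mul_left_cancel₀ (pow_ne_zero (2 * n) ha0)
        rw [← pow_succ]
        calc a ^ (2 * n) * s ^ 2 = b ^ 2 := by rw [hs, mul_pow, ← pow_mul, mul_comm n 2]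
          _ = _ := by rw [hab, hn, two_mul]
      refine ⟨s, hs2, ?_⟩
      rw [hs, ← hs2, ← pow_mul, ← pow_succ, hn, two_mul]
  have hs0 : PowerSeries.constantCoeff s = 0 := by
    have := congrArg PowerSeries.constantCoeff hs2
    rw [map_pow, ha, constantCoeff_map_x] at this
    exact (pow_eq_zero_iff two_ne_zero).mp this
  refine ⟨s, hs0, fun z => ?_⟩
  refine AlgHom.congr_fun (ring_hom_ext (F := F) (G := (comp s hs0).comp (q r)) ?_ ?_) z
  · show a = comp s hs0 (q r (ArSing.x k r))
    rw [q_x, map_pow, comp_X, hs2]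
  · show b = comp s hs0 (q r (ArSing.y k r))
    rw [q_y, map_pow, comp_X, hsb]

/-- Every non-trivial involution is conjugate to `(x, y) ↦ (x, -y)`. -/
theorem classify (hev : Even r) (h2 : (2 : k) ≠ 0)
    (σ : ArSing.ring k r ≃ₐ[k] ArSing.ring k r) (hσ : ∀ z, σ (σ z) = z)
    (hne : σ ≠ AlgEquiv.refl) :
    ∃ φ : ArSing.ring k r ≃ₐ[k] ArSing.ring k r,
      σ (φ (ArSing.x k r)) = φ (ArSing.x k r) ∧ σ (φ (ArSing.y k r)) = -φ (ArSing.y k r) := by
  obtain ⟨s, hs, hσq⟩ := aut_form hev σ
  have hss : comp s hs s = PowerSeries.X := by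
    have ex := congrArg (q r) (hσ (ArSing.x k r))
    have ey := congrArg (q r) (hσ (ArSing.y k r))
    rw [hσq, hσq, q_x, map_pow, comp_X, map_pow] at ex
    rw [hσq, hσq, q_y, map_pow, comp_X, map_pow] at ey
    obtain ⟨n, hn⟩ := hev
    rw [pow_succ, pow_succ, hn, ← two_mul, pow_mul, pow_mul, ex] at ey
    exact mul_left_cancel₀ (pow_ne_zero n (pow_ne_zero 2 PowerSeries.X_ne_zero)) ey
  obtain ⟨ε, w, hε, hsε, hw, hw0, hw1, hcw, hid⟩ := linearize s hs hss h2
  obtain rfl | rfl := hε
  · exfalso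
    apply hne
    refine AlgEquiv.ext fun z => q_injective hev ?_
    obtain rfl := hid rfl
    simp [hσq, comp_X_self]
  · set s' := comp (-PowerSeries.X) (by simp) s with hs'
    have hs'0 : PowerSeries.constantCoeff s' = 0 := by rw [hs', constantCoeff_map, hs]
    have hodd : PowerSeries.X ^ r ∣ s' + s := by
      obtain ⟨u, hu⟩ : PowerSeries.X ∣ s' - s :=
        PowerSeries.X_dvd_iff.mpr (by rw [map_sub, hs'0, hs, sub_zero])
      have hu0 : IsUnit u := by
        rw [PowerSeries.isUnit_iff_constantCoeff, isUnit_iff_ne_zero]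
        have := congrArg (PowerSeries.coeff 1) hu
        rw [map_sub, hs', coeff_comp_neg_X, hsε, PowerSeries.coeff_one_mul,
          PowerSeries.coeff_one_X, PowerSeries.constantCoeff_X, pow_one] at this
        intro h0
        exact h2 (by linear_combination this + h0)
      have hsq : PowerSeries.X ^ (r + 1) ∣ s' ^ 2 - s ^ 2 := by
        have := (exists_eq_iff hev h2 (s ^ 2)).mp
          ⟨σ (ArSing.x k r), by rw [hσq, q_x, map_pow, comp_X]⟩
        rwa [map_pow, ← hs'] at this
      rw [sq_sub_sq, hu, pow_succ, ← mul_assoc, mul_comm (s' + s) PowerSeries.X, mul_assoc,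
        mul_comm (PowerSeries.X ^ r) PowerSeries.X] at hsq
      exact (IsUnit.dvd_mul_right hu0).mp
        ((mul_dvd_mul_iff_left PowerSeries.X_ne_zero).mp hsq)
    have hwodd : PowerSeries.X ^ r ∣ comp (-PowerSeries.X) (by simp) w + w := by
      rw [hw, map_add, map_mul, map_C, comp_X, ← hs', C_neg_one]
      convert dvd_neg.mpr hodd using 1
      ring
    obtain ⟨φ, hφ⟩ := exists_aut hev h2 w hw0 hw1 hwodd
    rw [C_neg_one, neg_one_mul] at hcw
    obtain ⟨n, hn⟩ := hev
    refine ⟨φ, ?_, ?_⟩ <;> apply q_injective ⟨n, hn⟩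
    · simp only [hσq, hφ, q_x, map_pow, comp_X, hcw, neg_sq]
    · simp only [hσq, hφ, q_y, map_pow, map_neg, comp_X, hcw]
      rw [neg_pow, Odd.neg_one_pow ⟨n, by omega⟩, neg_one_mul]

end Groth.Agent.L13.ArSingEven
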