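import Groth.Agent.L13.ArSingOdd
import Mathlib.RingTheory.Ideal.MinimalPrime.Basic

/-!
Auxiliary lemmas on substitutions for the node `A_1`.
-/

set_option autoImplicit false

universe u

namespace Groth.Agent.L13.ArSingNode

open scoped PowerSeries
open Groth.Agent.L13.ArSingBase Groth.Agent.L13.ArSingOdd

variable {k : Type u} [Field k]

lemma constantCoeff_map (F : k⟦X⟧ →ₐ[k] k⟦X⟧) (f : k⟦X⟧) :
    PowerSeries.constantCoeff (F f) = PowerSeries.constantCoeff f := by
  have h : (PowerSeries.X : k⟦X⟧) ^ 1 ∣ f - PowerSeries.C (PowerSeries.constantCoeff f) := by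
    rw [pow_one, PowerSeries.X_dvd_iff]; simp
  have := X_pow_dvd_map F h
  rw [pow_one, PowerSeries.X_dvd_iff, map_sub F,
    show F (PowerSeries.C (PowerSeries.constantCoeff f)) =
        PowerSeries.C (PowerSeries.constantCoeff f) by
      rw [PowerSeries.C_eq_algebraMap, AlgHom.commutes]] at this
  simpa [sub_eq_zero] using this

lemma X_dvd_sub_iff (P Q : k⟦X⟧) :
    PowerSeries.X ^ 1 ∣ P - Q ↔ PowerSeries.constantCoeff P = PowerSeries.constantCoeff Q := by
  rw [pow_one, PowerSeries.X_dvd_iff, map_sub, sub_eq_zero]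

lemma coeff_comp_neg_X (f : k⟦X⟧) (n : ℕ) :
    PowerSeries.coeff n (comp (-PowerSeries.X) (by simp) f) = (-1) ^ n * PowerSeries.coeff n f := by
  have : comp (-(PowerSeries.X : k⟦X⟧)) (by simp) f = PowerSeries.rescale (-1 : k) f := by
    rw [PowerSeries.rescale_eq_subst]
    simp [comp, PowerSeries.coe_substAlgHom]
  rw [this, PowerSeries.coeff_rescale]

lemma coeff_comp_X_sq (f : k⟦X⟧) (n : ℕ) :
    PowerSeries.coeff n (comp (PowerSeries.X ^ 2) (by simp) f) =
      if 2 ∣ n then PowerSeries.coeff (n / 2) f else 0 := by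
  simp [comp, PowerSeries.coe_substAlgHom, PowerSeries.coeff_subst_X_pow]

/-- A series fixed by `X ↦ -X` is a series in `X ^ 2`. -/
lemma exists_comp_X_sq (h2 : (2 : k) ≠ 0) {Q : k⟦X⟧}
    (h : comp (-PowerSeries.X) (by simp) Q = Q) :
    ∃ E, comp (PowerSeries.X ^ 2) (by simp) E = Q := by
  refine ⟨PowerSeries.mk fun i => PowerSeries.coeff (2 * i) Q, PowerSeries.ext fun n => ?_⟩
  rw [coeff_comp_X_sq]
  split_ifs with hn
  · simp [Nat.mul_div_cancel' hn]
  · have e := congrArg (PowerSeries.coeff n) h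
    rw [coeff_comp_neg_X, (Nat.odd_iff.mpr (by omega) : Odd n).neg_one_pow, neg_one_mul] at e
    have : (2 : k) * PowerSeries.coeff n Q = 0 := by linear_combination -e
    exact ((mul_eq_zero.mp this).resolve_left h2).symm

lemma comp_X_sq_injective : Function.Injective
    (comp (PowerSeries.X ^ 2 : k⟦X⟧) (by simp)) := by
  intro f g h
  ext n
  have := congrArg (PowerSeries.coeff (2 * n)) h
  simpa [coeff_comp_X_sq] using this

lemma comp_comp_X (a b : k⟦X⟧) (ha : PowerSeries.constantCoeff a = 0)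
    (hb : PowerSeries.constantCoeff b = 0) (f : k⟦X⟧) (c : k⟦X⟧)
    (hc : PowerSeries.constantCoeff c = 0) (h : comp b hb a = c) :
    comp b hb (comp a ha f) = comp c hc f := by
  refine AlgHom.congr_fun (algHom_ext (F := (comp b hb).comp (comp a ha)) ?_) f
  simpa [comp_X] using h

lemma comp_X_self (f : k⟦X⟧) : comp PowerSeries.X PowerSeries.constantCoeff_X f = f :=
  AlgHom.congr_fun (algHom_ext (G := AlgHom.id k _) (by simp [comp_X])) f

end Groth.Agent.L13.ArSingNode
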