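import Groth.Agent.L13.ArSingBase
import Groth.Agent.L13.ArSingNode
import Mathlib.RingTheory.LocalRing.Length
import Mathlib.RingTheory.RingHom.Flat
import Mathlib.RingTheory.PowerSeries.Expand

/-!
`A_r` is free with basis `1, y` over `k⟦X⟧`.
-/

set_option autoImplicit false

universe u v w

namespace Groth.Agent.L13.ArSingFree

open scoped PowerSeries
open Groth.Agent.L13.ArSingBase
open ArSing

variable {k : Type u} [Field k] {r : ℕ}

lemma xMap_eq_mk (f : k⟦X⟧) : ArSing.xMap k r f = Ideal.Quotient.mk _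
    (PowerSeries.subst (MvPowerSeries.X (0 : Fin 2) : MvPowerSeries (Fin 2) k) f) := by
  simp [ArSing.xMap, PowerSeries.coe_substAlgHom]

lemma coeff_subst_x (f : k⟦X⟧) (i j : ℕ) : MvPowerSeries.coeff (expo i j)
    (PowerSeries.subst (MvPowerSeries.X (0 : Fin 2)) f) = if j = 0 then PowerSeries.coeff i f else 0 := by
  rw [PowerSeries.coeff_subst_single, expo_zero]
  refine if_congr ⟨fun e => ?_, fun e => ?_⟩ rfl rfl
  · simpa [expo_one] using DFunLike.congr_fun e 1
  · subst e; simp [expo]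

lemma eq_zero_of_normal (a b : k⟦X⟧) (h : ArSing.xMap k r a + y k r * ArSing.xMap k r b = 0) :
    a = 0 ∧ b = 0 := by
  rw [xMap_eq_mk, xMap_eq_mk, ← map_mul, ← map_add, Ideal.Quotient.eq_zero_iff_mem, Ideal.mem_span_singleton] at h
  obtain ⟨q, hq⟩ := h
  have hc : ∀ i j, MvPowerSeries.coeff (expo i j)
      (PowerSeries.subst (MvPowerSeries.X (0 : Fin 2)) a + MvPowerSeries.X 1 *
        PowerSeries.subst (MvPowerSeries.X (0 : Fin 2)) b) =
      if j = 0 then PowerSeries.coeff i a else if j = 1 then PowerSeries.coeff i b else 0 := by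
    intro i j
    rw [map_add, coeff_subst_x, ← pow_one (MvPowerSeries.X (1 : Fin 2) : MvPowerSeries (Fin 2) k),
      coeff_X_pow_mul_expo, if_neg (show ¬ ((1 : Fin 2) = 0) by simp), coeff_subst_x]
    rcases j with _ | _ | j <;> simp
  have hq0 : ∀ i j, MvPowerSeries.coeff (expo i j) q = 0 := by
    intro i
    induction i using Nat.strong_induction_on with
    | _ i ih =>
      intro j
      have := hc i (j + 2)
      rw [hq, ArSing.eqn, sub_mul, map_sub, coeff_X_pow_mul_expo, coeff_X_pow_mul_expo,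
        if_neg (show ¬ ((1 : Fin 2) = 0) by simp), if_pos rfl, if_pos (Nat.le_add_left 2 j), Nat.add_sub_cancel,
        if_neg (show ¬ j + 2 = 0 by omega), if_neg (show ¬ j + 2 = 1 by omega)] at this
      by_cases hi : r + 1 ≤ i
      · rwa [if_pos hi, ih (i - (r + 1)) (by omega), sub_zero] at this
      · rwa [if_neg hi, sub_zero] at this
  have hz : q = 0 := MvPowerSeries.ext fun e => by rw [eq_expo e, hq0]; simp
  subst hz
  rw [mul_zero] at hq
  constructor <;> ext i
  · simpa [hq] using (hc i 0).symm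
  · simpa [hq] using (hc i 1).symm

variable (k r) in
/-- `(a, b) ↦ a(x) + y b(x)` -/
noncomputable def nf : (k⟦X⟧ × k⟦X⟧) →ₗ[k] ring k r :=
  (ArSing.xMap k r).toLinearMap.coprod ((LinearMap.mulLeft k (y k r)).comp (ArSing.xMap k r).toLinearMap)

lemma nf_apply (a b : k⟦X⟧) : nf k r (a, b) = ArSing.xMap k r a + y k r * ArSing.xMap k r b := rfl

lemma nf_bijective : Function.Bijective (nf k r) := by
  refine ⟨(injective_iff_map_eq_zero _).2 fun p hp => ?_, fun z => ?_⟩
  · obtain ⟨h1, h2⟩ := eq_zero_of_normal p.1 p.2 hp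
    exact Prod.ext h1 h2
  · obtain ⟨a, b, rfl⟩ := exists_normal_form z
    exact ⟨(a, b), rfl⟩

variable (k r) in
/-- coordinates -/
noncomputable def co : ring k r ≃ₗ[k] k⟦X⟧ × k⟦X⟧ :=
  (LinearEquiv.ofBijective (nf k r) nf_bijective).symm

lemma co_nf (p : k⟦X⟧ × k⟦X⟧) : co k r (nf k r p) = p :=
  (LinearEquiv.ofBijective (nf k r) nf_bijective).symm_apply_apply p

lemma nf_co (z : ring k r) : nf k r (co k r z) = z :=
  (LinearEquiv.ofBijective (nf k r) nf_bijective).apply_symm_apply z

lemma co_mul (z w : ring k r) :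
    co k r (z * w) =
      ((co k r z).1 * (co k r w).1 + PowerSeries.X ^ (r + 1) * ((co k r z).2 * (co k r w).2),
        (co k r z).1 * (co k r w).2 + (co k r z).2 * (co k r w).1) := by
  conv_lhs => rw [← nf_co z, ← nf_co w]
  obtain ⟨a, b⟩ := co k r z
  obtain ⟨c, d⟩ := co k r w
  have h : nf k r (a, b) * nf k r (c, d) =
      nf k r (a * c + PowerSeries.X ^ (r + 1) * (b * d), a * d + b * c) := by
    simp only [nf_apply, map_add, map_mul, map_pow, xMap_X]
    linear_combination (ArSing.xMap k r b * ArSing.xMap k r d) * y_sq (k := k) (r := r)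
  rw [h, co_nf]

lemma co_one : co k r 1 = (1, 0) := by
  rw [show (1 : ring k r) = nf k r (1, 0) by simp [nf_apply], co_nf]

lemma co_x : co k r (x k r) = (PowerSeries.X, 0) := by
  rw [show x k r = nf k r (PowerSeries.X, 0) by simp [nf_apply, xMap_X], co_nf]

lemma co_y : co k r (y k r) = (0, 1) := by
  rw [show y k r = nf k r (0, 1) by simp [nf_apply], co_nf]

lemma co_xMap (a : k⟦X⟧) : co k r (ArSing.xMap k r a) = (a, 0) := by
  rw [show ArSing.xMap k r a = nf k r (a, 0) by simp [nf_apply], co_nf]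

lemma co_x_mul (z : ring k r) :
    co k r (x k r * z) = (PowerSeries.X * (co k r z).1, PowerSeries.X * (co k r z).2) := by
  rw [co_mul, co_x]; simp

lemma co_y_mul (z : ring k r) :
    co k r (y k r * z) = (PowerSeries.X ^ (r + 1) * (co k r z).2, (co k r z).1) := by
  rw [co_mul, co_y]; simp

instance : Nontrivial (ring k r) :=
  ⟨1, 0, fun h => by simpa [co_one] using congrArg (co k r) h⟩

instance : IsLocalRing (ring k r) :=
  IsLocalRing.of_surjective' (Ideal.Quotient.mk _) Ideal.Quotient.mk_surjective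

lemma not_isUnit_x : ¬ IsUnit (x k r) := by
  rintro ⟨⟨_, w, hw, -⟩, rfl⟩
  have := congrArg (fun z => (co k r z).1) hw
  simp only [co_x_mul, co_one] at this
  simpa using congrArg PowerSeries.constantCoeff this

lemma not_isUnit_y : ¬ IsUnit (y k r) := by
  rintro ⟨⟨_, w, hw, -⟩, rfl⟩
  have := congrArg (fun z => (co k r z).1) hw
  simp only [co_y_mul, co_one] at this
  simpa using congrArg PowerSeries.constantCoeff this

lemma x_mem_nzd : x k r ∈ nonZeroDivisors (ring k r) := by
  rw [mem_nonZeroDivisors_iff_right]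
  intro z hz
  rw [mul_comm] at hz
  have := congrArg (co k r) hz
  simp only [co_x_mul, map_zero, Prod.mk_eq_zero, mul_eq_zero, PowerSeries.X_ne_zero, false_or] at this
  exact (co k r).map_eq_zero_iff.1 (Prod.ext this.1 this.2)

lemma y_mem_nzd : y k r ∈ nonZeroDivisors (ring k r) := by
  rw [mem_nonZeroDivisors_iff_right]
  intro z hz
  rw [mul_comm] at hz
  have := congrArg (co k r) hz
  simp only [co_y_mul, map_zero, Prod.mk_eq_zero, mul_eq_zero, pow_eq_zero_iff',
    PowerSeries.X_ne_zero, false_and, false_or] at this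
  exact (co k r).map_eq_zero_iff.1 (Prod.ext this.2 this.1)

/-- maps out of `k⟦X⟧` sending `X` to a multiple of `x` agree if they agree on `X` -/
lemma ext_X {F G : k⟦X⟧ →ₐ[k] ring k r} (h : F PowerSeries.X = G PowerSeries.X)
    (hx : x k r ∣ F PowerSeries.X) : F = G := by
  refine AlgHom.ext fun f => ?_
  have hn : ∀ n, x k r ^ n ∣ F f - G f := by
    intro n
    obtain ⟨g, hg⟩ := sub_trunc_dvd f n
    rw [sub_eq_iff_eq_add] at hg
    rw [hg, map_add, map_add, map_coe_polynomial, map_coe_polynomial, h, add_sub_add_right_eq_sub,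
      map_mul, map_mul, map_pow, map_pow, ← h, ← mul_sub]
    exact (pow_dvd_pow_of_dvd hx n).mul_right _
  have hx' : ∀ (n : ℕ) (w : ring k r), co k r (x k r ^ n * w) =
      (PowerSeries.X ^ n * (co k r w).1, PowerSeries.X ^ n * (co k r w).2) := by
    intro n
    induction n with
    | zero => simp
    | succ n ih => intro w; rw [pow_succ', mul_assoc, co_x_mul, ih, pow_succ']; simp [mul_assoc]
  rw [← sub_eq_zero, ← (co k r).map_eq_zero_iff]
  refine Prod.ext ?_ ?_ <;> refine eq_of_forall_dvd fun n => ?_ <;> obtain ⟨w, hw⟩ := hn n <;>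
    simp [hw, hx']

lemma map_xMap {B : Type w} [CommRing B] [Algebra k B] (F G : ring k r →ₐ[k] B) (a : k⟦X⟧)
    (h : F.comp (ArSing.xMap k r) = G.comp (ArSing.xMap k r)) :
    F (ArSing.xMap k r a) = G (ArSing.xMap k r a) := AlgHom.congr_fun h a

lemma residue_surjective :
    Function.Surjective (algebraMap k (IsLocalRing.ResidueField (ring k r))) := by
  intro c
  obtain ⟨z, rfl⟩ := IsLocalRing.residue_surjective c
  refine ⟨PowerSeries.constantCoeff (co k r z).1, ?_⟩
  rw [IsScalarTower.algebraMap_apply k (ring k r) (IsLocalRing.ResidueField (ring k r)),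
    IsLocalRing.ResidueField.algebraMap_eq, ← sub_eq_zero, ← map_sub, IsLocalRing.residue_eq_zero_iff]
  set c0 := PowerSeries.constantCoeff (co k r z).1
  have hX : (PowerSeries.X : k⟦X⟧) ∣ PowerSeries.C c0 - (co k r z).1 := by
    rw [PowerSeries.X_dvd_iff]; simp [c0]
  obtain ⟨g, hg⟩ := hX
  have : algebraMap k (ring k r) c0 - z = x k r * ArSing.xMap k r g - y k r * ArSing.xMap k r (co k r z).2 := by
    rw [← xMap_X, ← map_mul, ← hg, map_sub, PowerSeries.C_eq_algebraMap, AlgHom.commutes]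
    conv_lhs => rw [← nf_co z, nf_apply]
    ring
  rw [this]
  exact sub_mem (Ideal.mul_mem_right _ _ not_isUnit_x) (Ideal.mul_mem_right _ _ not_isUnit_y)

lemma length_quot {n : ℕ} (I : Ideal (ring k r)) (l : ring k r →ₗ[k] (Fin n → k))
    (hl : Function.Surjective l) (hker : ∀ z, l z = 0 ↔ z ∈ I) :
    Module.length (ring k r) (ring k r ⧸ I) = n := by
  have hk : LinearMap.ker l = I.restrictScalars k := Submodule.ext fun z => hker z
  have e : (ring k r ⧸ I) ≃ₗ[k] (Fin n → k) :=
    (Submodule.Quotient.restrictScalarsEquiv k I).symm.trans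
      ((Submodule.quotEquivOfEq _ _ hk.symm).trans (l.quotKerEquivOfSurjective hl))
  have h1 : Module.length k (ring k r ⧸ I) = n := by
    rw [e.length_eq, Module.length_eq_finrank, Module.finrank_fin_fun]
  have h2 : Module.length (IsLocalRing.ResidueField k) (IsLocalRing.ResidueField (ring k r)) = 1 := by
    rw [← Module.length_eq_of_surjective (S := k) (R := IsLocalRing.ResidueField k)
      (M := IsLocalRing.ResidueField (ring k r)) IsLocalRing.residue_surjective,
      Module.length_eq_of_surjective (S := k) (R := IsLocalRing.ResidueField (ring k r))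
        (M := IsLocalRing.ResidueField (ring k r)) residue_surjective]
    exact Module.length_eq_one _ _
  rw [IsLocalRing.length_restrictScalars k (ring k r) (ring k r ⧸ I), h2, mul_one] at h1
  exact h1

/-- free of rank two along `φ` gives flatness and preservation of proper ideals -/
lemma flat_of_basis {A : Type v} {B : Type w} [CommRing A] [CommRing B] (φ : A →+* B) (b : B)
    (h : Function.Bijective fun p : A × A => φ p.1 + b * φ p.2) :
    φ.Flat ∧ ∀ I : Ideal A, I ≠ ⊤ → I.map φ ≠ ⊤ := by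
  algebraize [φ]
  let e : (A × A) →ₗ[A] B :=
    (Algebra.linearMap A B).coprod ((LinearMap.mulLeft A b).comp (Algebra.linearMap A B))
  have he : ∀ p, e p = φ p.1 + b * φ p.2 := fun p => rfl
  let E : (A × A) ≃ₗ[A] B := LinearEquiv.ofBijective e h
  refine ⟨Module.Flat.of_linearEquiv E.symm, fun I hI htop => hI ?_⟩
  let J : Submodule A B := (Submodule.prod I I).map e
  have hmem : ∀ z ∈ I.map φ, z ∈ J := by
    intro z hz
    refine Submodule.span_induction ?_ J.zero_mem (fun _ _ _ _ ha hb => J.add_mem ha hb) ?_ hz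
    · rintro _ ⟨i, hi, rfl⟩
      exact ⟨(i, 0), ⟨hi, I.zero_mem⟩, by simp [he]⟩
    · rintro c _ _ ⟨⟨i, j⟩, ⟨hi, hj⟩, rfl⟩
      obtain ⟨⟨c0, c1⟩, hc⟩ := E.surjective c
      obtain ⟨⟨s0, s1⟩, hs⟩ := E.surjective (b * b)
      refine ⟨(c0 * i + s0 * (c1 * j), c0 * j + c1 * i + s1 * (c1 * j)), ⟨?_, ?_⟩, ?_⟩
      · exact I.add_mem (I.mul_mem_left _ hi) (I.mul_mem_left _ (I.mul_mem_left _ hj))
      · exact I.add_mem (I.add_mem (I.mul_mem_left _ hj) (I.mul_mem_left _ hi))
          (I.mul_mem_left _ (I.mul_mem_left _ hj))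
      · simp only [LinearEquiv.ofBijective_apply, E, he] at hc hs
        subst hc
        simp only [he, smul_eq_mul, map_add, map_mul]
        linear_combination (φ c1 * φ j) * hs
  obtain ⟨⟨i, j⟩, ⟨hi, -⟩, hij⟩ := hmem 1 (htop ▸ Submodule.mem_top)
  have : ((i, j) : A × A) = (1, 0) := h.1 (by simpa [he] using hij)
  rw [Ideal.eq_top_iff_one]
  simp only [Prod.mk.injEq] at this
  exact this.1 ▸ hi

/-- split a series into even and odd parts -/
noncomputable def sqS : k⟦X⟧ →ₐ[k] k⟦X⟧ := comp (PowerSeries.X ^ 2) (by simp)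

lemma coeff_sqS (f : k⟦X⟧) (n : ℕ) :
    PowerSeries.coeff n (sqS f) = if 2 ∣ n then PowerSeries.coeff (n / 2) f else 0 := by
  have : sqS f = PowerSeries.expand 2 two_ne_zero f := by
    refine AlgHom.congr_fun (algHom_ext ?_) f
    simp [sqS, comp_X, PowerSeries.expand_X]
  rw [this, PowerSeries.coeff_expand]

lemma sqS_X : sqS (PowerSeries.X : k⟦X⟧) = PowerSeries.X ^ 2 := comp_X _ _

lemma coeff_X_mul_sqS (g : k⟦X⟧) (n : ℕ) :
    PowerSeries.coeff n (PowerSeries.X * sqS g) = if 2 ∣ n then 0 else PowerSeries.coeff (n / 2) g := by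
  rcases n with _ | n
  · simp
  · rw [PowerSeries.coeff_succ_X_mul, coeff_sqS]
    by_cases h : 2 ∣ n
    · rw [if_pos h, if_neg (by omega), show (n + 1) / 2 = n / 2 by omega]
    · rw [if_neg h, if_pos (by omega)]

lemma sq_split_bijective :
    Function.Bijective fun p : k⟦X⟧ × k⟦X⟧ => sqS p.1 + PowerSeries.X * sqS p.2 := by
  constructor
  · intro p q h
    refine Prod.ext (PowerSeries.ext fun n => ?_) (PowerSeries.ext fun n => ?_)
    · have := congrArg (PowerSeries.coeff (2 * n)) h
      simpa [coeff_sqS, coeff_X_mul_sqS] using this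
    · have := congrArg (PowerSeries.coeff (2 * n + 1)) h
      simpa [coeff_sqS, coeff_X_mul_sqS, show (2 * n + 1) / 2 = n by omega] using this
  · intro f
    refine ⟨(PowerSeries.mk fun n => PowerSeries.coeff (2 * n) f,
      PowerSeries.mk fun n => PowerSeries.coeff (2 * n + 1) f), PowerSeries.ext fun n => ?_⟩
    simp only [map_add, coeff_sqS, coeff_X_mul_sqS, PowerSeries.coeff_mk]
    by_cases h : 2 ∣ n
    · rw [if_pos h, if_pos h, add_zero, show 2 * (n / 2) = n by omega]
    · rw [if_neg h, if_neg h, zero_add, show 2 * (n / 2) + 1 = n by omega]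

/-- `f ↦ f(-X)` -/
noncomputable def ng : k⟦X⟧ →ₐ[k] k⟦X⟧ := comp (-PowerSeries.X) (by simp)

lemma ng_sqS (f : k⟦X⟧) : ng (sqS f) = sqS f := by
  refine AlgHom.congr_fun (algHom_ext (F := ng.comp sqS) (G := sqS) ?_) f
  simp [ng, sqS_X, comp_X]

lemma ng_eq_self_iff (h2 : (2 : k) ≠ 0) (f : k⟦X⟧) : ng f = f ↔ f ∈ Set.range (sqS (k := k)) := by
  refine ⟨fun h => ?_, by rintro ⟨g, rfl⟩; exact ng_sqS g⟩
  obtain ⟨⟨a, b⟩, rfl⟩ := sq_split_bijective.2 f
  simp only [map_add, map_mul, ng_sqS] at h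
  rw [show ng (PowerSeries.X : k⟦X⟧) = -PowerSeries.X from comp_X _ _] at h
  have hb : (2 : k⟦X⟧) * (PowerSeries.X * sqS b) = 0 := by linear_combination -h
  have : PowerSeries.X * sqS b = 0 :=
    (mul_eq_zero.1 hb).resolve_left (Groth.Agent.L13.ArSingOdd.two_ne h2)
  exact ⟨a, by simp [this]⟩

lemma ng_eq_neg_iff (h2 : (2 : k) ≠ 0) (f : k⟦X⟧) :
    ng f = -f ↔ ∃ g, f = PowerSeries.X * sqS g := by
  refine ⟨fun h => ?_, by
    rintro ⟨g, rfl⟩
    rw [map_mul, ng_sqS, show ng (PowerSeries.X : k⟦X⟧) = -PowerSeries.X from comp_X _ _, neg_mul]⟩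
  obtain ⟨⟨a, b⟩, rfl⟩ := sq_split_bijective.2 f
  simp only [map_add, map_mul, ng_sqS] at h
  rw [show ng (PowerSeries.X : k⟦X⟧) = -PowerSeries.X from comp_X _ _] at h
  have ha : (2 : k⟦X⟧) * sqS a = 0 := by linear_combination h
  exact ⟨b, by simp [(mul_eq_zero.1 ha).resolve_left (Groth.Agent.L13.ArSingOdd.two_ne h2)]⟩

end Groth.Agent.L13.ArSingFree
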