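import Groth.Agent.L13.ArSingBase

/-!
`A_r` for `r + 1 = 2 m` as pairs of series in one variable congruent modulo `X ^ m`.
-/

set_option autoImplicit false

universe u

namespace Groth.Agent.L13.ArSingOdd

open scoped PowerSeries
open Groth.Agent.L13.ArSingBase

variable {k : Type u} [Field k] {r m : ℕ}

lemma two_inv (h2 : (2 : k) ≠ 0) (P : k⟦X⟧) : PowerSeries.C (2⁻¹ : k) * (2 * P) = P := by
  have : (2 : k⟦X⟧) = PowerSeries.C (2 : k) := (map_ofNat _ 2).symm
  rw [this, ← mul_assoc, ← map_mul, inv_mul_cancel₀ h2, map_one, one_mul]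

lemma two_ne (h2 : (2 : k) ≠ 0) : (2 : k⟦X⟧) ≠ 0 := by
  intro e
  have := congrArg PowerSeries.constantCoeff e
  simp at this
  exact h2 this

lemma constantCoeff_X_pow (hm : 0 < m) :
    PowerSeries.constantCoeff ((PowerSeries.X : k⟦X⟧) ^ m) = 0 := by
  rw [map_pow, PowerSeries.constantCoeff_X, zero_pow hm.ne']

/-- The first branch. -/
noncomputable def p₁ (hm : 0 < m) (hr : r + 1 = 2 * m) : ArSing.ring k r →ₐ[k] k⟦X⟧ :=
  branch PowerSeries.X (PowerSeries.X ^ m) PowerSeries.constantCoeff_X (constantCoeff_X_pow hm)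
    (by rw [← pow_mul, hr, mul_comm])

/-- The second branch. -/
noncomputable def p₂ (hm : 0 < m) (hr : r + 1 = 2 * m) : ArSing.ring k r →ₐ[k] k⟦X⟧ :=
  branch PowerSeries.X (-PowerSeries.X ^ m) PowerSeries.constantCoeff_X
    (by rw [map_neg, constantCoeff_X_pow hm, neg_zero])
    (by rw [neg_sq, ← pow_mul, hr, mul_comm])

variable (hm : 0 < m) (hr : r + 1 = 2 * m)

lemma p₁_x : p₁ (k := k) hm hr (ArSing.x k r) = PowerSeries.X := branch_x _ _ _ _ _

lemma p₁_y : p₁ (k := k) hm hr (ArSing.y k r) = PowerSeries.X ^ m := branch_y _ _ _ _ _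

lemma p₂_x : p₂ (k := k) hm hr (ArSing.x k r) = PowerSeries.X := branch_x _ _ _ _ _

lemma p₂_y : p₂ (k := k) hm hr (ArSing.y k r) = -PowerSeries.X ^ m := branch_y _ _ _ _ _

lemma map_xMap {F : ArSing.ring k r →ₐ[k] k⟦X⟧} (hF : F (ArSing.x k r) = PowerSeries.X)
    (f : k⟦X⟧) : F (ArSing.xMap k r f) = f := by
  have : F.comp (ArSing.xMap k r) = AlgHom.id k _ := algHom_ext (by simp [xMap_X, hF])
  exact AlgHom.congr_fun this f

/-- The two branches together are injective. -/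
lemma eq_of_branches (h2 : (2 : k) ≠ 0) {z w : ArSing.ring k r}
    (h₁ : p₁ hm hr z = p₁ hm hr w) (h₂ : p₂ hm hr z = p₂ hm hr w) : z = w := by
  rw [← sub_eq_zero]
  obtain ⟨a, b, e⟩ := exists_normal_form (z - w)
  have e₁ : a + PowerSeries.X ^ m * b = 0 := by
    have := congrArg (p₁ hm hr) e
    rw [map_sub, h₁, sub_self, map_add, map_mul, map_xMap (p₁_x hm hr), map_xMap (p₁_x hm hr),
      p₁_y] at this
    exact this.symm
  have e₂ : a - PowerSeries.X ^ m * b = 0 := by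
    have := congrArg (p₂ hm hr) e
    rw [map_sub, h₂, sub_self, map_add, map_mul, map_xMap (p₂_x hm hr), map_xMap (p₂_x hm hr),
      p₂_y, neg_mul, ← sub_eq_add_neg] at this
    exact this.symm
  have hb : (2 : k⟦X⟧) * (PowerSeries.X ^ m * b) = 0 := by linear_combination e₁ - e₂
  have hb' : b = 0 := by
    rcases mul_eq_zero.mp hb with h | h
    · exact absurd h (two_ne h2)
    · exact (mul_eq_zero.mp h).resolve_left (pow_ne_zero _ PowerSeries.X_ne_zero)
  subst hb'
  have ha : a = 0 := by simpa using e₁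
  simp [e, ha]

/-- A pair of series is in the image iff it is congruent modulo `X ^ m`. -/
lemma exists_eq_iff (h2 : (2 : k) ≠ 0) (P Q : k⟦X⟧) :
    (∃ z, p₁ hm hr z = P ∧ p₂ hm hr z = Q) ↔ PowerSeries.X ^ m ∣ P - Q := by
  constructor
  · rintro ⟨z, rfl, rfl⟩
    obtain ⟨a, b, rfl⟩ := exists_normal_form z
    refine ⟨2 * b, ?_⟩
    simp only [map_add, map_mul, map_xMap (p₁_x hm hr), map_xMap (p₂_x hm hr), p₁_y, p₂_y]
    ring
  · rintro ⟨D, hD⟩
    refine ⟨ArSing.xMap k r (PowerSeries.C (2⁻¹ : k) * (P + Q)) +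
      ArSing.y k r * ArSing.xMap k r (PowerSeries.C (2⁻¹ : k) * D), ?_, ?_⟩
    · simp only [map_add, map_mul, map_xMap (p₁_x hm hr), p₁_y]
      linear_combination -PowerSeries.C (2⁻¹ : k) * hD + two_inv h2 P
    · simp only [map_add, map_mul, map_xMap (p₂_x hm hr), p₂_y]
      linear_combination PowerSeries.C (2⁻¹ : k) * hD + two_inv h2 Q

lemma branches_congr (h2 : (2 : k) ≠ 0) (z : ArSing.ring k r) :
    PowerSeries.X ^ m ∣ p₁ hm hr z - p₂ hm hr z :=
  (exists_eq_iff hm hr h2 _ _).mp ⟨z, rfl, rfl⟩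

/-- Any map `A_r → k⟦X⟧` factors through one of the branches. -/
lemma factor (F : ArSing.ring k r →ₐ[k] k⟦X⟧) :
    F = (comp (F (ArSing.x k r)) (constantCoeff_map_x F)).comp (p₁ hm hr) ∨
    F = (comp (F (ArSing.x k r)) (constantCoeff_map_x F)).comp (p₂ hm hr) := by
  have h : F (ArSing.y k r) ^ 2 = (F (ArSing.x k r) ^ m) ^ 2 := by
    rw [← map_pow, y_sq, map_pow, hr, ← pow_mul, mul_comm]
  rcases eq_or_eq_neg_of_sq_eq_sq _ _ h with h | h
  · left
    refine ring_hom_ext ?_ ?_ <;> simp [p₁_x, p₁_y, comp_X, h]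
  · right
    refine ring_hom_ext ?_ ?_ <;> simp [p₂_x, p₂_y, comp_X, h]

/-- A pair of congruent substitutions gives an endomorphism. -/
lemma exists_endo (h2 : (2 : k) ≠ 0) (F G : ArSing.ring k r →ₐ[k] k⟦X⟧)
    (h : ∀ z, PowerSeries.X ^ m ∣ F z - G z) :
    ∃ φ : ArSing.ring k r →ₐ[k] ArSing.ring k r,
      ∀ z, p₁ hm hr (φ z) = F z ∧ p₂ hm hr (φ z) = G z := by
  have hex := fun z => (exists_eq_iff hm hr h2 (F z) (G z)).mpr (h z)
  choose φ h₁ h₂ using hex
  refine ⟨{ toFun := φ, map_one' := ?_, map_mul' := ?_, map_zero' := ?_, map_add' := ?_,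
            commutes' := ?_ }, fun z => ⟨h₁ z, h₂ z⟩⟩
  all_goals intros
  all_goals apply eq_of_branches hm hr h2
  all_goals simp [h₁, h₂]

/-- Two substitutions with non-zero linear terms, congruent modulo `X ^ m`, give an
automorphism. -/
lemma exists_aut (h2 : (2 : k) ≠ 0) (a b : k⟦X⟧) (ha : PowerSeries.constantCoeff a = 0)
    (hb : PowerSeries.constantCoeff b = 0) (ha1 : PowerSeries.coeff 1 a ≠ 0)
    (hb1 : PowerSeries.coeff 1 b ≠ 0) (h : PowerSeries.X ^ m ∣ a - b) :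
    ∃ φ : ArSing.ring k r ≃ₐ[k] ArSing.ring k r,
      ∀ z, p₁ hm hr (φ z) = comp a ha (p₁ hm hr z) ∧
        p₂ hm hr (φ z) = comp b hb (p₂ hm hr z) := by
  have key : ∀ (a b : k⟦X⟧) (ha : PowerSeries.constantCoeff a = 0)
      (hb : PowerSeries.constantCoeff b = 0), PowerSeries.X ^ m ∣ a - b →
      ∀ z, PowerSeries.X ^ m ∣
        ((comp a ha).comp (p₁ hm hr)) z - ((comp b hb).comp (p₂ hm hr)) z := by
    intro a b ha hb h z
    have e₁ : PowerSeries.X ^ m ∣ comp a ha (p₁ hm hr z) - comp b hb (p₁ hm hr z) :=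
      dvd_map_sub_map (by simpa [comp_X] using h) _
    have e₂ : PowerSeries.X ^ m ∣ comp b hb (p₁ hm hr z) - comp b hb (p₂ hm hr z) := by
      rw [← map_sub]
      exact X_pow_dvd_map _ (branches_congr hm hr h2 z)
    simpa using dvd_add e₁ e₂
  obtain ⟨a', ha', -, ea, ea'⟩ := exists_comp_inverse a ha ha1
  obtain ⟨b', hb', -, eb, eb'⟩ := exists_comp_inverse b hb hb1
  have h' : PowerSeries.X ^ m ∣ a' - b' := by
    have e1 : PowerSeries.X ^ m ∣ comp b hb a' - comp a ha a' :=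
      dvd_map_sub_map (by simpa [comp_X] using dvd_sub_comm.mp h) _
    rw [ea] at e1
    have e2 := X_pow_dvd_map (comp b' hb') e1
    have hid : (comp b' hb').comp (comp b hb) = AlgHom.id k _ :=
      algHom_ext (by simp [comp_X, eb'])
    rw [map_sub, comp_X, show comp b' hb' (comp b hb a') = a' from AlgHom.congr_fun hid a'] at e2
    exact e2
  obtain ⟨φ, hφ⟩ := exists_endo hm hr h2 _ _ (key a b ha hb h)
  obtain ⟨ψ, hψ⟩ := exists_endo hm hr h2 _ _ (key a' b' ha' hb' h')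
  have c1 : (comp a ha).comp (comp a' ha') = AlgHom.id k _ := algHom_ext (by simp [comp_X, ea])
  have c2 : (comp a' ha').comp (comp a ha) = AlgHom.id k _ := algHom_ext (by simp [comp_X, ea'])
  have c3 : (comp b hb).comp (comp b' hb') = AlgHom.id k _ := algHom_ext (by simp [comp_X, eb])
  have c4 : (comp b' hb').comp (comp b hb) = AlgHom.id k _ := algHom_ext (by simp [comp_X, eb'])
  refine ⟨AlgEquiv.ofAlgHom φ ψ ?_ ?_, fun z => hφ z⟩ <;> apply AlgHom.ext <;> intro z <;>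
    apply eq_of_branches hm hr h2
  · simp only [AlgHom.comp_apply, (hφ _).1, (hψ _).1, AlgHom.id_apply]
    simpa using AlgHom.congr_fun c1 (p₁ hm hr z)
  · simp only [AlgHom.comp_apply, (hφ _).2, (hψ _).2, AlgHom.id_apply]
    simpa using AlgHom.congr_fun c3 (p₂ hm hr z)
  · simp only [AlgHom.comp_apply, (hψ _).1, (hφ _).1, AlgHom.id_apply]
    simpa using AlgHom.congr_fun c2 (p₁ hm hr z)
  · simp only [AlgHom.comp_apply, (hψ _).2, (hφ _).2, AlgHom.id_apply]
    simpa using AlgHom.congr_fun c4 (p₂ hm hr z)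

end Groth.Agent.L13.ArSingOdd
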