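import Mathlib.AlgebraicGeometry.Morphisms.Finite
import Mathlib.AlgebraicGeometry.Morphisms.Flat
import Mathlib.RingTheory.Ideal.AssociatedPrime.Localization
import Mathlib.RingTheory.Flat.EquationalCriterion
import Mathlib.AlgebraicGeometry.Noetherian

/-!
# Morphisms between finite flat schemes are determined on an open containing the associated points
-/

set_option autoImplicit false
set_option backward.isDefEq.respectTransparency false
universe u

open CategoryTheory AlgebraicGeometry TopologicalSpace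

noncomputable section

namespace Groth.L13.AssDense

theorem eq_zero_of_projective {R A : Type u} [CommRing R] [IsNoetherianRing R] [AddCommGroup A] [Module R A]
    [Module.Projective R A] (x : A)
    (h : ∀ p ∈ associatedPrimes R R, ∃ g ∉ p, ∃ n : ℕ, g ^ n • x = 0) : x = 0 := by
  obtain ⟨s, hs⟩ := Module.projective_def'.1 (inferInstance : Module.Projective R A)
  have h1 : s x = 0 := by
    ext i
    by_contra hne
    obtain ⟨p, hp, hle⟩ := exists_le_isAssociatedPrime_of_isNoetherianRing R (s x i) hne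
    obtain ⟨g, hg, n, hn⟩ := h p hp
    refine hg (hp.isPrime.mem_of_pow_mem n (hle ?_))
    have := congrArg (fun v => v i) (congrArg s hn)
    simpa [Submodule.mem_colon_singleton] using this
  have := congrArg (fun l : A →ₗ[R] A => l x) hs
  simpa [h1] using this.symm

theorem eq_of_eqOn {S G₁ G₂ : Scheme.{u}} [AlgebraicGeometry.IsNoetherian S] (f₁ : G₁ ⟶ S) (f₂ : G₂ ⟶ S)
    [IsFinite f₁] [Flat f₁] [IsAffineHom f₂] (U : S.Opens)
    (hU : ∀ s : S, IsLocalRing.maximalIdeal (S.presheaf.stalk s) ∈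
        associatedPrimes (S.presheaf.stalk s) (S.presheaf.stalk s) → s ∈ U)
    (φ ψ : G₁ ⟶ G₂) (hφ : φ ≫ f₂ = f₁) (hψ : ψ ≫ f₂ = f₁)
    (h : (f₁ ⁻¹ᵁ U).ι ≫ φ = (f₁ ⁻¹ᵁ U).ι ≫ ψ) : φ = ψ := by
  refine (G₁.openCoverOfIsOpenCover (fun V : S.affineOpens => f₁ ⁻¹ᵁ V.1) (TopologicalSpace.IsOpenCover.mk
    (top_le_iff.1 fun z _ => ?_))).hom_ext _ _ fun V => ?_
  · obtain ⟨V, hV, hzV, -⟩ := exists_isAffineOpen_mem_and_subset (x := f₁ z) (U := (⊤ : S.Opens)) trivial
    exact Opens.mem_iSup.2 ⟨⟨V, hV⟩, hzV⟩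
  obtain ⟨V, hV⟩ := V
  have eφ : f₁ ⁻¹ᵁ V ≤ φ ⁻¹ᵁ (f₂ ⁻¹ᵁ V) := by rw [← Scheme.Hom.comp_preimage, hφ]
  have eψ : f₁ ⁻¹ᵁ V ≤ ψ ⁻¹ᵁ (f₂ ⁻¹ᵁ V) := by rw [← Scheme.Hom.comp_preimage, hψ]
  show (f₁ ⁻¹ᵁ V).ι ≫ φ = (f₁ ⁻¹ᵁ V).ι ≫ ψ
  rw [← φ.resLE_comp_ι eφ, ← ψ.resLE_comp_ι eψ]
  congr 1
  haveI : IsAffine (f₂ ⁻¹ᵁ V).toScheme := hV.preimage f₂
  refine ext_of_isAffine ?_
  show (φ.resLE _ _ eφ).app ⊤ = (ψ.resLE _ _ eψ).app ⊤
  rw [Scheme.Hom.resLE_app_top, Scheme.Hom.resLE_app_top]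
  congr 2
  refine CommRingCat.hom_ext (RingHom.ext fun b => sub_eq_zero.1 ?_)
  set x := (φ.appLE _ _ eφ).hom b - (ψ.appLE _ _ eψ).hom b with hxdef
  let R := Γ(S, V)
  let A := Γ(G₁, f₁ ⁻¹ᵁ V)
  letI : Algebra R A := (f₁.app V).hom.toAlgebra
  haveI : IsNoetherianRing R := IsLocallyNoetherian.component_noetherian ⟨V, hV⟩
  haveI : Module.Finite R A := IsFinite.finite_app f₁ V hV
  haveI : Module.Flat R A := by
    have := f₁.flat_appLE hV (hV.preimage f₁) le_rfl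
    rwa [← Scheme.Hom.app_eq_appLE] at this
  haveI : Module.FinitePresentation R A := Module.finitePresentation_of_finite R A
  haveI : Module.Projective R A := Module.Flat.projective_of_finitePresentation
  refine eq_zero_of_projective (R := R) x fun p hp => ?_
  haveI := hp.isPrime
  let s : S := hV.fromSpec ⟨p, hp.isPrime⟩
  have hsV : s ∈ V := hV.range_fromSpec.le ⟨_, rfl⟩
  have hps : hV.primeIdealOf ⟨s, hsV⟩ = ⟨p, hp.isPrime⟩ :=
    hV.fromSpec.isOpenEmbedding.injective ((hV.fromSpec_primeIdealOf ⟨s, hsV⟩).trans rfl)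
  have hsU : s ∈ U := by
    refine hU s ?_
    letI := S.presheaf.algebra_section_stalk (U := V) ⟨s, hsV⟩
    haveI : IsLocalization.AtPrime (S.presheaf.stalk s) (hV.primeIdealOf ⟨s, hsV⟩).asIdeal :=
      hV.isLocalization_stalk ⟨s, hsV⟩
    haveI hloc : IsLocalization.AtPrime (S.presheaf.stalk s) p := by
      have : (hV.primeIdealOf ⟨s, hsV⟩).asIdeal = p := congrArg (·.asIdeal) hps
      simp only [this] at *
      infer_instance
    haveI : IsLocalizedModule p.primeCompl (Algebra.linearMap R (S.presheaf.stalk s)) :=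
      (isLocalizedModule_iff_isLocalization' p.primeCompl _).2 hloc
    refine Module.associatedPrimes.mem_associatedPrimes_of_comap_mem_associatedPrimes_of_isLocalizedModule
      p.primeCompl (Algebra.linearMap R (S.presheaf.stalk s)) _ ?_
    have hcm : (IsLocalRing.maximalIdeal (S.presheaf.stalk s)).comap (algebraMap R (S.presheaf.stalk s)) = p :=
      IsLocalization.AtPrime.comap_maximalIdeal (S.presheaf.stalk s) p
    rw [hcm]
    exact hp
  obtain ⟨g, hgle, hg⟩ := hV.exists_basicOpen_le (V := U) ⟨s, hsU⟩ hsV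
  refine ⟨g, fun hgp => ?_, ?_⟩
  · have h1 := hV.fromSpec_preimage_basicOpen g
    have : (⟨p, hp.isPrime⟩ : Spec R) ∈ PrimeSpectrum.basicOpen g := by
      rw [← h1]; exact hg
    exact this hgp
  · let g' : A := (f₁.app V).hom g
    have hD : G₁.basicOpen g' = f₁ ⁻¹ᵁ S.basicOpen g := (Scheme.preimage_basicOpen f₁ g).symm
    have hDU : G₁.basicOpen g' ≤ f₁ ⁻¹ᵁ U := hD.le.trans fun z hz => hgle hz
    let j := G₁.homOfLE hDU
    have hres : (G₁.presheaf.map (homOfLE (G₁.basicOpen_le g')).op).hom x = 0 := by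
      have e1 : (G₁.basicOpen g').ι ≫ φ = (G₁.basicOpen g').ι ≫ ψ := by
        rw [← G₁.homOfLE_ι hDU, Category.assoc, Category.assoc, h]
      have e2 : ∀ (χ : G₁ ⟶ G₂) (e : f₁ ⁻¹ᵁ V ≤ χ ⁻¹ᵁ (f₂ ⁻¹ᵁ V)),
          (G₁.presheaf.map (homOfLE (G₁.basicOpen_le g')).op).hom ((χ.appLE _ _ e).hom b) =
            (G₁.basicOpen g').topIso.hom
              ((((G₁.basicOpen g').ι ≫ χ).appLE (f₂ ⁻¹ᵁ V) ⊤ (fun z _ => e (G₁.basicOpen_le g' z.2))).hom b) := by
        intro χ e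
        rw [← CommRingCat.comp_apply, ← CommRingCat.comp_apply]
        refine DFunLike.congr_fun (congrArg (fun m : Γ(G₂, f₂ ⁻¹ᵁ V) ⟶ Γ(G₁, G₁.basicOpen g') => m.hom) ?_) b
        rw [Scheme.Hom.comp_appLE, Scheme.Hom.appLE_map, Scheme.Hom.appLE, Scheme.Hom.appLE, Scheme.Opens.ι_app,
          Category.assoc]
        simp only [Scheme.Opens.topIso_hom, ← Functor.map_comp, Category.assoc, Scheme.Opens.toScheme_presheaf_map]
        exact congrArg (χ.app (f₂ ⁻¹ᵁ V) ≫ G₁.presheaf.map ·) (Subsingleton.elim _ _)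
      rw [hxdef, map_sub, e2 φ eφ, e2 ψ eψ]
      simp only [e1, sub_self]
    haveI := (hV.preimage f₁).isLocalization_basicOpen g'
    obtain ⟨⟨_, n, rfl⟩, hn⟩ :=
      (IsLocalization.map_eq_zero_iff (Submonoid.powers g') Γ(G₁, G₁.basicOpen g') x).1 hres
    exact ⟨n, by rw [Algebra.smul_def, map_pow]; exact hn⟩

end Groth.L13.AssDense
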