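import Mathlib.Algebra.Azumaya.Defs
import Mathlib.RingTheory.Idempotents
import Mathlib.RingTheory.Ideal.IdempotentFG
import Mathlib.RingTheory.Spectrum.Prime.Topology
import Mathlib.RingTheory.Spectrum.Prime.FreeLocus
import Mathlib.RingTheory.Finiteness.Projective
import Mathlib.RingTheory.TensorProduct.Maps
import Mathlib.LinearAlgebra.Contraction
import Mathlib.Algebra.Module.Projective

/-!
Corners `e A e` of Azumaya algebras at idempotents, and the Brauer equivalence `A ~ e A e`.
-/

set_option autoImplicit false

universe u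

open scoped TensorProduct
open MulOpposite

namespace Groth.Agent.L13.AzumayaCorner

variable {R : Type u} [CommRing R]

section Faithful

variable [ConnectedSpace (PrimeSpectrum R)]

lemma eq_zero_or_one_of_isIdempotentElem {ε : R} (hε : IsIdempotentElem ε) : ε = 0 ∨ ε = 1 := by
  have hclopen : ∀ δ : R, IsIdempotentElem δ → IsClopen (PrimeSpectrum.basicOpen δ : Set (PrimeSpectrum R)) :=
    fun δ hδ => ⟨by
      rw [PrimeSpectrum.basicOpen_eq_zeroLocus_of_isIdempotentElem δ hδ]
      exact PrimeSpectrum.isClosed_zeroLocus _, PrimeSpectrum.isOpen_basicOpen⟩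
  have key : ∀ δ : R, IsIdempotentElem δ → (PrimeSpectrum.basicOpen δ : Set (PrimeSpectrum R)) = ∅ → δ = 0 := by
    intro δ hδ h
    have h3 : PrimeSpectrum.basicOpen δ = ⊥ := SetLike.coe_injective h
    rw [PrimeSpectrum.basicOpen_eq_bot_iff] at h3
    exact h3.eq_zero_of_isIdempotentElem hδ
  rcases isClopen_iff.1 (hclopen ε hε) with h | h
  · exact Or.inl (key ε hε h)
  · refine Or.inr (sub_eq_zero.mp (key (1 - ε) hε.one_sub ?_)).symm
    rw [PrimeSpectrum.basicOpen_eq_zeroLocus_of_isIdempotentElem _ hε.one_sub, sub_sub_cancel]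
    rw [← compl_compl (PrimeSpectrum.zeroLocus _), ← PrimeSpectrum.basicOpen_eq_zeroLocus_compl, h, Set.compl_univ]

/-- A nonzero finite projective module over a connected ring is faithful. -/
theorem faithfulSMul_of_nontrivial (M : Type u) [AddCommGroup M] [Module R M] [Module.Finite R M]
    [Module.Projective R M] [Nontrivial M] : FaithfulSMul R M := by
  obtain ⟨n, f, g, -, -, hfg⟩ := Module.Finite.exists_comp_eq_id_of_projective R M
  let I : Ideal R := ⨆ i : Fin n, LinearMap.range ((LinearMap.proj i).comp g)
  have hI : ∀ m i, g m i ∈ I := fun m i =>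
    le_iSup (fun i : Fin n => LinearMap.range ((LinearMap.proj i).comp g)) i ⟨m, rfl⟩
  have hfg' : ∀ m, f (g m) = m := fun m => LinearMap.congr_fun hfg m
  have hfgI : I.FG := Submodule.fg_iSup _ fun i => by
    rw [LinearMap.range_eq_map]
    exact Module.Finite.fg_top.map _
  have hsum : ∀ m, m = ∑ j, g m j • f (Pi.single j 1) := fun m => by
    conv_lhs => rw [← hfg' m, pi_eq_sum_univ' (g m), map_sum]
    simp only [map_smul]
  have hidem : IsIdempotentElem I := by
    refine le_antisymm Ideal.mul_le_left (iSup_le fun i => ?_)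
    rintro _ ⟨m, rfl⟩
    change g m i ∈ I * I
    conv => arg 2; rw [hsum m]
    rw [map_sum, Finset.sum_apply]
    exact Ideal.sum_mem _ fun j _ => by
      rw [map_smul]
      exact Ideal.mul_mem_mul (hI m j) (hI _ i)
  obtain ⟨ε, hε, hIε⟩ := (Ideal.isIdempotentElem_iff_of_fg I hfgI).1 hidem
  rcases eq_zero_or_one_of_isIdempotentElem hε with rfl | rfl
  · exfalso
    obtain ⟨m, hm⟩ := exists_ne (0 : M)
    refine hm ?_
    rw [← hfg' m, show g m = 0 from funext fun i => by
      have := hI m i
      rw [hIε] at this
      simpa using this, map_zero]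
  · refine ⟨fun {r s} h => ?_⟩
    have h1 : I ≤ (Submodule.span R ({r - s} : Set R)).annihilator := iSup_le fun i => by
      rintro _ ⟨m, rfl⟩
      rw [Submodule.mem_annihilator_span_singleton]
      change g m i • (r - s) = 0
      rw [smul_eq_mul, mul_comm, sub_mul, sub_eq_zero]
      simpa using congrArg (fun x => g x i) (h m)
    have h2 : (1 : R) ∈ (Submodule.span R ({r - s} : Set R)).annihilator :=
      h1 (by rw [hIε]; exact Submodule.mem_span_singleton_self _)
    rw [Submodule.mem_annihilator_span_singleton, one_smul, sub_eq_zero] at h2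
    exact h2

lemma rankAtStalk_pos_of_nontrivial (M : Type u) [AddCommGroup M] [Module R M] [Module.Finite R M]
    [Module.Projective R M] [Nontrivial M] (p : PrimeSpectrum R) : 0 < Module.rankAtStalk (R := R) M p := by
  haveI := Module.finitePresentation_of_projective R M
  by_contra hp
  have h0 : Module.rankAtStalk (R := R) M = 0 := funext fun q => by
    rw [Module.isLocallyConstant_rankAtStalk.apply_eq_of_preconnectedSpace q p]
    exact Nat.eq_zero_of_not_pos hp
  exact not_subsingleton M (Module.rankAtStalk_eq_zero_iff_subsingleton.mp h0)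

end Faithful

/-- tensor products of faithful projective modules are faithful -/
theorem faithfulSMul_tensor (P P' : Type u) [AddCommGroup P] [Module R P] [Module.Finite R P]
    [Module.Projective R P] [FaithfulSMul R P] [AddCommGroup P'] [Module R P'] [FaithfulSMul R P'] :
    FaithfulSMul R (P ⊗[R] P') := by
  refine ⟨fun {r s} h => ?_⟩
  obtain ⟨n, f, g, -, -, hfg⟩ := Module.Finite.exists_comp_eq_id_of_projective R P
  refine FaithfulSMul.eq_of_smul_eq_smul (α := P) fun x => ?_
  have hg : g (r • x) = g (s • x) := by
    funext i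
    refine FaithfulSMul.eq_of_smul_eq_smul (α := P') fun y => ?_
    have := congrArg (fun z => TensorProduct.lid R P' (TensorProduct.map ((LinearMap.proj i).comp g) LinearMap.id z)) (h (x ⊗ₜ[R] y))
    simpa [smul_smul] using this
  simpa [← LinearMap.comp_apply f g, hfg] using congrArg f hg

/-- `End P ⊗ End P' ≃ End (P ⊗ P')` -/
noncomputable def endTensor (P P' : Type u) [AddCommGroup P] [Module R P] [Module.Finite R P]
    [Module.Projective R P] [AddCommGroup P'] [Module R P'] [Module.Finite R P'] [Module.Projective R P'] :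
    Module.End R P ⊗[R] Module.End R P' ≃ₐ[R] Module.End R (P ⊗[R] P') :=
  AlgEquiv.ofBijective (Module.endTensorEndAlgHom (R := R) (S := R) (A := R) (M := P) (N := P')) (by
    have h : ∀ x, Module.endTensorEndAlgHom (R := R) (S := R) (A := R) (M := P) (N := P') x =
        homTensorHomEquiv R P P' P P' x := by
      intro x
      induction x using TensorProduct.induction_on with
      | zero => simp
      | add a b ha hb => rw [map_add, map_add, ha, hb]
      | tmul a b =>
        rw [Module.endTensorEndAlgHom_apply, homTensorHomEquiv_apply, TensorProduct.homTensorHomMap_apply]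
        rfl
    rw [funext h]
    exact (homTensorHomEquiv R P P' P P').bijective)

/-- Brauer equivalence, with witnesses in the same universe. -/
def Equi (A B : Type u) [Ring A] [Algebra R A] [Ring B] [Algebra R B] : Prop :=
  ∃ (P Q : Type u) (_ : AddCommGroup P) (_ : Module R P) (_ : AddCommGroup Q) (_ : Module R Q),
    Module.Finite R P ∧ Module.Projective R P ∧ FaithfulSMul R P ∧
      Module.Finite R Q ∧ Module.Projective R Q ∧ FaithfulSMul R Q ∧
      Nonempty (A ⊗[R] Module.End R P ≃ₐ[R] B ⊗[R] Module.End R Q)

theorem Equi.refl (A : Type u) [Ring A] [Algebra R A] : Equi (R := R) A A :=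
  ⟨R, R, inferInstance, inferInstance, inferInstance, inferInstance, inferInstance, inferInstance,
    inferInstance, inferInstance, inferInstance, inferInstance, ⟨AlgEquiv.refl⟩⟩

theorem Equi.trans {A B C : Type u} [Ring A] [Algebra R A] [Ring B] [Algebra R B] [Ring C] [Algebra R C]
    (h : Equi (R := R) A B) (h' : Equi (R := R) B C) : Equi (R := R) A C := by
  obtain ⟨P, Q, iP, iP', iQ, iQ', hP, hP', hP'', hQ, hQ', hQ'', ⟨e⟩⟩ := h
  obtain ⟨P₂, Q₂, iP₂, iP₂', iQ₂, iQ₂', hP₂, hP₂', hP₂'', hQ₂, hQ₂', hQ₂'', ⟨e₂⟩⟩ := h'
  let cong := fun {X Y Z W : Type u} [Ring X] [Ring Y] [Ring Z] [Ring W] [Algebra R X] [Algebra R Y]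
    [Algebra R Z] [Algebra R W] (f : X ≃ₐ[R] Y) (g : Z ≃ₐ[R] W) => Algebra.TensorProduct.congr f g
  refine ⟨P ⊗[R] P₂, Q₂ ⊗[R] Q, inferInstance, inferInstance, inferInstance, inferInstance, inferInstance,
    inferInstance, faithfulSMul_tensor P P₂, inferInstance, inferInstance, faithfulSMul_tensor Q₂ Q, ⟨?_⟩⟩
  exact (cong AlgEquiv.refl (endTensor P P₂).symm).trans <|
    (Algebra.TensorProduct.assoc R R R A (Module.End R P) (Module.End R P₂)).symm.trans <|
    (cong e AlgEquiv.refl).trans <|
    (Algebra.TensorProduct.assoc R R R B (Module.End R Q) (Module.End R P₂)).trans <|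
    (cong AlgEquiv.refl (Algebra.TensorProduct.comm R (Module.End R Q) (Module.End R P₂))).trans <|
    (Algebra.TensorProduct.assoc R R R B (Module.End R P₂) (Module.End R Q)).symm.trans <|
    (cong e₂ AlgEquiv.refl).trans <|
    (Algebra.TensorProduct.assoc R R R C (Module.End R Q₂) (Module.End R Q)).trans <|
    cong AlgEquiv.refl (endTensor Q₂ Q)

section Corner

variable {A : Type u} [Ring A] [Algebra R A] {e : A} (he : IsIdempotentElem e)

lemma corner_mul_left (x : he.Corner) : e * x.1 = x.1 := ((Subsemigroup.mem_corner_iff he).mp x.2).1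
lemma corner_mul_right (x : he.Corner) : x.1 * e = x.1 := ((Subsemigroup.mem_corner_iff he).mp x.2).2

include he in
lemma smul_e_mem (r : R) : r • e ∈ Subsemigroup.corner e :=
  (Subsemigroup.mem_corner_iff he).mpr
    ⟨by rw [mul_smul_comm, he.eq], by rw [smul_mul_assoc, he.eq]⟩

/-- the structure map of the corner -/
def cornerMap : R →+* he.Corner where
  toFun r := ⟨r • e, smul_e_mem he r⟩
  map_one' := Subtype.ext (one_smul R e)
  map_mul' r s := Subtype.ext (show (r * s) • e = (r • e) * (s • e) by rw [smul_mul_smul_comm, he.eq])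
  map_zero' := Subtype.ext (zero_smul R e)
  map_add' r s := Subtype.ext (add_smul r s e)

instance cornerAlgebra : Algebra R he.Corner :=
  (cornerMap he).toAlgebra' fun r x => by
    have h : (r • e) * x.1 = x.1 * (r • e) := by
      rw [smul_mul_assoc, mul_smul_comm, corner_mul_left he, corner_mul_right he]
    exact Subtype.ext h

lemma val_smul (r : R) (x : he.Corner) : (r • x).1 = r • x.1 := by
  rw [Algebra.smul_def]
  change (r • e) * x.1 = r • x.1
  rw [smul_mul_assoc, corner_mul_left he]

/-- the inclusion of the corner -/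
def incl : he.Corner →ₗ[R] A where
  toFun x := x.1
  map_add' _ _ := rfl
  map_smul' r x := val_smul he r x

/-- the projection onto the corner -/
def proj : A →ₗ[R] he.Corner where
  toFun y := ⟨e * y * e, y, rfl⟩
  map_add' y z := Subtype.ext (show e * (y + z) * e = e * y * e + e * z * e by rw [mul_add, add_mul])
  map_smul' r y := Subtype.ext (show e * (r • y) * e = _ from
    (by rw [mul_smul_comm, smul_mul_assoc] : e * (r • y) * e = r • (e * y * e)).trans (val_smul he r ⟨e * y * e, y, rfl⟩).symm)

lemma proj_incl (x : he.Corner) : proj (R := R) he (incl (R := R) he x) = x :=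
  Subtype.ext (show e * x.1 * e = x.1 by rw [corner_mul_left he, corner_mul_right he])

lemma incl_mul (x y : he.Corner) : incl (R := R) he (x * y) = incl (R := R) he x * incl (R := R) he y := rfl

lemma incl_proj (y : A) : incl (R := R) he (proj (R := R) he y) = e * y * e := rfl

lemma incl_injective : Function.Injective (incl (R := R) he) := fun _ _ h => Subtype.ext h

lemma incl_left (x : he.Corner) : e * incl (R := R) he x = incl (R := R) he x := corner_mul_left he x
lemma incl_right (x : he.Corner) : incl (R := R) he x * e = incl (R := R) he x := corner_mul_right he x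

/-- the left ideal `A e` -/
abbrev colSub (e : A) : Submodule R A := LinearMap.range (LinearMap.mulRight R e)

include he in
lemma col_mul_e (q : colSub (R := R) e) : (q : A) * e = q := by
  obtain ⟨q, y, rfl⟩ := q
  simp [mul_assoc, he.eq]

/-- the projection onto `A e` -/
def colProj (e : A) : A →ₗ[R] colSub (R := R) e := (LinearMap.mulRight R e).rangeRestrict

lemma colProj_val (y : A) : (colProj (R := R) e y : A) = y * e := rfl

include he in
lemma colProj_subtype (q : colSub (R := R) e) : colProj e q.1 = q := Subtype.ext (col_mul_e he q)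

/-- left multiplications on `A e` -/
def colLeft : A →ₐ[R] Module.End R (colSub (R := R) e) :=
  AlgHom.ofLinearMap
    { toFun := fun a => (colProj e).comp ((LinearMap.mulLeft R a).comp (colSub (R := R) e).subtype)
      map_add' := fun a b => LinearMap.ext fun q => Subtype.ext (by simp [colProj_val, add_mul])
      map_smul' := fun r a => LinearMap.ext fun q => Subtype.ext (by simp [colProj_val]) }
    (LinearMap.ext fun q => Subtype.ext (by simp [colProj_val, col_mul_e he q]))
    (fun a b => LinearMap.ext fun q => Subtype.ext (by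
      simp [colProj_val, mul_assoc, he.eq]))

/-- right multiplications of the corner on `A e` -/
def colRight : (he.Corner)ᵐᵒᵖ →ₐ[R] Module.End R (colSub (R := R) e) :=
  AlgHom.ofLinearMap
    { toFun := fun c => (colProj e).comp ((LinearMap.mulRight R (incl (R := R) he c.unop)).comp (colSub (R := R) e).subtype)
      map_add' := fun a b => LinearMap.ext fun q => Subtype.ext (by simp [colProj_val, mul_add, add_mul])
      map_smul' := fun r a => LinearMap.ext fun q => Subtype.ext (by simp [colProj_val]) }
    (LinearMap.ext fun q => Subtype.ext (by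
      simp only [LinearMap.coe_mk, AddHom.coe_mk, LinearMap.comp_apply, Submodule.subtype_apply,
        LinearMap.mulRight_apply, colProj_val, unop_one, Module.End.one_apply]
      rw [show incl (R := R) he (1 : he.Corner) = e from rfl, col_mul_e he q, col_mul_e he q]))
    (fun a b => LinearMap.ext fun q => Subtype.ext (by
      simp only [LinearMap.coe_mk, AddHom.coe_mk, LinearMap.comp_apply, Submodule.subtype_apply,
        LinearMap.mulRight_apply, colProj_val, unop_mul, Module.End.mul_apply, incl_mul, mul_assoc,
        incl_right (R := R) he]))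

/-- `A ⊗ (eAe)ᵒᵖ → End (A e)` -/
noncomputable def Phi : A ⊗[R] (he.Corner)ᵐᵒᵖ →ₐ[R] Module.End R (colSub (R := R) e) :=
  Algebra.TensorProduct.lift (colLeft (R := R) he) (colRight (R := R) he) fun a c => LinearMap.ext fun q => Subtype.ext (by
    change (a * (q.1 * incl (R := R) he c.unop * e)) * e = (a * q.1 * e) * incl (R := R) he c.unop * e
    simp only [mul_assoc, incl_left (R := R) he, incl_right (R := R) he])

lemma Phi_tmul (a : A) (c : (he.Corner)ᵐᵒᵖ) (q : colSub (R := R) e) :
    (Phi (R := R) he (a ⊗ₜ c) q : A) = a * q.1 * incl (R := R) he c.unop := by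
  change (a * (q.1 * incl (R := R) he c.unop * e)) * e = _
  simp only [mul_assoc, incl_right (R := R) he]

/-- the inclusion of opposites -/
noncomputable def inclOp : (he.Corner)ᵐᵒᵖ →ₗ[R] Aᵐᵒᵖ :=
  ((opLinearEquiv R).toLinearMap ∘ₗ incl (R := R) he) ∘ₗ (opLinearEquiv R).symm.toLinearMap

/-- the projection of opposites -/
noncomputable def projOp : Aᵐᵒᵖ →ₗ[R] (he.Corner)ᵐᵒᵖ :=
  ((opLinearEquiv R).toLinearMap ∘ₗ proj (R := R) he) ∘ₗ (opLinearEquiv R).symm.toLinearMap

lemma projOp_inclOp (c : (he.Corner)ᵐᵒᵖ) : projOp (R := R) he (inclOp (R := R) he c) = c := by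
  simp [projOp, inclOp, proj_incl]

theorem Phi_bijective [IsAzumaya R A] : Function.Bijective (Phi (R := R) he) := by
  let j := LinearMap.lTensor A (inclOp (R := R) he)
  let ρ := LinearMap.lTensor A (projOp (R := R) he)
  have hρj : ∀ x, ρ (j x) = x := fun x => by
    rw [← LinearMap.comp_apply, ← LinearMap.lTensor_comp,
      show (projOp (R := R) he).comp (inclOp (R := R) he) = LinearMap.id from LinearMap.ext (projOp_inclOp (R := R) he),
      LinearMap.lTensor_id, LinearMap.id_apply]
  have hsq : ∀ x, AlgHom.mulLeftRight R A (j x) =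
      (colSub (R := R) e).subtype ∘ₗ Phi (R := R) he x ∘ₗ colProj e := fun x => by
    induction x using TensorProduct.induction_on with
    | zero => simp
    | add a b ha hb => simp only [map_add, ha, hb, LinearMap.add_comp, LinearMap.comp_add]
    | tmul a c =>
      refine LinearMap.ext fun y => ?_
      simp only [j, LinearMap.lTensor_tmul, AlgHom.mulLeftRight_apply, LinearMap.comp_apply,
        Submodule.subtype_apply, Phi_tmul, colProj_val]
      simp [inclOp, mul_assoc, incl_left (R := R) he]
  have hproj : ∀ z y, AlgHom.mulLeftRight R A (j (ρ z)) y = AlgHom.mulLeftRight R A z (y * e) * e := fun z y => by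
    induction z using TensorProduct.induction_on with
    | zero => simp
    | add a b ha hb => simp only [map_add, LinearMap.add_apply, ha, hb, add_mul]
    | tmul a b =>
      simp only [j, ρ, LinearMap.lTensor_tmul, AlgHom.mulLeftRight_apply]
      simp [inclOp, projOp, incl_proj, mul_assoc]
  refine ⟨fun x y hxy => ?_, fun f => ?_⟩
  · have : j x = j y := IsAzumaya.bij.1 (by rw [hsq, hsq, hxy])
    rw [← hρj x, this, hρj]
  · obtain ⟨z, hz⟩ := (IsAzumaya.bij (R := R) (A := A)).2 ((colSub (R := R) e).subtype ∘ₗ f ∘ₗ colProj e)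
    refine ⟨ρ z, LinearMap.ext fun q => Subtype.ext ?_⟩
    have h1 := hproj z q.1
    rw [hsq, hz] at h1
    simpa [colProj_subtype (R := R) he, col_mul_e he] using h1

instance corner_projective [Module.Projective R A] : Module.Projective R he.Corner :=
  Module.Projective.of_split (incl (R := R) he) (proj (R := R) he) (LinearMap.ext (proj_incl (R := R) he))

instance corner_finite [Module.Finite R A] : Module.Finite R he.Corner :=
  Module.Finite.of_surjective (proj (R := R) he) fun x => ⟨_, proj_incl (R := R) he x⟩

theorem corner_mulLeftRight_bijective [IsAzumaya R A] :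
    Function.Bijective (AlgHom.mulLeftRight R he.Corner) := by
  let j := TensorProduct.map (incl (R := R) he) (inclOp (R := R) he)
  let ρ := TensorProduct.map (proj (R := R) he) (projOp (R := R) he)
  have hρj : ∀ x, ρ (j x) = x := fun x => by
    rw [← LinearMap.comp_apply, ← TensorProduct.map_comp,
      show (projOp (R := R) he).comp (inclOp (R := R) he) = LinearMap.id from LinearMap.ext (projOp_inclOp (R := R) he),
      show (proj (R := R) he).comp (incl (R := R) he) = LinearMap.id from LinearMap.ext (proj_incl (R := R) he),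
      TensorProduct.map_id, LinearMap.id_apply]
  have hsq : ∀ x, AlgHom.mulLeftRight R A (j x) =
      incl (R := R) he ∘ₗ AlgHom.mulLeftRight R he.Corner x ∘ₗ proj (R := R) he := fun x => by
    induction x using TensorProduct.induction_on with
    | zero => simp
    | add a b ha hb => simp only [map_add, ha, hb, LinearMap.add_comp, LinearMap.comp_add]
    | tmul a c =>
      refine LinearMap.ext fun y => ?_
      simp only [j, TensorProduct.map_tmul, AlgHom.mulLeftRight_apply, LinearMap.comp_apply, incl_mul, incl_proj]
      simp only [inclOp, LinearMap.comp_apply, LinearEquiv.coe_coe, coe_opLinearEquiv, coe_opLinearEquiv_symm, unop_op]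
      rw [← mul_assoc (incl (R := R) he a), ← mul_assoc (incl (R := R) he a), incl_right (R := R) he,
        mul_assoc (incl (R := R) he a * y), incl_left (R := R) he]
  have hproj : ∀ z y, AlgHom.mulLeftRight R A (j (ρ z)) y =
      e * AlgHom.mulLeftRight R A z (e * y * e) * e := fun z y => by
    induction z using TensorProduct.induction_on with
    | zero => simp
    | add a b ha hb => simp only [map_add, LinearMap.add_apply, ha, hb, add_mul, mul_add]
    | tmul a b =>
      simp only [j, ρ, TensorProduct.map_tmul, AlgHom.mulLeftRight_apply, incl_proj]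
      simp [inclOp, projOp, incl_proj, mul_assoc]
  refine ⟨fun x y hxy => ?_, fun f => ?_⟩
  · have : j x = j y := IsAzumaya.bij.1 (by rw [hsq, hsq, hxy])
    rw [← hρj x, this, hρj]
  · obtain ⟨z, hz⟩ := (IsAzumaya.bij (R := R) (A := A)).2 (incl (R := R) he ∘ₗ f ∘ₗ proj (R := R) he)
    refine ⟨ρ z, LinearMap.ext fun q => incl_injective (R := R) he ?_⟩
    have h1 := hproj z (incl (R := R) he q)
    rw [hsq, hz, incl_left (R := R) he, incl_right (R := R) he] at h1
    simpa [proj_incl, incl_left (R := R) he, incl_right (R := R) he] using h1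

variable [ConnectedSpace (PrimeSpectrum R)] [IsAzumaya R A]

theorem isAzumaya_corner (h0 : e ≠ 0) : IsAzumaya R he.Corner := by
  haveI : Nontrivial he.Corner := ⟨1, 0, fun h => h0 (congrArg Subtype.val h)⟩
  haveI := faithfulSMul_of_nontrivial (R := R) he.Corner
  exact { bij := corner_mulLeftRight_bijective he }

theorem equi_corner (h0 : e ≠ 0) : Equi (R := R) A he.Corner := by
  haveI := isAzumaya_corner (R := R) he h0
  haveI : Module.Finite R (colSub (R := R) e) :=
    Module.Finite.of_surjective (colProj e) (LinearMap.surjective_rangeRestrict _)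
  haveI : Module.Projective R (colSub (R := R) e) :=
    Module.Projective.of_split (colSub (R := R) e).subtype (colProj e) (LinearMap.ext (colProj_subtype (R := R) he))
  haveI : Nontrivial (colSub (R := R) e) :=
    ⟨⟨e, 1, one_mul e⟩, 0, fun h => h0 (congrArg Subtype.val h)⟩
  refine ⟨he.Corner, colSub (R := R) e, inferInstance, inferInstance, inferInstance, inferInstance,
    inferInstance, inferInstance, inferInstance, inferInstance, inferInstance,
    faithfulSMul_of_nontrivial _, ⟨?_⟩⟩
  exact (Algebra.TensorProduct.congr AlgEquiv.refl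
      (AlgEquiv.ofBijective _ (IsAzumaya.bij (R := R) (A := he.Corner))).symm).trans <|
    (Algebra.TensorProduct.congr AlgEquiv.refl
      (Algebra.TensorProduct.comm R he.Corner (he.Corner)ᵐᵒᵖ)).trans <|
    (Algebra.TensorProduct.assoc R R R A (he.Corner)ᵐᵒᵖ he.Corner).symm.trans <|
    (Algebra.TensorProduct.congr (AlgEquiv.ofBijective (Phi (R := R) he) (Phi_bijective (R := R) he)) AlgEquiv.refl).trans <|
    Algebra.TensorProduct.comm R (Module.End R (colSub (R := R) e)) he.Corner

theorem rank_corner_lt (h1 : e ≠ 1) (p : PrimeSpectrum R) :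
    Module.rankAtStalk (R := R) he.Corner p < Module.rankAtStalk (R := R) A p := by
  let K := LinearMap.ker (proj (R := R) he)
  let kp : A →ₗ[R] K :=
    (LinearMap.id - incl (R := R) he ∘ₗ proj (R := R) he).codRestrict K fun y => by
      simp [K, map_sub, proj_incl]
  have hkp : ∀ x : K, kp x.1 = x := fun x => Subtype.ext (by
    have : proj (R := R) he x.1 = 0 := x.2
    simp [kp, this])
  haveI : Module.Finite R K := Module.Finite.of_surjective kp fun x => ⟨_, hkp x⟩
  haveI : Module.Projective R K := Module.Projective.of_split K.subtype kp (LinearMap.ext hkp)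
  haveI : Nontrivial K := by
    refine ⟨⟨1 - e, Subtype.ext (show e * (1 - e) * e = 0 by rw [mul_sub, mul_one, he.eq, sub_self, zero_mul])⟩, 0, fun h => h1 ?_⟩
    exact (sub_eq_zero.mp (congrArg Subtype.val h)).symm
  have hK := rankAtStalk_pos_of_nontrivial (R := R) K p
  let φ : A ≃ₗ[R] he.Corner × K :=
    LinearEquiv.ofLinear ((proj (R := R) he).prod kp) ((incl (R := R) he).coprod K.subtype)
      (LinearMap.ext fun x => Prod.ext
        (by simp [proj_incl, show proj (R := R) he x.2.1 = 0 from x.2.2])
        (Subtype.ext (by simp [kp, proj_incl, show proj (R := R) he x.2.1 = 0 from x.2.2])))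
      (LinearMap.ext fun y => by simp [kp])
  have := congrFun (Module.rankAtStalk_eq_of_equiv φ) p
  rw [Module.rankAtStalk_prod, Pi.add_apply] at this
  omega

end Corner

/-- Every Azumaya algebra over a connected ring is Brauer equivalent to one without nontrivial idempotents. -/
theorem exists_equi_idempotent_trivial [ConnectedSpace (PrimeSpectrum R)] :
    ∀ (A : Type u) [Ring A] [Algebra R A] [IsAzumaya R A],
      ∃ (B : Type u) (_ : Ring B) (_ : Algebra R B) (_ : IsAzumaya R B),
        (∀ b : B, IsIdempotentElem b → b = 0 ∨ b = 1) ∧ Equi (R := R) A B := by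
  obtain ⟨p⟩ : Nonempty (PrimeSpectrum R) := ConnectedSpace.toNonempty
  suffices h : ∀ (n : ℕ) (A : Type u) [Ring A] [Algebra R A] [IsAzumaya R A],
      Module.rankAtStalk (R := R) A p = n →
      ∃ (B : Type u) (_ : Ring B) (_ : Algebra R B) (_ : IsAzumaya R B),
        (∀ b : B, IsIdempotentElem b → b = 0 ∨ b = 1) ∧ Equi (R := R) A B from
    fun A _ _ _ => h _ A rfl
  intro n
  induction n using Nat.strong_induction_on with
  | _ n ih =>
    intro A _ _ _ hn
    by_cases hA : ∀ b : A, IsIdempotentElem b → b = 0 ∨ b = 1
    · exact ⟨A, inferInstance, inferInstance, inferInstance, hA, Equi.refl A⟩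
    push Not at hA
    obtain ⟨e, he, h0, h1⟩ := hA
    haveI := isAzumaya_corner (R := R) he h0
    obtain ⟨B, iB, iB', iB'', hB, hEq⟩ := ih _ (hn ▸ rank_corner_lt he h1 p) he.Corner rfl
    exact ⟨B, iB, iB', iB'', hB, (equi_corner he h0).trans hEq⟩

end Groth.Agent.L13.AzumayaCorner
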