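import Mathlib.LinearAlgebra.Projectivization.Basic
import Mathlib.LinearAlgebra.Dual.Lemmas
import Mathlib.RingTheory.MvPolynomial.Homogeneous
import Mathlib.LinearAlgebra.Dimension.DivisionRing
import Mathlib.LinearAlgebra.FiniteDimensional.Lemmas

/-!
Finite sets of points of projective 3-space with the Cayley–Bacharach property.
-/

set_option autoImplicit false

universe u

namespace Groth.Agent.L13.CBPoints

open Submodule

variable {k : Type u} [Field k]

/-- Cayley–Bacharach property in degree `n`. -/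
def CB (n : ℕ) (Z : Finset (Projectivization k (Fin 4 → k))) : Prop :=
  ∀ z ∈ Z, ∀ p : MvPolynomial (Fin 4) k, p.IsHomogeneous n →
    (∀ z' ∈ Z, z' ≠ z → MvPolynomial.eval z'.rep p = 0) → MvPolynomial.eval z.rep p = 0

open Classical in
/-- the points off a plane -/
noncomputable def off (Z : Finset (Projectivization k (Fin 4 → k))) (l : (Fin 4 → k) →ₗ[k] k) :=
  Z.filter fun z => l z.rep ≠ 0

open Classical in
/-- the points in a subspace -/
noncomputable def inSub (Z : Finset (Projectivization k (Fin 4 → k))) (W : Submodule k (Fin 4 → k)) :=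
  Z.filter fun z => z.rep ∈ W

/-- a linear form as a polynomial -/
noncomputable def lin (l : (Fin 4 → k) →ₗ[k] k) : MvPolynomial (Fin 4) k :=
  ∑ i, MvPolynomial.C (l (Pi.single i 1)) * MvPolynomial.X i

lemma eval_lin (l : (Fin 4 → k) →ₗ[k] k) (v : Fin 4 → k) : MvPolynomial.eval v (lin l) = l v := by
  conv_rhs => rw [pi_eq_sum_univ' v, map_sum]
  simp [lin, mul_comm]

lemma lin_hom (l : (Fin 4 → k) →ₗ[k] k) : (lin l).IsHomogeneous 1 :=
  MvPolynomial.IsHomogeneous.sum _ _ _ fun i _ => MvPolynomial.isHomogeneous_C_mul_X _ _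

variable {n : ℕ} {Z : Finset (Projectivization k (Fin 4 → k))}

lemma CB.off (h : CB (n + 1) Z) (l : (Fin 4 → k) →ₗ[k] k) : CB n (off Z l) := by
  classical
  intro z hz p hp hvan
  simp only [L13.CBPoints.off, Finset.mem_filter] at hz hvan
  have := h z hz.1 (lin l * p) (by rw [add_comm]; exact (lin_hom l).mul hp) (fun z' hz' hne => by
    rw [map_mul, eval_lin]
    rcases eq_or_ne (l z'.rep) 0 with h0 | h0
    · rw [h0, zero_mul]
    · rw [hvan z' ⟨hz', h0⟩ hne, mul_zero])
  rw [map_mul, eval_lin] at this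
  exact (mul_eq_zero.mp this).resolve_left hz.2

lemma rep_notMem_span {z w : Projectivization k (Fin 4 → k)} (h : z ≠ w) : z.rep ∉ span k {w.rep} := by
  intro hm
  obtain ⟨a, ha⟩ := mem_span_singleton.mp hm
  apply h
  rw [← z.mk_rep, ← w.mk_rep]
  exact (Projectivization.mk_eq_mk_iff' k _ _ z.rep_nonzero w.rep_nonzero).mpr ⟨a, ha⟩

lemma finrank_span_pair {z w : Projectivization k (Fin 4 → k)} (h : z ≠ w) :
    Module.finrank k ↥(span k {z.rep} ⊔ span k {w.rep} : Submodule k (Fin 4 → k)) = 2 := by
  have h1 := finrank_span_singleton (K := k) z.rep_nonzero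
  have h2 := finrank_span_singleton (K := k) w.rep_nonzero
  have h3 := Submodule.finrank_sup_add_finrank_inf_eq (span k {z.rep}) (span k {w.rep})
  have h4 : span k {z.rep} ⊓ span k {w.rep} = ⊥ := by
    rw [Submodule.eq_bot_iff]
    rintro x ⟨hx, hx'⟩
    obtain ⟨a, rfl⟩ := mem_span_singleton.mp hx
    by_contra hne
    exact rep_notMem_span h ((Submodule.smul_mem_iff _ (left_ne_zero_of_smul hne)).mp hx')
  rw [h4, finrank_bot, h1, h2] at h3
  omega

/-- the line through two points -/
lemma eq_span_pair {z w : Projectivization k (Fin 4 → k)} (h : z ≠ w) {W : Submodule k (Fin 4 → k)}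
    (hW : Module.finrank k W = 2) (hz : z.rep ∈ W) (hw : w.rep ∈ W) :
    span k {z.rep} ⊔ span k {w.rep} = W :=
  Submodule.eq_of_le_of_finrank_eq (sup_le (by simpa using hz) (by simpa using hw)) (by rw [finrank_span_pair h, hW])

open Classical in
lemma card_split (l : (Fin 4 → k) →ₗ[k] k) :
    (inSub Z (LinearMap.ker l)).card + (off Z l).card = Z.card := by
  have := Finset.card_filter_add_card_filter_not (s := Z) (fun z => l z.rep = 0)
  simpa [inSub, L13.CBPoints.off] using this

lemma finrank_four : Module.finrank k (Fin 4 → k) = 4 := by simp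

lemma exists_ker_ge {W : Submodule k (Fin 4 → k)} (h : Module.finrank k W ≤ 3) :
    ∃ l : (Fin 4 → k) →ₗ[k] k, l ≠ 0 ∧ W ≤ LinearMap.ker l := by
  apply Submodule.exists_le_ker_of_lt_top
  apply lt_top_iff_ne_top.mpr
  intro ht
  rw [ht, finrank_top, finrank_four] at h
  omega

lemma finrank_ker_eq_three {l : (Fin 4 → k) →ₗ[k] k} (hl : l ≠ 0) :
    Module.finrank k (LinearMap.ker l) = 3 := by
  have := Module.Dual.finrank_ker_add_one_of_ne_zero hl
  rw [finrank_four] at this
  omega

theorem card_lower : ∀ (n : ℕ) (Z : Finset (Projectivization k (Fin 4 → k))), Z.Nonempty → CB n Z → n + 2 ≤ Z.card := by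
  classical
  intro n
  induction n with
  | zero =>
    intro Z ⟨z, hz⟩ h
    by_contra hc
    have hone : MvPolynomial.eval z.rep (1 : MvPolynomial (Fin 4) k) = 0 :=
      h z hz 1 (MvPolynomial.isHomogeneous_one _ _) (fun z' hz' hne => absurd
        (Finset.card_le_one.mp (by omega) z' hz' z hz) hne)
    simp at hone
  | succ n ih =>
    intro Z ⟨z, hz⟩ h
    by_cases hw : ∃ w ∈ Z, w ≠ z
    · obtain ⟨w, hw, hne⟩ := hw
      obtain ⟨l, hlz, hle⟩ := Submodule.exists_le_ker_of_notMem (rep_notMem_span hne.symm)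
      have hlw : l w.rep = 0 := hle (mem_span_singleton_self _)
      have := ih (L13.CBPoints.off Z l) ⟨z, by simp [L13.CBPoints.off, hz, hlz]⟩ (h.off l)
      have h1 : 0 < (inSub Z (LinearMap.ker l)).card := Finset.card_pos.mpr ⟨w, by simp [inSub, hw, hlw]⟩
      have := card_split (Z := Z) l
      omega
    · push Not at hw
      obtain ⟨l, hlz, -⟩ := Submodule.exists_le_ker_of_notMem (p := (⊥ : Submodule k (Fin 4 → k))) (v := z.rep)
        (by simp [z.rep_nonzero])
      have := h z hz (lin l ^ (n + 1)) (by simpa using (lin_hom l).pow (n + 1))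
        (fun z' hz' hne => absurd (hw z' hz') hne)
      rw [map_pow, eval_lin] at this
      exact absurd (pow_eq_zero_iff'.mp this).1 hlz

theorem collinear : ∀ (n : ℕ) (Z : Finset (Projectivization k (Fin 4 → k))), CB n Z → Z.card ≤ 2 * n + 1 →
    ∃ W : Submodule k (Fin 4 → k), Module.finrank k W = 2 ∧ ∀ z ∈ Z, z.rep ∈ W := by
  classical
  intro n
  induction n with
  | zero =>
    intro Z h hc
    rcases Z.eq_empty_or_nonempty with rfl | hne
    · obtain ⟨W, hW⟩ := exists_linearIndependent_of_le_finrank (R := k) (M := Fin 4 → k) (n := 2) (by simp)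
      exact ⟨span k (Set.range W), by simpa using finrank_span_eq_card hW, by simp⟩
    · have := card_lower 0 Z hne h
      omega
  | succ n ih =>
    intro Z h hc
    by_contra hno
    push Not at hno
    have hne : Z.Nonempty := by
      by_contra he
      rw [Finset.not_nonempty_iff_eq_empty] at he
      obtain ⟨W, hW⟩ := exists_linearIndependent_of_le_finrank (R := k) (M := Fin 4 → k) (n := 2) (by simp)
      obtain ⟨z, hz, -⟩ := hno (span k (Set.range W)) (by simpa using finrank_span_eq_card hW)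
      simp [he] at hz
    have h3 := card_lower _ Z hne h
    obtain ⟨a, ha, b, hb, hab⟩ := Finset.one_lt_card.mp (show 1 < Z.card by omega)
    obtain ⟨z, hz, hzL⟩ := hno _ (finrank_span_pair hab)
    obtain ⟨l, hlz, hle⟩ := Submodule.exists_le_ker_of_notMem hzL
    have hsub : ({a, b} : Finset _) ⊆ inSub Z (LinearMap.ker l) := by
      intro x hx
      simp only [Finset.mem_insert, Finset.mem_singleton] at hx
      rcases hx with rfl | rfl
      · exact Finset.mem_filter.mpr ⟨ha, hle (mem_sup_left (mem_span_singleton_self _))⟩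
      · exact Finset.mem_filter.mpr ⟨hb, hle (mem_sup_right (mem_span_singleton_self _))⟩
    have h2 := Finset.card_le_card hsub
    rw [Finset.card_pair hab] at h2
    have hsplit := card_split (Z := Z) l
    have hzoff : z ∈ L13.CBPoints.off Z l := Finset.mem_filter.mpr ⟨hz, hlz⟩
    have hlow := card_lower _ _ ⟨z, hzoff⟩ (h.off l)
    obtain ⟨L, hL, hLin⟩ := ih _ (h.off l) (by omega)
    obtain ⟨z', hz', hz'L⟩ := hno L hL
    obtain ⟨l', hlz', hle'⟩ := Submodule.exists_le_ker_of_notMem hz'L
    have hsub' : L13.CBPoints.off Z l ⊆ inSub Z (LinearMap.ker l') := fun x hx =>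
      Finset.mem_filter.mpr ⟨(Finset.mem_filter.mp hx).1, hle' (hLin x hx)⟩
    have h2' := Finset.card_le_card hsub'
    have hne' : (L13.CBPoints.off Z l').Nonempty := ⟨z', Finset.mem_filter.mpr ⟨hz', hlz'⟩⟩
    have hlow' := card_lower _ _ hne' (h.off l')
    have hsplit' := card_split (Z := Z) l'
    omega

/-- `Z` lies in a plane -/
def Coplanar (Z : Finset (Projectivization k (Fin 4 → k))) : Prop :=
  ∃ W : Submodule k (Fin 4 → k), Module.finrank k W = 3 ∧ ∀ z ∈ Z, z.rep ∈ W

/-- `Z` lies on two skew lines, each carrying at least `n + 1` points -/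
def SkewLines (n : ℕ) (Z : Finset (Projectivization k (Fin 4 → k))) : Prop :=
  ∃ W₁ W₂ : Submodule k (Fin 4 → k), Module.finrank k W₁ = 2 ∧ Module.finrank k W₂ = 2 ∧ W₁ ⊓ W₂ = ⊥ ∧
    (∀ z ∈ Z, z.rep ∈ W₁ ∨ z.rep ∈ W₂) ∧ n + 1 ≤ (inSub Z W₁).card ∧ n + 1 ≤ (inSub Z W₂).card ∧
    2 * n + 3 ≤ Z.card

lemma exists_off_of_not_coplanar (hnc : ¬ Coplanar Z) {l : (Fin 4 → k) →ₗ[k] k} (hl : l ≠ 0) :
    (L13.CBPoints.off Z l).Nonempty := by
  classical
  by_contra he
  apply hnc
  refine ⟨LinearMap.ker l, finrank_ker_eq_three hl, fun z hz => ?_⟩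
  by_contra hzl
  exact he ⟨z, Finset.mem_filter.mpr ⟨hz, hzl⟩⟩

theorem skew_of_line (h : CB (n + 1) Z) (hc : Z.card ≤ 3 * n + 4) (hnc : ¬ Coplanar Z)
    {L : Submodule k (Fin 4 → k)} (hL : Module.finrank k L = 2) (hLc : n + 2 ≤ (inSub Z L).card) :
    SkewLines (n + 1) Z := by
  classical
  obtain ⟨z, hz, hzL⟩ : ∃ z ∈ Z, z.rep ∉ L := by
    by_contra hall
    push Not at hall
    obtain ⟨l, hl, hle⟩ := exists_ker_ge (W := L) (by omega)
    exact hnc ⟨_, finrank_ker_eq_three hl, fun z hz => hle (hall z hz)⟩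
  have hsupz : ∀ v : Fin 4 → k, Module.finrank k ↥(L ⊔ span k {v} : Submodule k (Fin 4 → k)) ≤ 3 := by
    intro v
    have h1 := Submodule.finrank_add_le_finrank_add_finrank L (span k {v})
    have h2 : Module.finrank k ↥(span k {v}) ≤ 1 := (finrank_span_le_card ({v} : Set (Fin 4 → k))).trans (by simp)
    omega
  obtain ⟨l, hl, hle⟩ := exists_ker_ge (hsupz z.rep)
  have hLl : L ≤ LinearMap.ker l := le_sup_left.trans hle
  have hplus : insert z (inSub Z L) ⊆ inSub Z (LinearMap.ker l) := by
    intro x hx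
    rcases Finset.mem_insert.mp hx with rfl | hx
    · exact Finset.mem_filter.mpr ⟨hz, hle (mem_sup_right (mem_span_singleton_self _))⟩
    · exact Finset.mem_filter.mpr ⟨(Finset.mem_filter.mp hx).1, hLl (Finset.mem_filter.mp hx).2⟩
  have hz' : z ∉ inSub Z L := fun hx => hzL (Finset.mem_filter.mp hx).2
  have hcp := Finset.card_le_card hplus
  rw [Finset.card_insert_of_notMem hz'] at hcp
  have hsplit := card_split (Z := Z) l
  have hoffne := exists_off_of_not_coplanar hnc hl
  have hlow := card_lower _ _ hoffne (h.off l)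
  obtain ⟨L', hL', hL'in⟩ := collinear n _ (h.off l) (by omega)
  have hoffL' : L13.CBPoints.off Z l ⊆ inSub Z L' := fun x hx =>
    Finset.mem_filter.mpr ⟨(Finset.mem_filter.mp hx).1, hL'in x hx⟩
  have hskew : L ⊓ L' = ⊥ := by
    by_contra hne
    have h1 := Submodule.finrank_sup_add_finrank_inf_eq L L'
    have h2 : 1 ≤ Module.finrank k ↥(L ⊓ L') := Submodule.one_le_finrank_iff.mpr hne
    obtain ⟨m, hm, hmle⟩ := exists_ker_ge (W := L ⊔ L') (by omega)
    have hsub : inSub Z L ∪ L13.CBPoints.off Z l ⊆ inSub Z (LinearMap.ker m) := by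
      intro x hx
      rcases Finset.mem_union.mp hx with hx | hx
      · exact Finset.mem_filter.mpr ⟨(Finset.mem_filter.mp hx).1, hmle (mem_sup_left (Finset.mem_filter.mp hx).2)⟩
      · exact Finset.mem_filter.mpr ⟨(Finset.mem_filter.mp hx).1, hmle (mem_sup_right (hL'in x hx))⟩
    have hdis : Disjoint (inSub Z L) (L13.CBPoints.off Z l) := Finset.disjoint_left.mpr fun x hx hx' =>
      (Finset.mem_filter.mp hx').2 (hLl (Finset.mem_filter.mp hx).2)
    have h3 := Finset.card_le_card hsub
    rw [Finset.card_union_of_disjoint hdis] at h3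
    have h4 := card_lower _ _ (exists_off_of_not_coplanar hnc hm) (h.off m)
    have h5 := card_split (Z := Z) m
    omega
  have htop : L ⊔ L' = ⊤ := by
    apply Submodule.eq_top_of_finrank_eq
    have := Submodule.finrank_sup_add_finrank_inf_eq L L'
    rw [hskew, finrank_bot] at this
    rw [finrank_four]
    omega
  have hcover : ∀ w ∈ Z, w.rep ∈ L ∨ w.rep ∈ L' := by
    intro w hw
    by_contra hwn
    push Not at hwn
    obtain ⟨hwL, hwL'⟩ := hwn
    have hlw : l w.rep = 0 := by
      by_contra h0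
      exact hwL' (hL'in w (Finset.mem_filter.mpr ⟨hw, h0⟩))
    obtain ⟨z', hz'off⟩ := hoffne
    have hlz' : l z'.rep ≠ 0 := (Finset.mem_filter.mp hz'off).2
    have hwsp : w.rep ∉ L ⊔ span k {z'.rep} := by
      intro hm
      obtain ⟨y, hy, v, hv, hyv⟩ := mem_sup.mp hm
      obtain ⟨c, rfl⟩ := mem_span_singleton.mp hv
      have h0 : l y + c * l z'.rep = 0 := by rw [← hlw, ← hyv, map_add, map_smul, smul_eq_mul]
      rw [LinearMap.mem_ker.mp (hLl hy), zero_add] at h0
      rw [(mul_eq_zero.mp h0).resolve_right hlz', zero_smul, add_zero] at hyv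
      exact hwL (hyv ▸ hy)
    obtain ⟨m, hmw, hmle⟩ := Submodule.exists_le_ker_of_notMem hwsp
    have hLm : L ≤ LinearMap.ker m := le_sup_left.trans hmle
    have hplus' : insert z' (inSub Z L) ⊆ inSub Z (LinearMap.ker m) := by
      intro x hx
      rcases Finset.mem_insert.mp hx with rfl | hx
      · exact Finset.mem_filter.mpr ⟨(Finset.mem_filter.mp hz'off).1, hmle (mem_sup_right (mem_span_singleton_self _))⟩
      · exact Finset.mem_filter.mpr ⟨(Finset.mem_filter.mp hx).1, hLm (Finset.mem_filter.mp hx).2⟩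
    have hcp' := Finset.card_le_card hplus'
    have hnot : z' ∉ inSub Z L := fun hx => hlz' (hLl (Finset.mem_filter.mp hx).2)
    rw [Finset.card_insert_of_notMem hnot] at hcp'
    have hsplit' := card_split (Z := Z) m
    obtain ⟨L2, hL2, hL2in⟩ := collinear n _ (h.off m) (by omega)
    obtain ⟨a, ha, hma, b, hb, hab, hbL'⟩ : ∃ a ∈ L13.CBPoints.off Z l, m a.rep ≠ 0 ∧ ∃ b ∈ L13.CBPoints.off Z m, a ≠ b ∧ b.rep ∈ L' := by
      have hsmall : ((L13.CBPoints.off Z l).filter fun x => m x.rep = 0).card ≤ 1 := by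
        rw [Finset.card_le_one]
        intro x hx y hy
        by_contra hxy
        simp only [Finset.mem_filter] at hx hy
        have hsp := eq_span_pair hxy hL' (hL'in x hx.1) (hL'in y hy.1)
        have hL'm : L' ≤ LinearMap.ker m := by
          rw [← hsp]
          exact sup_le (by simpa using hx.2) (by simpa using hy.2)
        have := sup_le hLm hL'm
        rw [htop, top_le_iff, LinearMap.ker_eq_top] at this
        exact hmw (by simp [this])
      have hbig : 1 < ((L13.CBPoints.off Z l).filter fun x => ¬ m x.rep = 0).card := by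
        have := Finset.card_filter_add_card_filter_not (s := L13.CBPoints.off Z l) (fun x => m x.rep = 0)
        by_cases hn : n = 0
        · subst hn
          omega
        · omega
      obtain ⟨a, ha, b, hb, hab⟩ := Finset.one_lt_card.mp hbig
      simp only [Finset.mem_filter] at ha hb
      exact ⟨a, ha.1, ha.2, b, Finset.mem_filter.mpr ⟨(Finset.mem_filter.mp hb.1).1, hb.2⟩, hab, hL'in b hb.1⟩
    have e1 := eq_span_pair hab hL2 (hL2in a (Finset.mem_filter.mpr ⟨(Finset.mem_filter.mp ha).1, hma⟩)) (hL2in b hb)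
    have e2 := eq_span_pair hab hL' (hL'in a ha) hbL'
    exact hwL' (e2 ▸ e1.symm ▸ hL2in w (Finset.mem_filter.mpr ⟨hw, hmw⟩))
  have hL'c : n + 2 ≤ (inSub Z L').card := hlow.trans (Finset.card_le_card hoffL')
  refine ⟨L, L', hL, hL', hskew, hcover, hLc, hL'c, ?_⟩
  obtain ⟨z1, hz1⟩ := Finset.card_pos.mp (show 0 < (inSub Z L).card by omega)
  obtain ⟨m, hm, hmle⟩ := exists_ker_ge (W := L' ⊔ span k {z1.rep}) (by
    have h1 := Submodule.finrank_add_le_finrank_add_finrank L' (span k {z1.rep})
    rw [finrank_span_singleton z1.rep_nonzero] at h1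
    omega)
  have hsub : inSub Z L' ∪ {z1} ⊆ inSub Z (LinearMap.ker m) := by
    intro x hx
    rcases Finset.mem_union.mp hx with hx | hx
    · exact Finset.mem_filter.mpr ⟨(Finset.mem_filter.mp hx).1, hmle (mem_sup_left (Finset.mem_filter.mp hx).2)⟩
    · rw [Finset.mem_singleton] at hx
      subst hx
      exact Finset.mem_filter.mpr ⟨(Finset.mem_filter.mp hz1).1, hmle (mem_sup_right (mem_span_singleton_self _))⟩
  have h3 := Finset.card_le_card hsub
  have hnot : z1 ∉ inSub Z L' := fun hx => z1.rep_nonzero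
    ((Submodule.eq_bot_iff _).mp hskew _ ⟨(Finset.mem_filter.mp hz1).2, (Finset.mem_filter.mp hx).2⟩)
  rw [Finset.card_union_of_disjoint (Finset.disjoint_singleton_right.mpr hnot), Finset.card_singleton] at h3
  have h4 := card_lower _ _ (exists_off_of_not_coplanar hnc hm) (h.off m)
  have h5 := card_split (Z := Z) m
  omega

theorem coplanar_or_skew : ∀ (n : ℕ) (Z : Finset (Projectivization k (Fin 4 → k))), CB n Z →
    Z.card ≤ 3 * n + 1 → Coplanar Z ∨ SkewLines n Z := by
  classical
  intro n
  induction n with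
  | zero =>
    intro Z h hc
    left
    obtain ⟨W, hW, hin⟩ := collinear 0 Z h (by omega)
    obtain ⟨l, hl, hle⟩ := exists_ker_ge (W := W) (by omega)
    exact ⟨_, finrank_ker_eq_three hl, fun z hz => hle (hin z hz)⟩
  | succ n ih =>
    intro Z h hc
    refine or_iff_not_imp_left.mpr fun hnc => ?_
    have hne : Z.Nonempty := by
      by_contra he
      rw [Finset.not_nonempty_iff_eq_empty] at he
      obtain ⟨l, hl, -⟩ := exists_ker_ge (W := (⊥ : Submodule k (Fin 4 → k))) (by simp)
      exact hnc ⟨_, finrank_ker_eq_three hl, by simp [he]⟩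
    have h2 := card_lower _ Z hne h
    obtain ⟨T, hT, hTc⟩ := Finset.exists_subset_card_eq (show 3 ≤ Z.card by omega)
    obtain ⟨l, hl, hle⟩ := exists_ker_ge (W := span k (T.image (·.rep) : Set (Fin 4 → k))) (by
      refine (finrank_span_finset_le_card _).trans ?_
      exact Finset.card_image_le.trans hTc.le)
    have hTsub : T ⊆ inSub Z (LinearMap.ker l) := fun x hx =>
      Finset.mem_filter.mpr ⟨hT hx, hle (subset_span (by simpa using ⟨x, hx, rfl⟩))⟩
    have h3 := Finset.card_le_card hTsub
    have hsplit := card_split (Z := Z) l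
    have hlow := card_lower _ _ (exists_off_of_not_coplanar hnc hl) (h.off l)
    have step : ∀ m : (Fin 4 → k) →ₗ[k] k, m ≠ 0 → (L13.CBPoints.off Z m).card ≤ 2 * n + 1 → SkewLines (n + 1) Z := by
      intro m hm hmc
      obtain ⟨L, hL, hLin⟩ := collinear n _ (h.off m) hmc
      refine skew_of_line h (by omega) hnc hL ((card_lower _ _ (exists_off_of_not_coplanar hnc hm) (h.off m)).trans ?_)
      exact Finset.card_le_card fun x hx => Finset.mem_filter.mpr ⟨(Finset.mem_filter.mp hx).1, hLin x hx⟩
    by_cases hsmall : (L13.CBPoints.off Z l).card ≤ 2 * n + 1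
    · exact step l hl hsmall
    rcases ih _ (h.off l) (by omega) with ⟨W, hW, hWin⟩ | ⟨W₁, W₂, hW₁, hW₂, -, hcov, hc₁, hc₂, htot⟩
    · obtain ⟨m, hm, hmle⟩ := exists_ker_ge (W := W) (by omega)
      have h6 : L13.CBPoints.off Z l ⊆ inSub Z (LinearMap.ker m) := fun x hx =>
        Finset.mem_filter.mpr ⟨(Finset.mem_filter.mp hx).1, hmle (hWin x hx)⟩
      have h7 := Finset.card_le_card h6
      have h8 := card_split (Z := Z) m
      exact step m hm (by omega)
    · have hsum : (L13.CBPoints.off Z l).card ≤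
          (inSub (L13.CBPoints.off Z l) W₁).card + (inSub (L13.CBPoints.off Z l) W₂).card := by
        refine (Finset.card_le_card fun x hx => ?_).trans (Finset.card_union_le _ _)
        rcases hcov x hx with hx' | hx'
        · exact Finset.mem_union_left _ (Finset.mem_filter.mpr ⟨hx, hx'⟩)
        · exact Finset.mem_union_right _ (Finset.mem_filter.mpr ⟨hx, hx'⟩)
      have hmono : ∀ W, inSub (L13.CBPoints.off Z l) W ⊆ inSub Z W := fun W =>
        Finset.filter_subset_filter _ (Finset.filter_subset _ _)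
      have m1 := Finset.card_le_card (hmono W₁)
      have m2 := Finset.card_le_card (hmono W₂)
      by_cases hbig : n + 2 ≤ (inSub Z W₁).card
      · exact skew_of_line h (by omega) hnc hW₁ hbig
      · exact skew_of_line h (by omega) hnc hW₂ (by omega)

lemma submodule_le_iff (z : Projectivization k (Fin 4 → k)) (W : Submodule k (Fin 4 → k)) :
    z.submodule ≤ W ↔ z.rep ∈ W := by
  rw [Projectivization.submodule_eq, span_singleton_le_iff_mem]

lemma ncard_eq (Z : Finset (Projectivization k (Fin 4 → k))) (W : Submodule k (Fin 4 → k)) :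
    Set.ncard {z : Projectivization k (Fin 4 → k) | z ∈ Z ∧ z.submodule ≤ W} = (inSub Z W).card := by
  classical
  rw [← Set.ncard_coe_finset, inSub, Finset.coe_filter]
  simp only [submodule_le_iff]

end Groth.Agent.L13.CBPoints
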