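import Groth.Agent.L01.Regular
import Mathlib.RingTheory.Smooth.Basic
import Mathlib.RingTheory.RingHom.Smooth

/-! Injectivity on cotangent spaces: smoothness gives it, and into a regular ring it gives injectivity. -/

universe u

open IsLocalRing

namespace Groth.L13.CotInj

variable {A B : Type u} [CommRing A] [CommRing B] [IsLocalRing A] [IsLocalRing B] (φ : A →+* B)

theorem mem_sq_of_formallySmooth (hφ : φ.FormallySmooth)
    (hloc : ∀ a ∈ maximalIdeal A, φ a ∈ maximalIdeal B)
    (hres : ∀ b : B, ∃ a : A, b - φ a ∈ maximalIdeal B)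
    {a : A} (ha : a ∈ maximalIdeal A) (h2 : φ a ∈ maximalIdeal B ^ 2) :
    a ∈ maximalIdeal A ^ 2 := by
  letI := φ.toAlgebra
  haveI : Algebra.FormallySmooth A B := hφ
  have hq : Function.Bijective (Ideal.quotientMap (maximalIdeal B) φ
      (show maximalIdeal A ≤ (maximalIdeal B).comap φ from hloc)) := by
    refine ⟨?_, ?_⟩
    · haveI : Nontrivial (B ⧸ maximalIdeal B) :=
        Ideal.Quotient.nontrivial_iff.mpr (maximalIdeal.isMaximal B).ne_top
      letI := Ideal.Quotient.field (maximalIdeal A)
      exact RingHom.injective _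
    · intro z
      obtain ⟨b, rfl⟩ := Ideal.Quotient.mk_surjective z
      obtain ⟨c, hc⟩ := hres b
      exact ⟨Ideal.Quotient.mk _ c, (Ideal.Quotient.mk_eq_mk_iff_sub_mem _ _).mpr (by
        rw [← neg_sub]; exact neg_mem hc)⟩
  let e := RingEquiv.ofBijective _ hq
  let f : B →ₐ[A] A ⧸ maximalIdeal A :=
    { toRingHom := e.symm.toRingHom.comp (Ideal.Quotient.mk (maximalIdeal B))
      commutes' := fun r => e.injective ((e.apply_symm_apply _).trans rfl) }
  let g : A ⧸ maximalIdeal A ^ 2 →ₐ[A] A ⧸ maximalIdeal A :=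
    Ideal.Quotient.factorₐ A (Ideal.pow_le_self two_ne_zero)
  have hg : Function.Surjective g := fun z => by
    obtain ⟨c, rfl⟩ := Ideal.Quotient.mk_surjective z
    exact ⟨Ideal.Quotient.mk _ c, rfl⟩
  have hnil : IsNilpotent (RingHom.ker g.toRingHom) := by
    refine ⟨2, le_bot_iff.mp ?_⟩
    have : RingHom.ker g.toRingHom ≤ (maximalIdeal A).map (Ideal.Quotient.mk _) := fun z hz => by
      obtain ⟨c, rfl⟩ := Ideal.Quotient.mk_surjective z
      exact Ideal.mem_map_of_mem _ (Ideal.Quotient.eq_zero_iff_mem.mp hz)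
    refine (Ideal.pow_right_mono this 2).trans ?_
    rw [← Ideal.map_pow, Ideal.map_quotient_self]
  let L := Algebra.FormallySmooth.liftOfSurjective f g hg hnil
  have hL : ∀ b ∈ maximalIdeal B, L b ∈ (maximalIdeal A).map (Ideal.Quotient.mk (maximalIdeal A ^ 2)) := by
    intro b hb
    have h1 : g (L b) = f b := Algebra.FormallySmooth.liftOfSurjective_apply f g hg hnil b
    have h3 : f b = 0 := e.injective (by
      show e (e.symm (Ideal.Quotient.mk _ b)) = e 0
      rw [e.apply_symm_apply, map_zero]
      exact Ideal.Quotient.eq_zero_iff_mem.mpr hb)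
    obtain ⟨c, hc⟩ := Ideal.Quotient.mk_surjective (L b)
    rw [← hc] at h1 ⊢
    exact Ideal.mem_map_of_mem _ (Ideal.Quotient.eq_zero_iff_mem.mp (h1.trans h3))
  have h4 : ∀ b ∈ maximalIdeal B ^ 2, L b = 0 := by
    intro b hb
    rw [pow_two] at hb
    induction hb using Submodule.mul_induction_on' with
    | mem_mul_mem x hx y hy =>
      rw [map_mul]
      have := Ideal.mul_mem_mul (hL x hx) (hL y hy)
      rwa [← pow_two, ← Ideal.map_pow, Ideal.map_quotient_self, Ideal.mem_bot] at this
    | add x _ y _ hx hy => rw [map_add, hx, hy, add_zero]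
  have h5 := h4 _ h2
  rw [show φ a = algebraMap A B a from rfl, AlgHom.commutes] at h5
  exact Ideal.Quotient.eq_zero_iff_mem.mp h5

omit [IsLocalRing A] [IsLocalRing B] in
theorem injective_aux : ∀ (n : ℕ) {A B : Type u} [CommRing A] [IsLocalRing A] [IsNoetherianRing A]
    [CommRing B] [IsRegularLocalRing B] (φ : A →+* B)
    (_ : ∀ a ∈ maximalIdeal A, φ a ∈ maximalIdeal B)
    (_ : ∀ b : B, ∃ a : A, b - φ a ∈ maximalIdeal B)
    (_ : ∀ a ∈ maximalIdeal A, φ a ∈ maximalIdeal B ^ 2 → a ∈ maximalIdeal A ^ 2)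
    (l : List A) (_ : l.length = n) (_ : Ideal.ofList l = maximalIdeal A),
    Function.Injective φ := by
  intro n
  induction n with
  | zero =>
    intro A B _ _ _ _ _ φ _ _ _ l hl hgen
    rw [injective_iff_map_eq_zero]
    intro a ha
    rw [List.length_eq_zero_iff.mp hl, Ideal.ofList_nil] at hgen
    by_contra h0
    have hu : IsUnit a := notMem_maximalIdeal.mp (by rw [← hgen]; exact h0)
    exact not_isUnit_zero (ha ▸ hu.map φ)
  | succ n ih =>
    intro A B _ _ _ _ _ φ hloc hres hcot l hl hgen
    haveI : IsDomain B := Groth.L01.isDomain_of_regular B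
    obtain ⟨x, xs, rfl⟩ : ∃ x xs, l = x :: xs := by
      cases l with
      | nil => simp at hl
      | cons x xs => exact ⟨x, xs, rfl⟩
    simp only [List.length_cons, Nat.add_right_cancel_iff] at hl
    rw [Ideal.ofList_cons] at hgen
    have hx : x ∈ maximalIdeal A := hgen ▸ Ideal.mem_sup_left (Ideal.mem_span_singleton_self x)
    by_cases hx2 : x ∈ maximalIdeal A ^ 2
    · refine ih φ hloc hres hcot xs hl (le_antisymm (hgen ▸ le_sup_right) ?_)
      refine Submodule.le_of_le_smul_of_le_jacobson_bot (Ideal.fg_of_isNoetherianRing _)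
        (maximalIdeal_le_jacobson _) ?_
      rw [smul_eq_mul, ← pow_two]
      nth_rw 1 [← hgen]
      exact sup_le (le_sup_of_le_right ((Ideal.span_singleton_le_iff_mem _).mpr hx2)) le_sup_left
    · have hy : φ x ∈ maximalIdeal B := hloc x hx
      obtain ⟨hreg, -⟩ := Groth.L01.regular_quotient_of_notMem_sq hy (fun h => hx2 (hcot x hx h))
      have hA : Ideal.span {x} ≠ ⊤ := ne_top_of_le_ne_top (maximalIdeal.isMaximal A).ne_top
        ((Ideal.span_singleton_le_iff_mem _).mpr hx)
      haveI := Groth.L01.isLocalRing_quotient hA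
      have hle : Ideal.span {x} ≤ (Ideal.span {φ x}).comap φ := by
        rw [Ideal.span_le, Set.singleton_subset_iff]
        exact Ideal.mem_span_singleton_self _
      have hinj : Function.Injective (Ideal.quotientMap (Ideal.span {φ x}) φ hle) := by
        refine ih _ ?_ ?_ ?_ (xs.map (Ideal.Quotient.mk (Ideal.span {x}))) (by simpa using hl) ?_
        · intro a' ha'
          rw [Groth.L01.maximalIdeal_quotient_eq_map, Ideal.mem_map_iff_of_surjective _
            Ideal.Quotient.mk_surjective] at ha'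
          obtain ⟨a, ha, rfl⟩ := ha'
          rw [Groth.L01.maximalIdeal_quotient_eq_map]
          exact Ideal.mem_map_of_mem _ (hloc a ha)
        · intro b'
          obtain ⟨b, rfl⟩ := Ideal.Quotient.mk_surjective b'
          obtain ⟨a, ha⟩ := hres b
          refine ⟨Ideal.Quotient.mk _ a, ?_⟩
          rw [Groth.L01.maximalIdeal_quotient_eq_map, Ideal.quotientMap_mk, ← map_sub]
          exact Ideal.mem_map_of_mem _ ha
        · intro a' ha' h2
          rw [Groth.L01.maximalIdeal_quotient_eq_map, Ideal.mem_map_iff_of_surjective _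
            Ideal.Quotient.mk_surjective] at ha'
          obtain ⟨a, ha, rfl⟩ := ha'
          rw [Groth.L01.maximalIdeal_quotient_eq_map, ← Ideal.map_pow, Ideal.quotientMap_mk,
            Ideal.mem_map_iff_of_surjective _ Ideal.Quotient.mk_surjective] at h2
          obtain ⟨q, hq, hqa⟩ := h2
          rw [Ideal.Quotient.mk_eq_mk_iff_sub_mem, Ideal.mem_span_singleton'] at hqa
          obtain ⟨c, hc⟩ := hqa
          obtain ⟨c₀, hc₀⟩ := hres c
          have h5 : φ (a + c₀ * x) ∈ maximalIdeal B ^ 2 := by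
            rw [map_add, map_mul, show φ a + φ c₀ * φ x = q - (c - φ c₀) * φ x by
              linear_combination hc]
            exact sub_mem hq (pow_two (maximalIdeal B) ▸ Ideal.mul_mem_mul hc₀ hy)
          have h6 := hcot _ (add_mem ha (Ideal.mul_mem_left _ _ hx)) h5
          rw [Groth.L01.maximalIdeal_quotient_eq_map, ← Ideal.map_pow]
          have : Ideal.Quotient.mk (Ideal.span {x}) a = Ideal.Quotient.mk _ (a + c₀ * x) := by
            rw [Ideal.Quotient.mk_eq_mk_iff_sub_mem, sub_add_cancel_left]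
            exact neg_mem (Ideal.mul_mem_left _ _ (Ideal.mem_span_singleton_self _))
          rw [this]
          exact Ideal.mem_map_of_mem _ h6
        · rw [← Ideal.map_ofList, Groth.L01.maximalIdeal_quotient_eq_map, ← hgen, Ideal.map_sup,
            Ideal.map_quotient_self, bot_sup_eq]
      rw [RingHom.injective_iff_ker_eq_bot]
      refine Submodule.eq_bot_of_le_smul_of_le_jacobson_bot (maximalIdeal A) _
        (Ideal.fg_of_isNoetherianRing _) (fun a ha => ?_) (maximalIdeal_le_jacobson _)
      have ha0 : Ideal.Quotient.mk (Ideal.span {x}) a = 0 := hinj (by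
        rw [Ideal.quotientMap_mk, RingHom.mem_ker.mp ha, map_zero, map_zero])
      obtain ⟨b, rfl⟩ := Ideal.mem_span_singleton'.mp (Ideal.Quotient.eq_zero_iff_mem.mp ha0)
      have hxne : φ x ≠ 0 := fun h => hx2 (hcot x hx (h ▸ zero_mem _))
      have hb : b ∈ RingHom.ker φ := by
        have := RingHom.mem_ker.mp ha
        rw [map_mul] at this
        exact (mul_eq_zero.mp this).resolve_right hxne
      rw [mul_comm]
      exact Submodule.smul_mem_smul hx hb

theorem injective_of_mem_sq {A B : Type u} [CommRing A] [IsLocalRing A] [IsNoetherianRing A]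
    [CommRing B] [IsRegularLocalRing B] (φ : A →+* B)
    (hloc : ∀ a ∈ maximalIdeal A, φ a ∈ maximalIdeal B)
    (hres : ∀ b : B, ∃ a : A, b - φ a ∈ maximalIdeal B)
    (hcot : ∀ a ∈ maximalIdeal A, φ a ∈ maximalIdeal B ^ 2 → a ∈ maximalIdeal A ^ 2) :
    Function.Injective φ := by
  obtain ⟨s, hs⟩ := Ideal.fg_of_isNoetherianRing (maximalIdeal A)
  refine injective_aux _ φ hloc hres hcot s.toList rfl ?_
  rw [Ideal.ofList]
  simpa using hs

end Groth.L13.CotInj
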