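import Groth.Prelude.Def_Curv2
import Groth.Agent.L22.Cyc.OrdGen
import Groth.Agent.S0564
import Mathlib.RingTheory.AdicCompletion.LocalRing

/-!
Local rings of `X ×_A Â` at points over the closed point agree with those of `X` modulo every power
of the maximal ideal of `A`.
-/

set_option autoImplicit false
set_option linter.style.haveILetI false
universe u

open CategoryTheory CategoryTheory.Limits AlgebraicGeometry IsLocalRing

namespace Groth.L13.CplStalk

section Algebra

variable {B C : Type*} [CommRing B] [CommRing C]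

/-- `φ` is an isomorphism modulo the ideal `J`. -/
structure IsModIso (φ : B →+* C) (J : Ideal B) : Prop where
  surj : ∀ c, ∃ b, c - φ b ∈ J.map φ
  inj : ∀ b, φ b ∈ J.map φ → b ∈ J

theorem IsModIso.localization {φ : B →+* C} {J : Ideal B} (h : IsModIso φ J)
    {BP CQ : Type*} [CommRing BP] [CommRing CQ] [Algebra B BP] [Algebra C CQ]
    (Q : Ideal C) [Q.IsPrime] (P : Ideal B) [P.IsPrime] (hPQ : P = Q.comap φ) (hJ : J ≤ P)
    [IsLocalization.AtPrime BP P] [IsLocalization.AtPrime CQ Q] (ψ : BP →+* CQ)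
    (hψ : ψ.comp (algebraMap B BP) = (algebraMap C CQ).comp φ) :
    IsModIso ψ (J.map (algebraMap B BP)) := by
  have hJQ : J.map φ ≤ Q := Ideal.map_le_iff_le_comap.mpr (hJ.trans hPQ.le)
  have hψ' : ∀ b, ψ (algebraMap B BP b) = algebraMap C CQ (φ b) := fun b => RingHom.congr_fun hψ b
  have hK : (J.map (algebraMap B BP)).map ψ = (J.map φ).map (algebraMap C CQ) := by
    rw [Ideal.map_map, Ideal.map_map, hψ]
  have hcompl : ∀ s, s ∉ Q → ∀ t, s - φ t ∈ J.map φ → t ∉ P := by
    intro s hs t ht htP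
    rw [hPQ, Ideal.mem_comap] at htP
    exact hs (by simpa using Q.add_mem (hJQ ht) htP)
  refine ⟨fun y => ?_, fun x hx => ?_⟩
  · obtain ⟨⟨c, s⟩, hy⟩ := IsLocalization.surj Q.primeCompl y
    obtain ⟨b, hb⟩ := h.surj c
    obtain ⟨t, ht⟩ := h.surj s
    obtain ⟨u, hu⟩ := IsLocalization.map_units BP (⟨t, hcompl s s.2 t ht⟩ : P.primeCompl)
    refine ⟨algebraMap B BP b * (↑u⁻¹ : BP), ?_⟩
    rw [hK]
    have hsu : IsUnit (algebraMap C CQ (s : C)) := IsLocalization.map_units CQ s
    rw [← Ideal.unit_mul_mem_iff_mem _ hsu]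
    have e1 : ψ (↑u⁻¹ : BP) * algebraMap C CQ (φ t) = 1 := by
      rw [← hψ', ← hu, ← map_mul, Units.inv_mul, map_one]
    have : algebraMap C CQ (s : C) * (y - ψ (algebraMap B BP b * (↑u⁻¹ : BP))) =
        algebraMap C CQ (c - φ b) -
          algebraMap C CQ ((s : C) - φ t) * (algebraMap C CQ (φ b) * ψ (↑u⁻¹ : BP)) := by
      rw [map_mul, hψ', map_sub, map_sub, ← hy]
      linear_combination (algebraMap C CQ (φ b)) * (-e1)
    rw [this]
    exact sub_mem (Ideal.mem_map_of_mem _ hb) (Ideal.mul_mem_right _ _ (Ideal.mem_map_of_mem _ ht))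
  · obtain ⟨⟨b, s⟩, hx'⟩ := IsLocalization.surj P.primeCompl x
    have hb : algebraMap C CQ (φ b) ∈ (J.map φ).map (algebraMap C CQ) := by
      rw [← hψ', ← hx', map_mul, ← hK]
      exact Ideal.mul_mem_right _ _ hx
    rw [IsLocalization.algebraMap_mem_map_algebraMap_iff Q.primeCompl] at hb
    obtain ⟨r, hr, hrb⟩ := hb
    obtain ⟨t, ht⟩ := h.surj r
    have htb : t * b ∈ J := by
      refine h.inj _ ?_
      have e : φ (t * b) = r * φ b - (r - φ t) * φ b := by rw [map_mul]; ring
      rw [e]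
      exact sub_mem hrb (Ideal.mul_mem_right _ _ ht)
    have hs : IsUnit (algebraMap B BP (s : B)) := IsLocalization.map_units BP s
    rw [← Ideal.mul_unit_mem_iff_mem _ hs, hx',
      IsLocalization.algebraMap_mem_map_algebraMap_iff P.primeCompl]
    exact ⟨t, hcompl r hr t ht, htb⟩

theorem IsModIso.map_maximalIdeal [IsLocalRing B] [IsLocalRing C] {φ : B →+* C} [IsLocalHom φ]
    {J : Ideal B} (h : IsModIso φ J) (hJ : J ≤ maximalIdeal B) :
    (maximalIdeal B).map φ = maximalIdeal C := by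
  have hle : (maximalIdeal B).map φ ≤ maximalIdeal C :=
    ((IsLocalRing.local_hom_TFAE φ).out 0 2).mp ‹_›
  refine le_antisymm hle fun c hc => ?_
  obtain ⟨b, hb⟩ := h.surj c
  have hb' : b ∈ maximalIdeal B := by
    intro hu
    exact hc (by
      by_contra hcu
      have : φ b ∈ maximalIdeal C := by
        have h2 := (maximalIdeal C).sub_mem hcu (hle (Ideal.map_mono hJ hb))
        simpa using h2
      exact this (hu.map φ))
  simpa using ((maximalIdeal B).map φ).add_mem (Ideal.map_mono hJ hb) (Ideal.mem_map_of_mem φ hb')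

theorem IsModIso.bijective_quotientMap_pow [IsLocalRing B] [IsLocalRing C] {φ : B →+* C}
    [IsLocalHom φ] {J : Ideal B} (h : IsModIso φ J) (n : ℕ) (hn : 1 ≤ n)
    (hJ : J ≤ maximalIdeal B ^ n)
    (hle : maximalIdeal B ^ n ≤ (maximalIdeal C ^ n).comap φ) :
    Function.Bijective (Ideal.quotientMap (maximalIdeal C ^ n) φ hle) := by
  have hm : (maximalIdeal B).map φ = maximalIdeal C :=
    h.map_maximalIdeal (hJ.trans (Ideal.pow_le_self (by omega)))
  have hpow : (maximalIdeal B ^ n).map φ = maximalIdeal C ^ n := by rw [Ideal.map_pow, hm]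
  constructor
  · apply Ideal.quotientMap_injective'
    intro b hb
    rw [Ideal.mem_comap, ← hpow] at hb
    suffices ∀ c ∈ (maximalIdeal B ^ n).map φ, ∀ b, c - φ b ∈ J.map φ → b ∈ maximalIdeal B ^ n from
      this _ hb b (by simp)
    intro c hc
    induction hc using Submodule.span_induction with
    | mem c hc =>
      obtain ⟨a, ha, rfl⟩ := hc
      intro b hb
      have := h.inj (a - b) (by rwa [map_sub])
      simpa using sub_mem (SetLike.mem_coe.mp ha) (hJ this)
    | zero =>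
      intro b hb
      exact hJ (h.inj b (by simpa using neg_mem hb))
    | add c d _ _ ihc ihd =>
      intro b hb
      obtain ⟨b₁, hb₁⟩ := h.surj c
      obtain ⟨b₂, hb₂⟩ := h.surj d
      have h3 : b₁ + b₂ - b ∈ J := h.inj _ (by
        have e : φ (b₁ + b₂ - b) = (c + d - φ b) - (c - φ b₁) - (d - φ b₂) := by
          simp only [map_sub, map_add]; ring
        rw [e]; exact sub_mem (sub_mem hb hb₁) hb₂)
      simpa using sub_mem (add_mem (ihc b₁ hb₁) (ihd b₂ hb₂)) (hJ h3)
    | smul r c _ ih =>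
      intro b hb
      obtain ⟨r', hr'⟩ := h.surj r
      obtain ⟨b₁, hb₁⟩ := h.surj c
      have h3 : r' * b₁ - b ∈ J := h.inj _ (by
        have e : φ (r' * b₁ - b) = (r • c - φ b) - (r - φ r') * c - φ r' * (c - φ b₁) := by
          simp only [map_sub, map_mul, smul_eq_mul]; ring
        rw [e]
        exact sub_mem (sub_mem hb (Ideal.mul_mem_right _ _ hr')) (Ideal.mul_mem_left _ _ hb₁))
      simpa using sub_mem (Ideal.mul_mem_left _ r' (ih b₁ hb₁)) (hJ h3)
  · intro y
    obtain ⟨c, rfl⟩ := Ideal.Quotient.mk_surjective y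
    obtain ⟨b, hb⟩ := h.surj c
    refine ⟨Ideal.Quotient.mk _ b, ?_⟩
    rw [Ideal.quotientMap_mk, eq_comm, Ideal.Quotient.mk_eq_mk_iff_sub_mem, ← hpow]
    exact Ideal.map_mono hJ hb

end Algebra

section Completion

variable (A : Type u) [CommRing A] [IsLocalRing A]

theorem exists_sub_algebraMap_mem (hm : (maximalIdeal A).FG) (n : ℕ) (c : Curv2.cpl A) :
    ∃ a, c - algebraMap A (Curv2.cpl A) a ∈ (maximalIdeal A ^ n).map (algebraMap A (Curv2.cpl A)) := by
  obtain ⟨a, ha⟩ := Submodule.Quotient.mk_surjective _ (c.1 n)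
  refine ⟨a, ?_⟩
  rw [← Submodule.restrictScalars_mem A, ← Ideal.smul_top_eq_map,
    AdicCompletion.pow_smul_top_eq_ker_eval hm, LinearMap.mem_ker, map_sub, sub_eq_zero]
  exact ha.symm

variable {A}

theorem isModIso_of_isPushout (hm : (maximalIdeal A).FG) (n : ℕ) {B P : CommRingCat.{u}}
    {g : CommRingCat.of A ⟶ B} {φ : B ⟶ P} {v : CommRingCat.of (Curv2.cpl A) ⟶ P}
    (h : IsPushout g (CommRingCat.ofHom (algebraMap A (Curv2.cpl A))) φ v) :
    IsModIso φ.hom ((maximalIdeal A ^ n).map g.hom) := by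
  set J := (maximalIdeal A ^ n).map g.hom with hJdef
  let e : (A ⧸ maximalIdeal A ^ n) →+* B ⧸ J := Ideal.quotientMap J g.hom Ideal.le_comap_map
  let r : P ⟶ CommRingCat.of (B ⧸ J) := h.desc (CommRingCat.ofHom (Ideal.Quotient.mk J))
    (CommRingCat.ofHom (e.comp (AdicCompletion.evalₐ (maximalIdeal A) n).toRingHom)) (by
      refine CommRingCat.hom_ext (RingHom.ext fun a => ?_)
      show Ideal.Quotient.mk J (g.hom a) =
        e (AdicCompletion.evalₐ (maximalIdeal A) n (algebraMap A _ a))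
      rw [AlgHom.commutes, Ideal.Quotient.algebraMap_eq, Ideal.quotientMap_mk])
  have hr : ∀ b, r.hom (φ.hom b) = Ideal.Quotient.mk J b := fun b =>
    congr($(h.inl_desc _ _ _).hom b)
  refine ⟨fun p => ?_, fun b hb => ?_⟩
  · obtain ⟨b, hb⟩ := Ideal.Quotient.mk_surjective (r.hom p)
    refine ⟨b, ?_⟩
    let w : CommRingCat.of (B ⧸ J) ⟶ CommRingCat.of (P ⧸ J.map φ.hom) :=
      CommRingCat.ofHom (Ideal.quotientMap (J.map φ.hom) φ.hom Ideal.le_comap_map)
    have key : r ≫ w = CommRingCat.ofHom (Ideal.Quotient.mk (J.map φ.hom)) := by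
      apply h.hom_ext
      · refine CommRingCat.hom_ext (RingHom.ext fun b => ?_)
        show w.hom (r.hom (φ.hom b)) = Ideal.Quotient.mk _ (φ.hom b)
        rw [hr]
        exact Ideal.quotientMap_mk (H := Ideal.le_comap_map)
      · refine CommRingCat.hom_ext (RingHom.ext fun c => ?_)
        show w.hom (r.hom (v.hom c)) = Ideal.Quotient.mk _ (v.hom c)
        obtain ⟨a, ha⟩ := exists_sub_algebraMap_mem A hm n c
        have hva : v.hom (algebraMap A _ a) = φ.hom (g.hom a) := congr($(h.w).hom a).symm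
        have hker : ((maximalIdeal A ^ n).map (algebraMap A (Curv2.cpl A))).map v.hom = J.map φ.hom := by
          rw [hJdef, Ideal.map_map, Ideal.map_map]
          congr 1
          exact RingHom.ext fun a => congr($(h.w).hom a).symm
        have h1 : v.hom c - φ.hom (g.hom a) ∈ J.map φ.hom := by
          rw [← hva, ← map_sub, ← hker]; exact Ideal.mem_map_of_mem _ ha
        have h2 : r.hom (v.hom c - φ.hom (g.hom a)) = 0 := by
          have h3 := Ideal.mem_map_of_mem r.hom h1
          rw [Ideal.map_map, show r.hom.comp φ.hom = Ideal.Quotient.mk J from RingHom.ext hr,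
            Ideal.map_quotient_self] at h3
          exact h3
        rw [map_sub, sub_eq_zero, hr] at h2
        rw [h2]
        refine (Ideal.quotientMap_mk (H := Ideal.le_comap_map)).trans ?_
        rw [eq_comm, Ideal.Quotient.mk_eq_mk_iff_sub_mem]
        exact h1
    have := congr($(key).hom p)
    change w.hom (r.hom p) = Ideal.Quotient.mk _ p at this
    rw [← hb] at this
    exact (Ideal.Quotient.mk_eq_mk_iff_sub_mem _ _).mp (this.symm.trans (Ideal.quotientMap_mk (H := Ideal.le_comap_map)))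
  · have h3 := Ideal.mem_map_of_mem r.hom hb
    rw [Ideal.map_map, show r.hom.comp φ.hom = Ideal.Quotient.mk J from RingHom.ext hr,
      Ideal.map_quotient_self, hr] at h3
    exact Ideal.Quotient.eq_zero_iff_mem.mp h3

theorem exists_isModIso_stalkMap (hm : (maximalIdeal A).FG) {X : Scheme.{u}}
    (f : X ⟶ Spec (CommRingCat.of A)) (q : ↥(Curv2.bcCpl A f))
    (hq : f ((Curv2.bcCplFst A f) q) = closedPoint A) (n : ℕ) (hn : 1 ≤ n) :
    ∃ J : Ideal (X.presheaf.stalk ((Curv2.bcCplFst A f) q)),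
      J ≤ maximalIdeal _ ^ n ∧ IsModIso ((Curv2.bcCplFst A f).stalkMap q).hom J := by
  obtain ⟨U, hU, hpU, -⟩ := exists_isAffineOpen_mem_and_subset (x := (Curv2.bcCplFst A f) q)
    (U := (⊤ : X.Opens)) trivial
  let fst := Curv2.bcCplFst A f
  let snd := Curv2.bcCplSnd A f
  let gA := Spec.map (CommRingCat.ofHom (algebraMap A (Curv2.cpl A)))
  have H : IsPullback fst snd f gA := IsPullback.of_hasPullback _ _
  haveI : IsAffineHom fst := MorphismProperty.pullback_fst _ _ inferInstance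
  let V := fst ⁻¹ᵁ U
  have hV : IsAffineOpen V := hU.preimage fst
  have hUY : V = fst ⁻¹ᵁ U ⊓ snd ⁻¹ᵁ ⊤ := by simp [V]
  haveI := isIso_pushoutSection_of_isAffineOpen H (US := ⊤) (UT := ⊤) (UX := U) (UY := V)
    (by simp) (by simp) hUY (isAffineOpen_top _) (isAffineOpen_top _) hU
  have HP := (isIso_pushoutSection_iff H (US := ⊤) (UT := ⊤) (UX := U) (UY := V)
    _ _ hUY).mp inferInstance
  let g : CommRingCat.of A ⟶ Γ(X, U) := (Scheme.ΓSpecIso _).inv ≫ f.appLE ⊤ U (by simp)
  let v : CommRingCat.of (Curv2.cpl A) ⟶ Γ(Curv2.bcCpl A f, V) :=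
    (Scheme.ΓSpecIso _).inv ≫ snd.appLE ⊤ V (by simp)
  have HP' : IsPushout g (CommRingCat.ofHom (algebraMap A (Curv2.cpl A))) (fst.appLE U V le_rfl) v := by
    refine HP.of_iso (Scheme.ΓSpecIso _) (Iso.refl _) (Scheme.ΓSpecIso _) (Iso.refl _) ?_ ?_ ?_ ?_
    · simp [g]
    · rw [show gA.appLE ⊤ ⊤ _ = gA.appTop from Scheme.Hom.appLE_eq_app gA]
      exact Scheme.ΓSpecIso_naturality _
    · simp
    · simp [v]
  have hB := isModIso_of_isPushout hm n HP'
  let := X.presheaf.algebra_section_stalk (U := U) ⟨fst q, hpU⟩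
  let := (Curv2.bcCpl A f).presheaf.algebra_section_stalk (U := V) ⟨q, hpU⟩
  haveI := hU.isLocalization_stalk ⟨fst q, hpU⟩
  haveI := hV.isLocalization_stalk ⟨q, hpU⟩
  have hP : (hU.primeIdealOf ⟨fst q, hpU⟩).asIdeal =
      ((hV.primeIdealOf ⟨q, hpU⟩).asIdeal).comap (fst.appLE U V le_rfl).hom :=
    congr($(IsAffineOpen.comap_primeIdealOf_appLE U hU V hV le_rfl hpU).1).symm
  have hgm : ∀ a ∈ maximalIdeal A, (X.presheaf.germ U (fst q) hpU).hom (g.hom a) ∈ maximalIdeal _ := by
    intro a ha hu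
    replace hu : fst q ∈ X.basicOpen (f.appLE ⊤ U (by simp) ((Scheme.ΓSpecIso _).inv a)) :=
      (X.mem_basicOpen _ (fst q) hpU).mpr hu
    rw [Scheme.Hom.appLE, CommRingCat.comp_apply, Scheme.basicOpen_res, ← Scheme.preimage_basicOpen] at hu
    have h2 : f (fst q) ∈ (Spec (CommRingCat.of A)).basicOpen ((Scheme.ΓSpecIso _).inv a) := hu.2
    rw [basicOpen_eq_of_affine, hq] at h2
    exact h2 ha
  have hJ : ((maximalIdeal A ^ n).map g.hom).map (X.presheaf.germ U (fst q) hpU).hom ≤ maximalIdeal _ ^ n := by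
    rw [Ideal.map_map, Ideal.map_pow]
    exact Ideal.pow_right_mono (Ideal.map_le_iff_le_comap.mpr hgm) n
  have hJP : (maximalIdeal A ^ n).map g.hom ≤ (hU.primeIdealOf ⟨fst q, hpU⟩).asIdeal := by
    refine Ideal.map_le_iff_le_comap.mpr fun a ha => ?_
    rw [Ideal.mem_comap, ← IsLocalization.AtPrime.to_map_mem_maximal_iff
      (X.presheaf.stalk (fst q)) (hU.primeIdealOf ⟨fst q, hpU⟩).asIdeal (g.hom a)]
    exact hgm a (Ideal.pow_le_self (by omega) ha)
  refine ⟨_, hJ, hB.localization _ _ hP hJP (fst.stalkMap q).hom ?_⟩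
  refine RingHom.ext fun b => ?_
  show (fst.stalkMap q).hom ((X.presheaf.germ U (fst q) hpU).hom b) = _
  exact (Scheme.Hom.germ_stalkMap_apply fst U q hpU b).trans (by
    rw [Scheme.Hom.appLE_eq_app]; rfl)

theorem map_maximalIdeal_stalkMap (hm : (maximalIdeal A).FG) {X : Scheme.{u}}
    (f : X ⟶ Spec (CommRingCat.of A)) (q : ↥(Curv2.bcCpl A f))
    (hq : f ((Curv2.bcCplFst A f) q) = closedPoint A) :
    (maximalIdeal _).map ((Curv2.bcCplFst A f).stalkMap q).hom = maximalIdeal _ := by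
  obtain ⟨J, hJ, h⟩ := exists_isModIso_stalkMap hm f q hq 1 le_rfl
  exact h.map_maximalIdeal (by simpa using hJ)

end Completion

theorem isRegularLocalRing_of_specializes {X : Scheme.{u}} {x ξ : X} (h : ξ ⤳ x)
    (hx : IsRegularLocalRing (X.presheaf.stalk x)) : IsRegularLocalRing (X.presheaf.stalk ξ) := by
  letI := (X.presheaf.stalkSpecializes h).hom.toAlgebra
  haveI : (RingHom.ker (Cyc.specMap x ξ h)).IsPrime := RingHom.ker_isPrime _
  haveI := Groth.L22.Cyc.isLocalization_stalkSpecializes h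
  haveI := Groth.Agent.S0564.result (X.presheaf.stalk x) (RingHom.ker (Cyc.specMap x ξ h))
  exact IsRegularLocalRing.of_ringEquiv
    (IsLocalization.algEquiv (RingHom.ker (Cyc.specMap x ξ h)).primeCompl
      (Localization.AtPrime (RingHom.ker (Cyc.specMap x ξ h))) (X.presheaf.stalk ξ)).toRingEquiv

end Groth.L13.CplStalk
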