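import Mathlib.RingTheory.Ideal.Cotangent
import Mathlib.RingTheory.Artinian.Module
import Mathlib.RingTheory.Artinian.Ring
import Mathlib.RingTheory.AdjoinRoot
import Mathlib.FieldTheory.IsAlgClosed.Basic
import Mathlib.RingTheory.Flat.FaithfullyFlat.Algebra

/-!
# Curvilinear finite local algebras
-/

set_option autoImplicit false
universe u

open Polynomial IsLocalRing

noncomputable section

namespace Groth.L13.Curvilinear

variable {k : Type u} [Field k] [IsAlgClosed k]

theorem exists_equiv_of_principal {B : Type u} [CommRing B] [IsLocalRing B] [Algebra k B] [Module.Finite k B]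
    (π : B) (hπ : maximalIdeal B = Ideal.span {π}) :
    Nonempty (B ≃ₐ[k] (k[X] ⧸ Ideal.span {(X : k[X]) ^ Module.finrank k B})) := by
  classical
  haveI : IsArtinianRing B := IsArtinianRing.of_finite k B
  have hnil : IsNilpotent π := by
    obtain ⟨e, he⟩ := IsArtinianRing.isNilpotent_jacobson_bot (R := B)
    refine ⟨e, ?_⟩
    have hm : π ∈ Ideal.jacobson (⊥ : Ideal B) := by
      rw [IsLocalRing.jacobson_eq_maximalIdeal ⊥ bot_ne_top, hπ]
      exact Ideal.subset_span rfl
    simpa [he] using Ideal.pow_mem_pow hm e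
  have hsplit : ∀ b : B, ∃ (c : k) (b' : B), b = algebraMap k B c + π * b' := fun b => by
    obtain ⟨c, hc⟩ := (IsAlgClosed.algebraMap_bijective_of_isIntegral (k := k) (K := ResidueField B)).2
      (residue B b)
    have : b - algebraMap k B c ∈ maximalIdeal B := by
      rw [← residue_eq_zero_iff, map_sub, ← hc, IsScalarTower.algebraMap_apply k B (ResidueField B)]
      exact sub_self _
    rw [hπ, Ideal.mem_span_singleton'] at this
    obtain ⟨b', hb'⟩ := this
    exact ⟨c, b', by rw [mul_comm, hb']; ring⟩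
  let φ : k[X] →ₐ[k] B := aeval π
  have hsurj : Function.Surjective φ := fun b => by
    have h : ∀ e : ℕ, ∀ b : B, ∃ (p : k[X]) (r : B), b = φ p + π ^ e * r := by
      intro e
      induction e with
      | zero => exact fun b => ⟨0, b, by simp⟩
      | succ e ih =>
        intro b
        obtain ⟨p, r, hr⟩ := ih b
        obtain ⟨c, r', hr'⟩ := hsplit r
        exact ⟨p + C c * X ^ e, r', by rw [hr, hr', map_add]; simp [φ]; ring⟩
    obtain ⟨N, hN⟩ := hnil
    obtain ⟨p, r, hr⟩ := h N b
    exact ⟨p, by rw [hr, hN, zero_mul, add_zero]⟩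
  let N := Nat.find hnil
  have hker : RingHom.ker φ = Ideal.span {(X : k[X]) ^ N} := by
    refine le_antisymm (fun p hp => ?_) ((Ideal.span_singleton_le_iff_mem _).2 ?_)
    · rw [Ideal.mem_span_singleton]
      rcases eq_or_ne p 0 with rfl | hp0
      · exact dvd_zero _
      obtain ⟨q, hq, hq0⟩ := exists_eq_pow_rootMultiplicity_mul_and_not_dvd p hp0 0
      simp only [map_zero, sub_zero] at hq hq0
      rw [X_dvd_iff] at hq0
      have hu : IsUnit (φ q) := by
        rw [← notMem_maximalIdeal, hπ]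
        intro hmem
        have h1 : φ (q - C (q.coeff 0)) ∈ Ideal.span {π} := by
          obtain ⟨q', hq'⟩ : X ∣ q - C (q.coeff 0) := X_dvd_iff.2 (by simp)
          rw [hq', map_mul, show φ X = π by simp [φ]]
          exact Ideal.mul_mem_right _ _ (Ideal.subset_span rfl)
        have h2 := sub_mem hmem h1
        rw [← map_sub, sub_sub_cancel, show φ (C (q.coeff 0)) = algebraMap k B (q.coeff 0) by simp [φ], ← hπ] at h2
        exact h2 ((IsUnit.mk0 _ hq0).map _)
      have h0 : π ^ rootMultiplicity 0 p = 0 := by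
        have : φ p = 0 := hp
        rw [hq, map_mul, map_pow, show φ X = π by simp [φ]] at this
        exact hu.mul_left_eq_zero.1 this
      exact (pow_dvd_pow _ (Nat.find_min' hnil h0)).trans ⟨q, hq⟩
    · show φ (X ^ N) = 0
      rw [map_pow, show φ X = π by simp [φ]]
      exact Nat.find_spec hnil
  let e : (k[X] ⧸ Ideal.span {(X : k[X]) ^ N}) ≃ₐ[k] B :=
    (Ideal.quotientEquivAlgOfEq k hker.symm).trans (Ideal.quotientKerAlgEquivOfSurjective hsurj)
  have hN : Module.finrank k B = N := by
    rw [← e.toLinearEquiv.finrank_eq, finrank_quotient_span_eq_natDegree, natDegree_X_pow]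
  rw [hN]
  exact ⟨e.symm⟩

theorem exists_equiv {B : Type u} [CommRing B] [IsLocalRing B] [Algebra k B] [Module.Finite k B]
    (h : Module.finrank (ResidueField B) (CotangentSpace B) ≤ 1) :
    Nonempty (B ≃ₐ[k] (k[X] ⧸ Ideal.span {(X : k[X]) ^ Module.finrank k B})) := by
  haveI : IsNoetherianRing B := isNoetherian_of_tower k inferInstance
  obtain ⟨π, hπ⟩ := (finrank_cotangentSpace_le_one_iff.1 h).principal
  exact exists_equiv_of_principal π hπ

theorem exists_equiv_subalgebra (n : ℕ) (hn : 0 < n)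
    (A : Subalgebra k (k[X] ⧸ Ideal.span {(X : k[X]) ^ n}))
    [Module.Flat A (k[X] ⧸ Ideal.span {(X : k[X]) ^ n})] :
    ∃ m : ℕ, Nonempty (A ≃ₐ[k] (k[X] ⧸ Ideal.span {(X : k[X]) ^ m})) := by
  classical
  let B := k[X] ⧸ Ideal.span {(X : k[X]) ^ n}
  let π : B := Ideal.Quotient.mk _ X
  have hπn : π ^ n = 0 := by
    exact (map_pow (Ideal.Quotient.mk (Ideal.span {(X : k[X]) ^ n})) X n).symm.trans
      (Ideal.Quotient.eq_zero_iff_mem.2 (Ideal.subset_span rfl))
  have hunit : ∀ p : k[X], p.coeff 0 ≠ 0 → IsUnit (Ideal.Quotient.mk _ p : B) := fun p hp => by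
    obtain ⟨p', hp'⟩ : X ∣ p - C (p.coeff 0) := X_dvd_iff.2 (by simp)
    rw [show p = X * p' + C (p.coeff 0) by rw [← hp']; ring, map_add, map_mul]
    refine (Commute.all _ _).isNilpotent_mul_right ⟨n, hπn⟩ |>.isUnit_add_right_of_commute
      ((isUnit_C.2 (IsUnit.mk0 _ hp)).map (Ideal.Quotient.mk (Ideal.span {(X : k[X]) ^ n}))) (Commute.all _ _)
  have hn1 : (Ideal.span {(X : k[X]) ^ n}) ≠ ⊤ := by
    rw [Ne, Ideal.span_singleton_eq_top, isUnit_pow_iff hn.ne']; exact not_isUnit_X
  haveI : Nontrivial B := Ideal.Quotient.nontrivial_iff.2 hn1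
  have hcase : ∀ b : B, IsUnit b ∨ b ∈ Ideal.span {π} := fun b => by
    obtain ⟨p, rfl⟩ := Ideal.Quotient.mk_surjective b
    by_cases hp : p.coeff 0 = 0
    · obtain ⟨p', rfl⟩ := X_dvd_iff.2 hp
      exact Or.inr (Ideal.mem_span_singleton.2 ⟨Ideal.Quotient.mk _ p', map_mul _ _ _⟩)
    · exact Or.inl (hunit p hp)
  have hnot : ∀ b : B, b ∈ Ideal.span {π} → ¬ IsUnit b := fun b hb hu => by
    obtain ⟨c, rfl⟩ := Ideal.mem_span_singleton.1 hb
    exact (isUnit_of_mul_isUnit_left hu |>.pow n).ne_zero hπn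
  haveI : IsLocalRing B := IsLocalRing.of_nonunits_add fun a b ha hb hab => by
    exact hnot _ (add_mem ((hcase a).resolve_left ha) ((hcase b).resolve_left hb)) hab
  haveI : Module.Finite k B := (monic_X_pow (R := k) n).finite_quotient
  haveI : Module.Finite k A := Module.Finite.of_injective A.val.toLinearMap Subtype.val_injective
  haveI : Algebra.IsIntegral k A := Algebra.IsIntegral.of_finite k A
  haveI : IsDomain k := inferInstance
  haveI : IsArtinianRing A := IsArtinianRing.of_finite k A
  have hunitA : ∀ a : A, IsUnit (algebraMap A B a) → IsUnit a := fun a ha =>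
    IsArtinianRing.isUnit_of_mem_nonZeroDivisors (mem_nonZeroDivisors_iff_right.2 fun z hz =>
      Subtype.ext (ha.mul_left_eq_zero.1 (congrArg Subtype.val hz)))
  haveI : Nontrivial A := inferInstance
  haveI : IsLocalRing A := IsLocalRing.of_nonunits_add fun a b ha hb hab => by
    have : IsUnit (algebraMap A B a + algebraMap A B b) := by rw [← map_add]; exact hab.map _
    exact (IsLocalRing.nonunits_add (fun h => ha (hunitA a h)) (fun h => hb (hunitA b h))) this
  haveI hff : @Module.FaithfullyFlat A B _ _ Algebra.toModule := by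
    haveI : IsLocalHom (algebraMap A B) := ⟨hunitA⟩
    haveI hf : @Module.Flat A B _ _ Algebra.toModule := ‹Module.Flat A (k[X] ⧸ Ideal.span {(X : k[X]) ^ n})›
    exact Module.FaithfullyFlat.of_flat_of_isLocalHom
  obtain ⟨a, ha⟩ : ∃ a : A, maximalIdeal A = Ideal.span {a} := by
    by_cases h0 : maximalIdeal A = ⊥
    · exact ⟨0, by simp [h0]⟩
    obtain ⟨x, hx, hx0⟩ := Submodule.exists_mem_ne_zero_of_ne_bot h0
    have hex : ∃ d, ∃ a ∈ maximalIdeal A, ¬ π ^ (d + 1) ∣ algebraMap A B a := by
      refine ⟨n, x, hx, fun hd => hx0 ?_⟩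
      rw [pow_succ, hπn, zero_mul, zero_dvd_iff] at hd
      exact Subtype.ext hd
    obtain ⟨a, ha, had⟩ := Nat.find_spec hex
    set d := Nat.find hex
    have hall : ∀ b ∈ maximalIdeal A, π ^ d ∣ algebraMap A B b := fun b hb => by
      cases hd' : d with
      | zero => simp
      | succ d' =>
        by_contra hc
        exact Nat.find_min hex (show d' < d by omega) ⟨b, hb, hc⟩
    obtain ⟨u, hu⟩ := hall a ha
    have huu : IsUnit u := (hcase u).resolve_right fun h => had (by
      obtain ⟨c, rfl⟩ := Ideal.mem_span_singleton.1 h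
      exact ⟨c, by rw [hu]; ring⟩)
    refine ⟨a, le_antisymm ?_ ((Ideal.span_singleton_le_iff_mem _).2 ha)⟩
    rw [← Ideal.comap_map_eq_self_of_faithfullyFlat (B := B) (Ideal.span {a})]
    intro b hb
    rw [Ideal.mem_comap, Ideal.map_span, Set.image_singleton, hu, Ideal.mem_span_singleton]
    exact (huu.mul_right_dvd).2 (hall b hb)
  exact ⟨_, exists_equiv_of_principal a ha⟩

end Groth.L13.Curvilinear
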