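import Mathlib.RingTheory.MvPolynomial.Ideal
import Mathlib.Algebra.MvPolynomial.PDeriv
import Mathlib.LinearAlgebra.Dimension.Constructions
import Mathlib.Algebra.CharP.Basic
import Mathlib.Algebra.CharP.Lemmas
import Mathlib.Tactic.LinearCombination
import Mathlib.Tactic.FieldSimp

/-!
# The Tjurina algebra of the cusp
-/

set_option autoImplicit false
universe u

open MvPolynomial

noncomputable section

namespace Groth.L13.CuspTjurina

variable (k : Type u) [Field k]

/-- the exponent `(i, j)` -/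
def expo (i j : ℕ) : Fin 2 →₀ ℕ := Finsupp.single 0 i + Finsupp.single 1 j

theorem finrank_monomial_quotient (a b : ℕ) :
    Module.finrank k (MvPolynomial (Fin 2) k ⧸
      Ideal.span ({X 0 ^ a, X 1 ^ b} : Set (MvPolynomial (Fin 2) k))) = a * b := by
  classical
  let P := MvPolynomial (Fin 2) k
  let I : Ideal P := Ideal.span ({X 0 ^ a, X 1 ^ b} : Set P)
  let L : P →ₗ[k] (Fin a × Fin b → k) := LinearMap.pi fun q => lcoeff k (expo q.1 q.2)
  have hI : I = Ideal.span ((fun s => monomial s (1 : k)) '' {Finsupp.single 0 a, Finsupp.single 1 b}) := by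
    simp only [I, Set.image_insert_eq, Set.image_singleton, X_pow_eq_monomial]
    rfl
  have hdec : ∀ s : Fin 2 →₀ ℕ, s = expo (s 0) (s 1) := fun s => by
    ext i; fin_cases i <;> simp [expo]
  have hmem : ∀ f : P, f ∈ I ↔ L f = 0 := by
    intro f
    rw [hI, mem_ideal_span_monomial_image]
    constructor
    · intro h
      funext q
      show coeff (expo q.1 q.2) f = 0
      by_contra hne
      obtain ⟨si, hsi, hle⟩ := h _ (mem_support_iff.2 hne)
      rcases hsi with rfl | rfl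
      · have := Finsupp.single_le_iff.1 hle; have := q.1.2; simp [expo] at *; omega
      · have := Finsupp.single_le_iff.1 hle; have := q.2.2; simp [expo] at *; omega
    · intro h xi hxi
      by_contra hno
      push Not at hno
      have h0 : xi 0 < a := not_le.1 fun hh => hno _ (Or.inl rfl) (Finsupp.single_le_iff.2 hh)
      have h1 : xi 1 < b := not_le.1 fun hh => hno _ (Or.inr rfl) (Finsupp.single_le_iff.2 hh)
      refine mem_support_iff.1 hxi ?_
      have := congrFun h (⟨xi 0, h0⟩, ⟨xi 1, h1⟩)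
      rw [hdec xi]
      exact this
  have hsurj : Function.Surjective L := fun g => by
    refine ⟨∑ q : Fin a × Fin b, monomial (expo q.1 q.2) (g q), funext fun q => ?_⟩
    show coeff (expo q.1 q.2) _ = g q
    rw [coeff_sum, Finset.sum_eq_single q]
    · rw [coeff_monomial, if_pos rfl]
    · intro q' _ hne
      rw [coeff_monomial, if_neg]
      intro he
      refine hne ?_
      have h0 := congrArg (fun s : Fin 2 →₀ ℕ => s 0) he
      have h1 := congrArg (fun s : Fin 2 →₀ ℕ => s 1) he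
      simp [expo] at h0 h1
      exact Prod.ext (Fin.ext h0) (Fin.ext h1)
    · simp
  have hker : I.restrictScalars k = LinearMap.ker L := Submodule.ext fun f => hmem f
  let e : (P ⧸ I) ≃ₗ[k] (Fin a × Fin b → k) :=
    (Submodule.Quotient.restrictScalarsEquiv k I).symm.trans
      ((Submodule.quotEquivOfEq _ _ hker).trans (LinearMap.quotKerEquivOfSurjective L hsurj))
  rw [e.finrank_eq]
  simp

theorem main (p : ℕ) [CharP k p] :
    Module.finrank k (MvPolynomial (Fin 2) k ⧸ Ideal.span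
      ({X 1 ^ 2 - X 0 ^ 3, pderiv 0 (X 1 ^ 2 - X 0 ^ 3), pderiv 1 (X 1 ^ 2 - X 0 ^ 3)} :
        Set (MvPolynomial (Fin 2) k))) = (if p = 2 then 4 else if p = 3 then 3 else 2) := by
  let P := MvPolynomial (Fin 2) k
  have d0 : pderiv 0 (X 1 ^ 2 - X 0 ^ 3 : P) = -(C (3 : k) * X 0 ^ 2) := by
    simp [pderiv_X_of_ne, map_ofNat, mul_comm]
  have d1 : pderiv 1 (X 1 ^ 2 - X 0 ^ 3 : P) = C (2 : k) * X 1 := by
    simp [pderiv_X_of_ne, map_ofNat, mul_comm]
  rw [d0, d1]
  have key : ∀ a b : ℕ, Ideal.span ({X 1 ^ 2 - X 0 ^ 3, -(C (3 : k) * X 0 ^ 2), C (2 : k) * X 1} : Set P) =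
      Ideal.span ({X 0 ^ a, X 1 ^ b} : Set P) →
      Module.finrank k (P ⧸ Ideal.span ({X 1 ^ 2 - X 0 ^ 3, -(C (3 : k) * X 0 ^ 2), C (2 : k) * X 1} : Set P)) = a * b :=
    fun a b h => h ▸ finrank_monomial_quotient k a b
  have sub : ∀ (r s : P) (J : Ideal P), (r ∈ J ∧ s ∈ J) → Ideal.span ({r, s} : Set P) ≤ J := fun r s J h =>
    Ideal.span_le.2 (Set.insert_subset h.1 (Set.singleton_subset_iff.2 h.2))
  have sub3 : ∀ (r s t : P) (J : Ideal P), (r ∈ J ∧ s ∈ J ∧ t ∈ J) → Ideal.span ({r, s, t} : Set P) ≤ J :=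
    fun r s t J h => Ideal.span_le.2
      (Set.insert_subset h.1 (Set.insert_subset h.2.1 (Set.singleton_subset_iff.2 h.2.2)))
  set F : P := X 1 ^ 2 - X 0 ^ 3
  set J : Ideal P := Ideal.span ({F, -(C (3 : k) * X 0 ^ 2), C (2 : k) * X 1} : Set P)
  have mF : F ∈ J := Ideal.subset_span (Or.inl rfl)
  have mA : -(C (3 : k) * X 0 ^ 2) ∈ J := Ideal.subset_span (Or.inr (Or.inl rfl))
  have mB : C (2 : k) * X 1 ∈ J := Ideal.subset_span (Or.inr (Or.inr rfl))
  have unit : ∀ (c : k), c ≠ 0 → ∀ z : P, C c * z ∈ J → z ∈ J := fun c hc z hz => by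
    have := J.mul_mem_left (C c⁻¹) hz
    rwa [← mul_assoc, ← map_mul, inv_mul_cancel₀ hc, map_one, one_mul] at this
  have gen : ∀ (a b : ℕ), (X 0 ^ a : P) ∈ Ideal.span ({X 0 ^ a, X 1 ^ b} : Set P) ∧
      (X 1 ^ b : P) ∈ Ideal.span ({X 0 ^ a, X 1 ^ b} : Set P) :=
    fun a b => ⟨Ideal.subset_span (Or.inl rfl), Ideal.subset_span (Or.inr rfl)⟩
  split_ifs with hp2 hp3
  · subst hp2
    have h2 : (2 : k) = 0 := CharP.cast_eq_zero k 2
    have h3 : (3 : k) = 1 := by linear_combination h2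
    refine key 2 2 (le_antisymm (sub3 _ _ _ _ ⟨?_, ?_, ?_⟩) (sub _ _ _ ⟨?_, ?_⟩))
    · exact sub_mem (gen 2 2).2 (by rw [pow_succ]; exact Ideal.mul_mem_right _ _ (gen 2 2).1)
    · exact neg_mem (Ideal.mul_mem_left _ _ (gen 2 2).1)
    · rw [h2, map_zero, zero_mul]; exact zero_mem _
    · exact unit _ (h3 ▸ one_ne_zero) _ (neg_mem_iff.1 mA)
    · have hx : (X 0 ^ 2 : P) ∈ J := unit _ (h3 ▸ one_ne_zero) _ (neg_mem_iff.1 mA)
      have := add_mem mF (J.mul_mem_right (X 0) hx)
      convert this using 1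
      simp [F]; ring
  · subst hp3
    have h3 : (3 : k) = 0 := CharP.cast_eq_zero k 3
    have h2 : (2 : k) ≠ 0 := fun h => one_ne_zero (α := k) (by linear_combination h3 - h)
    refine (key 3 1 (le_antisymm (sub3 _ _ _ _ ⟨?_, ?_, ?_⟩) (sub _ _ _ ⟨?_, ?_⟩))).trans rfl
    · refine sub_mem ?_ (gen 3 1).1
      rw [sq]; exact Ideal.mul_mem_left _ _ (by simpa using (gen 3 1).2)
    · rw [h3, map_zero, zero_mul, neg_zero]; exact zero_mem _
    · exact Ideal.mul_mem_left _ _ (by simpa using (gen 3 1).2)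
    · have := sub_mem (J.mul_mem_left (X 1) (unit _ h2 _ mB)) mF
      convert this using 1
      simp [F]; ring
    · simpa using unit _ h2 _ mB
  · have hne : ∀ q : ℕ, q.Prime → p ≠ q → (q : k) ≠ 0 := fun q hq hpq h => by
      rcases CharP.char_is_prime_or_zero k p with hp | hp
      · exact hpq ((Nat.prime_dvd_prime_iff_eq hp hq).1 ((CharP.cast_eq_zero_iff k p q).1 h))
      · exact hq.ne_zero (Nat.eq_zero_of_zero_dvd (hp ▸ (CharP.cast_eq_zero_iff k p q).1 h))
    have h2 : (2 : k) ≠ 0 := by simpa using hne 2 Nat.prime_two hp2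
    have h3 : (3 : k) ≠ 0 := by simpa using hne 3 Nat.prime_three hp3
    refine key 2 1 (le_antisymm (sub3 _ _ _ _ ⟨?_, ?_, ?_⟩) (sub _ _ _ ⟨?_, ?_⟩))
    · refine sub_mem ?_ (by rw [pow_succ (n := 2)]; exact Ideal.mul_mem_right _ _ (gen 2 1).1)
      rw [sq (X 1 : P)]; exact Ideal.mul_mem_left _ _ (by simpa using (gen 2 1).2)
    · exact neg_mem (Ideal.mul_mem_left _ _ (gen 2 1).1)
    · exact Ideal.mul_mem_left _ _ (by simpa using (gen 2 1).2)
    · exact unit _ h3 _ (neg_mem_iff.1 mA)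
    · simpa using unit _ h2 _ mB

end Groth.L13.CuspTjurina
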