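import Mathlib.RingTheory.Flat.Rank
import Mathlib.RingTheory.RingHom.Flat
import Mathlib.RingTheory.RingHom.FinitePresentation
import Mathlib.RingTheory.Finiteness.ModuleFinitePresentation
import Mathlib.RingTheory.Spectrum.Prime.FreeLocus
import Mathlib.Algebra.Module.FinitePresentation
import Mathlib.RingTheory.Localization.AtPrime.Basic
import Mathlib.RingTheory.Nakayama
import Mathlib.LinearAlgebra.Dimension.Constructions
import Mathlib.Tactic.LinearCombination
import Mathlib.Tactic.Ring

/-!
Quadratic algebras with a generator: the conjugation.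
-/

set_option autoImplicit false

universe u

namespace Groth.Agent.L13.DblCov

variable {A B A' B' : Type u} [CommRing A] [CommRing B] [CommRing A'] [CommRing B']

/-- `1, θ` form a basis of `B` over `A`. -/
def IsGen (φ : A →+* B) (θ : B) : Prop :=
  Function.Bijective fun p : A × A => φ p.1 + φ p.2 * θ

lemma IsGen.repr {φ : A →+* B} {θ : B} (h : IsGen φ θ) (b : B) : ∃ x y, φ x + φ y * θ = b := by
  obtain ⟨⟨x, y⟩, e⟩ := h.2 b
  exact ⟨x, y, e⟩

lemma IsGen.eq {φ : A →+* B} {θ : B} (h : IsGen φ θ) {x y x' y' : A}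
    (e : φ x + φ y * θ = φ x' + φ y' * θ) : x = x' ∧ y = y' := by
  have := h.1 (a₁ := (x, y)) (a₂ := (x', y')) e
  exact ⟨congrArg Prod.fst this, congrArg Prod.snd this⟩

lemma IsGen.ringHom_ext {φ : A →+* B} {θ : B} (h : IsGen φ θ) {C : Type u} [CommRing C]
    {f g : B →+* C} (hA : ∀ a, f (φ a) = g (φ a)) (hθ : f θ = g θ) : f = g := by
  refine RingHom.ext fun b => ?_
  obtain ⟨x, y, rfl⟩ := h.repr b
  rw [map_add, map_add, map_mul, map_mul, hA, hA, hθ]

/-- `σ` is a conjugation of `B` over `A`. -/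
structure IsConj (φ : A →+* B) (σ : B →+* B) : Prop where
  fix : ∀ a, σ (φ a) = φ a
  sum : ∀ b, b + σ b ∈ φ.range
  prod : ∀ b, b * σ b ∈ φ.range

lemma exists_conj {φ : A →+* B} {θ : B} (h : IsGen φ θ) :
    ∃ σ : B →+* B, IsConj φ σ ∧ (∀ b, σ (σ b) = b) ∧
      (IsUnit (2 : A) → ∀ b, σ b = b → b ∈ φ.range) := by
  obtain ⟨q, p, hθ⟩ := h.repr (θ * θ)
  let e := Equiv.ofBijective _ h
  have he : ∀ x y, e.symm (φ x + φ y * θ) = (x, y) := fun x y => e.symm_apply_apply (x, y)
  let s : B → B := fun b => φ ((e.symm b).1 + p * (e.symm b).2) - φ (e.symm b).2 * θ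
  have hs : ∀ x y, s (φ x + φ y * θ) = φ (x + p * y) - φ y * θ := fun x y => by
    simp only [s, he]
  have hmul : ∀ a b, s (a * b) = s a * s b := by
    intro a b
    obtain ⟨x, y, rfl⟩ := h.repr a
    obtain ⟨x', y', rfl⟩ := h.repr b
    rw [hs, hs, show (φ x + φ y * θ) * (φ x' + φ y' * θ) =
      φ (x * x' + y * y' * q) + φ (x * y' + y * x' + y * y' * p) * θ by
        simp only [map_add, map_mul]; linear_combination -(φ y * φ y') * hθ, hs]
    simp only [map_add, map_mul]
    linear_combination φ y * φ y' * hθ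
  have hadd : ∀ a b, s (a + b) = s a + s b := by
    intro a b
    obtain ⟨x, y, rfl⟩ := h.repr a
    obtain ⟨x', y', rfl⟩ := h.repr b
    rw [hs, hs, show φ x + φ y * θ + (φ x' + φ y' * θ) = φ (x + x') + φ (y + y') * θ by
      simp only [map_add]; ring, hs]
    simp only [map_add, map_mul]
    ring
  have hfix : ∀ a, s (φ a) = φ a := fun a => by
    conv_lhs => rw [show φ a = φ a + φ 0 * θ by simp, hs]
    simp
  let σ : B →+* B := { toFun := s, map_one' := by simpa using hfix 1, map_mul' := hmul,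
                       map_zero' := by simpa using hfix 0, map_add' := hadd }
  refine ⟨σ, ⟨hfix, fun b => ?_, fun b => ?_⟩, fun b => ?_, fun h2 b hb => ?_⟩
  all_goals obtain ⟨x, y, rfl⟩ := h.repr b
  · refine ⟨x + (x + p * y), ?_⟩
    show _ = _ + s _
    rw [hs]; simp only [map_add]; ring
  · refine ⟨x * x + x * p * y - y * y * q, ?_⟩
    show _ = _ * s _
    rw [hs]; simp only [map_add, map_mul, map_sub]
    linear_combination -(φ y * φ y) * hθ
  · show s (s _) = _
    rw [hs, show φ (x + p * y) - φ y * θ = φ (x + p * y) + φ (-y) * θ by rw [map_neg]; ring, hs]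
    simp only [map_add, map_mul, map_neg]; ring
  · have hb' : s _ = _ := hb
    rw [hs, show φ (x + p * y) - φ y * θ = φ (x + p * y) + φ (-y) * θ by rw [map_neg]; ring] at hb'
    have h0 : (2 : A) * y = 0 := by linear_combination -(h.eq hb').2
    refine ⟨x, ?_⟩
    rw [h2.mul_right_eq_zero.mp h0]; simp

lemma conj_unique {φ : A →+* B} {θ : B} (h : IsGen φ θ) {σ τ : B →+* B} (hσ : IsConj φ σ)
    (hτ : IsConj φ τ) : σ = τ := by
  obtain ⟨q, p, hθ⟩ := h.repr (θ * θ)
  have key : ∀ {ρ : B →+* B}, IsConj φ ρ → ρ θ = φ p - θ := by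
    intro ρ hρ
    obtain ⟨a, ha⟩ := hρ.sum θ
    obtain ⟨c, hc⟩ := hρ.prod θ
    have := (h.eq (x := -q) (y := a - p) (x' := c) (y' := 0) (by
      simp only [map_neg, map_sub, map_zero]
      linear_combination θ * ha - hc - hθ)).2
    rw [sub_eq_zero] at this
    rw [← this]
    linear_combination -ha
  exact h.ringHom_ext (fun a => by rw [hσ.fix, hτ.fix]) (by rw [key hσ, key hτ])

/-- Conjugations commute with maps carrying a generator to a generator. -/
lemma conj_comm {φ : A →+* B} {φ' : A' →+* B'} {rA : A →+* A'} {rB : B →+* B'}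
    (sq : ∀ a, rB (φ a) = φ' (rA a)) {θ : B} (h : IsGen φ θ) (h' : IsGen φ' (rB θ))
    {σ : B →+* B} (hσ : IsConj φ σ) {σ' : B' →+* B'} (hσ' : IsConj φ' σ') :
    rB.comp σ = σ'.comp rB := by
  refine h.ringHom_ext (fun a => ?_) ?_
  · simp only [RingHom.comp_apply, hσ.fix, sq, hσ'.fix]
  simp only [RingHom.comp_apply]
  obtain ⟨q', p', hθ⟩ := h'.repr (rB θ * rB θ)
  obtain ⟨a, ha⟩ := hσ.sum θ
  obtain ⟨c, hc⟩ := hσ.prod θ
  obtain ⟨a', ha'⟩ := hσ'.sum (rB θ)
  obtain ⟨c', hc'⟩ := hσ'.prod (rB θ)
  have e₁ : φ' (rA a) = rB θ + rB (σ θ) := by rw [← sq, ha, map_add]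
  have e₂ : φ' (rA c) = rB θ * rB (σ θ) := by rw [← sq, hc, map_mul]
  have := (h'.eq (x := rA c) (y := a') (x' := c') (y' := rA a) (by
    linear_combination e₂ + rB θ * ha' - hc' - rB θ * e₁)).2
  linear_combination ha' - e₁ - congrArg φ' this

/-- A generator after inverting powers of `g` is a generator on the localisation. -/
lemma isGen_away {φ : A →+* B} {φ' : A' →+* B'} {rA : A →+* A'} {rB : B →+* B'} {g : A}
    (sq : ∀ a, rB (φ a) = φ' (rA a)) (hg : IsUnit (rA g))
    (surjA : ∀ x, ∃ (n : ℕ) (a : A), x * rA g ^ n = rA a)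
    (surjB : ∀ x, ∃ (n : ℕ) (b : B), x * rB (φ g) ^ n = rB b)
    (kerB : ∀ b, rB b = 0 → ∃ n : ℕ, φ g ^ n * b = 0)
    {θ : B} (hs : ∀ b, ∃ (n : ℕ) (x y : A), φ (g ^ n) * b = φ x + φ y * θ)
    (hi : ∀ x y, φ x + φ y * θ = 0 → ∃ n : ℕ, g ^ n * x = 0 ∧ g ^ n * y = 0) :
    IsGen φ' (rB θ) := by
  refine ⟨fun ⟨x, y⟩ ⟨x', y'⟩ e => ?_, fun b' => ?_⟩
  · suffices H : ∀ x y, φ' x + φ' y * rB θ = 0 → x = 0 ∧ y = 0 by
      simp only at e
      have := H (x - x') (y - y') (by simp only [map_sub]; linear_combination e)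
      rw [sub_eq_zero, sub_eq_zero] at this
      exact Prod.ext this.1 this.2
    intro x y h0
    obtain ⟨n, a, ha⟩ := surjA x
    obtain ⟨m, c, hc⟩ := surjA y
    have h1 : rB (φ (a * g ^ m) + φ (c * g ^ n) * θ) = 0 := by
      simp only [map_add, map_mul, map_pow, sq, ← ha, ← hc]
      linear_combination φ' (rA g) ^ (n + m) * h0
    obtain ⟨k, hk⟩ := kerB _ h1
    obtain ⟨l, hl1, hl2⟩ := hi (g ^ k * (a * g ^ m)) (g ^ k * (c * g ^ n)) (by
      rw [← hk]; simp only [map_mul, map_pow]; ring)
    constructor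
    · have := congrArg rA hl1
      simp only [map_mul, map_pow, map_zero, ← ha] at this
      exact ((hg.pow n).mul_left_eq_zero).mp (((hg.pow m).mul_left_eq_zero).mp
        (((hg.pow k).mul_right_eq_zero).mp (((hg.pow l).mul_right_eq_zero).mp this)))
    · have := congrArg rA hl2
      simp only [map_mul, map_pow, map_zero, ← hc] at this
      exact ((hg.pow m).mul_left_eq_zero).mp (((hg.pow n).mul_left_eq_zero).mp
        (((hg.pow k).mul_right_eq_zero).mp (((hg.pow l).mul_right_eq_zero).mp this)))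
  · obtain ⟨n, b, hb⟩ := surjB b'
    obtain ⟨m, x, y, hxy⟩ := hs b
    set v := ↑((hg.pow (n + m)).unit⁻¹) with hv
    refine ⟨(rA x * v, rA y * v), ?_⟩
    have hvu : φ' (rA g) ^ (n + m) * φ' v = 1 := by
      rw [← map_pow, ← map_mul, hv, IsUnit.mul_val_inv, map_one]
    have e := congrArg rB hxy
    simp only [map_mul, map_add, map_pow, sq, ← hb] at e
    simp only [map_mul]
    linear_combination (-φ' v) * e + b' * hvu

open Module in
/-- Near a prime of rank two the unit extends to a basis. -/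
lemma exists_gen_near {A B : Type u} [CommRing A] [CommRing B] (φ : A →+* B) (hfin : φ.Finite)
    (hflat : φ.Flat) (hfp : φ.FinitePresentation) (p : PrimeSpectrum A) (hrk : φ.finrank p = 2) :
    ∃ (θ : B) (g : A), g ∉ p.asIdeal ∧
      (∀ b, ∃ (n : ℕ) (x y : A), φ (g ^ n) * b = φ x + φ y * θ) ∧
      (∀ x y, φ x + φ y * θ = 0 → ∃ n : ℕ, g ^ n * x = 0 ∧ g ^ n * y = 0) := by
  algebraize [φ]
  haveI := Module.FinitePresentation.of_finite_of_finitePresentation (R := A) (S := B)
  have hrk' : rankAtStalk (R := A) B p = 2 := by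
    rw [← RingHom.algebraMap_toAlgebra φ, RingHom.finrank_algebraMap] at hrk
    exact hrk
  let S := p.asIdeal.primeCompl
  let Ap := Localization.AtPrime p.asIdeal
  let Bp := LocalizedModule S B
  haveI : Nontrivial A := p.nontrivial
  haveI : Module.Free Ap Bp := Module.free_of_flat_of_isLocalRing
  have hdim : finrank Ap Bp = 2 := hrk'
  let bs : Basis (Fin 2) Ap Bp := finBasisOfFinrankEq Ap Bp hdim
  let ι := LocalizedModule.mkLinearMap S B
  set e := ι 1
  have hu : ∃ i, IsUnit (bs.repr e i) := by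
    by_contra hne
    push Not at hne
    have he : e ∈ IsLocalRing.maximalIdeal Ap • (⊤ : Submodule Ap Bp) := by
      rw [← bs.sum_repr e]
      exact Submodule.sum_mem _ fun i _ => Submodule.smul_mem_smul (hne i) trivial
    have htop : (⊤ : Submodule Ap Bp) ≤ IsLocalRing.maximalIdeal Ap • ⊤ := by
      intro z _
      induction z using LocalizedModule.induction_on with
      | h b s =>
        let mb : Bp →ₗ[Ap] Bp := LocalizedModule.map S (LinearMap.mulLeft A b)
        have h1 : ι b ∈ IsLocalRing.maximalIdeal Ap • (⊤ : Submodule Ap Bp) := by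
          have h2 : mb e ∈ (IsLocalRing.maximalIdeal Ap • (⊤ : Submodule Ap Bp)).map mb :=
            Submodule.mem_map_of_mem he
          rw [Submodule.map_smul''] at h2
          have h3 := Submodule.smul_mono le_rfl le_top h2
          have h4 : mb e = ι b := by
            show LocalizedModule.map S (LinearMap.mulLeft A b) (LocalizedModule.mk 1 1) = LocalizedModule.mk b 1
            erw [LocalizedModule.map_mk]
            simp
          exact h4 ▸ h3
        have : LocalizedModule.mk b s = (Localization.mk 1 s : Ap) • ι b := by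
          simp [ι, LocalizedModule.mk_smul_mk]
        rw [this]
        exact Submodule.smul_mem _ _ h1
    have := Submodule.eq_bot_of_le_smul_of_le_jacobson_bot _ _ Module.Finite.fg_top htop
      (IsLocalRing.maximalIdeal_le_jacobson _)
    haveI : Subsingleton Bp := (Submodule.subsingleton_iff Ap).mp (subsingleton_of_bot_eq_top this.symm)
    simp [finrank_zero_of_subsingleton] at hdim
  obtain ⟨i, hi⟩ := hu
  obtain ⟨j, hij, hall⟩ : ∃ j, j ≠ i ∧ ∀ k : Fin 2, k = i ∨ k = j :=
    ⟨i + 1, by fin_cases i <;> simp, fun k => by fin_cases i <;> fin_cases k <;> simp⟩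
  obtain ⟨θ, s, hθ⟩ : ∃ (θ : B) (s : S), bs j = LocalizedModule.mk θ s :=
    LocalizedModule.induction_on (fun θ s => ⟨θ, s, rfl⟩) (bs j)
  let l : (A × A) →ₗ[A] B :=
    (LinearMap.toSpanSingleton A B 1).coprod (LinearMap.toSpanSingleton A B θ)
  let L : LocalizedModule S (A × A) →ₗ[Ap] Bp := LocalizedModule.map S l
  have hL : Function.Surjective L := by
    rw [← LinearMap.range_eq_top, eq_top_iff, ← bs.span_eq, Submodule.span_le]
    have hj : bs j ∈ LinearMap.range L := by
      refine ⟨LocalizedModule.mk (0, 1) s, ?_⟩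
      rw [hθ]
      show LocalizedModule.map S l _ = _
      erw [LocalizedModule.map_mk]
      simp [l]
    have he : e ∈ LinearMap.range L := by
      refine ⟨LocalizedModule.mk (1, 0) 1, ?_⟩
      show LocalizedModule.map S l _ = LocalizedModule.mk 1 1
      erw [LocalizedModule.map_mk]
      simp [l]
    rintro _ ⟨k, rfl⟩
    rcases hall k with rfl | rfl
    · have hsum : e = bs.repr e k • bs k + bs.repr e j • bs j := by
        conv_lhs => rw [← bs.sum_repr e, ← Finset.sum_subset (Finset.subset_univ {k, j})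
          (fun x _ hx => absurd (hall x) (by simpa using hx)), Finset.sum_pair hij.symm]
      have hk : bs k = (↑hi.unit⁻¹ : Ap) • (e - bs.repr e j • bs j) := by
        rw [← eq_sub_iff_add_eq.mpr hsum.symm, smul_smul, IsUnit.val_inv_mul, one_smul]
      rw [hk]
      exact Submodule.smul_mem _ _ (sub_mem he (Submodule.smul_mem _ _ hj))
    · exact hj
  have hdim' : finrank Ap (LocalizedModule S (A × A)) = 2 := by
    have := congrFun (rankAtStalk_eq_finrank_of_free (R := A) (M := A × A)) p
    simp [rankAtStalk, finrank_prod] at this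
    exact this
  haveI : Module.Free Ap (LocalizedModule S (A × A)) := Module.free_of_flat_of_isLocalRing
  let E : Bp ≃ₗ[Ap] LocalizedModule S (A × A) :=
    LinearEquiv.ofFinrankEq _ _ (hdim.trans hdim'.symm)
  have hLb : Function.Bijective L := by
    refine ⟨?_, hL⟩
    have := OrzechProperty.injective_of_surjective_endomorphism (E.toLinearMap ∘ₗ L)
      (E.surjective.comp hL)
    exact fun x y h => this (by simp [h])
  obtain ⟨g, hg, hbij⟩ := Module.FinitePresentation.exists_notMem_bijective l p.asIdeal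
    (LocalizedModule.mkLinearMap S (A × A)) ι (by
      show Function.Bijective (LocalizedModule.map S l)
      exact hLb)
  refine ⟨θ, g, hg, fun b => ?_, fun x y hxy => ?_⟩
  · obtain ⟨z, hz⟩ := hbij.2 (LocalizedModule.mk b 1)
    induction z using LocalizedModule.induction_on with
    | h v t =>
      rw [LocalizedModule.map_mk, LocalizedModule.mk_eq] at hz
      obtain ⟨⟨w, n, rfl⟩, hw⟩ := hz
      obtain ⟨_, k, rfl⟩ := t
      refine ⟨n + k, g ^ n * v.1, g ^ n * v.2, ?_⟩
      simp [Submonoid.smul_def, l, Algebra.smul_def, RingHom.algebraMap_toAlgebra] at hw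
      simp only [map_mul, map_pow, map_add, pow_add]
      linear_combination -hw
  · have h0 : LocalizedModule.map (Submonoid.powers g) l (LocalizedModule.mk (x, y) 1) = 0 := by
      rw [LocalizedModule.map_mk]
      have : l (x, y) = 0 := by
        rw [← hxy]; simp [l, Algebra.smul_def, RingHom.algebraMap_toAlgebra]
      rw [this, LocalizedModule.zero_mk]
    have := hbij.1 (h0.trans (map_zero _).symm)
    rw [← LocalizedModule.zero_mk (1 : Submonoid.powers g), LocalizedModule.mk_eq] at this
    obtain ⟨⟨_, n, rfl⟩, hw⟩ := this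
    simp [Submonoid.smul_def, Prod.ext_iff] at hw
    exact ⟨n, hw⟩

end Groth.Agent.L13.DblCov
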