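import Mathlib.Algebra.Module.Basic
import Mathlib.Algebra.Ring.Int.Parity
import Mathlib.Tactic.Ring
import Mathlib.Tactic.Abel
import Mathlib.Tactic.Module
import Mathlib.Tactic.Linarith

/-! Maps of degree at most two between abelian groups. -/

namespace Groth.L13.DegTwo

variable {A G : Type*} [AddCommGroup A] [AddCommGroup G]
  (f : A → G) (hf : ∀ x y z : A, f (x + y + z) + f x + f y + f z = f (x + y) + f (x + z) + f (y + z))

theorem half (n : ℤ) : (2 * (n * (n + 1) / 2) = n * (n + 1)) ∧ (2 * (n * (n - 1) / 2) = n * (n - 1)) :=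
  ⟨Int.two_mul_ediv_two_of_even (Int.even_mul_succ_self n),
    Int.two_mul_ediv_two_of_even (Int.even_mul_pred_self n)⟩

include hf

theorem map_zero' : f 0 = 0 := by
  have := hf 0 0 0
  simp only [add_zero] at this
  exact add_left_cancel (a := f 0 + f 0 + f 0) (by rw [this, add_zero])

theorem step (x : A) (n : ℤ) :
    f ((n + 1) • x) + f ((n - 1) • x) = f (n • x) + f (n • x) + f x + f (-x) := by
  have h := hf (n • x) x (-x)
  rw [add_neg_cancel_right, add_neg_cancel, map_zero' f hf, add_zero] at h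
  rw [add_smul, sub_smul, one_smul, sub_eq_add_neg, ← h]

theorem map_zsmul_eq (n : ℤ) (x : A) :
    f (n • x) = (n * (n + 1) / 2) • f x + (n * (n - 1) / 2) • f (-x) := by
  suffices h : ∀ n : ℤ,
      (f (n • x) = (n * (n + 1) / 2) • f x + (n * (n - 1) / 2) • f (-x)) ∧
      (f ((n + 1) • x) = ((n + 1) * (n + 1 + 1) / 2) • f x + ((n + 1) * (n + 1 - 1) / 2) • f (-x)) from
    (h n).1
  have eA : ∀ m : ℤ, (m + 1) * (m + 1 + 1) / 2 = 2 * (m * (m + 1) / 2) - ((m - 1) * (m - 1 + 1) / 2) + 1 := by
    intro m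
    have := (half m).1; have := (half (m + 1)).1; have := (half (m - 1)).1
    nlinarith
  have eB : ∀ m : ℤ, (m + 1) * (m + 1 - 1) / 2 = 2 * (m * (m - 1) / 2) - ((m - 1) * (m - 1 - 1) / 2) + 1 := by
    intro m
    have := (half m).2; have := (half (m + 1)).2; have := (half (m - 1)).2
    nlinarith
  intro n
  induction n using Int.induction_on with
  | zero => exact ⟨by simp [map_zero' f hf], by simp⟩
  | succ i ih =>
    refine ⟨ih.2, ?_⟩
    have h := step f hf x ((i : ℤ) + 1)
    rw [eA, eB]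
    rw [add_sub_cancel_right, ih.1, ih.2] at h
    simp only [add_sub_cancel_right] at h ⊢
    rw [eq_sub_of_add_eq h]
    module
  | pred i ih =>
    have hs : -(i : ℤ) - 1 + 1 = -(i : ℤ) := by ring
    refine ⟨?_, ?_⟩
    · have h := step f hf x (-(i : ℤ))
      rw [ih.1, ih.2, eA, eB] at h
      rw [eq_sub_of_add_eq' h]
      module
    · rw [hs]; exact ih.1

theorem two_mul_zsmul_map_eq_zero (n : ℤ) (hn : ∀ x : A, n • x = 0) :
    (∀ x : A, (2 * n) • f x = 0) ∧ (Odd n → ∀ x : A, n • f x = 0) := by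
  have key : ∀ x, (n * (n + 1) / 2) • f x + (n * (n - 1) / 2) • f (-x) = 0 := fun x => by
    rw [← map_zsmul_eq f hf n x, hn, map_zero' f hf]
  have hdiff : ∀ x, n • f x = n • f (-x) := fun x => by
    have h1 := key x
    have h2 := key (-x)
    rw [neg_neg] at h2
    have hAB : n = n * (n + 1) / 2 - n * (n - 1) / 2 := by
      have := half n; nlinarith
    have : n • f x - n • f (-x) = 0 := by
      rw [hAB]
      have h3 : ((n * (n + 1) / 2) • f x + (n * (n - 1) / 2) • f (-x)) -
        ((n * (n + 1) / 2) • f (-x) + (n * (n - 1) / 2) • f x) = 0 := by rw [h1, h2, sub_zero]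
      rw [← h3]; module
    exact sub_eq_zero.1 this
  have hsum : ∀ x, n • f x + n • f (-x) = 0 := fun x => by
    have h := map_zsmul_eq f hf (n + 1) x
    rw [add_smul, hn, zero_add, one_smul] at h
    have e1 : (n + 1) * (n + 1 + 1) / 2 = n * (n + 1) / 2 + (n + 1) := by
      have := (half n).1; have := (half (n + 1)).1; nlinarith
    have e2 : (n + 1) * (n + 1 - 1) / 2 = n * (n - 1) / 2 + n := by
      have := (half n).2; have := (half (n + 1)).2; nlinarith
    rw [e1, e2] at h
    have h3 : (n * (n + 1) / 2 + (n + 1)) • f x + (n * (n - 1) / 2 + n) • f (-x) - f x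
      - ((n * (n + 1) / 2) • f x + (n * (n - 1) / 2) • f (-x)) = 0 := by
      rw [← h, key x, sub_self, sub_zero]
    rw [← h3]; module
  have h2 : ∀ x, (2 * n) • f x = 0 := fun x => by
    have h := hsum x
    rw [← hdiff x, ← add_smul] at h
    rwa [two_mul]
  refine ⟨h2, fun ⟨m, hm⟩ x => ?_⟩
  have e1 : n * (n + 1) / 2 = (m + 1) * n := by
    have := (half n).1; subst hm; nlinarith
  have e2 : n * (n - 1) / 2 = m * n := by
    have := (half n).2; subst hm; nlinarith
  have h := key x
  rw [e1, e2, mul_smul, mul_smul, ← hdiff x, ← add_smul, ← mul_smul] at h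
  have h' : ((m + 1 + m) * n) • f x - m • ((2 * n) • f x) = 0 := by rw [h, h2 x, smul_zero, sub_zero]
  rw [← h']; module

end Groth.L13.DegTwo
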