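import Mathlib.MeasureTheory.Group.Measure
import Mathlib.MeasureTheory.Group.Integral
import Mathlib.MeasureTheory.Constructions.Pi
import Mathlib.MeasureTheory.Integral.Prod
import Mathlib.MeasureTheory.Constructions.BorelSpace.Metrizable
import Mathlib.Topology.ContinuousMap.StoneWeierstrass
import Mathlib.Topology.ContinuousMap.Compact
import Mathlib.Topology.UrysohnsLemma
import Mathlib.Topology.Algebra.Group.Basic

/-!
Deviations of functions on compact groups and cocycles in each pair of variables.
-/

universe u

open MeasureTheory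

namespace Groth.L13.Deviation

section Alg

variable {G : Type u} [AddCommGroup G]

/-- The iterated difference at `0`. -/
def D (n : ℕ) (φ : G → ℝ) (x : Fin n → G) : ℝ :=
  ∑ e : Fin n → Bool, (∏ i, if e i then (1 : ℝ) else -1) * φ (∑ i, if e i then x i else 0)

theorem D_zero (φ : G → ℝ) (x : Fin 0 → G) : D 0 φ x = φ 0 := by
  simp [D, Fintype.sum_unique]

theorem D_cons (n : ℕ) (φ : G → ℝ) (a : G) (x : Fin n → G) :
    D (n + 1) φ (Fin.cons a x) = D n (fun g => φ (a + g)) x - D n φ x := by
  unfold D
  rw [← (Fin.consEquiv fun _ : Fin (n + 1) => Bool).sum_comp, Fintype.sum_prod_type, Fintype.sum_bool,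
    sub_eq_add_neg, ← Finset.sum_neg_distrib]
  congr 1 <;> refine Finset.sum_congr rfl fun e _ => ?_ <;>
    simp [Fin.consEquiv, Fin.prod_univ_succ, Fin.sum_univ_succ]

/-- The deviation. -/
def dev (n : ℕ) (φ : G → ℝ) (x : Fin n → G) : ℝ := D n φ x - (-1) ^ n * φ 0

theorem dev_cons_cons (n : ℕ) (φ : G → ℝ) (a b : G) (x : Fin n → G) :
    dev (n + 2) φ (Fin.cons a (Fin.cons b x)) = dev (n + 1) φ (Fin.cons (a + b) x) -
      dev (n + 1) φ (Fin.cons a x) - dev (n + 1) φ (Fin.cons b x) := by
  simp only [dev, D_cons, add_assoc, pow_succ]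
  ring

theorem dev_eq_sum (n : ℕ) (φ : G → ℝ) (x : Fin n → G) :
    dev n φ x = ∑ I ∈ ((Finset.univ : Finset (Fin n)).powerset.erase ∅),
      (-1 : ℝ) ^ (n + I.card) * φ (∑ i ∈ I, x i) := by
  classical
  rw [Finset.sum_erase_eq_sub (Finset.empty_mem_powerset _), Finset.powerset_univ, dev]
  congr 1
  · unfold D
    refine Fintype.sum_equiv
      { toFun := fun e => Finset.univ.filter fun i => e i
        invFun := fun I i => decide (i ∈ I)
        left_inv := fun e => by funext i; simp
        right_inv := fun I => by ext i; simp } _ _ fun e => ?_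
    simp only [Equiv.coe_fn_mk]
    rw [← Finset.sum_filter]
    congr 1
    have h1 : (∏ i, if e i then (1 : ℝ) else -1) =
        (-1 : ℝ) ^ (Finset.univ.filter fun i => ¬ (e i = true)).card := by
      rw [Finset.prod_ite, Finset.prod_const_one, one_mul, Finset.prod_const]
    have h2 := Finset.card_filter_add_card_filter_not (s := (Finset.univ : Finset (Fin n)))
      (fun i => e i = true)
    rw [h1, Finset.card_univ, Fintype.card_fin] at *
    have hsq : ∀ p : ℕ, (-1 : ℝ) ^ (p + p) = 1 := fun p => (Even.add_self p).neg_one_pow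
    conv_rhs => rw [show n + (Finset.univ.filter fun i => e i = true).card =
      (Finset.univ.filter fun i => ¬ (e i = true)).card +
        ((Finset.univ.filter fun i => e i = true).card +
          (Finset.univ.filter fun i => e i = true).card) by omega]
    rw [pow_add, hsq, mul_one]

end Alg

variable {G : Type u} [TopologicalSpace G] [CompactSpace G] [T2Space G] [MeasurableSpace G]
  [BorelSpace G]

theorem measurable_of_continuous {n : ℕ} {f : (Fin n → G) → ℝ} (hf : Continuous f) :
    Measurable f := by
  let A : Subalgebra ℝ C(Fin n → G, ℝ) := Algebra.adjoin ℝ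
    {F | ∃ (i : Fin n) (g : C(G, ℝ)), F = g.comp ⟨fun x => x i, continuous_apply i⟩}
  have hA : A.SeparatesPoints := by
    intro x y hxy
    obtain ⟨i, hi⟩ := Function.ne_iff.1 hxy
    obtain ⟨g, hgx, hgy, -⟩ := exists_continuous_zero_one_of_isClosed (isClosed_singleton (x := x i))
      (isClosed_singleton (x := y i)) (Set.disjoint_singleton.2 hi)
    refine ⟨_, ⟨g.comp ⟨fun z => z i, continuous_apply i⟩, Algebra.subset_adjoin ⟨i, g, rfl⟩, rfl⟩, ?_⟩
    simp [hgx (Set.mem_singleton _), hgy (Set.mem_singleton _)]
  have hmeas : ∀ F ∈ A, Measurable (F : (Fin n → G) → ℝ) := by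
    intro F hF
    induction hF using Algebra.adjoin_induction with
    | mem F hF =>
      obtain ⟨i, g, rfl⟩ := hF
      exact g.continuous.measurable.comp (measurable_pi_apply i)
    | algebraMap r => exact measurable_const
    | add F H _ _ hF hH => exact hF.add hH
    | mul F H _ _ hF hH => exact hF.mul hH
  have hmem : (⟨f, hf⟩ : C(Fin n → G, ℝ)) ∈ closure (A : Set C(Fin n → G, ℝ)) := by
    rw [← Subalgebra.topologicalClosure_coe,
      ContinuousMap.subalgebra_topologicalClosure_eq_top_of_separatesPoints A hA]
    trivial
  obtain ⟨s, hs, hlim⟩ := mem_closure_iff_seq_limit.1 hmem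
  refine measurable_of_tendsto_metrizable (fun m => hmeas _ (hs m)) (tendsto_pi_nhds.2 fun x => ?_)
  exact ((continuous_eval_const x).tendsto _).comp hlim

theorem integrable_of_continuous {n : ℕ} {f : (Fin n → G) → ℝ} (hf : Continuous f)
    (ν : Measure (Fin n → G)) [IsFiniteMeasure ν] : Integrable f ν := by
  obtain ⟨C, hC⟩ := isCompact_univ.exists_bound_of_continuousOn hf.continuousOn
  exact Integrable.of_bound (measurable_of_continuous hf).aestronglyMeasurable C
    (.of_forall fun x => hC x trivial)

theorem continuous_integral_aux {X K : Type*} [TopologicalSpace X] [TopologicalSpace K] [CompactSpace K]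
    [MeasurableSpace K] (ν : Measure K) [IsProbabilityMeasure ν]
    (hint : ∀ g : K → ℝ, Continuous g → Integrable g ν)
    {H : X × K → ℝ} (hH : Continuous H) : Continuous fun x => ∫ y, H (x, y) ∂ν := by
  have hI : LipschitzWith 1 (fun g : C(K, ℝ) => ∫ y, g y ∂ν) := by
    refine LipschitzWith.of_dist_le_mul fun g h => ?_
    rw [NNReal.coe_one, one_mul, dist_eq_norm, dist_eq_norm,
      ← integral_sub (hint _ g.continuous) (hint _ h.continuous)]
    refine (norm_integral_le_of_norm_le_const
      (.of_forall fun y => (g - h).norm_coe_le_norm y)).trans ?_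
    simp
  exact hI.continuous.comp (ContinuousMap.curry ⟨H, hH⟩).continuous

variable (μ : Measure G) [IsProbabilityMeasure μ]

theorem continuous_integral_pi {n : ℕ} {X : Type*} [TopologicalSpace X] {H : X × (Fin n → G) → ℝ}
    (hH : Continuous H) :
    Continuous fun x => ∫ u, H (x, u) ∂(Measure.pi fun _ : Fin n => μ) :=
  continuous_integral_aux _ (fun _ hg => integrable_of_continuous hg _) hH

theorem continuous_integral_single {X : Type*} [TopologicalSpace X] {H : X × G → ℝ}
    (hH : Continuous H) : Continuous fun x => ∫ c, H (x, c) ∂μ :=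
  continuous_integral_aux _ (fun _ hg => hg.integrable_of_hasCompactSupport
    (HasCompactSupport.of_compactSpace _)) hH

/-- Fubini for continuous functions, separating the first variable. -/
theorem integral_pi_succ {n : ℕ} {f : (Fin (n + 1) → G) → ℝ} (hf : Continuous f) :
    ∫ u, f u ∂(Measure.pi fun _ : Fin (n + 1) => μ) =
      ∫ u, ∫ c, f (Fin.cons c u) ∂μ ∂(Measure.pi fun _ : Fin n => μ) := by
  have h := measurePreserving_piFinSuccAbove (fun _ : Fin (n + 1) => μ) 0
  let e := MeasurableEquiv.piFinSuccAbove (fun _ : Fin (n + 1) => G) 0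
  have he : ∀ p : G × (Fin n → G), e.symm p = Fin.cons p.1 p.2 := fun p => by
    simp [e, MeasurableEquiv.piFinSuccAbove, Fin.insertNthEquiv]
  have hi : Integrable (fun p => f (e.symm p)) (μ.prod (Measure.pi fun _ : Fin n => μ)) :=
    (h.symm e).integrable_comp_emb e.symm.measurableEmbedding |>.2 (integrable_of_continuous hf _)
  have h2 := ((h.symm e).integral_comp e.symm.measurableEmbedding f).symm
  rw [h2]
  show ∫ p, f (e.symm p) ∂(μ.prod (Measure.pi fun _ : Fin n => μ)) = _
  rw [integral_prod_symm _ hi]
  simp only [he]

variable [AddCommGroup G] [IsTopologicalAddGroup G] [μ.IsAddHaarMeasure]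

omit [μ.IsAddHaarMeasure] in
theorem continuous_D (n : ℕ) {φ : G → ℝ} (hφ : Continuous φ) : Continuous (D n φ) := by
  refine continuous_finsetSum _ fun e _ => continuous_const.mul (hφ.comp ?_)
  refine continuous_finsetSum _ fun i _ => ?_
  cases e i <;> simp <;> fun_prop

theorem integral_D_succ (n : ℕ) (φ : G → ℝ) (hφ : Continuous φ) :
    ∫ u, D (n + 1) φ u ∂(Measure.pi fun _ : Fin (n + 1) => μ) =
      (-1) ^ (n + 1) * (φ 0 - ∫ g, φ g ∂μ) := by
  induction n generalizing φ with
  | zero =>
    rw [integral_pi_succ μ (continuous_D 1 hφ)]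
    simp only [D_cons, D_zero, add_zero]
    rw [integral_const, probReal_univ, one_smul, integral_sub
      (hφ.integrable_of_hasCompactSupport (HasCompactSupport.of_compactSpace _)) (integrable_const _),
      integral_const, probReal_univ, one_smul]
    ring
  | succ n ih =>
    rw [integral_pi_succ μ (continuous_D (n + 2) hφ)]
    simp only [D_cons]
    have hc1 : Continuous fun p : (Fin (n + 1) → G) × G => D (n + 1) (fun g => φ (p.2 + g)) p.1 := by
      refine continuous_finsetSum _ fun e _ => continuous_const.mul (hφ.comp (continuous_snd.add ?_))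
      refine continuous_finsetSum _ fun i _ => ?_
      cases e i <;> simp <;> fun_prop
    have hcomm : ∀ u : Fin (n + 1) → G,
        ∫ c, D (n + 1) (fun g => φ (c + g)) u - D (n + 1) φ u ∂μ =
          D (n + 1) (fun _ => ∫ g, φ g ∂μ) u - D (n + 1) φ u := by
      intro u
      have hint : ∀ f : G → ℝ, Continuous f → Integrable f μ := fun f hf =>
        hf.integrable_of_hasCompactSupport (HasCompactSupport.of_compactSpace _)
      have hcu : Continuous fun c => D (n + 1) (fun g => φ (c + g)) u :=
        hc1.comp (Continuous.prodMk_right u)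
      rw [integral_sub (hint _ hcu) (integrable_const _),
        integral_const, probReal_univ, one_smul]
      congr 1
      unfold D
      rw [integral_finsetSum (Finset.univ : Finset (Fin (n + 1) → Bool))
        (f := fun e a => (∏ i, if e i then (1 : ℝ) else -1) * φ (a + ∑ i, if e i then u i else 0))
        fun e _ => (hint _ (hφ.comp (continuous_id.add continuous_const))).const_mul _]
      refine Finset.sum_congr rfl fun e _ => ?_
      rw [integral_const_mul]
      congr 1
      exact integral_add_right_eq_self φ _
    simp only [hcomm]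
    rw [integral_sub (integrable_of_continuous (continuous_D _ continuous_const) _)
      (integrable_of_continuous (continuous_D _ hφ) _), ih _ continuous_const, ih _ hφ,
      integral_const, probReal_univ, one_smul]
    ring

theorem integral_dev (m : ℕ) (φ : G → ℝ) (hφ : Continuous φ) (g : G) :
    ∫ u, dev (m + 1) φ (Fin.cons g u) ∂(Measure.pi fun _ : Fin m => μ) = (-1) ^ m * φ g := by
  simp only [dev, D_cons]
  have hg : Continuous fun h => φ (g + h) := hφ.comp (continuous_const.add continuous_id)
  have i1 := integrable_of_continuous (continuous_D m hg) (Measure.pi fun _ : Fin m => μ)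
  have i2 := integrable_of_continuous (continuous_D m hφ) (Measure.pi fun _ : Fin m => μ)
  rw [integral_sub (f := fun u => D m (fun h => φ (g + h)) u - D m φ u) (i1.sub i2)
    (integrable_const _), integral_sub i1 i2, integral_const, probReal_univ, one_smul]
  cases m with
  | zero => simp [D_zero]
  | succ n =>
    rw [integral_D_succ μ n _ hg, integral_D_succ μ n _ hφ,
      integral_add_left_eq_self (fun h => φ h) g, add_zero]
    ring

/-- The cocycle identity in each pair of variables. -/
def IsCocycle {m : ℕ} (ψ : (Fin m → G) → ℝ) : Prop :=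
  ∀ (i j : Fin m), i ≠ j → ∀ (x : Fin m → G) (a b c : G),
    ψ (Function.update (Function.update x i (a + b)) j c) +
        ψ (Function.update (Function.update x i a) j b) =
      ψ (Function.update (Function.update x i a) j (b + c)) +
        ψ (Function.update (Function.update x i b) j c)

omit [TopologicalSpace G] [CompactSpace G] [T2Space G] [MeasurableSpace G] [BorelSpace G]
  [AddCommGroup G] in
theorem insertNth_one_cons {m : ℕ} (c g : G) (u : Fin m → G) :
    Fin.insertNth (α := fun _ => G) (1 : Fin (m + 2)) c (Fin.cons g u) =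
      Fin.cons g (Fin.cons c u) := by
  show Fin.insertNth (α := fun _ => G) (Fin.succ 0) c (Fin.cons g u) = _
  rw [Fin.insertNth_succ_cons, Fin.insertNth_zero']

omit [TopologicalSpace G] [CompactSpace G] [T2Space G] [MeasurableSpace G] [BorelSpace G]
  [AddCommGroup G] in
theorem update_zero_one_cons {m : ℕ} (a b s t : G) (z : Fin m → G) :
    Function.update (Function.update (Fin.cons a (Fin.cons b z) : Fin (m + 2) → G) 0 s) 1 t =
      Fin.cons s (Fin.cons t z) := by
  funext i
  refine Fin.cases ?_ (fun j => ?_) i
  · rw [Function.update_of_ne (by simp)]; simp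
  · refine Fin.cases ?_ (fun l => ?_) j
    · rw [show Fin.succ (0 : Fin (m + 1)) = 1 from rfl, Function.update_self]; rfl
    · rw [Function.update_of_ne (show l.succ.succ ≠ (1 : Fin (m + 2)) from
          Fin.succ_injective _ |>.ne (Fin.succ_ne_zero l)),
        Function.update_of_ne (Fin.succ_ne_zero _)]
      simp

theorem eq_dev (m : ℕ) (ψ : (Fin (m + 1) → G) → ℝ) (hψc : Continuous ψ) (hψ : IsCocycle ψ)
    (x : Fin (m + 1) → G) :
    ψ x = dev (m + 1)
      (fun g => (-1) ^ m * ∫ u, ψ (Fin.cons g u) ∂(Measure.pi fun _ : Fin m => μ)) x := by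
  induction m with
  | zero =>
    have h : ∀ g (u : Fin 0 → G), Fin.cons g u = (fun _ => g : Fin 1 → G) := fun g u => by
      funext i; fin_cases i; simp
    simp only [dev, h, integral_const, probReal_univ, one_smul, pow_zero, one_mul]
    conv_rhs => rw [← Fin.cons_self_tail x, D_cons, D_zero, D_zero]
    simp only [add_zero]
    rw [show (fun _ => x 0 : Fin 1 → G) = x by funext i; fin_cases i; rfl]
    ring
  | succ m ih =>
    let ψ' : (Fin (m + 1) → G) → ℝ := fun y => -∫ c, ψ (Fin.insertNth 1 c y) ∂μ
    have hins : Continuous fun p : (Fin (m + 1) → G) × G => ψ (Fin.insertNth 1 p.2 p.1) :=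
      hψc.comp (Continuous.finInsertNth 1 continuous_snd continuous_fst)
    have hc' : Continuous ψ' := (continuous_integral_single μ hins).neg
    have hint : ∀ y, Integrable (fun c => ψ (Fin.insertNth 1 c y)) μ := fun y =>
      (hins.comp (Continuous.prodMk_right y)).integrable_of_hasCompactSupport
        (HasCompactSupport.of_compactSpace _)
    have hψ' : IsCocycle ψ' := by
      intro i j hij y a b c
      simp only [ψ', ← neg_add]
      rw [← integral_add (hint _) (hint _), ← integral_add (hint _) (hint _)]
      congr 2
      funext d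
      simp only [Fin.insertNth_update]
      exact hψ _ _ (fun h => hij (Fin.succAbove_right_injective h)) _ a b c
    have hphi : (fun g => (-1 : ℝ) ^ (m + 1) *
        ∫ u, ψ (Fin.cons g u) ∂(Measure.pi fun _ : Fin (m + 1) => μ)) =
        fun g => (-1) ^ m * ∫ u, ψ' (Fin.cons g u) ∂(Measure.pi fun _ : Fin m => μ) := by
      funext g
      rw [integral_pi_succ μ (f := fun u => ψ (Fin.cons g u))
        (hψc.comp (continuous_const.finCons continuous_id))]
      have he : ∀ c (u : Fin m → G), Fin.insertNth (α := fun _ => G) (1 : Fin (m + 2)) c (Fin.cons g u) =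
          Fin.cons g (Fin.cons c u) := fun c u => insertNth_one_cons c g u
      simp only [ψ', he, integral_neg]
      ring
    rw [hphi]
    obtain ⟨a, y, rfl⟩ : ∃ a y, x = Fin.cons a y := ⟨_, _, (Fin.cons_self_tail x).symm⟩
    obtain ⟨b, z, rfl⟩ : ∃ b z, y = Fin.cons b z := ⟨_, _, (Fin.cons_self_tail y).symm⟩
    rw [dev_cons_cons, ← ih ψ' hc' hψ', ← ih ψ' hc' hψ', ← ih ψ' hc' hψ']
    have hupd : ∀ s t : G, Function.update (Function.update
        (Fin.cons a (Fin.cons b z) : Fin (m + 2) → G) 0 s) 1 t = Fin.cons s (Fin.cons t z) :=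
      fun s t => update_zero_one_cons a b s t z
    have he : ∀ s c, Fin.insertNth (α := fun _ => G) (1 : Fin (m + 2)) c (Fin.cons s z) =
        Fin.cons s (Fin.cons c z) := fun s c => insertNth_one_cons c s z
    simp only [ψ', he]
    have hint' : ∀ s, Integrable (fun c => ψ (Fin.cons s (Fin.cons c z))) μ := fun s => by
      simpa only [he] using hint (Fin.cons s z)
    have key : ∀ c, ψ (Fin.cons (a + b) (Fin.cons c z)) + ψ (Fin.cons a (Fin.cons b z)) =
        ψ (Fin.cons a (Fin.cons (b + c) z)) + ψ (Fin.cons b (Fin.cons c z)) := fun c => by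
      simpa only [hupd] using hψ 0 1 (by simp) (Fin.cons a (Fin.cons b z)) a b c
    have hshift : Integrable (fun c => ψ (Fin.cons a (Fin.cons (b + c) z))) μ :=
      (hψc.comp (continuous_const.finCons ((continuous_const.add continuous_id).finCons
        continuous_const))).integrable_of_hasCompactSupport (HasCompactSupport.of_compactSpace _)
    have h := congrArg (fun F => ∫ c, F c ∂μ) (funext key)
    simp only [integral_add (hint' _) (integrable_const _), integral_add hshift (hint' b),
      integral_const, probReal_univ, one_smul,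
      integral_add_left_eq_self (fun c => ψ (Fin.cons a (Fin.cons c z))) b] at h
    linarith

end Groth.L13.Deviation
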