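import Mathlib.Algebra.BigOperators.Fin
import Mathlib.Data.Fintype.Powerset
import Mathlib.Algebra.Module.Basic
import Mathlib.Algebra.BigOperators.Group.Finset.Powerset
import Mathlib.Tactic.Ring
import Mathlib.Tactic.Abel

/-! Deviations of maps between abelian groups. -/

namespace Groth.L13.DeviationAlt

variable {A G ι κ : Type*} [AddCommGroup A] [AddCommGroup G]

/-- The alternating sum over all subsets of `s`. -/
def alt (s : Finset ι) (f : A → G) (y : ι → A) : G :=
  ∑ I ∈ s.powerset, ((-1 : ℤ) ^ (s.card + I.card)) • f (∑ i ∈ I, y i)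

theorem alt_insert [DecidableEq ι] (s : Finset ι) (i : ι) (hi : i ∉ s) (f : A → G) (y : ι → A) :
    alt (insert i s) f y = alt s (fun z => f (z + y i) - f z) y := by
  unfold alt
  rw [Finset.sum_powerset_insert hi, ← Finset.sum_add_distrib, Finset.card_insert_of_notMem hi]
  refine Finset.sum_congr rfl fun I hI => ?_
  have hiI : i ∉ I := fun h => hi (Finset.mem_powerset.1 hI h)
  rw [Finset.card_insert_of_notMem hiI, Finset.sum_insert hiI, smul_sub, add_comm (y i) _]
  rw [show s.card + 1 + (I.card + 1) = (s.card + I.card) + 2 by ring, pow_add _ _ 2,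
    show s.card + 1 + I.card = (s.card + I.card) + 1 by ring, pow_succ (-1 : ℤ) (s.card + I.card),
    neg_one_sq, mul_one, mul_neg_one, neg_smul, sub_eq_add_neg, add_comm]

theorem alt_congr (s : Finset ι) (f : A → G) {y y' : ι → A} (h : ∀ i ∈ s, y i = y' i) :
    alt s f y = alt s f y' := by
  unfold alt
  refine Finset.sum_congr rfl fun I hI => ?_
  rw [Finset.sum_congr rfl fun i hi => h i (Finset.mem_powerset.1 hI hi)]

theorem alt_map (e : κ ↪ ι) (s : Finset κ) (f : A → G) (y : ι → A) :
    alt (s.map e) f y = alt s f (y ∘ e) := by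
  classical
  unfold alt
  symm
  refine Finset.sum_bij (fun I _ => I.map e) ?_ ?_ ?_ ?_
  · intro I hI; simpa using hI
  · intro I _ J _ h; exact Finset.map_injective e h
  · intro J hJ
    refine ⟨s.filter (fun a => e a ∈ J), by simp, ?_⟩
    apply Finset.ext; intro b
    simp only [Finset.mem_map, Finset.mem_filter]
    constructor
    · rintro ⟨a, ⟨_, ha⟩, rfl⟩; exact ha
    · intro hb
      obtain ⟨a, ha, rfl⟩ := Finset.mem_map.1 (Finset.mem_powerset.1 hJ hb)
      exact ⟨a, ⟨ha, hb⟩, rfl⟩
  · intro I _; simp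

theorem alt_sub (s : Finset ι) (f g : A → G) (y : ι → A) :
    alt s (fun z => f z - g z) y = alt s f y - alt s g y := by
  simp [alt, Finset.sum_sub_distrib, smul_sub]

theorem alt_add (s : Finset ι) (f g : A → G) (y : ι → A) :
    alt s (fun z => f z + g z) y = alt s f y + alt s g y := by
  simp [alt, Finset.sum_add_distrib, smul_add]

theorem erase_eq [DecidableEq ι] (s : Finset ι) (f : A → G) (y : ι → A) :
    ∑ I ∈ s.powerset.erase ∅, ((-1 : ℤ) ^ (s.card + I.card)) • f (∑ i ∈ I, y i) =
      alt s f y - ((-1 : ℤ) ^ s.card) • f 0 := by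
  rw [alt, Finset.sum_erase_eq_sub (Finset.empty_mem_powerset s)]
  simp

end Groth.L13.DeviationAlt
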