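import Groth.Agent.L13.FlagPivot
import Mathlib.GroupTheory.Coset.Basic
import Mathlib.Data.Fintype.Quotient

/-!
A basis of the functions on `GL_{m+1}(F)/B` adapted to all standard parabolics at once, and the resulting
splitting of the complex of parabolic permutation modules into simplices.
-/

set_option autoImplicit false

universe u v

namespace Groth.Agent.L13.Flag

open Matrix W4c3dlvarstrsh

variable {F : Type u} [Field F] {R : Type v} [CommRing R] {m r : ℕ}

variable (F m) in
/-- The cosets of the upper triangular subgroup. -/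
abbrev Cos : Type u := GL (Fin (m + 1)) F ⧸ parabolic F (∅ : Finset (Fin m))

lemma exists_borel (g : GL (Fin (m + 1)) F) :
    ∃ b ∈ parabolic F (∅ : Finset (Fin m)), g * b = (QuotientGroup.mk g : Cos F m).out := by
  obtain ⟨b, hb⟩ := QuotientGroup.mk_out_eq_mul (parabolic F (∅ : Finset (Fin m))) g
  exact ⟨b, b.2, hb.symm⟩

/-- A right invariant function is determined by its values on the chosen representatives. -/
lemma eq_out {f : GL (Fin (m + 1)) F → R}
    (hf : ∀ g, ∀ p ∈ parabolic F (∅ : Finset (Fin m)), f (g * p) = f g) (g : GL (Fin (m + 1)) F) :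
    f (QuotientGroup.mk g : Cos F m).out = f g := by
  obtain ⟨b, hb, e⟩ := exists_borel g
  rw [← e, hf g b hb]

open Classical in
/-- The basis function of the coset `x`. -/
noncomputable def bas (x : Cos F m) (g : GL (Fin (m + 1)) F) : R :=
  if x.out⁻¹ * g ∈ parabolic F (asc x.out) then 1 else 0

lemma bas_inv {x : Cos F m} {J : Finset (Fin m)} (hJ : J ⊆ asc x.out) (g p : GL (Fin (m + 1)) F)
    (hp : p ∈ parabolic F J) : bas (R := R) x (g * p) = bas x g := by
  classical
  simp only [bas, ← mul_assoc, Subgroup.mul_mem_cancel_right _ (parabolic_mono hJ hp)]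

lemma bas_self (x : Cos F m) : bas (R := R) x x.out = 1 := by
  simp [bas, (parabolic F (asc x.out)).one_mem]

lemma bas_eq_zero {x y : Cos F m} (h : pot y.out ≤ pot x.out) (hne : x ≠ y) :
    bas (R := R) x y.out = 0 := by
  classical
  simp only [bas, ite_eq_right_iff]
  intro hmem
  exfalso
  obtain ⟨h1, h2⟩ := pot_le hmem (Finset.Subset.refl (asc x.out))
  rw [mul_inv_cancel_left] at h1 h2
  have hb := h2 (le_antisymm h1 h)
  exact hne (by rw [← x.out_eq, ← y.out_eq]; exact QuotientGroup.eq.mpr hb)

variable [Finite F]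

instance : Finite (Cos F m) := by
  haveI : Finite (GL (Fin (m + 1)) F) :=
    Finite.of_injective (fun g => (g : Matrix (Fin (m + 1)) (Fin (m + 1)) F)) fun _ _ h => Units.ext h
  infer_instance

noncomputable instance : Fintype (Cos F m) := Fintype.ofFinite _

lemma coeff_eq_zero {c : Cos F m → R} (h : ∀ g, ∑ x, c x * bas x g = 0) : c = 0 := by
  classical
  funext x
  suffices H : ∀ n, ∀ y : Cos F m, pot y.out = n → c y = 0 from H _ x rfl
  intro n
  induction n using Nat.strong_induction_on with
  | _ n ih =>
    intro y hy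
    have := h y.out
    rw [Finset.sum_eq_single y, bas_self, mul_one] at this
    · exact this
    · intro z _ hzy
      rcases lt_or_ge (pot z.out) n with hz | hz
      · rw [ih _ hz z rfl, zero_mul]
      · rw [bas_eq_zero (hy ▸ hz) hzy, mul_zero]
    · simp

lemma sum_inv {J : Finset (Fin m)} {c : Cos F m → R} (hc : ∀ x, ¬ J ⊆ asc x.out → c x = 0)
    (g p : GL (Fin (m + 1)) F) (hp : p ∈ parabolic F J) :
    ∑ x, c x * bas x (g * p) = ∑ x, c x * bas x g := by
  classical
  refine Finset.sum_congr rfl fun x _ => ?_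
  by_cases hx : J ⊆ asc x.out
  · rw [bas_inv hx g p hp]
  · rw [hc x hx, zero_mul, zero_mul]

lemma exists_coeff {J : Finset (Fin m)} {f : GL (Fin (m + 1)) F → R}
    (hf : ∀ g, ∀ p ∈ parabolic F J, f (g * p) = f g) :
    ∃ c : Cos F m → R, (∀ x, ¬ J ⊆ asc x.out → c x = 0) ∧ ∀ g, ∑ x, c x * bas x g = f g := by
  classical
  have hB : parabolic F (∅ : Finset (Fin m)) ≤ parabolic F J := parabolic_mono (Finset.empty_subset J)
  obtain ⟨N, hN⟩ : ∃ N, ∀ y : Cos F m, pot y.out < N :=
    ⟨(Finset.univ.sup fun y : Cos F m => pot y.out) + 1, fun y => Nat.lt_succ_of_le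
      (Finset.le_sup (f := fun y : Cos F m => pot y.out) (Finset.mem_univ y))⟩
  suffices H : ∀ k, ∀ f' : GL (Fin (m + 1)) F → R, (∀ g, ∀ p ∈ parabolic F J, f' (g * p) = f' g) →
      (∀ y : Cos F m, pot y.out < N - k → f' y.out = 0) →
      ∃ c : Cos F m → R, (∀ x, ¬ J ⊆ asc x.out → c x = 0) ∧ ∀ g, ∑ x, c x * bas x g = f' g from
    H N f hf fun y hy => absurd hy (by simp)
  intro k
  induction k with
  | zero =>
    intro f' hf' h0
    refine ⟨0, fun _ _ => rfl, fun g => ?_⟩
    rw [← eq_out (fun g p hp => hf' g p (hB hp)) g, h0 _ (by simpa using hN _)]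
    simp
  | succ k ih =>
    intro f' hf' h0
    set n := N - (k + 1)
    let c₀ : Cos F m → R := fun x => if pot x.out = n ∧ J ⊆ asc x.out then f' x.out else 0
    have hc₀ : ∀ x, ¬ J ⊆ asc x.out → c₀ x = 0 := fun x hx => if_neg fun h => hx h.2
    obtain ⟨c, hc, hsum⟩ := ih (fun g => f' g - ∑ x, c₀ x * bas x g)
      (fun g p hp => by rw [hf' g p hp, sum_inv hc₀ g p hp]) (by
        intro y hy
        have hlow : ∀ z : Cos F m, pot z.out ≤ n →
            (J ⊆ asc z.out ∨ pot z.out < n) → f' z.out - ∑ x, c₀ x * bas x z.out = 0 := by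
          intro z hz hor
          rw [Finset.sum_eq_single z]
          · rcases hz.lt_or_eq with hlt | heq
            · rw [h0 z hlt]
              simp [c₀, hlt.ne]
            · have hJz : J ⊆ asc z.out := hor.resolve_right (by omega)
              simp [c₀, heq, hJz, bas_self]
          · intro x _ hxz
            by_cases hx : pot x.out = n
            · rw [bas_eq_zero (hx ▸ hz) hxz, mul_zero]
            · simp [c₀, hx]
          · simp
        have hyn : pot y.out ≤ n := by omega
        rcases Classical.em (J ⊆ asc y.out ∨ pot y.out < n) with hor | hor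
        · exact hlow y hyn hor
        push Not at hor
        obtain ⟨p, hp, hpa, hpm⟩ := exists_asc y.out J
        have hle : pot (y.out * p) ≤ pot y.out := by simpa using hpm 1 (parabolic F J).one_mem
        have hlt : pot (y.out * p) < pot y.out := by
          refine lt_of_le_of_ne hle fun e => hor.1 ?_
          have hb := (pot_le ((parabolic F J).inv_mem hp) hpa).2
            (by rw [mul_inv_cancel_right]; exact e)
          have hy' := asc_mul_borel (g := y.out * p) hb
          rw [mul_inv_cancel_right] at hy'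
          rwa [hy']
        set z : Cos F m := QuotientGroup.mk (y.out * p)
        have hz : pot z.out < n := by
          obtain ⟨b, hb, e⟩ := exists_borel (y.out * p)
          rw [← e, pot_mul_borel hb]
          omega
        have := hlow z hz.le (Or.inr hz)
        rw [eq_out (f := fun g => f' g - ∑ x, c₀ x * bas x g)
          (fun g q hq => by rw [hf' g q (hB hq), sum_inv hc₀ g q (hB hq)]) (y.out * p)] at this
        rwa [hf' _ p hp, sum_inv hc₀ _ p hp] at this)
    refine ⟨c + c₀, fun x hx => by simp [hc x hx, hc₀ x hx], fun g => ?_⟩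
    simp only [Pi.add_apply, add_mul, Finset.sum_add_distrib, hsum g]
    ring

/-- The simplex: an alternating family on the subsets of `A` killed by the differential is a
differential, by coning off the least element of `A`. -/
lemma cone {A : Finset (Fin r)} {k : ℕ} {φ : Finset (Fin r) → R}
    (hA : ∀ T, ¬ T ⊆ A → φ T = 0)
    (hd : ∀ U : Finset (Fin r), U.card = k →
      ∑ a, (if a ∈ U then 0 else (sgn U a : R) * φ (insert a U)) = 0) :
    ∃ ψ : Finset (Fin r) → R, (∀ U, ¬ U ⊆ A → ψ U = 0) ∧
      ∀ T : Finset (Fin r), T.card = k + 1 →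
        ∑ a, (if a ∈ T then 0 else (sgn T a : R) * ψ (insert a T)) = φ T := by
  classical
  by_cases hne : A.Nonempty
  swap
  · refine ⟨0, fun _ _ => rfl, fun T hT => ?_⟩
    rw [hA T fun h => hne ((Finset.card_pos.mp (by omega : 0 < T.card)).mono h)]
    simp
  set a₀ := A.min' hne
  refine ⟨fun U => if a₀ ∈ U ∧ U ⊆ A then -φ (U.erase a₀) else 0,
    fun U hU => if_neg fun h => hU h.2, fun T hT => ?_⟩
  dsimp only
  by_cases hTA : T ⊆ A
  swap
  · rw [hA T hTA]
    refine Finset.sum_eq_zero fun a _ => ?_
    split_ifs with h h'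
    · rfl
    · exact absurd ((Finset.subset_insert a T).trans h'.2) hTA
    · rw [mul_zero]
  have hmin : ∀ t ∈ T, a₀ ≤ t := fun t ht => A.min'_le t (hTA ht)
  have hsgn : ∀ S : Finset (Fin r), S ⊆ T → sgn S a₀ = -1 := by
    intro S hS
    have h0 : S.filter (fun t => t < a₀) = ∅ :=
      Finset.filter_eq_empty_iff.mpr fun t ht => not_lt.mpr (hmin t (hS ht))
    rw [sgn, h0]; simp
  by_cases h0 : a₀ ∈ T
  swap
  · rw [Finset.sum_eq_single a₀]
    · rw [if_neg h0, if_pos ⟨Finset.mem_insert_self _ _,
        Finset.insert_subset (A.min'_mem hne) hTA⟩, Finset.erase_insert h0, hsgn T subset_rfl]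
      simp
    · intro a _ ha
      split_ifs with h h'
      · rfl
      · exact absurd h'.1 (by simp [ha.symm, h0])
      · rw [mul_zero]
    · simp
  have hU := hd (T.erase a₀) (by rw [Finset.card_erase_of_mem h0, hT]; omega)
  rw [← Finset.add_sum_erase _ _ (Finset.mem_univ a₀), if_neg (Finset.notMem_erase _ _),
    Finset.insert_erase h0, hsgn _ (Finset.erase_subset _ _)] at hU
  rw [← Finset.add_sum_erase _ _ (Finset.mem_univ a₀), if_pos h0, zero_add]
  push_cast at hU
  refine Eq.trans (Finset.sum_congr rfl fun a ha => ?_) (by linear_combination hU)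
  have ha0 : a ≠ a₀ := Finset.ne_of_mem_erase ha
  by_cases haT : a ∈ T
  · simp [haT, ha0]
  have haT' : a ∉ T.erase a₀ := fun h => haT (Finset.mem_of_mem_erase h)
  rw [if_neg haT, if_neg haT']
  by_cases haA : a ∈ A
  · have hlt : a₀ < a := lt_of_le_of_ne (A.min'_le a haA) ha0.symm
    have hcard : (T.filter (fun t => t < a)).card
        = ((T.erase a₀).filter (fun t => t < a)).card + 1 := by
      rw [Finset.filter_erase, Finset.card_erase_add_one (by simp [h0, hlt])]
    rw [if_pos ⟨Finset.mem_insert_of_mem h0, Finset.insert_subset haA hTA⟩,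
      Finset.erase_insert_of_ne ha0, sgn, sgn, hcard]
    push_cast
    ring
  · rw [hA (insert a (T.erase a₀)) fun h => haA (h (Finset.mem_insert_self _ _)),
      if_neg fun h => haA (h.2 (Finset.mem_insert_self _ _))]
    simp

/-- Exactness of the complex of parabolic permutation modules. -/
theorem exact_delta (ω : Fin r ↪ Fin m) (k : ℕ) (f : Cochain F R (m := m) r (k + 1))
    (hf : IsInduced ω f) (hd : delta k f = 0) :
    ∃ g : Cochain F R (m := m) r (k + 2), IsInduced ω g ∧ delta (k + 1) g = f := by
  classical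
  choose c hc hsum using fun T => exists_coeff (f := f T) (J := T.1.map ω) (fun g p => hf T g p)
  let A : Cos F m → Finset (Fin r) := fun x => Finset.univ.filter fun a => ω a ∈ asc x.out
  have hAiff : ∀ (x : Cos F m) (T : Finset (Fin r)), T.map ω ⊆ asc x.out ↔ T ⊆ A x := by
    intro x T
    simp [A, Finset.subset_iff]
  let φ : Cos F m → Finset (Fin r) → R := fun x T =>
    if h : T.card = k + 1 then c ⟨T, h⟩ x else 0
  have hφA : ∀ x T, ¬ T ⊆ A x → φ x T = 0 := by
    intro x T hT
    simp only [φ]
    split_ifs with h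
    · exact hc ⟨T, h⟩ x fun h' => hT ((hAiff x T).mp h')
    · rfl
  have hφd : ∀ x (U : Finset (Fin r)), U.card = k →
      ∑ a, (if a ∈ U then 0 else (sgn U a : R) * φ x (insert a U)) = 0 := by
    intro x U hU
    refine congrFun (coeff_eq_zero (c := fun y =>
      ∑ a, (if a ∈ U then 0 else (sgn U a : R) * φ y (insert a U))) fun g => ?_) x
    have h1 := congrFun (congrFun hd ⟨U, hU⟩) g
    simp only [delta, Pi.zero_apply] at h1
    simp_rw [Finset.sum_mul]
    rw [Finset.sum_comm]
    refine Eq.trans (Finset.sum_congr rfl fun a _ => ?_) h1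
    by_cases h : a ∈ U
    · simp [h]
    · rw [dif_pos h]
      simp only [if_neg h, φ, dif_pos (show (insert a U).card = k + 1 by
        rw [Finset.card_insert_of_notMem h, hU]), mul_assoc, ← Finset.mul_sum, hsum]
  choose ψ hψA hψ using fun x => cone (hφA x) (hφd x)
  refine ⟨fun U g => ∑ x, ψ x U.1 * bas x g, fun U g p hp =>
    sum_inv (fun x hx => hψA x U.1 fun h => hx ((hAiff x U.1).mpr h)) g p hp, ?_⟩
  funext T g
  rw [← hsum T g]
  simp only [delta]
  calc _ = ∑ a, ∑ x, (if a ∈ T.1 then 0 else (sgn T.1 a : R) * ψ x (insert a T.1)) * bas x g := by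
        refine Finset.sum_congr rfl fun a _ => ?_
        by_cases h : a ∈ T.1
        · simp [h]
        · rw [dif_pos h]
          simp [h, Finset.mul_sum, mul_assoc]
    _ = _ := by
        rw [Finset.sum_comm]
        refine Finset.sum_congr rfl fun x _ => ?_
        rw [← Finset.sum_mul, hψ x T.1 T.2]
        simp only [φ, dif_pos T.2, Subtype.coe_eta]

end Groth.Agent.L13.Flag
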