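import Groth.Prelude.Def_W4c3dlvarstrshPar
import Mathlib.LinearAlgebra.Matrix.ToLin
import Mathlib.LinearAlgebra.Matrix.GeneralLinearGroup.Defs
import Mathlib.LinearAlgebra.Matrix.NonsingularInverse
import Mathlib.Data.Fintype.EquivFin
import Mathlib.Tactic

/-!
Pivots of the column flag of an invertible matrix: every coset of a standard parabolic has exactly one
`B`-coset with increasing pivots in each block, and it has the smallest potential.
-/

set_option autoImplicit false

universe u

namespace Groth.Agent.L13.Flag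

open Matrix W4c3dlvarstrsh

variable {F : Type u} [Field F] {m : ℕ}

local notation "Vec" => Fin (m + 1) → F
local notation "G" => GL (Fin (m + 1)) F

/-- `a` is the top of the support of `v`. -/
def Piv (v : Vec) (a : Fin (m + 1)) : Prop := v a ≠ 0 ∧ ∀ i, a < i → v i = 0

lemma exists_piv {v : Vec} (hv : v ≠ 0) : ∃ a, Piv v a := by
  classical
  obtain ⟨i, hi⟩ := Function.ne_iff.mp hv
  obtain ⟨a, ha, hmax⟩ := (Finset.univ.filter fun i => v i ≠ 0).exists_max_image id
    ⟨i, by simpa using hi⟩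
  refine ⟨a, by simpa using ha, fun l hl => by_contra fun hne => ?_⟩
  exact absurd (hmax l (by simpa using hne)) (not_le.mpr hl)

lemma Piv.unique {v : Vec} {a b : Fin (m + 1)} (ha : Piv v a) (hb : Piv v b) : a = b := by
  rcases lt_trichotomy a b with h | h | h
  · exact absurd (ha.2 b h) hb.1
  · exact h
  · exact absurd (hb.2 a h) ha.1

lemma Piv.reduce {v u : Vec} {a b : Fin (m + 1)} (hv : Piv v a) (hu : Piv u a)
    (hb : Piv (v - (v a / u a) • u) b) : b < a := by
  rcases lt_trichotomy b a with h | h | h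
  · exact h
  · exact absurd (by subst h; simp [div_mul_cancel₀ _ hu.1]) hb.1
  · exact absurd (by simp [hv.2 b h, hu.2 b h]) hb.1

/-- The pivots of a subspace. -/
def pivots (V : Submodule F Vec) : Set (Fin (m + 1)) := {a | ∃ v ∈ V, Piv v a}

lemma pivots_mono {V W : Submodule F Vec} (h : V ≤ W) : pivots V ⊆ pivots W :=
  fun _ ⟨v, hv, ha⟩ => ⟨v, h hv, ha⟩

/-- An element all of whose possible pivots lie in `U` is in `U`. -/
lemma mem_of_pivots {U W : Submodule F Vec} (hU : U ≤ W) :
    ∀ (a : Fin (m + 1)) (v : Vec), v ∈ W → Piv v a →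
      (∀ b ∈ pivots W, b ≤ a → b ∈ pivots U) → v ∈ U := by
  intro a
  induction a using WellFoundedLT.induction with
  | _ a ih =>
    intro v hv hva hp
    obtain ⟨u, huU, hua⟩ := hp a ⟨v, hv, hva⟩ le_rfl
    by_cases h : v - (v a / u a) • u = 0
    · rw [sub_eq_zero] at h; rw [h]; exact U.smul_mem _ huU
    · obtain ⟨b, hb⟩ := exists_piv h
      have hba := hva.reduce hua hb
      have := ih b hba _ (sub_mem hv (W.smul_mem _ (hU huU))) hb
        (fun c hc hcb => hp c hc (hcb.trans hba.le))
      simpa using add_mem this (U.smul_mem (v a / u a) huU)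

/-- The span of the first `j` columns. -/
def V (g : G) (j : ℕ) : Submodule F Vec :=
  Submodule.span F ((fun i => (g : Matrix (Fin (m + 1)) (Fin (m + 1)) F).col i) '' {i | i.val < j})

lemma V_mono (g : G) {i j : ℕ} (h : i ≤ j) : V g i ≤ V g j :=
  Submodule.span_mono (Set.image_mono fun _ hx => lt_of_lt_of_le hx h)

lemma mem_V_iff (g : G) (j : ℕ) (v : Vec) :
    v ∈ V g j ↔ ∃ c : Vec, (∀ i, j ≤ i.val → c i = 0) ∧
      (g : Matrix (Fin (m + 1)) (Fin (m + 1)) F) *ᵥ c = v := by
  classical
  constructor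
  · intro hv
    refine Submodule.span_induction (p := fun v _ => ∃ c : Vec, (∀ i, j ≤ i.val → c i = 0) ∧
      (g : Matrix (Fin (m + 1)) (Fin (m + 1)) F) *ᵥ c = v) ?_ ?_ ?_ ?_ hv
    · rintro _ ⟨i, hi, rfl⟩
      refine ⟨Pi.single i 1, fun l hl => Pi.single_eq_of_ne (fun e => ?_) _, ?_⟩
      · subst e; exact absurd hi (not_lt.mpr hl)
      · rw [Matrix.mulVec_single_one]
    · exact ⟨0, fun _ _ => rfl, Matrix.mulVec_zero _⟩
    · rintro _ _ _ _ ⟨c, hc, rfl⟩ ⟨d, hd, rfl⟩
      exact ⟨c + d, fun i hi => by simp [hc i hi, hd i hi], Matrix.mulVec_add _ _ _⟩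
    · rintro r _ _ ⟨c, hc, rfl⟩
      exact ⟨r • c, fun i hi => by simp [hc i hi], Matrix.mulVec_smul _ _ _⟩
  · rintro ⟨c, hc, rfl⟩
    have e : (g : Matrix (Fin (m + 1)) (Fin (m + 1)) F) *ᵥ c =
        ∑ i, c i • (g : Matrix (Fin (m + 1)) (Fin (m + 1)) F).col i := by
      ext a; simp [Matrix.mulVec, dotProduct, Matrix.col, mul_comm]
    rw [e]
    refine Submodule.sum_mem _ fun i _ => ?_
    by_cases h : i.val < j
    · exact Submodule.smul_mem _ _ (Submodule.subset_span ⟨i, h, rfl⟩)
    · simp [hc i (not_lt.mp h)]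

lemma mulVec_injective (g : G) :
    Function.Injective ((g : Matrix (Fin (m + 1)) (Fin (m + 1)) F) *ᵥ ·) :=
  Matrix.mulVec_injective_iff_isUnit.mpr g.isUnit

lemma col_mem (g : G) (i : Fin (m + 1)) :
    (g : Matrix (Fin (m + 1)) (Fin (m + 1)) F).col i ∈ V g (i.val + 1) :=
  Submodule.subset_span ⟨i, Nat.lt_succ_self _, rfl⟩

lemma exists_sub_smul_mem (g : G) (i : Fin (m + 1)) {v : Vec} (hv : v ∈ V g (i.val + 1)) :
    ∃ α : F, v - α • (g : Matrix (Fin (m + 1)) (Fin (m + 1)) F).col i ∈ V g i.val := by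
  classical
  obtain ⟨c, hc, rfl⟩ := (mem_V_iff g _ v).mp hv
  refine ⟨c i, (mem_V_iff g _ _).mpr ⟨c - Pi.single i (c i), fun l hl => ?_, ?_⟩⟩
  · by_cases h : l = i
    · subst h; simp
    · rw [Pi.sub_apply, Pi.single_eq_of_ne h, sub_zero]
      exact hc l (by have : l.val ≠ i.val := fun e => h (Fin.ext e); omega)
  · rw [Matrix.mulVec_sub, Matrix.mulVec_single]
    simp

lemma col_not_mem (g : G) (i : Fin (m + 1)) :
    (g : Matrix (Fin (m + 1)) (Fin (m + 1)) F).col i ∉ V g i.val := by
  classical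
  intro h
  obtain ⟨c, hc, e⟩ := (mem_V_iff g _ _).mp h
  have := mulVec_injective g (e.trans (Matrix.mulVec_single_one _ i).symm)
  have h1 := congrFun this i
  rw [hc i le_rfl, Pi.single_eq_same] at h1
  exact one_ne_zero h1.symm

lemma existsUnique_new (g : G) (i : Fin (m + 1)) :
    ∃! a, a ∈ pivots (V g (i.val + 1)) ∧ a ∉ pivots (V g i.val) := by
  classical
  have hex : ∃ a, a ∈ pivots (V g (i.val + 1)) ∧ a ∉ pivots (V g i.val) := by
    have hne : ∃ a, ∃ v, v ∈ V g (i.val + 1) ∧ v ∉ V g i.val ∧ Piv v a := by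
      have hv : (g : Matrix (Fin (m + 1)) (Fin (m + 1)) F).col i ≠ 0 := fun e =>
        col_not_mem g i (e ▸ zero_mem _)
      obtain ⟨a, ha⟩ := exists_piv hv
      exact ⟨a, _, col_mem g i, col_not_mem g i, ha⟩
    obtain ⟨a, ha, hmin⟩ :=
      (Finset.univ.filter fun a => ∃ v, v ∈ V g (i.val + 1) ∧ v ∉ V g i.val ∧ Piv v a).exists_min_image
        id (by obtain ⟨a, ha⟩ := hne; exact ⟨a, by simpa using ha⟩)
    simp only [Finset.mem_filter, Finset.mem_univ, true_and] at ha hmin
    obtain ⟨v, hv, hv', hva⟩ := ha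
    refine ⟨a, ⟨v, hv, hva⟩, fun ⟨u, hu, hua⟩ => ?_⟩
    by_cases h : v - (v a / u a) • u = 0
    · exact hv' (by rw [sub_eq_zero] at h; rw [h]; exact (V g _).smul_mem _ hu)
    · obtain ⟨b, hb⟩ := exists_piv h
      have hba := hva.reduce hua hb
      refine absurd (hmin b ⟨_, sub_mem hv ((V g _).smul_mem _ (V_mono g (Nat.le_succ _) hu)),
        fun h' => hv' ?_, hb⟩) (not_le.mpr hba)
      simpa using add_mem h' ((V g i.val).smul_mem (v a / u a) hu)
  obtain ⟨a, ha⟩ := hex
  refine ⟨a, ha, fun b hb => ?_⟩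
  by_contra hne
  obtain ⟨⟨v, hv, hva⟩, ha'⟩ := ha
  obtain ⟨⟨u, hu, hub⟩, hb'⟩ := hb
  obtain ⟨α, hα⟩ := exists_sub_smul_mem g i hv
  obtain ⟨β, hβ⟩ := exists_sub_smul_mem g i hu
  set c := (g : Matrix (Fin (m + 1)) (Fin (m + 1)) F).col i
  have hz : β • v - α • u ∈ V g i.val := by
    rw [show β • v - α • u = β • (v - α • c) - α • (u - β • c) by
      rw [smul_sub, smul_sub, smul_smul, smul_smul, mul_comm α β]; abel]
    exact sub_mem ((V g _).smul_mem _ hα) ((V g _).smul_mem _ hβ)
  have hα0 : α ≠ 0 := fun h => ha' ⟨v, by simpa [h] using hα, hva⟩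
  have hβ0 : β ≠ 0 := fun h => hb' ⟨u, by simpa [h] using hβ, hub⟩
  rcases lt_or_gt_of_ne hne with h | h
  · refine ha' ⟨_, hz, ?_, fun l hl => ?_⟩
    · simp [hub.2 a h, hβ0, hva.1]
    · simp [hva.2 l hl, hub.2 l (h.trans hl)]
  · refine hb' ⟨_, hz, ?_, fun l hl => ?_⟩
    · simp [hva.2 b h, hα0, hub.1]
    · simp [hub.2 l hl, hva.2 l (h.trans hl)]

/-- The pivot permutation. -/
noncomputable def w (g : G) (i : Fin (m + 1)) : Fin (m + 1) := (existsUnique_new g i).exists.choose

lemma w_spec (g : G) (i : Fin (m + 1)) :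
    w g i ∈ pivots (V g (i.val + 1)) ∧ w g i ∉ pivots (V g i.val) :=
  (existsUnique_new g i).exists.choose_spec

lemma eq_w {g : G} {i a : Fin (m + 1)} (h : a ∈ pivots (V g (i.val + 1)))
    (h' : a ∉ pivots (V g i.val)) : a = w g i :=
  (existsUnique_new g i).unique ⟨h, h'⟩ (w_spec g i)

lemma w_injective (g : G) : Function.Injective (w g) := by
  intro i l h
  by_contra hne
  rcases lt_or_gt_of_ne hne with hil | hil
  · exact (w_spec g l).2 (h ▸ pivots_mono (V_mono g hil) (w_spec g i).1)
  · exact (w_spec g i).2 (h.symm ▸ pivots_mono (V_mono g hil) (w_spec g l).1)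

lemma mem_pivots_iff (g : G) : ∀ (j : ℕ), j ≤ m + 1 → ∀ a : Fin (m + 1),
    (a ∈ pivots (V g j) ↔ ∃ i : Fin (m + 1), i.val < j ∧ w g i = a)
  | 0, _, a => by
    refine ⟨fun ⟨v, hv, ha⟩ => ?_, fun ⟨i, hi, _⟩ => absurd hi (Nat.not_lt_zero _)⟩
    have : v = 0 := by simpa [V] using hv
    exact absurd (by simp [this]) ha.1
  | j + 1, hj, a => by
    have ih := mem_pivots_iff g j (by omega)
    constructor
    · intro ha
      by_cases h : a ∈ pivots (V g j)
      · obtain ⟨i, hi, e⟩ := (ih a).mp h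
        exact ⟨i, by omega, e⟩
      · exact ⟨⟨j, hj⟩, Nat.lt_succ_self j, (eq_w (i := ⟨j, hj⟩) ha h).symm⟩
    · rintro ⟨i, hi, rfl⟩
      exact pivots_mono (V_mono g (by omega)) (w_spec g i).1

lemma mem_pivots_succ (g : G) (i : Fin (m + 1)) {a : Fin (m + 1)} :
    a ∈ pivots (V g (i.val + 1)) ↔ ∃ l, l ≤ i ∧ w g l = a := by
  rw [mem_pivots_iff g _ i.isLt]
  exact exists_congr fun l => and_congr_left' Nat.lt_succ_iff

/-- The potential. -/
noncomputable def pot (g : G) : ℕ := ∑ i : Fin (m + 1), (m + 1 - i.val) * (w g i).val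

/-- The ascents. -/
noncomputable def asc (g : G) : Finset (Fin m) :=
  Finset.univ.filter fun k => w g k.castSucc < w g k.succ

section blocks

variable {J J' : Finset (Fin m)}

lemma blockOf_mono (J : Finset (Fin m)) {i l : Fin (m + 1)} (h : i ≤ l) :
    blockOf J i ≤ blockOf J l :=
  Finset.card_le_card fun k hk => by
    simp only [Finset.mem_filter, Finset.mem_univ, true_and] at hk ⊢
    exact ⟨lt_of_lt_of_le hk.1 h, hk.2⟩

lemma blockOf_lt_iff {i l : Fin (m + 1)} :
    blockOf J i < blockOf J l ↔ ∃ k : Fin m, k ∉ J ∧ i.val ≤ k.val ∧ k.val < l.val := by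
  constructor
  · intro h
    by_contra hne
    push Not at hne
    refine absurd (Finset.card_le_card fun k hk => ?_) (not_le.mpr h)
    simp only [Finset.mem_filter, Finset.mem_univ, true_and] at hk ⊢
    refine ⟨?_, hk.2⟩
    by_contra hki
    exact absurd hk.1 (not_lt.mpr (hne k hk.2 (not_lt.mp hki)))
  · rintro ⟨k, hk, hik, hkl⟩
    refine Finset.card_lt_card ⟨fun x hx => ?_, fun h => ?_⟩
    · simp only [Finset.mem_filter, Finset.mem_univ, true_and] at hx ⊢
      exact ⟨by omega, hx.2⟩
    · have := h (show k ∈ _ by simpa using ⟨hkl, hk⟩)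
      simp at this
      omega

lemma parabolic_mono (h : J ⊆ J') : parabolic F J ≤ parabolic F J' := fun g hg i l hlt => by
  obtain ⟨k, hk, h1, h2⟩ := blockOf_lt_iff.mp hlt
  exact hg (blockOf_lt_iff.mpr ⟨k, fun e => hk (h e), h1, h2⟩)

/-- `j` separates blocks. -/
def IsCut (J : Finset (Fin m)) (j : ℕ) : Prop := ∀ k : Fin m, k.val + 1 = j → k ∉ J

lemma V_mul_le {g p : G} (hp : p ∈ parabolic F J) {j : ℕ} (hj : IsCut J j) :
    V (g * p) j ≤ V g j := by
  refine Submodule.span_le.mpr ?_
  rintro _ ⟨i, hi, rfl⟩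
  refine (mem_V_iff g j _).mpr ⟨(p : Matrix (Fin (m + 1)) (Fin (m + 1)) F).col i,
    fun a ha => ?_, ?_⟩
  · have hi' : i.val < j := hi
    refine hp (blockOf_lt_iff.mpr ⟨⟨j - 1, by omega⟩, hj _ (by simp only; omega), ?_, ?_⟩) <;>
      simp only <;> omega
  · ext a
    simp [Matrix.mulVec, dotProduct, Matrix.col, Matrix.mul_apply, Units.val_mul]

lemma V_mul_eq {g p : G} (hp : p ∈ parabolic F J) {j : ℕ} (hj : IsCut J j) :
    V (g * p) j = V g j := by
  refine le_antisymm (V_mul_le hp hj) ?_
  have := V_mul_le (g := g * p) ((parabolic F J).inv_mem hp) hj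
  rwa [mul_inv_cancel_right] at this

lemma isCut_empty (j : ℕ) : IsCut (∅ : Finset (Fin m)) j := fun _ _ => Finset.notMem_empty _

lemma w_congr {g g' : G} (h : ∀ j, V g' j = V g j) : w g' = w g :=
  funext fun i => eq_w (by rw [← h]; exact (w_spec g' i).1) (by rw [← h]; exact (w_spec g' i).2)

lemma w_mul_borel {g b : G} (hb : b ∈ parabolic F (∅ : Finset (Fin m))) : w (g * b) = w g :=
  w_congr fun j => V_mul_eq hb (isCut_empty j)

lemma pot_mul_borel {g b : G} (hb : b ∈ parabolic F (∅ : Finset (Fin m))) : pot (g * b) = pot g := by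
  simp only [pot, w_mul_borel hb]

lemma asc_mul_borel {g b : G} (hb : b ∈ parabolic F (∅ : Finset (Fin m))) : asc (g * b) = asc g := by
  simp only [asc, w_mul_borel hb]

/-- Equal flags differ by an upper triangular matrix. -/
lemma mem_borel_of_V_eq {g p : G} (h : ∀ j, V (g * p) j ≤ V g j) :
    p ∈ parabolic F (∅ : Finset (Fin m)) := by
  intro a i hlt
  obtain ⟨k, -, h1, h2⟩ := blockOf_lt_iff.mp hlt
  obtain ⟨c, hc, e⟩ := (mem_V_iff g _ _).mp (h _ (col_mem (g * p) i))
  have e' : (g : Matrix (Fin (m + 1)) (Fin (m + 1)) F) *ᵥ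
      (p : Matrix (Fin (m + 1)) (Fin (m + 1)) F).col i =
      ((g * p : G) : Matrix (Fin (m + 1)) (Fin (m + 1)) F).col i := by
    ext x
    simp [Matrix.mulVec, dotProduct, Matrix.col, Matrix.mul_apply, Units.val_mul]
  have := congrFun (mulVec_injective g (e'.trans e.symm)) a
  show (p : Matrix (Fin (m + 1)) (Fin (m + 1)) F).col i a = 0
  rw [this, hc a (by omega)]

/-- Increasing in a block from the ascents. -/
lemma w_lt_of_block {g : G} (hJ : J ⊆ asc g) :
    ∀ {i l : Fin (m + 1)}, i < l → blockOf J i = blockOf J l → w g i < w g l := by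
  intro i l
  induction l using Fin.induction with
  | zero => intro h; exact absurd h (by simp)
  | succ k ih =>
    intro h hb
    have hk : k ∈ J := by
      by_contra hk
      exact absurd hb (ne_of_lt (blockOf_lt_iff.mpr ⟨k, hk, by
        have : i.val < k.val + 1 := h
        omega, by simp⟩))
    have hasc : w g k.castSucc < w g k.succ := by simpa [asc] using hJ hk
    rcases (Fin.le_castSucc_iff.mpr h).lt_or_eq with hlt | heq
    · refine (ih hlt ?_).trans hasc
      refine le_antisymm (blockOf_mono J hlt.le) ?_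
      rw [hb]; exact blockOf_mono J (Fin.castSucc_lt_succ (i := k)).le
    · rw [heq]; exact hasc

lemma exists_cuts (J : Finset (Fin m)) (i : Fin (m + 1)) :
    ∃ c d : ℕ, c ≤ i.val ∧ i.val < d ∧ d ≤ m + 1 ∧ IsCut J c ∧ IsCut J d ∧
      ∀ l : Fin (m + 1), (blockOf J l = blockOf J i ↔ c ≤ l.val ∧ l.val < d) := by
  classical
  set S := Finset.univ.filter fun l : Fin (m + 1) => blockOf J l = blockOf J i with hS
  have hne : S.Nonempty := ⟨i, by simp [hS]⟩
  obtain ⟨a, ha, hamin⟩ := S.exists_min_image id hne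
  obtain ⟨b, hb, hbmax⟩ := S.exists_max_image id hne
  simp only [hS, Finset.mem_filter, Finset.mem_univ, true_and, id] at ha hb hamin hbmax
  refine ⟨a.val, b.val + 1, hamin i rfl, Nat.lt_succ_of_le (hbmax i rfl), b.isLt, ?_, ?_,
    fun l => ⟨fun h => ⟨hamin l h, Nat.lt_succ_of_le (hbmax l h)⟩, fun h => ?_⟩⟩
  · intro k hk hkJ
    have : a ≤ k.castSucc := hamin _ (by
      rw [← ha]
      refine le_antisymm (blockOf_mono J (by rw [Fin.le_def, Fin.val_castSucc]; omega)) ?_
      by_contra hlt
      obtain ⟨k', hk', h1, h2⟩ := blockOf_lt_iff.mp (not_le.mp hlt)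
      rw [Fin.val_castSucc] at h1
      have : k' = k := Fin.ext (by omega)
      exact hk' (this ▸ hkJ))
    rw [Fin.le_def, Fin.val_castSucc] at this
    omega
  · intro k hk hkJ
    have : k.succ ≤ b := hbmax _ (by
      rw [← hb]
      refine le_antisymm ?_ (blockOf_mono J (by rw [Fin.le_def, Fin.val_succ]; omega))
      by_contra hlt
      obtain ⟨k', hk', h1, h2⟩ := blockOf_lt_iff.mp (not_le.mp hlt)
      rw [Fin.val_succ] at h2
      have : k' = k := Fin.ext (by omega)
      exact hk' (this ▸ hkJ))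
    rw [Fin.le_def, Fin.val_succ] at this
    omega
  · exact le_antisymm ((blockOf_mono J (Nat.le_of_lt_succ h.2)).trans hb.le)
      (ha.ge.trans (blockOf_mono J h.1))

/-- Two increasing representatives of one coset have the same pivots. -/
lemma w_unique {g p : G} (hp : p ∈ parabolic F J) (hg : J ⊆ asc g) (hgp : J ⊆ asc (g * p)) :
    w (g * p) = w g := by
  funext i
  induction i using WellFoundedLT.induction with
  | _ i ih =>
    obtain ⟨c, d, hc, hd, hdm, hcc, hdc, hblock⟩ := exists_cuts J i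
    have himg : ∀ {x y : G}, (∀ j, IsCut J j → V x j = V y j) →
        ∃ l, blockOf J l = blockOf J i ∧ w x l = w y i := by
      intro x y hxy
      have h1 : w y i ∈ pivots (V y d) := pivots_mono (V_mono y hd) (w_spec y i).1
      rw [← hxy d hdc, mem_pivots_iff x d hdm] at h1
      obtain ⟨l, hl, e⟩ := h1
      refine ⟨l, (hblock l).mpr ⟨?_, hl⟩, e⟩
      by_contra hlc
      refine (w_spec y i).2 (pivots_mono (V_mono y hc) ?_)
      rw [← hxy c hcc, mem_pivots_iff x c (by omega)]
      exact ⟨l, by omega, e⟩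
    obtain ⟨l, hl, el⟩ := himg (x := g * p) (y := g) fun j hj => V_mul_eq hp hj
    obtain ⟨l', hl', el'⟩ := himg (x := g) (y := g * p) fun j hj => (V_mul_eq hp hj).symm
    rcases lt_trichotomy l i with h | h | h
    · exact absurd ((ih l h).symm.trans el) (fun e => h.ne (w_injective g e))
    · rw [← h]; rw [h] at el ⊢; exact el
    · rcases lt_trichotomy l' i with h' | h' | h'
      · exact absurd ((ih l' h').trans el') (fun e => h'.ne (w_injective (g * p) e))
      · rw [h'] at el'; exact el'.symm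
      · have a1 := w_lt_of_block hgp h hl.symm
        have a2 := w_lt_of_block hg h' hl'.symm
        rw [el] at a1; rw [el'] at a2
        exact absurd a1 (not_lt.mpr a2.le)

/-- The increasing representative is unique modulo upper triangular matrices. -/
theorem borel_of_asc {g p : G} (hp : p ∈ parabolic F J) (hg : J ⊆ asc g) (hgp : J ⊆ asc (g * p)) :
    p ∈ parabolic F (∅ : Finset (Fin m)) := by
  have hw := w_unique hp hg hgp
  refine mem_borel_of_V_eq (g := g) fun j v hv => ?_
  rcases Nat.eq_zero_or_pos j with rfl | hj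
  · simpa [V] using hv
  rcases lt_or_ge (m + 1) j with hbig | hj'
  · rw [V_mul_eq hp (fun k hk => absurd k.isLt (by omega))] at hv; exact hv
  set i : Fin (m + 1) := ⟨j - 1, by omega⟩
  obtain ⟨c, d, hc, hd, hdm, hcc, hdc, hblock⟩ := exists_cuts J i
  have hcj : c ≤ j := le_trans hc (by simp [i])
  have hjd : j ≤ d := by have : j - 1 < d := hd; omega
  by_cases hv0 : v = 0
  · rw [hv0]; exact zero_mem _
  obtain ⟨a, ha⟩ := exists_piv hv0
  induction a using WellFoundedLT.induction generalizing v with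
  | _ a ih =>
    by_cases hac : a ∈ pivots (V g c)
    · obtain ⟨u, hu, hua⟩ := hac
      have hu' : u ∈ V (g * p) j := V_mono _ hcj (by rw [V_mul_eq hp hcc]; exact hu)
      have hu'' : u ∈ V g j := V_mono _ hcj hu
      by_cases h : v - (v a / u a) • u = 0
      · rw [sub_eq_zero] at h; rw [h]; exact (V g j).smul_mem _ hu''
      · obtain ⟨b, hb⟩ := exists_piv h
        have := ih b (ha.reduce hua hb) _ (sub_mem hv ((V (g * p) j).smul_mem _ hu')) h hb
        simpa using add_mem this ((V g j).smul_mem (v a / u a) hu'')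
    · have hvd : v ∈ V g d := by rw [← V_mul_eq hp hdc]; exact V_mono _ hjd hv
      obtain ⟨l, hl, el⟩ := (mem_pivots_iff (g * p) j hj' a).mp ⟨v, hv, ha⟩
      rw [hw] at el
      refine mem_of_pivots (V_mono g hjd) a v hvd ha fun b hb hba => ?_
      obtain ⟨l', hl', rfl⟩ := (mem_pivots_iff g d hdm b).mp hb
      refine (mem_pivots_iff g j hj' _).mpr ⟨l', ?_, rfl⟩
      by_contra hge
      have hlc : c ≤ l.val := by
        by_contra hh
        exact hac ((mem_pivots_iff g c (by omega) a).mpr ⟨l, by omega, el⟩)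
      have b1 : blockOf J l = blockOf J i := (hblock l).mpr ⟨hlc, by omega⟩
      have b2 : blockOf J l' = blockOf J i := (hblock l').mpr ⟨by omega, hl'⟩
      have := w_lt_of_block hg (show l < l' by rw [Fin.lt_def]; omega) (b1.trans b2.symm)
      rw [el] at this
      exact absurd hba (not_le.mpr this)

lemma exists_smaller {g : G} {k : Fin m} (hk : k ∈ J) (hw : w g k.succ < w g k.castSucc) :
    ∃ p ∈ parabolic F J, pot (g * p) < pot g := by
  classical
  obtain ⟨v, hv, hva⟩ := (w_spec g k.succ).1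
  obtain ⟨c, hc, hcv⟩ := (mem_V_iff g _ v).mp hv
  have hck : c k.succ ≠ 0 := fun h => (w_spec g k.succ).2 ⟨v, (mem_V_iff g _ v).mpr
    ⟨c, fun i hi => by
      rcases eq_or_lt_of_le hi with e | e
      · rw [← Fin.ext e]; exact h
      · exact hc i (by omega), hcv⟩, hva⟩
  let M : Matrix (Fin (m + 1)) (Fin (m + 1)) F := fun a l =>
    if l = k.castSucc then c a else if l = k.succ then (if a = k.castSucc then 1 else 0)
    else if a = l then 1 else 0
  have hne : k.castSucc ≠ k.succ := Fin.castSucc_lt_succ.ne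
  have hMv : ∀ x a, (M *ᵥ x) a = c a * x k.castSucc + (if a = k.castSucc then x k.succ else 0) +
      (if a = k.castSucc ∨ a = k.succ then 0 else x a) := by
    intro x a
    simp only [Matrix.mulVec, dotProduct]
    rw [← Finset.add_sum_erase _ _ (Finset.mem_univ k.castSucc),
      ← Finset.add_sum_erase _ _ (show k.succ ∈ Finset.univ.erase k.castSucc from
        Finset.mem_erase.mpr ⟨hne.symm, Finset.mem_univ _⟩), ← add_assoc]
    congr 1
    · simp [M, hne.symm]
    · have : ∀ l ∈ (Finset.univ.erase k.castSucc).erase k.succ,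
          M a l * x l = if a = l then x l else 0 := by
        intro l hl
        simp only [Finset.mem_erase] at hl
        simp [M, hl.1, hl.2.1]
      rw [Finset.sum_congr rfl this, Finset.sum_ite_eq]
      simp only [Finset.mem_erase, Finset.mem_univ, and_true]
      split_ifs <;> first | rfl | (exfalso; tauto)
  have hMu : IsUnit M := by
    rw [← Matrix.mulVec_injective_iff_isUnit]
    intro x y hxy
    rw [← sub_eq_zero]
    have hz : M *ᵥ (x - y) = 0 := by
      rw [Matrix.mulVec_sub]; exact sub_eq_zero.mpr hxy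
    generalize x - y = z at hz ⊢
    have h1 := congrFun hz k.succ
    rw [hMv] at h1
    simp [hne.symm, hck] at h1
    funext a
    have h2 := congrFun hz a
    rw [hMv] at h2
    by_cases e1 : a = k.castSucc
    · subst e1; exact h1
    by_cases e2 : a = k.succ
    · have h3 := congrFun hz k.castSucc
      rw [hMv] at h3
      simp [h1] at h3
      subst e2; exact h3
    · simpa [e1, e2, h1] using h2
  obtain ⟨p, hpM⟩ := hMu
  have hsingle : p ∈ parabolic F ({k} : Finset (Fin m)) := by
    intro a l hlt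
    show (p : Matrix (Fin (m + 1)) (Fin (m + 1)) F) a l = 0
    obtain ⟨k', hk', h1, h2⟩ := blockOf_lt_iff.mp hlt
    have hk'' : k'.val ≠ k.val := fun e => hk' (by simp [Fin.ext e])
    rw [hpM]
    simp only [M]
    have hs : k.succ.val = k.val + 1 := rfl
    have hcs : k.castSucc.val = k.val := rfl
    split_ifs with e1 e2 e3 e4 <;> first
      | rfl
      | (subst e1; exact hc a (by omega))
      | (exfalso; subst_vars; omega)
  refine ⟨p, parabolic_mono (by simpa using hk) hsingle, ?_⟩
  have hV : ∀ j, j ≠ k.val + 1 → V (g * p) j = V g j := fun j hj =>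
    V_mul_eq hsingle (fun k' hk' hmem => hj (by
      rw [Finset.mem_singleton] at hmem; rw [← hk', hmem]))
  have hVk : v ∈ V (g * p) (k.castSucc.val + 1) := by
    refine (mem_V_iff _ _ v).mpr ⟨Pi.single k.castSucc 1, fun i hi => Pi.single_eq_of_ne
      (fun e => by subst e; omega) _, ?_⟩
    rw [Matrix.mulVec_single_one, ← hcv]
    ext a
    simp [Matrix.mulVec, dotProduct, Matrix.col, Matrix.mul_apply, Units.val_mul, hpM, M]
  have w0 : w (g * p) k.castSucc = w g k.succ := by
    refine (eq_w ⟨v, hVk, hva⟩ fun h => ?_).symm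
    rw [hV _ (by simp)] at h
    exact (w_spec g k.succ).2 (pivots_mono (V_mono g (by simp)) h)
  have wother : ∀ i, i ≠ k.castSucc → i ≠ k.succ → w (g * p) i = w g i := by
    intro i h1 h2
    have h1' : i.val ≠ k.val := fun e => h1 (Fin.ext e)
    have h2' : i.val ≠ k.val + 1 := fun e => h2 (Fin.ext e)
    refine eq_w ?_ ?_
    · rw [← hV _ (by omega)]; exact (w_spec (g * p) i).1
    · rw [← hV _ h2']; exact (w_spec (g * p) i).2
  have w1 : w (g * p) k.succ = w g k.castSucc := by
    by_contra hne'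
    obtain ⟨l, hl, e⟩ := (mem_pivots_succ g k.succ (a := w (g * p) k.succ)).mp (by
      rw [← hV _ (by simp)]; exact (w_spec (g * p) k.succ).1)
    rcases eq_or_ne l k.succ with rfl | hls
    · rw [← w0] at e; exact hne (w_injective (g * p) e)
    rcases eq_or_ne l k.castSucc with rfl | hlc
    · exact hne' e.symm
    rw [← wother l hlc hls] at e
    exact hls (w_injective (g * p) e)
  have key : ∀ x : G, pot x = (m + 1 - k.val) * (w x k.castSucc).val +
      ((m + 1 - (k.val + 1)) * (w x k.succ).val +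
      ∑ i ∈ (Finset.univ.erase k.castSucc).erase k.succ, (m + 1 - i.val) * (w x i).val) := by
    intro x
    rw [pot, ← Finset.add_sum_erase _ _ (Finset.mem_univ k.castSucc),
      ← Finset.add_sum_erase _ _ (show k.succ ∈ Finset.univ.erase k.castSucc from
        Finset.mem_erase.mpr ⟨hne.symm, Finset.mem_univ _⟩)]
    rfl
  rw [key, key, w0, w1]
  rw [Finset.sum_congr rfl fun i hi => by
    rw [wother i (Finset.ne_of_mem_erase (Finset.mem_of_mem_erase hi))
      (Finset.ne_of_mem_erase hi)]]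
  have hw' : (w g k.succ).val < (w g k.castSucc).val := hw
  have : m + 1 - k.val = (m + 1 - (k.val + 1)) + 1 := by omega
  rw [this, add_mul, add_mul]
  omega

/-- Every coset contains an increasing representative, of minimal potential. -/
theorem exists_asc (g : G) (J : Finset (Fin m)) :
    ∃ p ∈ parabolic F J, J ⊆ asc (g * p) ∧ ∀ q ∈ parabolic F J, pot (g * p) ≤ pot (g * q) := by
  classical
  have hex : ∃ n, ∃ p ∈ parabolic F J, pot (g * p) = n :=
    ⟨_, 1, (parabolic F J).one_mem, rfl⟩
  obtain ⟨p, hp, hpn⟩ := Nat.find_spec hex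
  have hmin : ∀ q ∈ parabolic F J, pot (g * p) ≤ pot (g * q) := fun q hq =>
    hpn ▸ Nat.find_min' hex ⟨q, hq, rfl⟩
  refine ⟨p, hp, fun k hk => ?_, hmin⟩
  by_contra h
  simp only [asc, Finset.mem_filter, Finset.mem_univ, true_and, not_lt] at h
  obtain ⟨q, hq, hlt⟩ := exists_smaller hk
    (lt_of_le_of_ne h fun e => Fin.castSucc_lt_succ.ne (w_injective (g * p) e).symm)
  rw [mul_assoc] at hlt
  exact absurd (hmin _ ((parabolic F J).mul_mem hp hq)) (not_le.mpr hlt)

/-- The increasing representative minimises the potential. -/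
theorem pot_le {g p : G} (hp : p ∈ parabolic F J) (hg : J ⊆ asc g) :
    pot g ≤ pot (g * p) ∧ (pot g = pot (g * p) → p ∈ parabolic F (∅ : Finset (Fin m))) := by
  obtain ⟨q, hq, hqa, hqmin⟩ := exists_asc g J
  have hb := borel_of_asc hq hg hqa
  have h := hqmin p hp
  rw [pot_mul_borel hb] at h
  refine ⟨h, fun e => borel_of_asc hp hg fun k hk => ?_⟩
  by_contra hne
  simp only [asc, Finset.mem_filter, Finset.mem_univ, true_and, not_lt] at hne
  obtain ⟨r, hr, hlt⟩ := exists_smaller hk
    (lt_of_le_of_ne hne fun e => Fin.castSucc_lt_succ.ne (w_injective (g * p) e).symm)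
  rw [mul_assoc] at hlt
  have h1 := hqmin _ ((parabolic F J).mul_mem hp hr)
  rw [pot_mul_borel hb] at h1
  omega

end blocks

end Groth.Agent.L13.Flag
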