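import Groth.Agent.L29.K.Sub
import Groth.Agent.L00.SubExtendMain
import Groth.Agent.L16.Devissage
import Groth.Agent.L00.TensorQCoh
import Groth.Agent.L18.LocFreeFP
import Groth.Agent.L29.DCoh.TensorPerfect
import Groth.Agent.L00.KFlatComm
import Groth.Prelude.Def_SGA6

/-!
# `[V] - r` is nilpotent on `K₀(Coh W)`

If `V` is free of rank `r` on an open `U`, then `[V ⊗ M] - r [M]` is a combination of classes of coherent modules
supported in `supp M ∖ U`: two coherent modules isomorphic over `U` differ by such classes, as the graph of the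
isomorphism extends to a coherent submodule of their sum.
-/

set_option autoImplicit false
set_option backward.isDefEq.respectTransparency false
universe u

open CategoryTheory CategoryTheory.Limits AlgebraicGeometry TopologicalSpace Groth.L21.Mod
open Groth.L00 (Tensor.tensorRestrict Tensor.tensorIso)

noncomputable section

namespace Groth.L13.KcohNilp

variable {W : Scheme.{u}}

local notation "cl" => KZero.clSub (fun M : Scheme.Modules _ => Coh.IsCoh M)

/-- classes of coherent modules supported in `T` -/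
def S (T : Set W) : AddSubgroup (SGA6.Kcoh W) :=
  AddSubgroup.closure {y | ∃ M : W.Modules, Coh.IsCoh M ∧ CohB1.support M ⊆ T ∧ cl M = y}

theorem cl_mem {T : Set W} {M : W.Modules} (hM : Coh.IsCoh M) (h : CohB1.support M ⊆ T) : cl M ∈ S T :=
  AddSubgroup.subset_closure ⟨M, hM, h, rfl⟩

theorem S_univ : (S (Set.univ : Set W)) = ⊤ := by
  refine top_le_iff.1 fun y _ => ?_
  obtain ⟨z, rfl⟩ := QuotientAddGroup.mk_surjective y
  induction z using FreeAbelianGroup.induction_on with
  | zero => exact zero_mem _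
  | of K => exact (Groth.L29.KSub.clSub_of _ K.2) ▸ cl_mem K.2 (Set.subset_univ _)
  | neg K hK => rw [QuotientAddGroup.mk_neg]; exact neg_mem (hK trivial)
  | add a b ha hb => rw [QuotientAddGroup.mk_add]; exact add_mem (ha trivial) (hb trivial)

theorem S_empty : (S (∅ : Set W)) = ⊥ := by
  refine le_bot_iff.1 ((AddSubgroup.closure_le _).2 ?_)
  rintro _ ⟨M, hM, h, rfl⟩
  exact Groth.L29.KSub.clSub_zero _ ((isZero_iff_support_eq_empty M).2 (Set.subset_empty_iff.1 h)) hM

variable [AlgebraicGeometry.IsNoetherian W]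

theorem cl_iso {M N : W.Modules} (e : M ≅ N) (hM : Coh.IsCoh M) : cl M = cl N :=
  haveI : ObjectProperty.IsClosedUnderIsomorphisms (fun M : W.Modules => Coh.IsCoh M) :=
    ⟨fun e h => Groth.L16.CohSupport.isCoh_of_iso e h⟩
  Groth.L29.KSub.clSub_iso _ e (isZero_zero _) (Groth.L16.Devissage.isCoh_of_isZero (isZero_zero _)) hM

variable (U : W.Opens)

theorem isZero_stalk_ker_coker {H A : W.Modules} (a : H ⟶ A)
    (ha : IsIso ((Scheme.Modules.restrictFunctor U.ι).map a)) {x : W} (hx : x ∈ U) :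
    x ∉ CohB1.support (kernel a) ∧ x ∉ CohB1.support (cokernel a) := by
  have h := restrict_stalk_map U.ι a ⟨x, hx⟩
  have hiso : IsIso ((stalkF W x).map a) := by
    have : IsIso ((restrictStalkF U.ι ⟨x, hx⟩).hom.app H ≫ (stalkF W (U.ι ⟨x, hx⟩)).map a ≫
        (restrictStalkF U.ι ⟨x, hx⟩).inv.app A) := h ▸ inferInstance
    have h2 := @IsIso.of_isIso_comp_left _ _ _ _ _ ((restrictStalkF U.ι ⟨x, hx⟩).hom.app H) _ inferInstance this
    exact @IsIso.of_isIso_comp_right _ _ _ _ _ ((stalkF W (U.ι ⟨x, hx⟩)).map a) _ inferInstance h2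
  rw [mem_support_iff_not_isZero, mem_support_iff_not_isZero, not_not, not_not]
  exact ⟨(isZero_kernel_of_mono ((stalkF W x).map a)).of_iso (PreservesKernel.iso (stalkF W x) a),
    (isZero_cokernel_of_epi ((stalkF W x).map a)).of_iso (PreservesCokernel.iso (stalkF W x) a)⟩

/-- A morphism which is an isomorphism over `U` does not change the class modulo `S (T ∖ U)`. -/
theorem sub_mem_of_map {T : Set W} {H A : W.Modules} (hH : Coh.IsCoh H) (hA : Coh.IsCoh A)
    (hsH : CohB1.support H ⊆ T) (hsA : CohB1.support A ⊆ T) (a : H ⟶ A)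
    (ha : IsIso ((Scheme.Modules.restrictFunctor U.ι).map a)) : cl H - cl A ∈ S (T \ (U : Set W)) := by
  have hkc := Groth.L16.CohKernel.isCoh_kernel_cokernel hH hA a
  haveI : Coh.IsQCoh A := hA.1
  have hI := Groth.L16.CohSupport.isCoh_image hH a
  have h1 := Groth.L16.Devissage.shortExact_kernel_image a
  have h2 := Groth.L16.Devissage.shortExact_image_cokernel a
  have e1 := Groth.L29.KSub.clSub_shortExact (fun M : W.Modules => Coh.IsCoh M) h1 hkc.1 hH hI
  have e2 := Groth.L29.KSub.clSub_shortExact (fun M : W.Modules => Coh.IsCoh M) h2 hI hA hkc.2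
  have s1 := (Groth.L16.Devissage.support_union h1).1.trans hsH
  have s2 := (Groth.L16.Devissage.support_union h2).2.trans hsA
  have m1 : cl (kernel a) ∈ S (T \ (U : Set W)) :=
    cl_mem hkc.1 fun x hx => ⟨s1 hx, fun hU => (isZero_stalk_ker_coker U a ha hU).1 hx⟩
  have m2 : cl (cokernel a) ∈ S (T \ (U : Set W)) :=
    cl_mem hkc.2 fun x hx => ⟨s2 hx, fun hU => (isZero_stalk_ker_coker U a ha hU).2 hx⟩
  have : cl H - cl A = cl (kernel a) - cl (cokernel a) := by
    dsimp only at e1 e2
    rw [e1, e2]; abel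
  rw [this]
  exact sub_mem m1 m2

/-- Coherent modules isomorphic over `U` differ by classes supported off `U`. -/
theorem sub_mem_of_iso {T : Set W} {A B : W.Modules} (hA : Coh.IsCoh A) (hB : Coh.IsCoh B)
    (hsA : CohB1.support A ⊆ T) (hsB : CohB1.support B ⊆ T) (φ : A.restrict U.ι ≅ B.restrict U.ι) :
    cl A - cl B ∈ S (T \ (U : Set W)) := by
  let R := Scheme.Modules.restrictFunctor U.ι
  have hF : Coh.IsCoh (A ⊞ B) := Groth.L16.Devissage.isCoh_biprod hA hB
  haveI : Coh.IsQCoh (A ⊞ B) := hF.1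
  haveI : Coh.IsQCoh A := hA.1
  haveI : Coh.IsQCoh (A.restrict U.ι) := Scheme.Modules.isQuasicoherent_restrictFunctor U.ι A
  have hft : CohB1.IsFT (A.restrict U.ι) := Groth.L16.CohKernel.isFT_restrict U.ι A hA.2
  let i : A.restrict U.ι ⟶ (A ⊞ B).restrict U.ι :=
    R.map biprod.inl + φ.hom ≫ R.map biprod.inr
  have hfst : i ≫ R.map (biprod.fst : A ⊞ B ⟶ A) = 𝟙 _ := by
    simp only [i, Preadditive.add_comp, Category.assoc, ← R.map_comp, biprod.inl_fst, biprod.inr_fst,
      R.map_id, R.map_zero, comp_zero, add_zero]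
    rfl
  have hsnd : i ≫ R.map (biprod.snd : A ⊞ B ⟶ B) = φ.hom := by
    simp only [i, Preadditive.add_comp, Category.assoc, ← R.map_comp, biprod.inl_snd, biprod.inr_snd,
      R.map_id, R.map_zero, zero_add]
    exact Category.comp_id _
  haveI : Mono i := mono_of_mono_fac hfst
  obtain ⟨H, i', e, hm, hq, hf, he⟩ := Groth.L00.SubExtend.exists_extension_locallyNoetherian (A ⊞ B)
    (fun x => ⟨⊤, trivial, inferInstanceAs (NoetherianSpace (Set.univ : Set W))⟩) U (A.restrict U.ι) i hft
  have hH : Coh.IsCoh H := ⟨hq, hf⟩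
  have hsH : CohB1.support H ⊆ T := by
    have hS : (ShortComplex.mk i' (cokernel.π i') (cokernel.condition _)).ShortExact :=
      { exact := ShortComplex.exact_cokernel i' }
    refine (Groth.L16.Devissage.support_union hS).1.trans ?_
    show CohB1.support (A ⊞ B) ⊆ T
    rw [show CohB1.support (A ⊞ B) = CohB1.support A ∪ CohB1.support B from
      support_of_shortExact (ShortComplex.Splitting.ofHasBinaryBiproduct A B).shortExact]
    exact Set.union_subset hsA hsB
  have ha : IsIso (R.map (i' ≫ biprod.fst)) := by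
    rw [R.map_comp, ← he, Category.assoc, hfst, Category.comp_id]
    infer_instance
  have hb : IsIso (R.map (i' ≫ biprod.snd)) := by
    rw [R.map_comp, ← he, Category.assoc, hsnd]
    infer_instance
  have h := sub_mem (sub_mem_of_map U hH hB hsH hsB _ hb) (sub_mem_of_map U hH hA hsH hsA _ ha)
  rwa [sub_sub_sub_cancel_left] at h

omit [AlgebraicGeometry.IsNoetherian W] in
theorem support_tensor_subset (V M : W.Modules) :
    CohB1.support (CohB1.tensorMod V M) ⊆ CohB1.support M := by
  intro x hx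
  by_contra hM
  refine (Groth.L16.CohSupport.len_eq_zero_iff x _).1 ?_ hx
  have hM' : Subsingleton ((Groth.L00.Stk.F W x).obj M) :=
    Module.length_eq_zero_iff.1 ((Groth.L16.CohSupport.len_eq_zero_iff x M).2 hM)
  refine Module.length_eq_zero_iff.2 ?_
  haveI : Subsingleton (Groth.L00.StalkTensor.St (Groth.L00.Tensor.pre M) x) := hM'
  exact (Groth.L00.Stk.τ x V M).toLinearEquiv.symm.injective.subsingleton

omit [AlgebraicGeometry.IsNoetherian W] in
theorem isZero_coprod_zero (M : W.Modules) : IsZero (∐ fun _ : Fin 0 => M) :=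
  (IsZero.iff_id_eq_zero _).2 (Sigma.hom_ext _ _ fun i => i.elim0)

theorem power_props (M : W.Modules) (hM : Coh.IsCoh M) : ∀ r : ℕ,
    Coh.IsCoh (∐ fun _ : Fin r => M) ∧ CohB1.support (∐ fun _ : Fin r => M) ⊆ CohB1.support M ∧
      cl (∐ fun _ : Fin r => M) = r • cl M
  | 0 => by
    refine ⟨Groth.L16.Devissage.isCoh_of_isZero (isZero_coprod_zero M), ?_, ?_⟩
    · rw [(isZero_iff_support_eq_empty _).1 (isZero_coprod_zero M)]
      exact Set.empty_subset _
    · rw [zero_smul]
      exact Groth.L29.KSub.clSub_zero _ (isZero_coprod_zero M)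
        (Groth.L16.Devissage.isCoh_of_isZero (isZero_coprod_zero M))
  | r + 1 => by
    obtain ⟨h1, h2, h3⟩ := power_props M hM r
    let e := Groth.L29.DC.coprodFinSuccIso fun _ : Fin (r + 1) => M
    have hb := Groth.L16.Devissage.isCoh_biprod hM h1
    refine ⟨Groth.L16.CohSupport.isCoh_of_iso e.symm hb, ?_, ?_⟩
    · rw [support_congr e, support_of_shortExact (ShortComplex.Splitting.ofHasBinaryBiproduct M
        (∐ fun _ : Fin r => M)).shortExact]
      exact Set.union_subset subset_rfl h2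
    · rw [← cl_iso e.symm hb, Groth.L29.KSub.clSub_biprod _ hM h1 hb, h3, succ_nsmul']

omit [AlgebraicGeometry.IsNoetherian W] in
theorem isCoh_tensor [IsLocallyNoetherian W] {n : ℕ} {E M : W.Modules}
    (hE : FlatMod.IsFinLocFreeOfRank n E) (hM : Coh.IsCoh M) : Coh.IsCoh (CohB1.tensorMod E M) := by
  have hEf : FlatMod.IsFinLocFree E := fun x => by
    obtain ⟨U, hU, e⟩ := hE x
    exact ⟨U, n, hU, e⟩
  haveI hEfp : CohB1.IsFP E := Groth.L18.LFP.isFP_of_isFinLocFree E hEf
  haveI : Coh.IsQCoh E := inferInstance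
  have hEft : CohB1.IsFT E := inferInstance
  haveI : Coh.IsQCoh M := hM.1
  exact ⟨Groth.L00.Tensor.isQCoh_tensorMod _ _, Groth.L00.Tensor.isFT_tensorMod _ _ hEft hM.2⟩

/-- The main step. -/
theorem tensor_sub_mem {r : ℕ} {V : W.Modules} (hV : FlatMod.IsFinLocFreeOfRank r V)
    (e : V.restrict U.ι ≅ FlatMod.freeMod (↑U) r) {T : Set W} {M : W.Modules} (hM : Coh.IsCoh M)
    (hs : CohB1.support M ⊆ T) : cl (CohB1.tensorMod V M) - r • cl M ∈ S (T \ (U : Set W)) := by
  obtain ⟨hB, hsB, hclB⟩ := power_props M hM r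
  rw [← hclB]
  refine sub_mem_of_iso U (isCoh_tensor hV hM) hB
    ((support_tensor_subset V M).trans hs) (hsB.trans hs) ?_
  let G := (DCoh.tensorBi (X := (↑U : Scheme.{u}))).flip.obj (M.restrict U.ι)
  haveI : PreservesColimitsOfShape (Discrete (Fin r)) G :=
    preservesCoproductsOfShape_of_preservesBiproductsOfShape G
  exact (Tensor.tensorRestrict U.ι V M).symm ≪≫ Tensor.tensorIso e (Iso.refl _) ≪≫
    (PreservesCoproduct.iso G (fun _ : Fin r => Coh.structureModule (↑U : Scheme.{u}))) ≪≫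
    Sigma.mapIso (fun _ => Groth.L00.Tensor.tensorUnitLeft (M.restrict U.ι)) ≪≫
    (PreservesCoproduct.iso (Scheme.Modules.restrictFunctor U.ι) (fun _ : Fin r => M)).symm

theorem exists_nilpotent (r : ℕ) (V : W.Modules) (hV : FlatMod.IsFinLocFreeOfRank r V)
    (f : SGA6.Kcoh W →+ SGA6.Kcoh W)
    (hf : ∀ M : W.Modules, Coh.IsCoh M → f (cl M) = cl (CohB1.tensorMod V M) - r • cl M) :
    ∃ n : ℕ, ∀ y : SGA6.Kcoh W, f^[n] y = 0 := by
  classical
  have hV_all := hV
  choose U hxU e using hV
  obtain ⟨s, hs⟩ := isCompact_univ.elim_finite_subcover (fun x => (U x : Set W)) (fun x => (U x).2)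
    fun x _ => Set.mem_iUnion.2 ⟨x, hxU x⟩
  suffices key : ∀ (t : Finset ↥W) (y : SGA6.Kcoh W), (⇑f)^[t.card] y ∈ S ((⋃ x ∈ t, (U x : Set W))ᶜ : Set W) by
    refine ⟨s.card, fun y => ?_⟩
    have h := key s y
    rwa [Set.compl_empty_iff.2 (Set.univ_subset_iff.1 hs), S_empty, AddSubgroup.mem_bot] at h
  intro t
  induction t using Finset.induction with
  | empty => intro y; simp [S_univ]
  | @insert x t hx ih =>
    intro y
    rw [Finset.card_insert_of_notMem hx, Function.iterate_succ_apply', Finset.set_biUnion_insert, Set.compl_union,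
      Set.inter_comm, ← Set.sdiff_eq]
    refine (AddSubgroup.closure_le ((S _).comap f)).2 ?_ (ih y)
    rintro _ ⟨M, hM, hMs, rfl⟩
    change f (cl M) ∈ (S _ : AddSubgroup (SGA6.Kcoh W))
    rw [hf M hM]
    obtain ⟨ex⟩ := e x
    exact tensor_sub_mem (U x) hV_all ex hM hMs

end Groth.L13.KcohNilp
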