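import Mathlib.RingTheory.Valuation.LocalSubring
import Mathlib.RingTheory.PicardGroup
import Mathlib.RingTheory.Polynomial.IntegralNormalization
import Mathlib.RingTheory.MvPolynomial.Homogeneous
import Mathlib.Algebra.Polynomial.FieldDivision
import Mathlib.RingTheory.IntegralClosure.IntegrallyClosed
import Mathlib.RingTheory.Ideal.Quotient.Operations
import Mathlib.Algebra.Polynomial.Lifts
import Mathlib.Tactic

/-!
Invertible modules over a normal graded domain with a field in degree zero are free.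
-/

set_option autoImplicit false

universe u

namespace Groth.Agent.L13.GradedPic

open Polynomial

section content

variable {K : Type u} [Field K]

lemma exists_primitive (V : ValuationSubring K) {r : K[X]} (hr : r ≠ 0) :
    ∃ (a : K) (r₀ : V[X]), a ≠ 0 ∧ r = C a * r₀.map V.subtype ∧
      r₀.map (IsLocalRing.residue V) ≠ 0 := by
  obtain ⟨i, hi, hmax⟩ := r.support.exists_max_image (fun i => V.valuation (r.coeff i))
    (nonempty_support_iff.mpr hr)
  have ha : r.coeff i ≠ 0 := mem_support_iff.mp hi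
  have hmem : ∀ j, (r.coeff i)⁻¹ * r.coeff j ∈ V := by
    intro j
    by_cases hj : r.coeff j = 0
    · rw [hj, mul_zero]; exact V.zero_mem
    · refine V.mem_of_valuation_le_one _ ?_
      rw [map_mul, map_inv₀]
      have hpos : (0 : V.ValueGroup) < V.valuation (r.coeff i) :=
        zero_lt_iff.mpr ((Valuation.ne_zero_iff _).mpr ha)
      calc (V.valuation (r.coeff i))⁻¹ * V.valuation (r.coeff j)
          ≤ (V.valuation (r.coeff i))⁻¹ * V.valuation (r.coeff i) :=
            mul_le_mul_right (hmax j (mem_support_iff.mpr hj)) _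
        _ = 1 := inv_mul_cancel₀ hpos.ne'
  let r₀ : V[X] := ∑ j ∈ r.support, monomial j ⟨_, hmem j⟩
  have hcoef : ∀ j, ((r₀.coeff j : V) : K) = (r.coeff i)⁻¹ * r.coeff j := by
    intro j
    simp only [r₀, finsetSum_coeff, coeff_monomial]
    rw [Finset.sum_ite_eq' r.support j (fun j => (⟨_, hmem j⟩ : V))]
    by_cases h : j ∈ r.support
    · rw [if_pos h]
    · rw [if_neg h, notMem_support_iff.mp h, mul_zero]; rfl
  refine ⟨r.coeff i, r₀, ha, ?_, ?_⟩
  · ext j
    rw [coeff_C_mul, coeff_map]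
    show _ = r.coeff i * ((r₀.coeff j : V) : K)
    rw [hcoef, ← mul_assoc, mul_inv_cancel₀ ha, one_mul]
  · intro h
    have h1 := congrArg (fun p => p.coeff i) h
    simp only [coeff_map, coeff_zero] at h1
    have : r₀.coeff i = 1 := Subtype.ext (by rw [hcoef, inv_mul_cancel₀ ha]; rfl)
    rw [this, map_one] at h1
    exact one_ne_zero h1

/-- If a product of polynomials has coefficients in a valuation ring then so have all products of
coefficients. -/
lemma coeff_mul_coeff_mem (V : ValuationSubring K) {p q : K[X]}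
    (h : ∀ n, (p * q).coeff n ∈ V) (i j : ℕ) : p.coeff i * q.coeff j ∈ V := by
  by_cases hp : p = 0
  · simp [hp, V.zero_mem]
  by_cases hq : q = 0
  · simp [hq, V.zero_mem]
  obtain ⟨a, p₀, ha, rfl, hp₀⟩ := exists_primitive V hp
  obtain ⟨b, q₀, hb, rfl, hq₀⟩ := exists_primitive V hq
  have hne : (p₀ * q₀).map (IsLocalRing.residue V) ≠ 0 := by
    rw [Polynomial.map_mul]; exact mul_ne_zero hp₀ hq₀
  obtain ⟨n, hn⟩ : ∃ n, IsUnit ((p₀ * q₀).coeff n) := by
    by_contra hh
    push Not at hh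
    refine hne (Polynomial.ext fun n => ?_)
    rw [coeff_map, coeff_zero]
    exact (IsLocalRing.residue_eq_zero_iff _).mpr ((IsLocalRing.mem_maximalIdeal _).mpr (hh n))
  obtain ⟨u, hu⟩ := hn
  have hab : a * b ∈ V := by
    have h1 := h n
    rw [show C a * p₀.map V.subtype * (C b * q₀.map V.subtype) =
      C (a * b) * (p₀ * q₀).map V.subtype by rw [C_mul, Polynomial.map_mul]; ring,
      coeff_C_mul, coeff_map, ← hu] at h1
    have h2 := V.mul_mem _ _ h1 ((↑u⁻¹ : V)).2
    rw [mul_assoc] at h2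
    have e : V.subtype (u : V) * ((↑u⁻¹ : V) : K) = 1 := by
      show ((u : V) : K) * ((↑u⁻¹ : V) : K) = 1
      rw [← MulMemClass.coe_mul, Units.mul_inv]
      rfl
    rwa [e, mul_one] at h2
  rw [coeff_C_mul, coeff_C_mul, coeff_map, coeff_map, mul_mul_mul_comm]
  exact V.mul_mem _ _ hab (V.mul_mem _ _ (p₀.coeff i).2 (q₀.coeff j).2)

/-- The content lemma over an integrally closed domain. -/
lemma coeff_mul_coeff_mem_range {A : Type u} [CommRing A] [IsDomain A] [IsIntegrallyClosed A]
    [Algebra A K] [IsFractionRing A K] {p q : K[X]}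
    (h : ∀ n, (p * q).coeff n ∈ (algebraMap A K).range) (i j : ℕ) :
    p.coeff i * q.coeff j ∈ (algebraMap A K).range := by
  set R := (algebraMap A K).range
  have : IsIntegrallyClosedIn R K := by
    rw [Subring.isIntegrallyClosedIn_iff]
    intro x hx
    obtain ⟨p, hp, hpx⟩ := hx
    let e : A ≃+* R := RingEquiv.ofBijective (algebraMap A K).rangeRestrict
      ⟨fun a b hab => IsFractionRing.injective A K (congrArg Subtype.val hab),
        (algebraMap A K).rangeRestrict_surjective⟩
    have hcomp : (algebraMap A K).comp e.symm.toRingHom = algebraMap R K := RingHom.ext fun r => by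
      show algebraMap A K (e.symm r) = (r : K)
      conv_rhs => rw [← e.apply_symm_apply r]
      rfl
    have hint : IsIntegral A x := ⟨p.map e.symm.toRingHom, hp.map _, by
      rwa [eval₂_map, hcomp]⟩
    obtain ⟨y, hy⟩ := IsIntegrallyClosed.isIntegral_iff.mp hint
    exact ⟨y, hy⟩
  by_contra hx
  obtain ⟨V, hRV, hxV⟩ := R.exists_le_valuationSubring_of_isIntegrallyClosedIn hx
  exact hxV (coeff_mul_coeff_mem V (fun n => hRV (h n)) i j)

end content

variable {k : Type u} [Field k] {A : Type u} [CommRing A] [IsDomain A] [IsIntegrallyClosed A]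
  [Algebra k A]

/-- An ideal with an inverse, on a normal domain with a retraction-homotopy to a field, is
principal. -/
theorem exists_eq_span_singleton (φ : A →+* A[X]) (ε : A →+* k)
    (h1 : ∀ a, (φ a).eval 1 = a) (h0 : ∀ a, (φ a).eval 0 = algebraMap k A (ε a))
    (I I' : Ideal A) (c : A) (hII : I * I' = Ideal.span {c}) (hcI : c ∈ I) (hc : ε c ≠ 0) :
    ∃ g, g ≠ 0 ∧ I = Ideal.span {g} := by
  classical
  let K := FractionRing A
  have hinj : Function.Injective (algebraMap A K) := IsFractionRing.injective A K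
  let m : A[X] →+* K[X] := mapRingHom (algebraMap A K)
  have hm : Function.Injective m := map_injective _ hinj
  have ev : ∀ (p : A[X]) (t : A), (m p).eval (algebraMap A K t) = algebraMap A K (p.eval t) :=
    fun p t => eval_map_apply _ _
  have hc0 : c ≠ 0 := fun h => hc (by rw [h, map_zero])
  have hφc : φ c ≠ 0 := fun h => hc0 (by rw [← h1 c, h, eval_zero])
  set J := I.map φ with hJ
  set J' := I'.map φ with hJ'
  have hJJ : J * J' = Ideal.span {φ c} := by
    rw [hJ, hJ', ← Ideal.map_mul, hII, Ideal.map_span, Set.image_singleton]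
  obtain ⟨f, hf⟩ : ∃ f : K[X], J.map m = Ideal.span {f} := by
    obtain ⟨f, hf⟩ := (inferInstance : (J.map m).IsPrincipal)
    exact ⟨f, hf⟩
  -- `Q₀`: constants `q` with `f q` in `J`
  let InJ : K[X] → Prop := fun z => ∃ j ∈ J, m j = z
  have r_exists : ∀ h ∈ J', ∃ r : K[X], m (φ c) * r = f * m h := by
    intro h hh
    have hfm : f ∈ J.map m := hf ▸ Ideal.subset_span rfl
    have : f * m h ∈ (J * J').map m := by
      rw [Ideal.map_mul]
      exact Ideal.mul_mem_mul hfm (Ideal.mem_map_of_mem _ hh)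
    rw [hJJ, Ideal.map_span, Set.image_singleton, Ideal.mem_span_singleton] at this
    exact ⟨this.choose, this.choose_spec.symm⟩
  have crit : ∀ q : K[X], InJ (f * q) ↔
      ∀ h ∈ J', ∀ r : K[X], m (φ c) * r = f * m h → ∃ a, m a = r * q := by
    intro q
    constructor
    · rintro ⟨j, hj, hjq⟩ h hh r hr
      have : j * h ∈ J * J' := Ideal.mul_mem_mul hj hh
      rw [hJJ, Ideal.mem_span_singleton] at this
      obtain ⟨a, ha⟩ := this
      refine ⟨a, mul_left_cancel₀ (fun e => hφc (hm (e.trans (map_zero m).symm))) ?_⟩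
      rw [← map_mul, ← ha, map_mul, hjq, ← mul_assoc, hr]
      ring
    · intro H
      have key : ∀ z ∈ J * J', ∃ j ∈ J, f * q * m z = m j * m (φ c) := by
        intro z hz
        refine Submodule.mul_induction_on hz (fun x hx y hy => ?_) ?_
        · obtain ⟨r, hr⟩ := r_exists y hy
          obtain ⟨a, ha⟩ := H y hy r hr
          refine ⟨x * a, Ideal.mul_mem_right _ _ hx, ?_⟩
          rw [map_mul, map_mul, ha]
          linear_combination -(q * m x) * hr
        · rintro z w ⟨j, hj, ej⟩ ⟨j', hj', ej'⟩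
          exact ⟨j + j', add_mem hj hj', by rw [map_add, map_add, mul_add, ej, ej', add_mul]⟩
      obtain ⟨j, hj, ej⟩ := key (φ c) (hJJ ▸ Ideal.subset_span rfl)
      exact ⟨j, hj, (mul_right_cancel₀ (fun e => hφc (hm (e.trans (map_zero m).symm))) ej).symm⟩
  have const : ∀ q : K[X], InJ (f * q) → ∀ b, InJ (f * C (q.coeff b)) := by
    intro q hq b
    rw [crit] at hq ⊢
    intro h hh r hr
    obtain ⟨a, ha⟩ := hq h hh r hr
    have hco : ∀ n, (r * q).coeff n ∈ (algebraMap A K).range := fun n =>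
      ⟨a.coeff n, by rw [← ha]; exact (coeff_map _ _).symm⟩
    have hlift : r * C (q.coeff b) ∈ lifts (algebraMap A K) := by
      rw [lifts_iff_coeff_lifts]
      intro n
      rw [coeff_mul_C]
      exact coeff_mul_coeff_mem_range hco n b
    obtain ⟨a', ha'⟩ := (mem_lifts _).mp hlift
    exact ⟨a', ha'⟩
  have J1 : ∀ j ∈ J, j.eval 1 ∈ I := by
    intro j hj
    refine Submodule.span_induction (p := fun j _ => j.eval 1 ∈ I) ?_ (by simp) ?_ ?_ hj
    · rintro _ ⟨n, hn, rfl⟩; rwa [h1]
    · intro x y _ _ hx hy; rw [eval_add]; exact add_mem hx hy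
    · intro s x _ hx; rw [smul_eq_mul, eval_mul]; exact Ideal.mul_mem_left _ _ hx
  set f₀ := f.eval 0
  set f₁ := f.eval 1
  have expand : ∀ n ∈ I, ∃ q : K[X], InJ (f * q) ∧ f * q = m (φ n) := by
    intro n hn
    have : m (φ n) ∈ J.map m := Ideal.mem_map_of_mem _ (Ideal.mem_map_of_mem _ hn)
    rw [hf, Ideal.mem_span_singleton] at this
    exact ⟨this.choose, ⟨φ n, Ideal.mem_map_of_mem _ hn, this.choose_spec⟩,
      this.choose_spec.symm⟩
  have hone : (1 : K) = algebraMap A K 1 := (map_one _).symm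
  have hzero : (0 : K) = algebraMap A K 0 := (map_zero _).symm
  have Q1 : ∀ q₀ : K, InJ (f * C q₀) → ∃ n ∈ I, algebraMap A K n = f₁ * q₀ := by
    rintro q₀ ⟨j, hj, ej⟩
    refine ⟨_, J1 j hj, ?_⟩
    rw [← ev, ej, ← hone, eval_mul, eval_C]
  have Q0 : ∀ q₀ : K, InJ (f * C q₀) → ∃ a, algebraMap A K a = f₀ * q₀ := by
    rintro q₀ ⟨j, hj, ej⟩
    exact ⟨j.eval 0, by rw [← ev, ej, ← hzero, eval_mul, eval_C]⟩
  obtain ⟨qc, hqc, eqc⟩ := expand c hcI
  set γ := qc.coeff 0
  have hγ : InJ (f * C γ) := const qc hqc 0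
  have hfγ : f₀ * γ = algebraMap A K (algebraMap k A (ε c)) := by
    rw [← h0, ← ev, ← eqc, ← hzero, eval_mul, ← coeff_zero_eq_eval_zero qc]
  have hfγ0 : f₀ * γ ≠ 0 := by
    rw [hfγ, map_ne_zero_iff _ hinj, map_ne_zero_iff _ (algebraMap k A).injective]
    exact hc
  obtain ⟨g, hg, hgK⟩ := Q1 γ hγ
  have hIg : I = Ideal.span {g} := by
    refine le_antisymm (fun n hn => ?_) (Ideal.span_le.mpr (by simpa using hg))
    obtain ⟨q, hq, eq⟩ := expand n hn
    have hterm : ∀ b, ∃ a : A, q.coeff b = algebraMap A K a * γ := by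
      intro b
      obtain ⟨a, ha⟩ := Q0 _ (const q hq b)
      refine ⟨a * algebraMap k A (ε c)⁻¹, mul_left_cancel₀ (left_ne_zero_of_mul hfγ0) ?_⟩
      rw [← ha, map_mul, mul_left_comm, hfγ, mul_assoc, ← map_mul (algebraMap A K),
        ← map_mul (algebraMap k A), inv_mul_cancel₀ hc, map_one, map_one, mul_one]
    choose a ha using hterm
    rw [Ideal.mem_span_singleton]
    refine ⟨∑ b ∈ q.support, a b, hinj ?_⟩
    rw [map_mul, map_sum, hgK, Finset.mul_sum]
    have : algebraMap A K n = f₁ * q.eval 1 := by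
      rw [← eval_mul, eq, hone, ev, h1]
    rw [this, eval_eq_sum, Polynomial.sum_def, Finset.mul_sum]
    refine Finset.sum_congr rfl fun b _ => ?_
    rw [one_pow, mul_one, ha b]
    ring
  refine ⟨g, fun h => hc0 ?_, hIg⟩
  rwa [hIg, h, Ideal.span_singleton_zero, Ideal.mem_bot] at hcI

/-- Invertible modules over such a ring are free. -/
theorem free_of_invertible (φ : A →+* A[X]) (ε : A →+* k) (hε : ∀ c, ε (algebraMap k A c) = c)
    (h1 : ∀ a, (φ a).eval 1 = a) (h0 : ∀ a, (φ a).eval 0 = algebraMap k A (ε a))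
    (M : Type u) [AddCommGroup M] [Module A M] [Module.Invertible A M] : Module.Free A M := by
  classical
  let K := FractionRing A
  have hinj : Function.Injective (algebraMap A K) := IsFractionRing.injective A K
  have hrel : CommRing.Pic.mk A M ∈ CommRing.relPic A K := by
    show CommRing.Pic.mapAlgebra A K (CommRing.Pic.mk A M) = 1
    exact Subsingleton.elim _ _
  obtain ⟨U, hU⟩ : CommRing.Pic.mk A M ∈ (Submodule.unitsToPic A K).range := by
    rw [Submodule.range_unitsToPic]; exact hrel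
  obtain ⟨e⟩ := CommRing.Pic.mk_eq_iff.mp hU.symm
  let e' : M ≃ₗ[A] (U : Submodule A K) := e.trans (Submodule.unitsToPicEquiv U)
  have hUU : (U : Submodule A K) * ↑U⁻¹ = 1 := U.mul_inv
  -- a pair with a product outside the augmentation ideal
  obtain ⟨n₀, hn₀, h₀, hh₀, c, hc, hcε⟩ : ∃ n ∈ (U : Submodule A K), ∃ h ∈ (↑U⁻¹ : Submodule A K),
      ∃ c : A, algebraMap A K c = n * h ∧ ε c ≠ 0 := by
    by_contra hh
    push Not at hh
    have key : ∀ z ∈ (U : Submodule A K) * ↑U⁻¹, ∀ a, algebraMap A K a = z → ε a = 0 := by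
      intro z hz
      suffices ∃ a, algebraMap A K a = z ∧ ε a = 0 by
        intro a ha; obtain ⟨b, hb, hb'⟩ := this; rwa [hinj (ha.trans hb.symm)]
      refine Submodule.mul_induction_on hz (fun x hx y hy => ?_) ?_
      · obtain ⟨a, ha⟩ := Submodule.mem_one.mp
          (hUU ▸ Submodule.mul_mem_mul hx hy : x * y ∈ (1 : Submodule A K))
        exact ⟨a, ha, hh x hx y hy a ha⟩
      · rintro _ _ ⟨a, rfl, ha⟩ ⟨b, rfl, hb⟩
        exact ⟨a + b, map_add _ _ _, by rw [map_add, ha, hb, add_zero]⟩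
    have := key 1 (by rw [hUU]; exact ⟨1, by simp⟩) 1 (map_one _)
    simp at this
  have hne : n₀ * h₀ ≠ 0 := by
    rw [← hc, map_ne_zero_iff _ hinj]
    exact fun h => hcε (by rw [h, map_zero])
  let I : Ideal A := Submodule.comap (Algebra.linearMap A K)
    ((U : Submodule A K) * Submodule.span A {h₀})
  let I' : Ideal A := Submodule.comap (Algebra.linearMap A K)
    ((↑U⁻¹ : Submodule A K) * Submodule.span A {n₀})
  have hIm : ∀ a, a ∈ I ↔ ∃ x ∈ (U : Submodule A K), x * h₀ = algebraMap A K a := fun a =>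
    Submodule.mem_mul_span_singleton
  have hI'm : ∀ a, a ∈ I' ↔ ∃ x ∈ (↑U⁻¹ : Submodule A K), x * n₀ = algebraMap A K a := fun a =>
    Submodule.mem_mul_span_singleton
  have inA : ∀ x ∈ (U : Submodule A K), ∀ y ∈ (↑U⁻¹ : Submodule A K),
      ∃ a, algebraMap A K a = x * y := fun x hx y hy => by
    obtain ⟨a, ha⟩ := Submodule.mem_one.mp
          (hUU ▸ Submodule.mul_mem_mul hx hy : x * y ∈ (1 : Submodule A K))
    exact ⟨a, ha⟩
  have hcI : c ∈ I := (hIm c).mpr ⟨n₀, hn₀, hc.symm⟩
  have hII : I * I' = Ideal.span {c} := by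
    refine le_antisymm (Ideal.mul_le.mpr fun a ha b hb => ?_) ?_
    · obtain ⟨x, hx, ex⟩ := (hIm a).mp ha
      obtain ⟨y, hy, ey⟩ := (hI'm b).mp hb
      obtain ⟨d, hd⟩ := inA x hx y hy
      rw [Ideal.mem_span_singleton]
      exact ⟨d, hinj (by rw [map_mul, map_mul, ← ex, ← ey, hc, hd]; ring)⟩
    · have key : ∀ z ∈ (U : Submodule A K) * ↑U⁻¹,
          ∃ a ∈ I * I', algebraMap A K a = algebraMap A K c * z := by
        intro z hz
        refine Submodule.mul_induction_on hz (fun x hx y hy => ?_) ?_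
        · obtain ⟨a, ha⟩ := inA x hx h₀ hh₀
          obtain ⟨b, hb⟩ := inA n₀ hn₀ y hy
          refine ⟨a * b, Ideal.mul_mem_mul ((hIm a).mpr ⟨x, hx, ha.symm⟩)
            ((hI'm b).mpr ⟨y, hy, by rw [hb, mul_comm]⟩), ?_⟩
          rw [map_mul, ha, hb, hc]; ring
        · rintro z w ⟨a, ha, ea⟩ ⟨b, hb, eb⟩
          exact ⟨a + b, add_mem ha hb, by rw [map_add, ea, eb, mul_add]⟩
      rw [Ideal.span_le, Set.singleton_subset_iff]
      obtain ⟨a, ha, ea⟩ := key 1 (by rw [hUU]; exact ⟨1, by simp⟩)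
      rw [mul_one] at ea
      rwa [← hinj ea]
  obtain ⟨g, hg0, hg⟩ := exists_eq_span_singleton φ ε h1 h0 I I' c hII hcI hcε
  -- the map M → I
  let L : (U : Submodule A K) →ₗ[A] K :=
    ((LinearMap.mulRight A h₀).comp (U : Submodule A K).subtype)
  have hLinj : Function.Injective L := fun x y hxy =>
    Subtype.ext (mul_right_cancel₀ (right_ne_zero_of_mul hne) hxy)
  have hrange : LinearMap.range L = Submodule.span A {algebraMap A K g} := by
    refine le_antisymm ?_ ?_
    · rintro _ ⟨x, rfl⟩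
      obtain ⟨a, ha⟩ := inA x.1 x.2 h₀ hh₀
      have hmem : a ∈ I := (hIm a).mpr ⟨x.1, x.2, ha.symm⟩
      rw [hg, Ideal.mem_span_singleton] at hmem
      obtain ⟨d, rfl⟩ := hmem
      show (x : K) * h₀ ∈ _
      rw [← ha, Submodule.mem_span_singleton]
      exact ⟨d, by rw [Algebra.smul_def, map_mul, mul_comm]⟩
    · rw [Submodule.span_le, Set.singleton_subset_iff]
      obtain ⟨x, hx, ex⟩ := (hIm g).mp (hg ▸ Ideal.subset_span rfl)
      exact ⟨⟨x, hx⟩, ex⟩
  exact Module.Free.of_equiv (((LinearEquiv.toSpanNonzeroSingleton A K (algebraMap A K g)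
    ((map_ne_zero_iff _ hinj).mpr hg0)).trans
      (LinearEquiv.ofEq _ _ hrange.symm)).trans
        ((LinearEquiv.ofInjective L hLinj).symm.trans e'.symm))

end Groth.Agent.L13.GradedPic
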