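/-
The stalk of the sheaf Hom: injectivity of evaluation for finite type, bijectivity for finite presentation.
-/
import Groth.Prelude.Def_RefHull
import Groth.Agent.L03.ShStab.TrivialGG
import Groth.Agent.L20.ModStalk
import Groth.Agent.L00.LocalData
import Mathlib.RingTheory.Localization.Module
import Mathlib.Algebra.Module.FinitePresentation

set_option autoImplicit false
set_option linter.style.haveILetI false

universe u

open CategoryTheory CategoryTheory.Limits AlgebraicGeometry TopologicalSpace Opposite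

noncomputable section

namespace Groth.L13.HomStalk

open Groth.L18.Frame (rs ro rs_rs rs_smul)
open Groth.L20.ModStalk (germ_rs germ_smul stalkModule germₗ)

variable {X : Scheme.{u}}

theorem exists_nhd_le {ι : Type*} [Finite ι] {x : X} (W₀ : X.Opens) (hW₀ : x ∈ W₀) (W : ι → X.Opens)
    (hW : ∀ i, x ∈ W i) : ∃ O : X.Opens, x ∈ O ∧ O ≤ W₀ ∧ ∀ i, O ≤ W i :=
  ⟨W₀ ⊓ ⟨⋂ i, (W i : Set X), isOpen_iInter_of_finite fun i => (W i).isOpen⟩,
    ⟨hW₀, Set.mem_iInter.2 hW⟩, inf_le_left, fun i y hy => Set.mem_iInter.1 hy.2 i⟩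

theorem germ_ro {U V : X.Opens} (h : V ≤ U) {x : X} (hx : x ∈ V) (r : Γ(X, U)) :
    X.presheaf.germ V x hx (ro h r) = X.presheaf.germ U x (h hx) r :=
  TopCat.Presheaf.germ_res_apply X.presheaf (homOfLE h) x hx r

/-- Expansion of a section near a point in sections whose germs span. -/
theorem exists_expansion (M : X.Modules) {V W : X.Opens} {ι : Type*} [Fintype ι] (t : ι → Γ(M, W))
    (m : Γ(M, V)) {y : X} (hyV : y ∈ V) (hyW : y ∈ W)
    (hspan : Submodule.span (X.presheaf.stalk y) (Set.range fun i => M.presheaf.germ W y hyW (t i)) = ⊤) :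
    ∃ (Q : X.Opens) (_ : y ∈ Q) (hV : Q ≤ V) (hW : Q ≤ W) (c : ι → Γ(X, Q)),
      rs M hV m = ∑ i, c i • rs M hW (t i) := by
  obtain ⟨a, ha⟩ := (Submodule.mem_span_range_iff_exists_fun (X.presheaf.stalk y)).1
    (hspan.ge (Submodule.mem_top (x := M.presheaf.germ V y hyV m)))
  choose U hU c hc using fun i => TopCat.Presheaf.exists_germ_eq X.presheaf (a i)
  obtain ⟨O, hyO, hO, hOU⟩ := exists_nhd_le (V ⊓ W) ⟨hyV, hyW⟩ U hU
  have hOV : O ≤ V := hO.trans inf_le_left
  have hOW : O ≤ W := hO.trans inf_le_right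
  have he : M.presheaf.germ O y hyO (rs M hOV m) =
      M.presheaf.germ O y hyO (∑ i, ro (hOU i) (c i) • rs M hOW (t i)) := by
    rw [map_sum, germ_rs]
    simp only [germ_smul, germ_rs, germ_ro, hc]
    exact ha.symm
  obtain ⟨Q, hyQ, i₁, i₂, hQ⟩ := TopCat.Presheaf.germ_eq M.presheaf y hyO hyO _ _ he
  refine ⟨Q, hyQ, i₁.le.trans hOV, i₁.le.trans hOW, fun i => ro i₁.le (ro (hOU i) (c i)), ?_⟩
  have hQ' : rs M i₁.le (rs M hOV m) = rs M i₁.le (∑ i, ro (hOU i) (c i) • rs M hOW (t i)) := hQ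
  rw [rs_rs] at hQ'
  rw [hQ']
  refine (map_sum (M.presheaf.map (homOfLE i₁.le).op).hom _ _).trans (Finset.sum_congr rfl fun i _ => ?_)
  show rs M i₁.le _ = _
  rw [rs_smul, rs_rs]

/-- A finite type module has finitely many sections near a point generating all nearby stalks. -/
theorem exists_gens (F : X.Modules) (hF : CohB1.IsFT F) (x : X) :
    ∃ (W : X.Opens) (N : ℕ) (t : Fin N → Γ(F, W)), x ∈ W ∧ ∀ (y : X) (hy : y ∈ W),
      Submodule.span (X.presheaf.stalk y) (Set.range fun j => F.presheaf.germ W y hy (t j)) = ⊤ := by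
  obtain ⟨U, σ, hxU, hfin⟩ := Groth.L00.Local.exists_generators_of_isFT F hF x
  let N := Nat.card σ.I
  haveI := σ.epi
  let e : FlatMod.freeMod U.toScheme N ≅ SheafOfModules.free σ.I :=
    (Sigma.whiskerEquiv (f := fun _ : Fin N => Coh.structureModule U.toScheme)
      (g := fun _ : σ.I => Coh.structureModule U.toScheme) (Finite.equivFin σ.I).symm fun _ => Iso.refl _ :)
  let φ : FlatMod.freeMod U.toScheme N ⟶ F.restrict U.ι :=
    e.hom ≫ (F.restrict U.ι).freeHomEquiv.symm σ.s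
  haveI : Epi φ := @epi_comp _ _ _ _ _ e.hom inferInstance _ σ.epi
  let W : X.Opens := U.ι ''ᵁ ⊤
  have hW : W = U := by simp [W]
  let t : Fin N → Γ(F, W) := fun j => φ.app ⊤ (Groth.L03.ShStab.TrivialGG.unitVec N j)
  refine ⟨W, N, t, hW.ge hxU, fun y hy => ?_⟩
  obtain ⟨y', -, hy'⟩ := id hy
  change U.ι y' = y at hy'
  subst hy'
  refine top_le_iff.1 fun v _ => ?_
  obtain ⟨V, hyV, m, rfl⟩ := TopCat.Presheaf.exists_germ_eq F.presheaf v
  let V' : U.toScheme.Opens := U.ι ⁻¹ᵁ V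
  have hV' : U.ι ''ᵁ V' ≤ V := U.ι.image_preimage_le V
  obtain ⟨Q, hyQ, hQV, hQ, c, hc⟩ := exists_expansion (F.restrict U.ι)
    (fun j => φ.app ⊤ (Groth.L03.ShStab.TrivialGG.unitVec N j))
    (show Γ(F.restrict U.ι, V') from rs F hV' m) (show y' ∈ V' from hyV) trivial
    (Groth.L03.ShStab.TrivialGG.span_germs_of_epi φ y')
  have hyQ' : U.ι y' ∈ U.ι ''ᵁ Q := ⟨y', hyQ, rfl⟩
  have e' : rs F (U.ι.image_mono hQV) (rs F hV' m) =
      ∑ j, ((U.ι.appIso Q).inv (c j)) • rs F (U.ι.image_mono hQ)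
        (φ.app ⊤ (Groth.L03.ShStab.TrivialGG.unitVec N j)) := hc
  have h := congrArg (F.presheaf.germ (U.ι ''ᵁ Q) _ hyQ') e'
  rw [map_sum, germ_rs, germ_rs] at h
  refine (congrArg (· ∈ Submodule.span _ _) h).mpr ?_
  refine Submodule.sum_mem _ fun j _ => ?_
  rw [germ_smul, germ_rs]
  exact Submodule.smul_mem _ _ (Submodule.subset_span ⟨j, rfl⟩)

variable (F G : X.Modules)

theorem injective_evalStalk (hF : CohB1.IsFT F) (x : X) : Function.Injective (RefHull.evalStalk F G x) := by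
  rw [injective_iff_map_eq_zero]
  intro θ hθ
  obtain ⟨U, hxU, g, rfl⟩ := TopCat.Presheaf.exists_germ_eq (F := (RefHull.homSh F G).presheaf) (x := x) θ
  rw [RefHull.evalStalk_germ] at hθ
  obtain ⟨W, N, t, hxW, hspan⟩ := exists_gens F hF x
  have hx : x ∈ U ⊓ W := ⟨hxU, hxW⟩
  choose O hxO jO n hn using fun j : Fin N =>
    RefHull.isLocSect_of_mem g (U ⊓ W) (homOfLE inf_le_left) (rs F inf_le_right (t j)) ⟨x, hx⟩
  have h0 : ∀ j, G.presheaf.germ (O j) x (hxO j) (n j) = G.presheaf.germ (O j) x (hxO j) 0 := fun j => by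
    rw [← hn j ⟨x, hxO j⟩, map_zero]
    exact (congrArg (fun l : RefHull.StalkHom F G x => l _) hθ).trans (LinearMap.zero_apply _)
  choose O' hxO' i₁ i₂ hO' using fun j => TopCat.Presheaf.germ_eq G.presheaf x (hxO j) (hxO j) _ _ (h0 j)
  obtain ⟨Q, hxQ, hQ, hQO⟩ := exists_nhd_le (U ⊓ W) hx O' hxO'
  have hQU : Q ≤ U := hQ.trans inf_le_left
  have key : ∀ (y : X) (hy : y ∈ Q), g.1 ⟨y, hQU hy⟩ = 0 := by
    intro y hy
    refine LinearMap.ext_on_range (hspan y (hQ hy).2) fun j => ?_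
    have hyO : y ∈ O j := (i₁ j).le (hQO j hy)
    have h1 := hn j ⟨y, hyO⟩
    rw [germ_rs] at h1
    rw [LinearMap.zero_apply]
    refine h1.trans ?_
    rw [← TopCat.Presheaf.germ_res_apply G.presheaf (i₁ j) y (hQO j hy)]
    rw [hO', map_zero, map_zero]
  have hz : rs (RefHull.homSh F G) hQU g = 0 := Subtype.ext (funext fun y => key y.1 y.2)
  rw [← germ_rs (RefHull.homSh F G) hQU hxQ g, hz, map_zero]

theorem surjective_evalStalk (hF : CohB1.IsFP F) (x : X) : Function.Surjective (RefHull.evalStalk F G x) := by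
  classical
  intro θ
  haveI : Coh.IsQCoh F := by
    haveI := hF
    infer_instance
  obtain ⟨V, hV, hxV, -⟩ := exists_isAffineOpen_mem_and_subset (x := x) (U := ⊤) trivial
  obtain ⟨W, hW, hxW, hfp⟩ : ∃ W : X.Opens, IsAffineOpen W ∧ x ∈ W ∧ Module.FinitePresentation Γ(X, W) Γ(F, W) := by
    obtain ⟨g₀, hxW, P, hP⟩ := Groth.L20.ModStalk.exists_presentation_near F hF hV hxV
    haveI := hP
    exact ⟨_, hV.basicOpen g₀, hxW, Groth.L20.ModStalk.finitePresentation_sections_affine F (hV.basicOpen g₀) P⟩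
  obtain ⟨s, hs, ⟨rel, hrel⟩⟩ := Module.FinitePresentation.out (R := Γ(X, W)) (M := Γ(F, W))
  let π := Finsupp.linearCombination Γ(X, W) ((↑) : s → Γ(F, W))
  have hπ : Function.Surjective π := by
    rw [← LinearMap.range_eq_top, Finsupp.range_linearCombination]
    simpa using hs
  choose O₀ hxO₀ n₀ hn₀ using fun j : s =>
    TopCat.Presheaf.exists_germ_eq G.presheaf (θ (F.presheaf.germ W x hxW (j : Γ(F, W))))
  obtain ⟨O₁, hxO₁, hO₁W, hO₁⟩ := exists_nhd_le W hxW O₀ hxO₀
  let n : s → Γ(G, O₁) := fun j => rs G (hO₁ j) (n₀ j)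
  let relSec : (s →₀ Γ(X, W)) → Γ(G, O₁) := fun ρ => ∑ j, ro hO₁W (ρ j) • n j
  have hrel0 : ∀ ρ : rel, G.presheaf.germ O₁ x hxO₁ (relSec ρ) = G.presheaf.germ O₁ x hxO₁ 0 := by
    intro ρ
    have hρ : π ρ = 0 := LinearMap.mem_ker.1 (hrel.le (Submodule.subset_span ρ.2))
    simp only [π, Finsupp.linearCombination_apply] at hρ
    have := congrArg θ (congrArg (F.presheaf.germ W x hxW) hρ)
    rw [Finsupp.sum_fintype (ρ : s →₀ Γ(X, W)) (fun i a => a • (i : Γ(F, W))) fun i => zero_smul _ _,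
      map_sum, map_zero, map_zero, map_sum] at this
    rw [map_zero, ← this, map_sum]
    refine Finset.sum_congr rfl fun j _ => ?_
    rw [germ_smul, germ_smul, germ_rs, germ_ro, map_smul, hn₀]
  choose Or hxOr i₁ i₂ hOr using fun ρ : rel =>
    TopCat.Presheaf.germ_eq G.presheaf x hxO₁ hxO₁ _ _ (hrel0 ρ)
  obtain ⟨O, hxO, hO, hOρ⟩ := exists_nhd_le O₁ hxO₁ Or hxOr
  have hOW : O ≤ W := hO.trans hO₁W
  have hexist : ∀ (y : X) (hy : y ∈ O), ∃ l : RefHull.StalkHom F G y, ∀ j : s,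
      l (F.presheaf.germ W y (hOW hy) (j : Γ(F, W))) = G.presheaf.germ O₁ y (hO hy) (n j) := by
    intro y hy
    letI := stalkModule F (hOW hy)
    letI := stalkModule G (hOW hy)
    letI := X.presheaf.algebra_section_stalk ⟨y, hOW hy⟩
    haveI := hW.isLocalization_stalk ⟨y, hOW hy⟩
    haveI := Groth.L20.ModStalk.isLocalizedModule_germ F hW (hOW hy)
    haveI : IsScalarTower Γ(X, W) (X.presheaf.stalk y) (F.presheaf.stalk y) :=
      IsScalarTower.of_algebraMap_smul fun _ _ => rfl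
    haveI : IsScalarTower Γ(X, W) (X.presheaf.stalk y) (G.presheaf.stalk y) :=
      IsScalarTower.of_algebraMap_smul fun _ _ => rfl
    let S := (hW.primeIdealOf ⟨y, hOW hy⟩).asIdeal.primeCompl
    let L : (s →₀ Γ(X, W)) →ₗ[Γ(X, W)] G.presheaf.stalk y :=
      Finsupp.linearCombination Γ(X, W) fun j => G.presheaf.germ O₁ y (hO hy) (n j)
    have hL : LinearMap.ker π ≤ LinearMap.ker L := by
      rw [show LinearMap.ker π = Submodule.span Γ(X, W) (rel : Set (s →₀ Γ(X, W))) from hrel.symm,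
        Submodule.span_le]
      intro ρ hρ
      have hyr : y ∈ Or ⟨ρ, hρ⟩ := hOρ ⟨ρ, hρ⟩ hy
      have h1 : G.presheaf.germ O₁ y (hO hy) (relSec ρ) = 0 := by
        have := congrArg (G.presheaf.germ _ y hyr) (hOr ⟨ρ, hρ⟩)
        rwa [TopCat.Presheaf.germ_res_apply, map_zero, map_zero] at this
      rw [SetLike.mem_coe, LinearMap.mem_ker, ← h1, map_sum]
      rw [show L ρ = ∑ j, ρ j • G.presheaf.germ O₁ y (hO hy) (n j) by
        simp [L, Finsupp.linearCombination_apply, Finsupp.sum_fintype]]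
      refine Finset.sum_congr rfl fun j _ => ?_
      rw [germ_smul, germ_ro]
      rfl
    let l₀ : Γ(F, W) →ₗ[Γ(X, W)] G.presheaf.stalk y :=
      ((LinearMap.ker π).liftQ L hL).comp (π.quotKerEquivOfSurjective hπ).symm.toLinearMap
    have hl₀ : ∀ j : s, l₀ (j : Γ(F, W)) = G.presheaf.germ O₁ y (hO hy) (n j) := fun j => by
      have hj : (π.quotKerEquivOfSurjective hπ).symm (j : Γ(F, W)) =
          Submodule.Quotient.mk (Finsupp.single j 1) := by
        rw [LinearEquiv.symm_apply_eq, LinearMap.quotKerEquivOfSurjective_apply_mk]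
        simp [π]
      rw [LinearMap.comp_apply, LinearEquiv.coe_coe, hj, Submodule.liftQ_apply]
      simp [L]
    have hunit : ∀ a : S, IsUnit (algebraMap Γ(X, W) (Module.End Γ(X, W) (G.presheaf.stalk y)) a) := fun a => by
      rw [Module.End.isUnit_iff]
      obtain ⟨w, hw⟩ := (IsLocalization.map_units (X.presheaf.stalk y) a).exists_right_inv
      refine Function.bijective_iff_has_inverse.mpr ⟨fun z => w • z, fun z => ?_, fun z => ?_⟩
      · show w • (algebraMap Γ(X, W) (X.presheaf.stalk y) a • z) = z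
        rw [smul_smul, mul_comm, hw, one_smul]
      · show algebraMap Γ(X, W) (X.presheaf.stalk y) a • (w • z) = z
        rw [smul_smul, hw, one_smul]
    let l₁ := IsLocalizedModule.lift S (germₗ F (hOW hy)) l₀ hunit
    refine ⟨l₁.extendScalarsOfIsLocalization S (X.presheaf.stalk y), fun j => ?_⟩
    show l₁ (germₗ F (hOW hy) j) = _
    rw [IsLocalizedModule.lift_apply, hl₀]
  choose l hl using hexist
  have hspan : ∀ (y : X) (hy : y ∈ W), Submodule.span (X.presheaf.stalk y)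
      (Set.range fun j : s => F.presheaf.germ W y hy (j : Γ(F, W))) = ⊤ := by
    intro y hy
    letI := stalkModule F hy
    letI := X.presheaf.algebra_section_stalk ⟨y, hy⟩
    haveI := hW.isLocalization_stalk ⟨y, hy⟩
    haveI := Groth.L20.ModStalk.isLocalizedModule_germ F hW hy
    haveI : IsScalarTower Γ(X, W) (X.presheaf.stalk y) (F.presheaf.stalk y) :=
      IsScalarTower.of_algebraMap_smul fun _ _ => rfl
    have := span_eq_top_of_isLocalizedModule (X.presheaf.stalk y) (hW.primeIdealOf ⟨y, hy⟩).asIdeal.primeCompl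
      (germₗ F hy) hs
    rw [← this]
    congr 1
    ext z
    simp [germₗ]
  have hloc : RefHull.IsLocSect F G (U := O) fun y => l y.1 y.2 := by
    intro V i m ⟨y, hyV⟩
    have hyO : y ∈ O := i.le hyV
    obtain ⟨Q, hyQ, hQV, hQW, c, hc⟩ :=
      exists_expansion F (fun j : s => (j : Γ(F, W))) m hyV (hOW hyO) (hspan y _)
    have hQO : Q ≤ O := hQV.trans i.le
    refine ⟨Q, hyQ, homOfLE hQV, ∑ j, c j • rs G (hQO.trans hO) (n j), fun ⟨z, hz⟩ => ?_⟩
    show l z (hQO hz) (F.presheaf.germ V z (hQV hz) m) = _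
    rw [← germ_rs F hQV hz m, hc, map_sum, map_sum, map_sum]
    refine Finset.sum_congr rfl fun j _ => ?_
    rw [germ_smul, germ_smul, germ_rs, germ_rs, map_smul, hl]
  refine ⟨(RefHull.homSh F G).presheaf.germ O x hxO (⟨fun y => l y.1 y.2, hloc⟩), ?_⟩
  rw [RefHull.evalStalk_germ]
  refine LinearMap.ext_on_range (hspan x hxW) fun j => ?_
  show l x hxO _ = _
  rw [hl, germ_rs, hn₀]

end Groth.L13.HomStalk
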