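import Groth.Agent.L25.ConnIrred
import Groth.Agent.L25.Component
import Groth.Agent.L19.Closure
import Groth.Agent.L26.AV.GroupSep
import Mathlib.AlgebraicGeometry.Morphisms.UniversallyOpen

/-! The connected component of the identity of a group scheme over a field is irreducible and quasi-compact. -/

universe u

open CategoryTheory CategoryTheory.Limits MonoidalCategory CartesianMonoidalCategory MonObj AlgebraicGeometry

namespace Groth.Agent.L13.IdComp

open Groth.L25 Groth.L25.Component Groth.L25.ConnIrred

variable {k : Type u} [Field k] (G : Over (Spec (CommRingCat.of k))) [GrpObj G]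

/-- The connected component of the identity is irreducible and quasi-compact. -/
theorem connectedComponent_one_aux :
    (IsIrreducible (connectedComponent (one G)) ∧ IsCompact (connectedComponent (one G))) ∧
      ∀ x ∉ connectedComponent (one G), ∃ W : Set G.left, IsClopen W ∧ one G ∈ W ∧ x ∉ W := by
  haveI := Groth.Agent.AV.isSeparated_of_grpObj G
  obtain ⟨C, hC, hCe⟩ := exists_mem_irreducibleComponents_subset_of_isIrreducible {one G} isIrreducible_singleton
  replace hCe : one G ∈ C := hCe rfl
  let I := Scheme.IdealSheafData.vanishingIdeal (X := G.left) ⟨C, isClosed_of_mem_irreducibleComponents C hC⟩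
  have hI : Set.range I.subschemeι = C := by
    rw [Scheme.IdealSheafData.range_subschemeι, Scheme.IdealSheafData.coe_support_vanishingIdeal]; rfl
  haveI := irreducibleSpace_of_range I.subschemeι (hI.symm ▸ hC.1)
  haveI := geometricallyIrreducible_component G I.subschemeι (hI.symm ▸ hC) (hI.symm ▸ hCe)
  let q : pullback I.subschemeι (fst G G).left ⟶ (G ⊗ G).left := pullback.snd _ _
  have hq : Set.range q = (fst G G).left ⁻¹' C := by
    show Set.range ⇑(pullback.snd I.subschemeι (fst G G).left) = _
    rw [Scheme.Pullback.range_snd, hI]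
  let e : pullback I.subschemeι (fst G G).left ≅ pullback (I.subschemeι ≫ G.hom) G.hom :=
    pullbackRightPullbackFstIso G.hom G.hom I.subschemeι
  have he : e.hom ≫ pullback.snd _ _ = q ≫ (snd G G).left := by
    simp [e, q]
  have hopen : IsOpenMap ⇑(q ≫ (snd G G).left) := by
    rw [← he]
    haveI : UniversallyOpen (I.subschemeι ≫ G.hom) := inferInstance
    exact (e.hom ≫ pullback.snd (I.subschemeι ≫ G.hom) G.hom).isOpenMap
  let τ' : G ⊗ G ⟶ G ⊗ G := lift (fst G G) ((fst G G)⁻¹ * snd G G)
  let τ : G ⊗ G ⟶ G ⊗ G := lift (fst G G) μ[G]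
  have hμ : μ[G] = fst G G * snd G G := by
    rw [Hom.mul_def, lift_fst_snd, Category.id_comp]
  have hττ : τ ≫ τ' = 𝟙 _ := by
    apply CartesianMonoidalCategory.hom_ext
    · simp [τ, τ']
    · simp [τ, τ', MonObj.comp_mul, GrpObj.comp_inv, hμ]
  have hττ' : τ' ≫ τ = 𝟙 _ := by
    apply CartesianMonoidalCategory.hom_ext
    · simp [τ, τ']
    · simp [τ, τ', MonObj.comp_mul, hμ]
  have key : ∀ V : G.left.Opens, IsAffineOpen V → (V : Set G.left).Nonempty →
      IsClopen (closure (V : Set G.left)) ∧ ∀ x ∈ closure (V : Set G.left), ∃ v ∈ V, v ⤳ x := by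
    intro V hV hne
    haveI : IsAffine (V : Scheme.{u}) := hV
    haveI : QuasiCompact (Scheme.Opens.ι V) := QuasiCompact.of_comp _ G.hom
    have hgen : ∀ x ∈ closure (V : Set G.left), ∃ v ∈ V, v ⤳ x := by
      intro x hx
      rw [← Scheme.Opens.range_ι V] at hx
      obtain ⟨a, ha⟩ := Groth.L19.exists_specializes_of_mem_closure_range (Scheme.Opens.ι V) hx
      exact ⟨_, a.2, ha⟩
    let S : Set G.left := μ[G].left '' ((fst G G).left ⁻¹' C ∩ (snd G G).left ⁻¹' (V : Set G.left))
    have hS : IsOpen S := by
      have : S = ⇑(q ≫ (snd G G).left) '' (q ⁻¹' (τ'.left ⁻¹' ((snd G G).left ⁻¹' (V : Set G.left)))) := by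
        ext y
        constructor
        · rintro ⟨w, ⟨hwC, hwV⟩, rfl⟩
          obtain ⟨a, ha⟩ : τ.left w ∈ Set.range q := by
            rw [hq]
            show (fst G G).left (τ.left w) ∈ C
            rw [show (fst G G).left (τ.left w) = (fst G G).left w from
              congr(($(lift_fst (fst G G) μ[G])).left w)]
            exact hwC
          refine ⟨a, ?_, ?_⟩
          · show (snd G G).left (τ'.left (q a)) ∈ V
            rw [ha, show τ'.left (τ.left w) = w from congr(($hττ).left w)]
            exact hwV
          · show (snd G G).left (q a) = _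
            rw [ha]
            exact congr(($(lift_snd (fst G G) μ[G])).left w)
        · rintro ⟨a, haV, rfl⟩
          refine ⟨τ'.left (q a), ⟨?_, haV⟩, ?_⟩
          · show (fst G G).left (τ'.left (q a)) ∈ C
            rw [show (fst G G).left (τ'.left (q a)) = (fst G G).left (q a) from
              congr(($(lift_fst (fst G G) ((fst G G)⁻¹ * snd G G))).left (q a))]
            exact (Set.ext_iff.mp hq _).mp ⟨a, rfl⟩
          · have h : τ' ≫ μ[G] = snd G G := by
              simp [τ', MonObj.comp_mul, hμ]
            exact congr(($h).left (q a))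
      rw [this]
      exact hopen _ ((V.isOpen.preimage (snd G G).left.continuous).preimage τ'.left.continuous |>.preimage q.continuous)
    have hSV : S = closure (V : Set G.left) := by
      refine subset_antisymm ?_ fun x hx => ?_
      · rintro _ ⟨w, ⟨hwC, hwV⟩, rfl⟩
        set v := (snd G G).left w with hv
        let ψ := G.left.fromSpecResidueField v
        let R := pullback (q ≫ (snd G G).left) ψ
        have : IrreducibleSpace ↥R := by
          let e₂ : pullback (q ≫ (snd G G).left) ψ ≅ pullback (I.subschemeι ≫ G.hom) (ψ ≫ G.hom) :=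
            pullback.congrHom he.symm rfl ≪≫
              asIso (pullback.map (e.hom ≫ pullback.snd _ _) ψ (pullback.snd _ _) ψ e.hom (𝟙 _) (𝟙 _)
                (by simp) (by simp)) ≪≫ pullbackLeftPullbackSndIso _ _ _
          exact e₂.hom.homeomorph.irreducibleSpace_iff.mpr inferInstance
        let g := pullback.fst (q ≫ (snd G G).left) ψ ≫ q ≫ μ[G].left
        have hirr : IsIrreducible (Set.range g) := by
          rw [← Set.image_univ]
          exact (IrreducibleSpace.isIrreducible_univ ↥R).image _ g.continuous.continuousOn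
        have hmem : ∀ w', (fst G G).left w' ∈ C → (snd G G).left w' = v → μ[G].left w' ∈ Set.range g := by
          intro w' h1 h2
          obtain ⟨a, rfl⟩ : w' ∈ Set.range q := hq ▸ h1
          obtain ⟨b, hb, -⟩ := Scheme.Pullback.exists_preimage_pullback (f := q ≫ (snd G G).left) (g := ψ)
            a (IsLocalRing.closedPoint (G.left.residueField v))
            (h2.trans (Scheme.fromSpecResidueField_apply v _).symm)
          exact ⟨b, congrArg (fun c => μ[G].left (q c)) hb⟩
        have hvg : v ∈ Set.range g := by
          let P : Over (Spec (CommRingCat.of k)) := Over.mk (ψ ≫ G.hom)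
          let gp : P ⟶ G := Over.homMk ψ
          let c : P.left := IsLocalRing.closedPoint (G.left.residueField v)
          have hc : gp.left c = v := Scheme.fromSpecResidueField_apply v _
          have h := hmem ((lift 1 gp).left c)
            (by rw [show (fst G G).left ((lift 1 gp).left c) = (1 : P ⟶ G).left c from
                  congr(($(lift_fst (1 : P ⟶ G) gp)).left c), one_apply]
                exact hCe)
            ((congr(($(lift_snd (1 : P ⟶ G) gp)).left c)).trans hc)
          rwa [show μ[G].left ((lift 1 gp).left c) = v from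
            (congr(($((Hom.mul_def (1 : P ⟶ G) gp).symm.trans (_root_.one_mul gp))).left c)).trans hc] at h
        obtain ⟨D, hD, hsub⟩ := exists_mem_irreducibleComponents_subset_of_isIrreducible _ hirr
        obtain ⟨ξ, rfl, -⟩ := maximal_of_mem_irreducibleComponents hD
        have hξV : ξ ∈ V := (specializes_iff_mem_closure.mpr (hsub hvg)).mem_open V.isOpen hwV
        exact closure_mono (Set.singleton_subset_iff.mpr hξV) (hsub (hmem w hwC rfl))
      · obtain ⟨ξ, hξ, hξx⟩ := hgen x hx
        obtain ⟨w, h1, h2, h3⟩ := exists_pair G hC hCe hξx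
        exact ⟨w, ⟨h1, by show (snd G G).left w ∈ V; rw [h2]; exact hξ⟩, h3⟩
    exact ⟨⟨isClosed_closure, hSV ▸ hS⟩, hgen⟩
  obtain ⟨ξ, hξ, hmax⟩ := maximal_of_mem_irreducibleComponents hC
  refine ⟨?_, fun x hx => ?_⟩
  swap
  · -- a point outside is separated by a clopen set
    by_contra hno
    push Not at hno
    refine hx ?_
    refine hC.1.isConnected.subset_connectedComponent hCe ?_
    rw [← hξ]
    refine mem_closure_iff.mpr fun o ho hxo => ⟨ξ, ?_, rfl⟩
    obtain ⟨_, ⟨V, hV, rfl⟩, hxV, hVo⟩ := G.left.isBasis_affineOpens.exists_subset_of_mem_open hxo ho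
    obtain ⟨hclopen, hgen⟩ := key V hV ⟨x, hxV⟩
    have hξV : ξ ∈ closure (V : Set G.left) := by
      by_contra hn
      obtain ⟨y, hy, hy'⟩ : ∃ y ∈ connectedComponent (one G), y ∈ closure (V : Set G.left) := by
        refine ⟨one G, mem_connectedComponent, ?_⟩
        by_contra hn'
        exact hno _ hclopen.compl hn' (subset_closure hxV)
      have h2 : ξ ∈ connectedComponent (one G) :=
        hC.1.isConnected.subset_connectedComponent hCe (hξ ▸ subset_closure rfl)
      have h3 := hclopen.connectedComponent_subset hy'
      rw [← connectedComponent_eq hy] at h3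
      exact hn (h3 h2)
    obtain ⟨v, hv, hvξ⟩ := hgen ξ hξV
    exact hVo ((hmax v hvξ).mem_open V.isOpen hv)
  suffices hsub : connectedComponent (one G) ⊆ C by
    have heq : connectedComponent (one G) = C :=
      subset_antisymm hsub (hC.1.isConnected.subset_connectedComponent hCe)
    rw [heq]
    exact ⟨hC.1, isCompact_component G hC hCe⟩
  intro x hx
  rw [← hξ]
  refine mem_closure_iff.mpr fun o ho hxo => ⟨ξ, ?_, rfl⟩
  obtain ⟨_, ⟨V, hV, rfl⟩, hxV, hVo⟩ := G.left.isBasis_affineOpens.exists_subset_of_mem_open hxo ho
  obtain ⟨hclopen, hgen⟩ := key V hV ⟨x, hxV⟩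
  have h1 : connectedComponent (one G) ⊆ closure (V : Set G.left) := by
    rw [connectedComponent_eq hx]
    exact hclopen.connectedComponent_subset (subset_closure hxV)
  have h2 : ξ ∈ connectedComponent (one G) :=
    hC.1.isConnected.subset_connectedComponent hCe (hξ ▸ subset_closure rfl)
  obtain ⟨v, hv, hvξ⟩ := hgen ξ (h1 h2)
  exact hVo ((hmax v hvξ).mem_open V.isOpen hv)

theorem connectedComponent_one :
    IsIrreducible (connectedComponent (one G)) ∧ IsCompact (connectedComponent (one G)) :=
  (connectedComponent_one_aux G).1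

theorem exists_clopen {x : G.left} (hx : x ∉ connectedComponent (one G)) :
    ∃ W : Set G.left, IsClopen W ∧ one G ∈ W ∧ x ∉ W :=
  (connectedComponent_one_aux G).2 x hx

end Groth.Agent.L13.IdComp
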