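import Groth.Agent.L13.IdComp
import Groth.Agent.L09.GrpQuot
import Mathlib.RingTheory.Ideal.Pure
import Mathlib.AlgebraicGeometry.IdealSheaf.Subscheme
import Mathlib.AlgebraicGeometry.Morphisms.Flat

/-! The identity component of an arbitrary group scheme over a field as a flat closed subgroup scheme. -/

set_option autoImplicit false
set_option linter.style.haveILetI false
set_option backward.isDefEq.respectTransparency.types false

universe u

open CategoryTheory CategoryTheory.Limits MonoidalCategory CartesianMonoidalCategory MonObj AlgebraicGeometry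
open TopologicalSpace

namespace Groth.Agent.L13.IdCompScheme

lemma pure_of_forall {R : Type u} [CommRing R] (I : Ideal R) (h : ∀ x ∈ I, ∃ y ∈ I, x = x * y) : I.Pure := by
  refine Ideal.Pure.of_inf_eq_mul I fun J _ => le_antisymm (fun x hx => ?_) Ideal.mul_le_inf
  obtain ⟨y, hy, hxy⟩ := h x hx.1
  have := Ideal.mul_mem_mul hy hx.2
  rwa [mul_comm y, ← hxy] at this

lemma pure_iSup {R : Type u} [CommRing R] {κ : Sort*} (J : κ → Ideal R) (hJ : ∀ i, (J i).Pure) :
    (⨆ i, J i).Pure := by
  refine pure_of_forall _ fun x hx => ?_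
  induction hx using Submodule.iSup_induction' with
  | mem i x hx =>
    haveI := hJ i
    obtain ⟨y, hy, hxy⟩ := Ideal.exists_eq_mul_of_pure hx
    exact ⟨y, le_iSup J i hy, hxy⟩
  | zero => exact ⟨0, zero_mem _, (zero_mul 0).symm⟩
  | add a b _ _ ha hb =>
    obtain ⟨u, hu, hau⟩ := ha
    obtain ⟨v, hv, hbv⟩ := hb
    refine ⟨u + v - u * v, sub_mem (add_mem hu hv) (Ideal.mul_mem_right _ _ hu), ?_⟩
    linear_combination (1 - v) * hau + (1 - u) * hbv

variable {X : Scheme.{u}}

/-- The inclusion of a clopen subscheme is a closed immersion. -/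
lemma isClosedImmersion_ι {U : X.Opens} (hU : IsClosed (U : Set X)) : IsClosedImmersion U.ι :=
  IsClosedImmersion.of_isPreimmersion _ (by rwa [Scheme.Opens.range_ι])

/-- The intersection of the clopen subschemes containing a point. -/
noncomputable def interClopen (x : X) : X.IdealSheafData :=
  ⨆ U : {U : X.Opens // IsClosed (U : Set X) ∧ x ∈ U}, U.1.ι.ker

lemma range_subschemeι_interClopen (x : X) :
    Set.range (interClopen x).subschemeι = ⋂ U : {U : X.Opens // IsClosed (U : Set X) ∧ x ∈ U}, (U.1 : Set X) := by
  rw [Scheme.IdealSheafData.range_subschemeι, interClopen, Scheme.IdealSheafData.support_iSup, Closeds.coe_iInf]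
  refine Set.iInter_congr fun U => ?_
  haveI := isClosedImmersion_ι U.2.1
  rw [Scheme.Hom.support_ker, Scheme.Opens.range_ι]
  exact U.2.1.closure_eq

lemma pure_ker_clopen {U : X.Opens} (hU : IsClosed (U : Set X)) (W : X.affineOpens) :
    ((U.ι.ker).ideal W).Pure := by
  haveI := isClosedImmersion_ι hU
  have hs : Function.Surjective (U.ι.app W).hom :=
    U.ι.app_surjective W W.2
  have hf : (U.ι.app W).hom.Flat := by
    rw [← Scheme.Hom.appLE_eq_app]
    exact HasRingHomProperty.appLE @Flat U.ι inferInstance W ⟨_, W.2.preimage U.ι⟩ le_rfl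
  rw [Scheme.Hom.ker_apply]
  letI := (U.ι.app W).hom.toAlgebra
  haveI : Module.Flat Γ(X, W) Γ(U, U.ι ⁻¹ᵁ W) := hf
  exact Module.Flat.of_linearEquiv
    (Ideal.quotientKerAlgEquivOfSurjective (f := Algebra.ofId Γ(X, W) Γ(U, U.ι ⁻¹ᵁ W)) hs).toLinearEquiv

instance flat_interClopen (x : X) : Flat (interClopen x).subschemeι := by
  refine (IsZariskiLocalAtSource.iff_of_openCover (interClopen x).subschemeCover.openCover).mpr fun W => ?_
  change Flat ((interClopen x).subschemeCover.f W ≫ (interClopen x).subschemeι)
  rw [Scheme.IdealSheafData.subschemeCover_map_subschemeι]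
  haveI : Flat (Spec.map (CommRingCat.ofHom (Ideal.Quotient.mk ((interClopen x).ideal W)))) := by
    rw [HasRingHomProperty.Spec_iff (P := @Flat), interClopen, Scheme.IdealSheafData.ideal_iSup]
    rw [iSup_apply]
    exact pure_iSup _ fun U => pure_ker_clopen U.2.1 W
  rw [Scheme.IdealSheafData.glueDataObjι]
  exact MorphismProperty.comp_mem _ _ _ (MorphismProperty.comp_mem _ _ _ this inferInstance) inferInstance

/-- Morphisms whose image is in every clopen set around `x` factor through the intersection. -/
lemma exists_lift {T : Scheme.{u}} (x : X) (g : T ⟶ X)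
    (hg : ∀ U : X.Opens, IsClosed (U : Set X) → x ∈ U → Set.range g ⊆ (U : Set X)) :
    ∃ g' : T ⟶ (interClopen x).subscheme, g' ≫ (interClopen x).subschemeι = g := by
  refine ⟨IsClosedImmersion.lift (interClopen x).subschemeι g ?_, IsClosedImmersion.lift_fac _ _ _⟩
  rw [Scheme.IdealSheafData.ker_subschemeι]
  refine iSup_le fun U => ?_
  have e : IsOpenImmersion.lift U.1.ι g (by rw [Scheme.Opens.range_ι]; exact hg U.1 U.2.1 U.2.2) ≫ U.1.ι = g :=
    IsOpenImmersion.lift_fac _ _ _
  conv_rhs => rw [← e]
  exact Scheme.Hom.le_ker_comp _ _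

section Group

open Groth.L25 Groth.L25.Component

variable {k : Type u} [Field k] (G : Over (Spec (CommRingCat.of k))) [GrpObj G]

/-- The identity component. -/
noncomputable def idComp : Over (Spec (CommRingCat.of k)) :=
  Over.mk ((interClopen (one G)).subschemeι ≫ G.hom)

/-- The inclusion of the identity component. -/
noncomputable def incl : idComp G ⟶ G := Over.homMk (interClopen (one G)).subschemeι

instance : IsClosedImmersion (incl G).left := inferInstanceAs (IsClosedImmersion (interClopen (one G)).subschemeι)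
instance : Flat (incl G).left := inferInstanceAs (Flat (interClopen (one G)).subschemeι)
instance : Mono (incl G) := by
  haveI : Mono (incl G).left := inferInstance
  exact Over.mono_of_mono_left _

theorem range_incl : Set.range (incl G).left = connectedComponent (one G) := by
  show Set.range (interClopen (one G)).subschemeι = _
  rw [range_subschemeι_interClopen]
  refine subset_antisymm (fun x hx => ?_) (Set.subset_iInter fun U =>
    IsClopen.connectedComponent_subset ⟨U.2.1, U.1.isOpen⟩ U.2.2)
  by_contra hn
  obtain ⟨W, hW, h1, h2⟩ := IdComp.exists_clopen G hn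
  exact h2 (Set.mem_iInter.mp hx ⟨⟨W, hW.2⟩, hW.1, h1⟩)

theorem geometricallyIrreducible_idComp : GeometricallyIrreducible (idComp G).hom := by
  obtain ⟨C, hC, hCe⟩ := exists_mem_irreducibleComponents_subset_of_isIrreducible _ (IdComp.connectedComponent_one G).1
  have h1 : Set.range (incl G).left = C := by
    rw [range_incl]
    exact subset_antisymm hCe (hC.1.isConnected.subset_connectedComponent (hCe mem_connectedComponent))
  exact Component.geometricallyIrreducible_component G (incl G).left (h1 ▸ hC)
    (by rw [range_incl]; exact mem_connectedComponent)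

theorem compactSpace_idComp : CompactSpace (idComp G).left := by
  refine ⟨(incl G).left.isClosedEmbedding.isInducing.isCompact_iff.mpr ?_⟩
  rw [Set.image_univ, range_incl]
  exact (IdComp.connectedComponent_one G).2

theorem exists_factor {T : Over (Spec (CommRingCat.of k))} (f : T ⟶ G) [PreconnectedSpace T.left]
    {t : T.left} (ht : f.left t ∈ connectedComponent (one G)) : ∃ f' : T ⟶ idComp G, f' ≫ incl G = f := by
  obtain ⟨g, hg⟩ := exists_lift (one G) f.left fun U hU hUe => by
    rintro _ ⟨s, rfl⟩
    have h1 : f.left t ∈ U := (IsClopen.connectedComponent_subset ⟨hU, U.isOpen⟩ hUe) ht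
    exact Set.eq_univ_iff_forall.mp
      (IsClopen.eq_univ ⟨hU.preimage f.left.continuous, U.isOpen.preimage f.left.continuous⟩ ⟨t, h1⟩) s
  exact ⟨Over.homMk g (by rw [← Over.w f, ← hg, Category.assoc]; rfl), Over.OverMorphism.ext hg⟩

theorem exists_one : ∃ e : 𝟙_ (Over (Spec (CommRingCat.of k))) ⟶ idComp G, e ≫ incl G = η[G] := by
  haveI : PreconnectedSpace ↥(𝟙_ (Over (Spec (CommRingCat.of k)))).left :=
    inferInstanceAs (PreconnectedSpace (PrimeSpectrum k))
  exact exists_factor G η[G] (t := IsLocalRing.closedPoint k) mem_connectedComponent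

theorem exists_unit_point : ∃ z : (idComp G).left, (incl G).left z = one G :=
  (Set.ext_iff.mp (range_incl G) _).mpr mem_connectedComponent

theorem exists_mul : ∃ m : idComp G ⊗ idComp G ⟶ idComp G, m ≫ incl G = (incl G ⊗ₘ incl G) ≫ μ[G] := by
  haveI := geometricallyIrreducible_idComp G
  haveI : IrreducibleSpace (idComp G).left :=
    Component.irreducibleSpace_of_range (incl G).left (by rw [range_incl]; exact (IdComp.connectedComponent_one G).1)
  haveI : IrreducibleSpace ↥(idComp G ⊗ idComp G).left :=
    inferInstanceAs (IrreducibleSpace ↥(pullback (idComp G).hom (idComp G).hom))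
  obtain ⟨e, he⟩ := exists_one G
  refine exists_factor G _ (t := (lift e e).left (IsLocalRing.closedPoint k)) ?_
  have h : lift e e ≫ (incl G ⊗ₘ incl G) ≫ μ[G] = η[G] := by
    rw [← Category.assoc, lift_map, he, ← Hom.mul_def, MonObj.one_eq_one, _root_.mul_one]
  have h' : ((incl G ⊗ₘ incl G) ≫ μ[G]).left ((lift e e).left (IsLocalRing.closedPoint k)) = one G :=
    congr(($h).left (IsLocalRing.closedPoint k))
  rw [h']
  exact mem_connectedComponent

theorem exists_inv : ∃ n : idComp G ⟶ idComp G, n ≫ incl G = (incl G)⁻¹ := by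
  haveI : IrreducibleSpace (idComp G).left :=
    Component.irreducibleSpace_of_range (incl G).left (by rw [range_incl]; exact (IdComp.connectedComponent_one G).1)
  obtain ⟨e, he⟩ := exists_one G
  refine exists_factor G _ (t := e.left (IsLocalRing.closedPoint k)) ?_
  have h : e ≫ (incl G)⁻¹ = η[G] := by
    rw [GrpObj.comp_inv, he, MonObj.one_eq_one, inv_one]
  have h' : ((incl G)⁻¹).left (e.left (IsLocalRing.closedPoint k)) = one G :=
    congr(($h).left (IsLocalRing.closedPoint k))
  rw [h']
  exact mem_connectedComponent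

theorem result :
    ∃ (G₀ : Over (Spec (CommRingCat.of k))) (_ : GrpObj G₀) (i : G₀ ⟶ G) (_ : IsMonHom i),
      IsClosedImmersion i.left ∧ Flat i.left ∧ Set.range ⇑i.left = connectedComponent (one G) ∧
        GeometricallyIrreducible G₀.hom ∧ CompactSpace ↥G₀.left := by
  have h1 := exists_one G
  have hm : ∀ (T : Over (Spec (CommRingCat.of k))) (a b : T ⟶ idComp G),
      ∃ c : T ⟶ idComp G, c ≫ incl G = (a ≫ incl G) * (b ≫ incl G) := fun T a b => by
    obtain ⟨m, hm⟩ := exists_mul G
    exact ⟨lift a b ≫ m, by rw [Category.assoc, hm, ← Category.assoc, lift_map, Hom.mul_def]⟩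
  have hi : ∀ (T : Over (Spec (CommRingCat.of k))) (a : T ⟶ idComp G),
      ∃ c : T ⟶ idComp G, c ≫ incl G = (a ≫ incl G)⁻¹ := fun T a => by
    obtain ⟨n, hn⟩ := exists_inv G
    exact ⟨a ≫ n, by rw [Category.assoc, hn, GrpObj.comp_inv]⟩
  exact ⟨idComp G, Groth.L09.GrpQuot.grpObjOfClosed (incl G) h1 hm hi, incl G,
    Groth.L09.GrpQuot.grpObjOfClosed_isMonHom (incl G) h1 hm hi, inferInstance, inferInstance, range_incl G,
    geometricallyIrreducible_idComp G, compactSpace_idComp G⟩

end Group

end Groth.Agent.L13.IdCompScheme
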