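import Mathlib.Data.Set.Card
import Mathlib.SetTheory.Cardinal.Finite
import Mathlib.Algebra.BigOperators.Finprod
import Mathlib.Data.Fintype.Card
import Mathlib.Order.Interval.Finset.Nat
import Mathlib.Algebra.Order.BigOperators.Group.Finset
import Mathlib.Algebra.Order.BigOperators.Ring.Finset
import Mathlib.LinearAlgebra.Dimension.Constructions
import Mathlib.LinearAlgebra.Dimension.Finrank
import Mathlib.LinearAlgebra.FiniteDimensional.Lemmas
import Mathlib.Data.Rat.Cast.Order
import Mathlib.Tactic.Ring
import Mathlib.Tactic.Linarith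

/-! Configurations in which any two blocks meet in the same number of points. -/

namespace Groth.L13.Incidence

open scoped Classical in
/-- The number of blocks through a point. -/
noncomputable def mult {P ι : Type*} [Fintype ι] (inc : P → ι → Prop) (p : P) : ℕ :=
  Nat.card {j : ι // inc p j}

section
variable {P ι : Type*} [Fintype ι] (inc : P → ι → Prop) {h : ℕ}
  (hfin : ∀ i j : ι, i ≠ j → {p : P | inc p i ∧ inc p j}.Finite)
  (hcount : ∀ i j : ι, i ≠ j → {p : P | inc p i ∧ inc p j}.ncard = h)

open scoped Classical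

theorem mult_eq (p : P) : mult inc p = (Finset.univ.filter (inc p)).card := by
  rw [mult, Nat.card_eq_fintype_card, Fintype.card_subtype]

theorem two_le_mult_iff (p : P) : 2 ≤ mult inc p ↔ ∃ i j, i ≠ j ∧ inc p i ∧ inc p j := by
  rw [mult_eq]
  constructor
  · intro hp
    obtain ⟨i, hi, j, hj, hij⟩ := Finset.one_lt_card.1 hp
    exact ⟨i, j, hij, (Finset.mem_filter.1 hi).2, (Finset.mem_filter.1 hj).2⟩
  · rintro ⟨i, j, hij, hi, hj⟩
    exact Finset.one_lt_card.2 ⟨i, by simp [hi], j, by simp [hj], hij⟩

include hfin in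
theorem multiple_finite : {p : P | 2 ≤ mult inc p}.Finite := by
  refine Set.Finite.subset (Set.finite_iUnion (f := fun q : {q : ι × ι // q.1 ≠ q.2} =>
    {p : P | inc p q.1.1 ∧ inc p q.1.2}) fun q => hfin _ _ q.2) ?_
  intro p hp
  obtain ⟨i, j, hij, hi, hj⟩ := (two_le_mult_iff inc p).1 hp
  exact Set.mem_iUnion.2 ⟨⟨(i, j), hij⟩, hi, hj⟩

include hfin hcount

theorem inter_card (i j : ι) (hij : i ≠ j) (M : Finset P) (hM : ∀ p, 2 ≤ mult inc p → p ∈ M) :
    (M.filter fun p => inc p i ∧ inc p j).card = h := by
  rw [← hcount i j hij, ← Set.ncard_coe_finset]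
  congr 1
  ext p
  simp only [Finset.coe_filter, Set.mem_setOf_eq, and_iff_right_iff_imp]
  rintro ⟨hi, hj⟩
  exact hM p ((two_le_mult_iff inc p).2 ⟨i, j, hij, hi, hj⟩)

theorem sum_pred (i : ι) (M : Finset P) (hM : ∀ p, 2 ≤ mult inc p → p ∈ M) :
    ∑ p ∈ M.filter (inc · i), (mult inc p - 1) = h * (Fintype.card ι - 1) := by
  calc ∑ p ∈ M.filter (inc · i), (mult inc p - 1)
      = ∑ p ∈ M.filter (inc · i), ((Finset.univ.erase i).filter (inc p)).card := by
        refine Finset.sum_congr rfl fun p hp => ?_
        rw [mult_eq, Finset.filter_erase, Finset.card_erase_of_mem]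
        simp [(Finset.mem_filter.1 hp).2]
    _ = ∑ j ∈ Finset.univ.erase i, ((M.filter (inc · i)).filter (inc · j)).card := by
        simp only [Finset.card_filter]; exact Finset.sum_comm
    _ = ∑ j ∈ Finset.univ.erase i, h := by
        refine Finset.sum_congr rfl fun j hj => ?_
        rw [Finset.filter_filter]
        exact inter_card inc hfin hcount i j (Finset.ne_of_mem_erase hj).symm M hM
    _ = _ := by simp [Finset.card_erase_of_mem, mul_comm]

theorem finsum_pred (i : ι) :
    ∑ᶠ p ∈ {p : P | inc p i}, (mult inc p - 1) = h * (Fintype.card ι - 1) := by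
  have hM := multiple_finite inc hfin
  rw [finsum_mem_eq_sum_of_inter_support_eq (t := hM.toFinset.filter (inc · i)),
    sum_pred inc hfin hcount i hM.toFinset (by simp)]
  ext p
  simp only [Set.mem_inter_iff, Set.mem_setOf_eq, Function.mem_support, Finset.coe_filter,
    Set.Finite.mem_toFinset]
  constructor
  · rintro ⟨hi, hne⟩; exact ⟨⟨by omega, hi⟩, hne⟩
  · rintro ⟨⟨_, hi⟩, hne⟩; exact ⟨hi, hne⟩

theorem sum_mul_pred_mul_card :
    ∑ k ∈ Finset.Icc 2 (Fintype.card ι), k * (k - 1) * Nat.card {p : P // mult inc p = k} =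
      h * (Fintype.card ι * (Fintype.card ι - 1)) := by
  have hM := multiple_finite inc hfin
  have hcard : ∀ k ∈ Finset.Icc 2 (Fintype.card ι),
      Nat.card {p : P // mult inc p = k} = (hM.toFinset.filter (mult inc · = k)).card := by
    intro k hk
    rw [← Set.ncard_coe_finset, ← Nat.card_coe_set_eq]
    refine Nat.card_congr (Equiv.subtypeEquivRight fun p => ?_)
    have := (Finset.mem_Icc.1 hk).1
    simp; omega
  calc _ = ∑ k ∈ Finset.Icc 2 (Fintype.card ι),
        ∑ p ∈ hM.toFinset.filter (mult inc · = k), mult inc p * (mult inc p - 1) := by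
        refine Finset.sum_congr rfl fun k hk => ?_
        rw [hcard k hk, Finset.sum_congr rfl (g := fun _ => k * (k - 1))
          (fun p hp => by rw [(Finset.mem_filter.1 hp).2])]
        simp [mul_comm]
    _ = ∑ p ∈ hM.toFinset, mult inc p * (mult inc p - 1) := by
        refine Finset.sum_fiberwise_of_maps_to (fun p hp => Finset.mem_Icc.2 ⟨by simpa using hp, ?_⟩) _
        rw [mult_eq]; exact Finset.card_le_univ _
    _ = ∑ i : ι, ∑ p ∈ hM.toFinset.filter (inc · i), (mult inc p - 1) := by
        simp only [Finset.sum_filter]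
        rw [Finset.sum_comm]
        refine Finset.sum_congr rfl fun p _ => ?_
        rw [← Finset.sum_filter, Finset.sum_const, mult_eq]; simp
    _ = _ := by
        rw [Finset.sum_congr rfl fun i _ => sum_pred inc hfin hcount i hM.toFinset (by simp)]
        simp [mul_left_comm]

theorem h_add_two_le (hh : 0 < h) (hd : 2 ≤ Fintype.card ι) (hnone : ∀ p : P, ∃ i : ι, ¬ inc p i) :
    h + 2 ≤ Nat.card {p : P // 2 ≤ mult inc p} := by
  have hM := multiple_finite inc hfin
  rw [show Nat.card {p : P // 2 ≤ mult inc p} = hM.toFinset.card from Nat.card_eq_card_finite_toFinset hM]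
  obtain ⟨i, j, hij⟩ := Fintype.one_lt_card_iff.1 hd
  let H := hM.toFinset.filter fun p => inc p i ∧ inc p j
  have hH : H.card = h := inter_card inc hfin hcount i j hij _ (by simp)
  obtain ⟨p, hp⟩ := Finset.card_pos.1 (hH ▸ hh)
  have hp' := (Finset.mem_filter.1 hp).2
  obtain ⟨k, hk⟩ := hnone p
  have hki : i ≠ k := fun e => hk (e ▸ hp'.1)
  have hkj : j ≠ k := fun e => hk (e ▸ hp'.2)
  have key : ∀ i j : ι, i ≠ k → inc p i → inc p j → i ≠ j →
      ∃ a ∈ hM.toFinset, inc a i ∧ ¬ inc a j := by
    intro i j hik hpi hpj hij'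
    by_contra hc
    push Not at hc
    have hsub : (hM.toFinset.filter fun q => inc q i ∧ inc q k) ⊆
        (hM.toFinset.filter fun q => inc q i ∧ inc q j).erase p := by
      intro q hq
      rw [Finset.mem_filter] at hq
      rw [Finset.mem_erase, Finset.mem_filter]
      exact ⟨fun e => hk (e ▸ hq.2.2), hq.1, hq.2.1, hc q hq.1 hq.2.1⟩
    have hle := Finset.card_le_card hsub
    have hpmem : p ∈ hM.toFinset.filter fun q => inc q i ∧ inc q j := by
      simp [hpi, hpj, (two_le_mult_iff inc p).2 ⟨i, j, hij', hpi, hpj⟩]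
    rw [inter_card inc hfin hcount i k hik _ (by simp), Finset.card_erase_of_mem hpmem,
      inter_card inc hfin hcount i j hij' _ (by simp)] at hle
    omega
  obtain ⟨a, haM, hai, haj⟩ := key i j hki hp'.1 hp'.2 hij
  obtain ⟨b, hbM, hbj, hbi⟩ := key j i hkj hp'.2 hp'.1 hij.symm
  have hsub : insert a (insert b H) ⊆ hM.toFinset :=
    Finset.insert_subset haM (Finset.insert_subset hbM (Finset.filter_subset _ _))
  refine le_trans (le_of_eq ?_) (Finset.card_le_card hsub)
  rw [Finset.card_insert_of_notMem, Finset.card_insert_of_notMem, hH]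
  · simp [H, hbi]
  · simp only [Finset.mem_insert, not_or]
    exact ⟨fun e => haj (e ▸ hbj), by simp [H, haj]⟩

theorem card_le (hh : 0 < h) (hd : 2 ≤ Fintype.card ι) (hnone : ∀ p : P, ∃ i : ι, ¬ inc p i) :
    Fintype.card ι ≤ Nat.card {p : P // 2 ≤ mult inc p} := by
  have hM := multiple_finite inc hfin
  rw [show Nat.card {p : P // 2 ≤ mult inc p} = hM.toFinset.card from Nat.card_eq_card_finite_toFinset hM]
  set M := hM.toFinset
  have hmem : ∀ p, 2 ≤ mult inc p → p ∈ M := by simp [M]
  let r : ι → ℚ := fun i => ((M.filter (inc · i)).card : ℚ)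
  have hr : ∀ i, (h : ℚ) < r i := by
    intro i
    simp only [r, Nat.cast_lt]
    obtain ⟨j, hj⟩ := Fintype.exists_ne_of_one_lt_card (by omega) i
    by_contra hle
    have hall : ∀ k, k ≠ i → (M.filter fun p => inc p i ∧ inc p k) = M.filter (inc · i) := by
      intro k hk
      refine Finset.eq_of_subset_of_card_le (fun q hq => ?_) ?_
      · rw [Finset.mem_filter] at hq ⊢; exact ⟨hq.1, hq.2.1⟩
      · rw [inter_card inc hfin hcount i k hk.symm M hmem]; omega
    have hne : 0 < (M.filter fun p => inc p i ∧ inc p j).card := by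
      rw [inter_card inc hfin hcount i j hj.symm M hmem]; exact hh
    obtain ⟨p, hp⟩ := Finset.card_pos.1 hne
    rw [hall j hj] at hp
    obtain ⟨k, hk⟩ := hnone p
    have hki : k ≠ i := fun e => hk (e ▸ (Finset.mem_filter.1 hp).2)
    rw [← hall k hki] at hp
    exact hk (Finset.mem_filter.1 hp).2.2
  let N : (ι → ℚ) →ₗ[ℚ] ({p // p ∈ M} → ℚ) :=
    { toFun := fun v p => ∑ i : ι, if inc p.1 i then v i else 0
      map_add' := fun v w => by
        funext p; simp only [Pi.add_apply, ← Finset.sum_add_distrib]
        exact Finset.sum_congr rfl fun i _ => by split_ifs <;> simp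
      map_smul' := fun c v => by
        funext p; simp [Finset.mul_sum, mul_ite] }
  have hinj : Function.Injective N := by
    rw [← LinearMap.ker_eq_bot, LinearMap.ker_eq_bot']
    intro v hv
    have e1 : (∑ p ∈ M, (∑ i : ι, if inc p i then v i else 0) ^ 2) =
        (h : ℚ) * (∑ i, v i) ^ 2 + ∑ i, (r i - h) * v i ^ 2 := by
      calc _ = ∑ i, ∑ j, v i * v j * ((M.filter fun p => inc p i ∧ inc p j).card : ℚ) := by
            simp only [sq, Finset.sum_mul_sum]
            rw [Finset.sum_comm]
            refine Finset.sum_congr rfl fun i _ => ?_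
            rw [Finset.sum_comm]
            refine Finset.sum_congr rfl fun j _ => ?_
            rw [Finset.card_filter, Nat.cast_sum, Finset.mul_sum]
            refine Finset.sum_congr rfl fun p _ => ?_
            by_cases ha : inc p i <;> by_cases hb : inc p j <;> simp [ha, hb]
        _ = ∑ i, ∑ j, (v i * v j * (h : ℚ) + if j = i then (r i - h) * v i ^ 2 else 0) := by
            refine Finset.sum_congr rfl fun i _ => Finset.sum_congr rfl fun j _ => ?_
            by_cases hij : j = i
            · subst hij; simp [r]; ring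
            · rw [inter_card inc hfin hcount i j (Ne.symm hij) M hmem, if_neg hij, add_zero]
        _ = _ := by
            simp only [Finset.sum_add_distrib, Finset.sum_ite_eq', Finset.mem_univ, if_true]
            rw [sq, Finset.sum_mul_sum, Finset.mul_sum]
            congr 1
            refine Finset.sum_congr rfl fun i _ => ?_
            rw [Finset.mul_sum]
            exact Finset.sum_congr rfl fun j _ => by ring
    have e0 : (∑ p ∈ M, (∑ i : ι, if inc p i then v i else 0) ^ 2) = 0 :=
      Finset.sum_eq_zero fun p hp => by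
        have := congrFun hv ⟨p, hp⟩
        simp only [N, LinearMap.coe_mk, AddHom.coe_mk, Pi.zero_apply] at this
        simp [this]
    have hnn : ∀ i ∈ (Finset.univ : Finset ι), 0 ≤ (r i - h) * v i ^ 2 := fun i _ =>
      mul_nonneg (by have := hr i; linarith) (sq_nonneg _)
    have hz : ∑ i, (r i - h) * v i ^ 2 = 0 := by
      have h1 := Finset.sum_nonneg hnn
      have h2 : (0 : ℚ) ≤ (h : ℚ) * (∑ i, v i) ^ 2 := mul_nonneg (Nat.cast_nonneg _) (sq_nonneg _)
      linarith
    funext i
    have := (Finset.sum_eq_zero_iff_of_nonneg hnn).1 hz i (Finset.mem_univ i)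
    rcases mul_eq_zero.1 this with e | e
    · exact absurd e (by have := hr i; linarith)
    · simpa using e
  have := LinearMap.finrank_le_finrank_of_injective hinj
  simpa using this

end
end Groth.L13.Incidence
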