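import Groth.Prelude.Def_Hoch

/-!
# The cochain complex of an induced comodule has a contracting homotopy
-/

set_option autoImplicit false
universe u v w

open TensorProduct

noncomputable section

namespace Groth.L13.IndAcyclic

section

variable (k : Type u) [CommRing k] (A : Type v) [Ring A] [Bialgebra k A] (P : Type w) [AddCommGroup P] [Module k P]

/-- `(p ⊗ a) ⊗ b ↦ ε(a) p ⊗ b` -/
def h0 : Hoch.Ind k A P ⊗[k] A →ₗ[k] Hoch.Ind k A P :=
  (Hoch.Ind.equiv k A P).toLinearMap ∘ₗ (Hoch.Ind.counit k A P).rTensor A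

theorem h0_tmul (y : Hoch.Ind k A P) (b : A) :
    h0 k A P (y ⊗ₜ b) = Hoch.Ind.equiv k A P (Hoch.Ind.counit k A P y ⊗ₜ b) := rfl

theorem h0_coact (x : Hoch.Ind k A P) :
    h0 k A P (HopfRep.Comod.coact (k := k) (A := A) x) = x := by
  obtain ⟨z, rfl⟩ := (Hoch.Ind.equiv k A P).surjective x
  induction z using TensorProduct.induction_on with
  | zero => simp
  | add a b ha hb => simp only [map_add, ha, hb]
  | tmul p a =>
    have key : ∀ w : A ⊗[k] A, h0 k A P
        (show Hoch.Ind k A P ⊗[k] A from (TensorProduct.assoc k P A A).symm (p ⊗ₜ w)) =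
        Hoch.Ind.equiv k A P (p ⊗ₜ TensorProduct.lid k A ((Coalgebra.counit (R := k) (A := A)).rTensor A w)) := by
      intro w
      induction w using TensorProduct.induction_on with
      | zero =>
        simp only [tmul_zero, map_zero]
        exact map_zero (h0 k A P)
      | add a b ha hb =>
        simp only [tmul_add, map_add] at ha hb ⊢
        exact (map_add (h0 k A P) _ _).trans (congrArg₂ (· + ·) ha hb)
      | tmul a₁ a₂ =>
        simp only [assoc_symm_tmul, LinearMap.rTensor_tmul, lid_tmul, tmul_smul, ← smul_tmul']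
        refine (h0_tmul k A P (Hoch.Ind.equiv k A P (p ⊗ₜ a₁)) a₂).trans ?_
        rw [Hoch.Ind.counit_equiv_tmul, ← smul_tmul', map_smul]
    refine (key (Coalgebra.comul (R := k) a)).trans ?_
    rw [Coalgebra.rTensor_counit_comul, lid_tmul, one_smul]

theorem fixedPts_eq :
    Function.Injective ((Hoch.Ind.equiv k A P).toLinearMap ∘ₗ (TensorProduct.mk k P A).flip (1 : A)) ∧
    LinearMap.range ((Hoch.Ind.equiv k A P).toLinearMap ∘ₗ (TensorProduct.mk k P A).flip (1 : A)) =
      HopfRep.fixedPts k A (Hoch.Ind k A P) := by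
  have hc : ∀ p : P, Hoch.Ind.counit k A P (Hoch.Ind.equiv k A P (p ⊗ₜ (1 : A))) = p := fun p => by
    rw [Hoch.Ind.counit_equiv_tmul, Bialgebra.counit_one, one_smul]
  refine ⟨Function.LeftInverse.injective (g := Hoch.Ind.counit k A P) hc, le_antisymm ?_ fun x hx => ?_⟩
  · rintro _ ⟨p, rfl⟩
    show HopfRep.Comod.coact (k := k) (A := A) (Hoch.Ind.equiv k A P (p ⊗ₜ (1 : A))) =
      Hoch.Ind.equiv k A P (p ⊗ₜ (1 : A)) ⊗ₜ (1 : A)
    refine (Hoch.Ind.coact_equiv_tmul k A P p 1).trans ?_
    rw [Bialgebra.comul_one, Algebra.TensorProduct.one_def, assoc_symm_tmul]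
    rfl
  · refine ⟨Hoch.Ind.counit k A P x, ?_⟩
    have h := h0_coact k A P x
    rw [show HopfRep.Comod.coact (k := k) (A := A) x = x ⊗ₜ (1 : A) from hx, h0_tmul] at h
    exact h

end

section Complex

variable (k : Type u) [CommRing k] (A : Type v) [Ring A] [Bialgebra k A] (P : Type v) [AddCommGroup P] [Module k P]

/-- the homotopy -/
def hh : (n : ℕ) → ((Hoch.cochain k A (Hoch.Ind k A P) (n + 1) : Type v) →ₗ[k]
    (Hoch.cochain k A (Hoch.Ind k A P) n : Type v))
  | 0 => h0 k A P
  | n + 1 => (hh n).rTensor A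

theorem tail_natural {M M' : Type v} [AddCommGroup M] [Module k M] [AddCommGroup M'] [Module k M']
    (f : M →ₗ[k] M') :
    Hoch.tail k A M' ∘ₗ f.rTensor A = (f.rTensor A).rTensor A ∘ₗ Hoch.tail k A M := by
  refine TensorProduct.ext' fun m a => ?_
  have key : ∀ w : A ⊗[k] A, (f.rTensor A).rTensor A ((TensorProduct.assoc k M A A).symm (m ⊗ₜ w)) =
      (TensorProduct.assoc k M' A A).symm (f m ⊗ₜ w) := fun w => by
    induction w using TensorProduct.induction_on with
    | zero => simp
    | add x y hx hy => simp only [tmul_add, map_add, hx, hy]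
    | tmul x y => simp
  simp only [LinearMap.comp_apply, LinearMap.rTensor_tmul, Hoch.tail_tmul, key]

theorem base (y : Hoch.Ind k A P) (b : A) :
    (h0 k A P).rTensor A ((HopfRep.Comod.coact (k := k) (A := A) y - y ⊗ₜ (1 : A)) ⊗ₜ b -
        Hoch.tail k A (Hoch.Ind k A P) (y ⊗ₜ b)) +
      (HopfRep.Comod.coact (k := k) (A := A) (h0 k A P (y ⊗ₜ b)) - h0 k A P (y ⊗ₜ b) ⊗ₜ (1 : A)) = y ⊗ₜ b := by
  let ι : A →ₗ[k] Hoch.Ind k A P := (h0 k A P) ∘ₗ TensorProduct.mk k (Hoch.Ind k A P) A y
  have key : ∀ w : A ⊗[k] A, (h0 k A P).rTensor A ((TensorProduct.assoc k (Hoch.Ind k A P) A A).symm (y ⊗ₜ w)) =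
      ι.rTensor A w := fun w => by
    induction w using TensorProduct.induction_on with
    | zero => simp only [tmul_zero, map_zero]
    | add a b ha hb => simp only [tmul_add, map_add, ha, hb]
    | tmul a₁ a₂ => rw [assoc_symm_tmul, LinearMap.rTensor_tmul, LinearMap.rTensor_tmul]; rfl
  have hρ : HopfRep.Comod.coact (k := k) (A := A) (h0 k A P (y ⊗ₜ b)) = ι.rTensor A (Coalgebra.comul (R := k) b) := by
    rw [h0_tmul]
    refine (Hoch.Ind.coact_equiv_tmul k A P _ b).trans ?_
    generalize Coalgebra.comul (R := k) b = w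
    induction w using TensorProduct.induction_on with
    | zero =>
      simp only [tmul_zero, map_zero]
      exact (map_zero (ι.rTensor A)).symm
    | add a b ha hb =>
      simp only [tmul_add, map_add]
      exact congrArg₂ (· + ·) ha hb
    | tmul a₁ a₂ => rw [assoc_symm_tmul]; rfl
  rw [map_sub, LinearMap.rTensor_tmul, map_sub, h0_coact, Hoch.tail_tmul, key, map_sub, map_sub,
    LinearMap.rTensor_tmul, LinearMap.rTensor_tmul, hρ, sub_tmul]
  simp only [ι, LinearMap.comp_apply, TensorProduct.mk_apply]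
  abel

theorem identity : ∀ (n : ℕ) (x : Hoch.cochain k A (Hoch.Ind k A P) (n + 1)),
    hh k A P (n + 1) (Hoch.d k A (Hoch.Ind k A P) (n + 1) x) +
      Hoch.d k A (Hoch.Ind k A P) n (hh k A P n x) = x
  | 0, x => by
    induction x using TensorProduct.induction_on with
    | zero => simp only [map_zero, add_zero]
    | add a b ha hb => simp only [map_add]; exact (add_add_add_comm _ _ _ _).trans (congrArg₂ (· + ·) ha hb)
    | tmul y b =>
      refine Eq.trans ?_ (base k A P y b)
      show (h0 k A P).rTensor A (((Hoch.d k A (Hoch.Ind k A P) 0).rTensor A +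
          ((-1 : k) ^ 1) • Hoch.tail k A (Hoch.Ind k A P)) (y ⊗ₜ b)) +
        Hoch.d k A (Hoch.Ind k A P) 0 (h0 k A P (y ⊗ₜ b)) = _
      rw [LinearMap.add_apply, LinearMap.smul_apply, pow_one, neg_smul, one_smul, ← sub_eq_add_neg]
      rfl
  | n + 1, x => by
    have e : (hh k A P (n + 1)).rTensor A ∘ₗ
          ((Hoch.d k A (Hoch.Ind k A P) (n + 1)).rTensor A +
            ((-1 : k) ^ (n + 2)) • Hoch.tail k A (Hoch.cochain k A (Hoch.Ind k A P) (n + 1))) +
        ((Hoch.d k A (Hoch.Ind k A P) n).rTensor A +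
            ((-1 : k) ^ (n + 1)) • Hoch.tail k A (Hoch.cochain k A (Hoch.Ind k A P) n)) ∘ₗ
          (hh k A P n).rTensor A = LinearMap.id := by
      have hI : (hh k A P (n + 1)) ∘ₗ Hoch.d k A (Hoch.Ind k A P) (n + 1) +
          Hoch.d k A (Hoch.Ind k A P) n ∘ₗ hh k A P n = LinearMap.id := LinearMap.ext (identity n)
      have hnat := tail_natural k A (hh k A P n)
      rw [LinearMap.comp_add, LinearMap.add_comp, LinearMap.comp_smul, LinearMap.smul_comp, hnat,
        show (hh k A P (n + 1)).rTensor A = ((hh k A P n).rTensor A).rTensor A from rfl,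
        ← LinearMap.rTensor_comp, ← LinearMap.rTensor_comp, pow_succ (-1 : k) (n + 1), mul_smul,
        neg_one_smul k, smul_neg]
      rw [add_add_add_comm, neg_add_cancel, add_zero, ← LinearMap.rTensor_add]
      exact (congrArg (LinearMap.rTensor A) hI).trans (LinearMap.rTensor_id _ _)
    exact DFunLike.congr_fun e x

theorem cocycles_le (n : ℕ) :
    Hoch.cocycles k A (Hoch.Ind k A P) (n + 1) ≤ Hoch.coboundaries k A (Hoch.Ind k A P) (n + 1) := by
  intro x hx
  refine ⟨hh k A P n x, ?_⟩
  have h := identity k A P n x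
  rwa [show Hoch.d k A (Hoch.Ind k A P) (n + 1) x = 0 from hx, map_zero, zero_add] at h

end Complex

end Groth.L13.IndAcyclic
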