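/-
Generation of Kähler differentials by at most embedding-dimension many elements, descended from
an algebraically closed field.
-/
import Mathlib.RingTheory.Kaehler.TensorProduct
import Mathlib.RingTheory.Etale.Kaehler
import Mathlib.RingTheory.Nakayama
import Mathlib.RingTheory.Jacobson.Ring
import Mathlib.FieldTheory.IsAlgClosed.Basic
import Mathlib.RingTheory.LocalRing.ResidueField.Ideal
import Mathlib.RingTheory.Localization.AtPrime.Basic
import Mathlib.Algebra.Module.SpanRankOperations
import Mathlib.Algebra.Module.LocalizedModule.Basic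
import Mathlib.RingTheory.EssentialFiniteness

open TensorProduct IsLocalRing

namespace Groth.L13.KaehlerGen

universe u

theorem spanFinrank_top_congr {R : Type*} {M N : Type*} [Ring R] [AddCommGroup M] [Module R M]
    [AddCommGroup N] [Module R N] [Module.Finite R M] (e : M ≃ₗ[R] N) :
    (⊤ : Submodule R N).spanFinrank ≤ (⊤ : Submodule R M).spanFinrank := by
  classical
  obtain ⟨s, hs, hspan⟩ := Submodule.FG.exists_span_finset_card_eq_spanFinrank
    (Module.Finite.fg_top (R := R) (M := M))
  have h : Submodule.span R ((s.image e : Finset N) : Set N) = ⊤ := by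
    rw [Finset.coe_image, show ⇑e = ⇑e.toLinearMap from rfl, ← Submodule.map_span, hspan,
      Submodule.map_top, LinearEquiv.range]
  calc (⊤ : Submodule R N).spanFinrank
      = (Submodule.span R ((s.image e : Finset N) : Set N)).spanFinrank := by rw [h]
    _ ≤ ((s.image e : Finset N) : Set N).ncard :=
        Submodule.spanFinrank_span_le_ncard_of_finite (Finset.finite_toSet _)
    _ ≤ (⊤ : Submodule R M).spanFinrank := by
        rw [Set.ncard_coe_finset, ← hs]; exact Finset.card_image_le

/-- Differentials of a local algebra with residue field equal to the base are generated by the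
differentials of generators of the maximal ideal. -/
theorem spanFinrank_kaehler_le (L R : Type u) [Field L] [CommRing R] [IsLocalRing R]
    [IsNoetherianRing R] [Algebra L R] [Algebra.EssFiniteType L R]
    (hres : Function.Surjective (algebraMap L (ResidueField R))) :
    (⊤ : Submodule R Ω[R⁄L]).spanFinrank ≤ (maximalIdeal R).spanFinrank := by
  classical
  obtain ⟨s, hs, hspan⟩ := Submodule.FG.exists_span_finset_card_eq_spanFinrank
    (maximalIdeal R).fg_of_isNoetherianRing
  have key : Submodule.span R ((s.image (KaehlerDifferential.D L R) : Finset _) : Set Ω[R⁄L]) = ⊤ := by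
    refine top_le_iff.mp (Submodule.le_of_le_smul_of_le_jacobson_bot (I := maximalIdeal R)
      Module.Finite.fg_top (maximalIdeal_le_jacobson _) ?_)
    rw [← KaehlerDifferential.span_range_derivation L R, Submodule.span_le]
    rintro _ ⟨a, rfl⟩
    obtain ⟨c, hc⟩ := hres (residue R a)
    have hmem : a - algebraMap L R c ∈ maximalIdeal R := by
      rw [← residue_eq_zero_iff, map_sub, ← hc, IsScalarTower.algebraMap_apply L R (ResidueField R)]
      exact sub_self _
    rw [show KaehlerDifferential.D L R a = KaehlerDifferential.D L R (a - algebraMap L R c) by simp]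
    generalize a - algebraMap L R c = b at hmem
    rw [← hspan] at hmem
    suffices h2 : ∀ b ∈ Submodule.span R (s : Set R), KaehlerDifferential.D L R b ∈
        Submodule.span R ((s.image (KaehlerDifferential.D L R) : Finset _) : Set Ω[R⁄L]) ⊔
          maximalIdeal R • ⊤ by
      rw [SetLike.mem_coe, KaehlerDifferential.span_range_derivation]
      exact h2 b hmem
    intro b hb
    induction hb using Submodule.span_induction with
    | mem x hx =>
      exact Submodule.mem_sup_left (Submodule.subset_span (by simpa using ⟨x, hx, rfl⟩))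
    | zero => simp
    | add x y _ _ hx hy => rw [map_add]; exact add_mem hx hy
    | smul r x hxs hx =>
      rw [smul_eq_mul, Derivation.leibniz]
      refine add_mem (Submodule.smul_mem _ r hx) (Submodule.mem_sup_right ?_)
      exact Submodule.smul_mem_smul (hspan ▸ hxs) trivial
  calc (⊤ : Submodule R Ω[R⁄L]).spanFinrank
      = (Submodule.span R ((s.image (KaehlerDifferential.D L R) : Finset _) : Set Ω[R⁄L])).spanFinrank := by
        rw [key]
    _ ≤ ((s.image (KaehlerDifferential.D L R) : Finset _) : Set Ω[R⁄L]).ncard :=
        Submodule.spanFinrank_span_le_ncard_of_finite (Finset.finite_toSet _)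
    _ ≤ (maximalIdeal R).spanFinrank := by
        rw [Set.ncard_coe_finset, ← hs]; exact Finset.card_image_le

section Descend

set_option linter.style.haveILetI false in
theorem exists_generators_localized {K A B : Type u} (L : Type u) [Field K] [Field L] [IsAlgClosed L]
    [CommRing A] [CommRing B] [Algebra K L] [Algebra K A] [Algebra K B] [Algebra A B] [Algebra L B]
    [IsScalarTower K A B] [IsScalarTower K L B] [Algebra.IsPushout K L A B]
    [Algebra.FiniteType K A] [Algebra.FiniteType L B] (p : Ideal A) [p.IsPrime] (q : Ideal B) [q.IsPrime]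
    (hq : q.comap (algebraMap A B) = p) (M : Ideal B) [M.IsMaximal] (hqM : q ≤ M) :
    ∃ s : Finset (LocalizedModule p.primeCompl Ω[A⁄K]),
      s.card ≤ (maximalIdeal (Localization.AtPrime M)).spanFinrank ∧
      Submodule.span (Localization.AtPrime p)
        (s : Set (LocalizedModule p.primeCompl Ω[A⁄K])) = ⊤ := by
  classical
  haveI : IsNoetherianRing B := Algebra.FiniteType.isNoetherianRing L B
  let R := Localization.AtPrime M
  haveI : IsNoetherianRing R := IsLocalization.isNoetherianRing M.primeCompl R inferInstance
  haveI : Algebra.EssFiniteType B R := Algebra.EssFiniteType.of_isLocalization R M.primeCompl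
  haveI : Algebra.EssFiniteType L R := Algebra.EssFiniteType.comp L B R
  haveI : Algebra.EssFiniteType K A := inferInstance
  haveI : Module.Finite A Ω[A⁄K] := inferInstance
  haveI : Algebra.FormallyEtale B R := Algebra.FormallyEtale.of_isLocalization M.primeCompl
  -- the residue field is `L`
  have hres : Function.Surjective (algebraMap L (ResidueField R)) := by
    haveI : Algebra.FiniteType L (B ⧸ M) := Algebra.FiniteType.trans ‹_› inferInstance
    letI : Field (B ⧸ M) := Ideal.Quotient.field M
    haveI : Module.Finite L (B ⧸ M) := finite_of_finite_type_of_isJacobsonRing L (B ⧸ M)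
    have h1 : Function.Surjective (algebraMap L (B ⧸ M)) :=
      (IsAlgClosed.algebraMap_bijective_of_isIntegral (k := L) (K := B ⧸ M)).2
    have h2 : Function.Surjective (algebraMap (B ⧸ M) M.ResidueField) :=
      (Ideal.bijective_algebraMap_quotient_residueField M).2
    intro z
    obtain ⟨y, rfl⟩ := h2 z
    obtain ⟨x, rfl⟩ := h1 y
    exact ⟨x, by rw [← IsScalarTower.algebraMap_apply]⟩
  -- generation at `M`
  have h1 := spanFinrank_kaehler_le L R hres
  haveI : IsScalarTower A B R := inferInstance
  let e1 : R ⊗[A] Ω[A⁄K] ≃ₗ[R] Ω[R⁄L] :=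
    (AlgebraTensorModule.cancelBaseChange A B R R Ω[A⁄K]).symm ≪≫ₗ
      AlgebraTensorModule.congr (LinearEquiv.refl R R) (KaehlerDifferential.tensorKaehlerEquiv K L A B) ≪≫ₗ
        KaehlerDifferential.tensorKaehlerEquivOfFormallyEtale L B R
  haveI : Module.Finite R Ω[R⁄L] := Module.Finite.equiv e1
  have h2 : (⊤ : Submodule R (R ⊗[A] Ω[A⁄K])).spanFinrank ≤ (maximalIdeal R).spanFinrank :=
    (spanFinrank_top_congr e1.symm).trans h1
  -- pass to the residue field at `q`
  let k := q.ResidueField
  have hu : ∀ b : M.primeCompl, IsUnit (algebraMap B k b) := fun b => by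
    rw [isUnit_iff_ne_zero, Ne, Ideal.algebraMap_residueField_eq_zero]
    exact fun h => b.2 (hqM h)
  letI : Algebra R k := (IsLocalization.lift (M := M.primeCompl) hu).toAlgebra
  haveI : IsScalarTower B R k := IsScalarTower.of_algebraMap_eq fun b =>
    (IsLocalization.lift_eq hu b).symm
  haveI : IsScalarTower A B k := inferInstance
  haveI : IsScalarTower A R k := IsScalarTower.of_algebraMap_eq fun a => by
    rw [IsScalarTower.algebraMap_apply A B R, ← IsScalarTower.algebraMap_apply B R k,
      IsScalarTower.algebraMap_apply A B k]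
  have h3 : Module.finrank k (k ⊗[A] Ω[A⁄K]) ≤ (maximalIdeal R).spanFinrank := by
    rw [Module.finrank_eq_spanFinrank_of_free]
    refine (spanFinrank_top_congr (AlgebraTensorModule.cancelBaseChange A R k k Ω[A⁄K])).trans ?_
    exact (TensorProduct.spanFinrank_top_le_of_fg (A := k) (⊤ : Submodule R (R ⊗[A] Ω[A⁄K]))
      Module.Finite.fg_top |> fun h => le_trans (spanFinrank_top_congr
        (AlgebraTensorModule.congr (LinearEquiv.refl k k) Submodule.topEquiv)) h).trans h2
  -- pass to the residue field at `p`
  letI : Algebra p.ResidueField k :=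
    (Ideal.ResidueField.map p q (algebraMap A B) hq.symm).toAlgebra
  haveI : IsScalarTower A p.ResidueField k := IsScalarTower.of_algebraMap_eq fun a => by
    rw [IsScalarTower.algebraMap_apply A B k]
    exact (Ideal.ResidueField.map_algebraMap p q (algebraMap A B) hq.symm a).symm
  have h4 : Module.finrank p.ResidueField (p.ResidueField ⊗[A] Ω[A⁄K]) ≤
      (maximalIdeal R).spanFinrank := by
    refine le_of_eq_of_le ?_ h3
    rw [← Module.finrank_baseChange (R := k)]
    exact (AlgebraTensorModule.cancelBaseChange A p.ResidueField k k Ω[A⁄K]).finrank_eq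
  -- Nakayama at `p`
  let Ap := Localization.AtPrime p
  let T := LocalizedModule p.primeCompl Ω[A⁄K]
  let e2 : Ap ⊗[A] Ω[A⁄K] ≃ₗ[Ap] T :=
    ((LocalizedModule.equivTensorProduct p.primeCompl Ω[A⁄K])).symm
  haveI : Module.Finite Ap T := Module.Finite.equiv e2
  have h5 : (⊤ : Submodule Ap (Ap ⊗[A] Ω[A⁄K])).spanFinrank ≤ (maximalIdeal R).spanFinrank := by
    rw [← TensorProduct.spanFinrank_top_eq_of_residueField (⊤ : Submodule Ap (Ap ⊗[A] Ω[A⁄K]))
      Module.Finite.fg_top, ← Module.finrank_eq_spanFinrank_of_free]
    refine le_of_eq_of_le ?_ h4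
    exact (AlgebraTensorModule.congr (LinearEquiv.refl (ResidueField Ap) (ResidueField Ap))
        Submodule.topEquiv ≪≫ₗ
      AlgebraTensorModule.cancelBaseChange A Ap (ResidueField Ap) (ResidueField Ap) Ω[A⁄K]).finrank_eq
  obtain ⟨s, hs, hspan⟩ := Submodule.FG.exists_span_finset_card_eq_spanFinrank
    (Module.Finite.fg_top (R := Ap) (M := T))
  exact ⟨s, hs.le.trans ((spanFinrank_top_congr e2).trans h5), hspan⟩

end Descend

end Groth.L13.KaehlerGen
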