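/-
Links of almost complete intersections are Gorenstein.
-/
import Groth.Agent.L13.LiaisonCM
import Groth.Agent.L13.LiaisonDouble
import Groth.Agent.L21.GorensteinQuotient
import Groth.Agent.L21.GorensteinLCI
import Groth.Agent.L21.GorensteinAscend
import Groth.Agent.L12.RegLift
import Groth.Agent.S0342
import Groth.Agent.S0343
import Mathlib.RingTheory.KrullDimension.Regular

universe u

open CategoryTheory IsLocalRing RingTheory.Sequence
open scoped Pointwise

attribute [local instance] HasDerivedCategory.standard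

set_option backward.isDefEq.respectTransparency false

namespace Groth.L13.LiaisonACI

theorem gorenstein_quotient_of_principal_zero {A : Type u} [CommRing A] [LocCoh.IsGorensteinLocalRing A]
    (hd : ringKrullDim A = 0) (f : A) (J : Ideal A) (hJ : ∀ r, r ∈ J ↔ r * f = 0) (hne : J ≠ ⊤) :
    LocCoh.IsGorensteinLocalRing (A ⧸ J) := by
  haveI := Groth.L13.Liaison.injective_self_of_dim_zero hd
  haveI : IsLocalRing (A ⧸ J) := Groth.L01.isLocalRing_quotient hne
  have hbaer : Module.Baer (A ⧸ J) (A ⧸ J) := by
    intro 𝔟 φ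
    let m : (A ⧸ J) →ₗ[A] A := Submodule.liftQ J (LinearMap.toSpanSingleton A A f) fun r hr => by
      simpa using (hJ r).mp hr
    have hm : Function.Injective m := by
      rw [← LinearMap.ker_eq_bot, LinearMap.ker_eq_bot']
      intro a ha
      obtain ⟨r, rfl⟩ := Submodule.Quotient.mk_surjective J a
      rw [Submodule.liftQ_apply, LinearMap.toSpanSingleton_apply, smul_eq_mul] at ha
      exact (Submodule.Quotient.mk_eq_zero _).mpr ((hJ r).mpr ha)
    let ι : (𝔟.restrictScalars A) →ₗ[A] (A ⧸ J) := (𝔟.restrictScalars A).subtype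
    let φ' : (𝔟.restrictScalars A) →ₗ[A] A := m ∘ₗ φ.restrictScalars A
    obtain ⟨ψ, hψ⟩ := Module.Injective.out ι Subtype.val_injective φ'
    -- `ψ 1` is a multiple of `f`
    have h1 : ψ 1 ∈ Ideal.span (Set.range fun _ : Fin 1 => f) := by
      refine Groth.L13.Liaison.mem_span_of_forall_annihilates _ _ fun r hr => ?_
      have h2 : r • (1 : A ⧸ J) = 0 := by
        rw [show r • (1 : A ⧸ J) = Submodule.Quotient.mk (r • (1 : A)) from rfl, smul_eq_mul, mul_one,
          Submodule.Quotient.mk_eq_zero]
        exact (hJ r).mpr (hr 0)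
      rw [← smul_eq_mul, ← map_smul, h2, map_zero]
    rw [Set.range_const, Ideal.mem_span_singleton'] at h1
    obtain ⟨s, hs⟩ := h1
    refine ⟨LinearMap.toSpanSingleton _ _ (Ideal.Quotient.mk J s), fun x hx => hm ?_⟩
    obtain ⟨a, rfl⟩ := Ideal.Quotient.mk_surjective x
    refine Eq.trans ?_ (hψ ⟨Ideal.Quotient.mk J a, hx⟩)
    change m (Ideal.Quotient.mk J a * Ideal.Quotient.mk J s) = ψ (Ideal.Quotient.mk J a)
    rw [← map_mul, show Ideal.Quotient.mk J a = a • (1 : A ⧸ J) by
      rw [Algebra.smul_def, mul_one]; rfl, map_smul]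
    change (a * s) • f = a • ψ 1
    rw [← hs, smul_eq_mul, smul_eq_mul, mul_assoc]
  haveI : Module.Injective (A ⧸ J) (A ⧸ J) := hbaer.injective
  haveI : Injective (ModuleCat.of (A ⧸ J) (A ⧸ J)) := Module.injective_object_of_injective_module _ _
  exact { exists_hasInjectiveDimensionLT := ⟨1, injective_iff_hasInjectiveDimensionLT_one.mp inferInstance⟩ }

/-- In a Gorenstein local ring the annihilator of an element with maximal Cohen–Macaulay quotient
has a Gorenstein quotient. -/
theorem gorenstein_quotient_of_principal : ∀ (d : ℕ) (A : Type u) [CommRing A]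
    [LocCoh.IsGorensteinLocalRing A], ringKrullDim A = d → ∀ (f : A) (J : Ideal A),
    (∀ r, r ∈ J ↔ r * f = 0) → J ≠ ⊤ →
    (d : ℕ∞) ≤ LocCoh.idealDepth (maximalIdeal A) (A ⧸ Ideal.span {f}) →
    LocCoh.IsGorensteinLocalRing (A ⧸ J) := by
  intro d
  induction d with
  | zero => exact fun A _ _ hd f J hJ hne _ => gorenstein_quotient_of_principal_zero hd f J hJ hne
  | succ d ih =>
    intro A _ _ hd f J hJ hne hdep
    classical
    let I := Ideal.span ({f} : Set A)
    have hA := Groth.L13.LiaisonCM.depth_self hd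
    have hP : ((d + 1 : ℕ) : ℕ∞) ≤ LocCoh.idealDepth (maximalIdeal A) (A × (A ⧸ I)) :=
      Groth.L04.le_idealDepth_mid LinearMap.inl_injective LinearMap.snd_surjective
        Function.Exact.inl_snd hA hdep
    obtain ⟨rs, hlen, hrs, hmem⟩ := Groth.L04.exists_of_le_idealDepth
      (fun h => Submodule.top_ne_ideal_smul_of_le_jacobson_annihilator
        (maximalIdeal_le_jacobson (Module.annihilator A (A × (A ⧸ I)))) h.symm) hP
    rcases rs with _ | ⟨x, rs⟩
    · simp at hlen
    rw [isWeaklyRegular_cons_iff] at hrs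
    have hxA : IsSMulRegular A x := fun a b h => by
      have := hrs.1 (show x • ((a, 0) : A × (A ⧸ I)) = x • (b, 0) by
        simpa [Prod.ext_iff] using h)
      exact congrArg Prod.fst this
    have hxI : IsSMulRegular (A ⧸ I) x := fun a b h => by
      have := hrs.1 (show x • ((0, a) : A × (A ⧸ I)) = x • ((0, b) : A × (A ⧸ I)) by
        simpa [Prod.ext_iff] using h)
      exact congrArg Prod.snd this
    have hxm : x ∈ maximalIdeal A := hmem x (List.mem_cons_self ..)
    let π := Ideal.Quotient.mk (Ideal.span ({x} : Set A))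
    haveI := (Groth.Agent.S0343.result A x hxm hxA).mp inferInstance
    have hd' : ringKrullDim (A ⧸ Ideal.span {x}) = d := by
      have h := ringKrullDim_quotient_span_singleton_succ_eq_ringKrullDim_of_mem_jacobson hxA
        (by rwa [IsLocalRing.ringJacobson_eq_maximalIdeal])
      rw [hd] at h
      obtain ⟨e, he⟩ := Groth.L01.exists_dim_eq_nat (R := A ⧸ Ideal.span {x})
      rw [he] at h ⊢
      have h' : e + 1 = d + 1 := by exact_mod_cast h
      exact_mod_cast (by omega : e = d)
    have hJle : J ≤ maximalIdeal A := IsLocalRing.le_maximalIdeal hne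
    have hne' : J.map π ≠ ⊤ := fun h => by
      have h1 := congrArg (Ideal.comap π) h
      rw [Ideal.comap_top, Ideal.comap_map_of_surjective π Ideal.Quotient.mk_surjective,
        ← RingHom.ker_eq_comap_bot, Ideal.mk_ker] at h1
      exact (maximalIdeal.isMaximal A).ne_top (top_le_iff.mp (h1.ge.trans
        (sup_le hJle ((Ideal.span_singleton_le_iff_mem _).mpr hxm))))
    have hJ' : ∀ r, r ∈ J.map π ↔ r * π f = 0 := by
      intro r
      obtain ⟨r, rfl⟩ := Ideal.Quotient.mk_surjective r
      rw [← map_mul, Ideal.Quotient.eq_zero_iff_mem, ← Ideal.mem_comap,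
        Ideal.comap_map_of_surjective π Ideal.Quotient.mk_surjective, ← RingHom.ker_eq_comap_bot,
        Ideal.mk_ker]
      constructor
      · intro h
        obtain ⟨j, hj, y, hy, rfl⟩ := Submodule.mem_sup.mp h
        rw [add_mul, (hJ j).mp hj, zero_add]
        exact Ideal.mul_mem_right f _ hy
      · intro h
        obtain ⟨s, hs⟩ := Ideal.mem_span_singleton'.mp h
        have h2 : x • (Ideal.Quotient.mk I s) = x • (0 : A ⧸ I) := by
          rw [smul_zero, show x • Ideal.Quotient.mk I s = Ideal.Quotient.mk I (x * s) from rfl,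
            mul_comm, hs, Ideal.Quotient.eq_zero_iff_mem]
          exact Ideal.mul_mem_left _ r (Ideal.mem_span_singleton_self f)
        obtain ⟨t, ht⟩ := Ideal.mem_span_singleton'.mp (Ideal.Quotient.eq_zero_iff_mem.mp (hxI h2))
        have h3 : r - t * x ∈ J := (hJ _).mpr (by linear_combination -hs - x * ht)
        exact Submodule.mem_sup.mpr ⟨_, h3, t * x, Ideal.mem_span_singleton'.mpr ⟨t, rfl⟩, by ring⟩
    have hdep' : (d : ℕ∞) ≤ LocCoh.idealDepth (maximalIdeal (A ⧸ Ideal.span {x}))
        ((A ⧸ Ideal.span {x}) ⧸ Ideal.span {π f}) := by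
      have h1 : (d : ℕ∞) ≤ LocCoh.idealDepth (maximalIdeal A) (QuotSMulTop x (A ⧸ I)) :=
        (Groth.L04.le_idealDepth_quotSMulTop_iff hxm hxI d).mpr hdep
      rw [show maximalIdeal (A ⧸ Ideal.span {x}) = (maximalIdeal A).map (algebraMap A (A ⧸ Ideal.span {x}))
          from Groth.L01.maximalIdeal_quotient_eq_map,
        ← Groth.L04.idealDepth_eq_idealDepth_map_of_finite (B := A ⧸ Ideal.span {x}) (maximalIdeal A)
          ((A ⧸ Ideal.span {x}) ⧸ Ideal.span {π f})]
      let g : (A ⧸ I) →ₗ[A] ((A ⧸ Ideal.span {x}) ⧸ Ideal.span {π f}) :=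
        Submodule.liftQ I ((Ideal.Quotient.mkₐ A (Ideal.span {π f})).toLinearMap ∘ₗ
          (Ideal.Quotient.mkₐ A (Ideal.span {x})).toLinearMap) (by
            refine (Submodule.span_singleton_le_iff_mem _ _).mpr ?_
            rw [LinearMap.mem_ker]
            exact Ideal.Quotient.eq_zero_iff_mem.mpr (Ideal.mem_span_singleton_self _))
      have hg : Function.Surjective g := fun y => by
        obtain ⟨y, rfl⟩ := Ideal.Quotient.mk_surjective y
        obtain ⟨y, rfl⟩ := Ideal.Quotient.mk_surjective y
        exact ⟨Submodule.Quotient.mk y, rfl⟩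
      have hk : LinearMap.ker g = x • (⊤ : Submodule A (A ⧸ I)) := by
        ext a
        obtain ⟨a, rfl⟩ := Submodule.Quotient.mk_surjective I a
        rw [LinearMap.mem_ker]
        change Ideal.Quotient.mk _ (π a) = 0 ↔ _
        rw [Ideal.Quotient.eq_zero_iff_mem, Ideal.mem_span_singleton']
        constructor
        · rintro ⟨b, hb⟩
          obtain ⟨b, rfl⟩ := Ideal.Quotient.mk_surjective b
          rw [← map_mul, Ideal.Quotient.eq] at hb
          obtain ⟨c, hc⟩ := Ideal.mem_span_singleton'.mp hb
          have h2 : (Submodule.Quotient.mk a : A ⧸ I) = x • Submodule.Quotient.mk (-c) := by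
            rw [← Submodule.Quotient.mk_smul, Submodule.Quotient.eq, smul_eq_mul,
              show a - x * -c = b * f by linear_combination hc]
            exact Ideal.mul_mem_left _ b (Ideal.mem_span_singleton_self f)
          rw [h2]
          exact Submodule.smul_mem_pointwise_smul _ x ⊤ trivial
        · rintro ⟨c, -, hc⟩
          obtain ⟨c, rfl⟩ := Submodule.Quotient.mk_surjective I c
          replace hc : (Submodule.Quotient.mk (x * c) : A ⧸ I) = Submodule.Quotient.mk a := hc
          rw [Submodule.Quotient.eq] at hc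
          obtain ⟨b, hb⟩ := Ideal.mem_span_singleton'.mp hc
          refine ⟨π (-b), ?_⟩
          rw [← map_mul, Ideal.Quotient.eq]
          exact Ideal.mem_span_singleton'.mpr ⟨-c, by linear_combination hb⟩
      rw [← Groth.L04.idealDepth_congr
        ((Submodule.quotEquivOfEq _ _ hk.symm).trans (g.quotKerEquivOfSurjective hg))]
      exact h1
    haveI hq := ih (A ⧸ Ideal.span {x}) hd' (π f) (J.map π) hJ' hne' hdep'
    haveI : IsLocalRing (A ⧸ J) := Groth.L01.isLocalRing_quotient hne
    have hxB : IsSMulRegular (A ⧸ J) (Ideal.Quotient.mk J x) := by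
      intro a b hab
      obtain ⟨a, rfl⟩ := Ideal.Quotient.mk_surjective a
      obtain ⟨b, rfl⟩ := Ideal.Quotient.mk_surjective b
      simp only [smul_eq_mul, ← map_mul, Ideal.Quotient.eq, hJ] at hab ⊢
      exact hxA (show x • ((a - b) * f) = x • (0 : A) by
        simp only [smul_eq_mul, mul_zero]; linear_combination hab)
    refine (Groth.Agent.S0343.result (A ⧸ J) (Ideal.Quotient.mk J x) ?_ hxB).mpr ?_
    · rw [show maximalIdeal (A ⧸ J) = (maximalIdeal A).map (algebraMap A (A ⧸ J)) from
        Groth.L01.maximalIdeal_quotient_eq_map]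
      exact Ideal.mem_map_of_mem _ hxm
    · refine Groth.L21.GorensteinAscend.isGorensteinLocalRing_of_ringEquiv ?_ hq
      refine ((DoubleQuot.quotQuotEquivComm (Ideal.span {x}) J).trans (Ideal.quotEquivOfEq ?_))
      rw [Ideal.map_span, Set.image_singleton]

/-- A complete intersection in a regular ring is Gorenstein. -/
theorem isGorensteinRing_quotient_ci {R : Type u} [CommRing R] [IsRegularRing R] [IsNoetherianRing R]
    {k : ℕ} (g : Fin k → R) (c : Ideal R) (hc : Ideal.span (Set.range g) = c) (hh : c.height = k) :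
    LocCoh.IsGorensteinRing (R ⧸ c) := by
  classical
  refine { isGorensteinLocalRing_localization := fun P' _ => ?_ }
  obtain ⟨e⟩ := Groth.L13.LiaisonCM.nonempty_ringEquiv_localization_quotient c P'
  refine Groth.L21.GorensteinAscend.isGorensteinLocalRing_of_ringEquiv e ?_
  set P := P'.comap (Ideal.Quotient.mk c)
  haveI : IsRegularLocalRing (Localization.AtPrime P) := IsRegularRing.isRegularLocalRing_localization P
  let A := Localization.AtPrime P
  haveI := Groth.Agent.S0342.result A
  haveI := Groth.L04.isCohenMacaulayLocalRing_of_regular A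
  let xs := (List.ofFn g).map (algebraMap R A)
  have hxs : Ideal.ofList xs = c.map (algebraMap R A) := by
    rw [← Ideal.map_ofList]
    exact congrArg _ ((congrArg Ideal.span
      (by ext; simp [List.mem_ofFn, Set.range] : {r | r ∈ List.ofFn g} = Set.range g)).trans hc)
  have hcP : c ≤ P := fun x hx => by
    rw [Ideal.mem_comap, Ideal.Quotient.eq_zero_iff_mem.mpr hx]
    exact P'.zero_mem
  have hcA : c.map (algebraMap R A) ≤ maximalIdeal A :=
    (Ideal.map_mono hcP).trans Localization.AtPrime.map_eq_maximalIdeal.le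
  have hne : c.map (algebraMap R A) ≠ ⊤ := ne_top_of_le_ne_top (maximalIdeal.isMaximal A).ne_top hcA
  have hm : ∀ x ∈ xs, x ∈ maximalIdeal A := fun x hx => hcA (hxs ▸ Ideal.subset_span hx)
  have hlen : xs.length = k := by simp [xs]
  have hht : (c.map (algebraMap R A)).height = (k : ℕ∞) := by
    refine le_antisymm ?_ ?_
    · refine (Ideal.height_le_spanFinrank _ hne).trans ?_
      rw [← hxs]
      refine Nat.cast_le.mpr ((Submodule.spanFinrank_span_le_ncard_of_finite xs.finite_toSet).trans ?_)
      rw [← hlen]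
      exact (Set.ncard_le_ncard (t := (xs.toFinset : Set A)) (fun a ha => by simpa using ha)).trans
        (by rw [Set.ncard_coe_finset]; exact List.toFinset_card_le xs)
    · rw [← hh, Ideal.height_eq_inf_minimalPrimes (I := c.map (algebraMap R A))]
      refine le_iInf₂ fun q hq => ?_
      haveI := hq.1.1
      rw [← IsLocalization.height_under P.primeCompl q]
      exact Ideal.height_mono (Ideal.map_le_iff_le_comap.mp hq.1.2)
  have hreg : IsWeaklyRegular A xs := by
    refine Groth.L12.RegLift.isWeaklyRegular_of_dim xs hm ?_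
    have h := Groth.L04.supportDim_eq_add_idealDepth hne
      (show LocCoh.IsCohenMacaulayModule A A from LocCoh.IsCohenMacaulayLocalRing.supportDim_eq_depth)
    rw [Module.supportDim_self_eq_ringKrullDim, smul_eq_mul, Ideal.mul_top,
      Module.supportDim_quotient_eq_ringKrullDim,
      (Groth.L04.isCohenMacaulayRing_iff_height (R := A)).mp (Groth.L04.isCohenMacaulayRing_of_local A) _ hne,
      hht] at h
    rw [hxs, hlen, h]
    norm_cast
  rw [← hxs]
  exact Groth.L21.GorensteinLCI.gorenstein_quot_list A xs hm hreg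

/-- The link of an almost complete intersection in a Gorenstein ring. -/
theorem isGorensteinRing_linked {Q : Type u} [CommRing Q] [LocCoh.IsGorensteinRing Q] (f : Q)
    {b : Ideal Q} (hb : ∀ r, r ∈ b ↔ r * f = 0)
    (hass : ∀ p ∈ associatedPrimes Q (Q ⧸ Ideal.span {f}), p ∈ minimalPrimes Q)
    [LocCoh.IsCohenMacaulayRing (Q ⧸ Ideal.span {f})] : LocCoh.IsGorensteinRing (Q ⧸ b) := by
  classical
  refine { isGorensteinLocalRing_localization := fun P' _ => ?_ }
  obtain ⟨e⟩ := Groth.L13.LiaisonCM.nonempty_ringEquiv_localization_quotient b P'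
  refine Groth.L21.GorensteinAscend.isGorensteinLocalRing_of_ringEquiv e ?_
  set P := P'.comap (Ideal.Quotient.mk b)
  let A := Localization.AtPrime P
  haveI := LocCoh.IsGorensteinRing.isGorensteinLocalRing_localization (A := Q) P
  haveI := Groth.L13.Liaison.isCohenMacaulayRing_of_gorenstein Q
  obtain ⟨d, hd⟩ := Groth.L01.exists_dim_eq_nat (R := A)
  have hbP : b ≤ P := fun x hx => by
    rw [Ideal.mem_comap, Ideal.Quotient.eq_zero_iff_mem.mpr hx]
    exact P'.zero_mem
  have hbA : b.map (algebraMap Q A) ≠ ⊤ := ne_top_of_le_ne_top (maximalIdeal.isMaximal A).ne_top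
    ((Ideal.map_mono hbP).trans Localization.AtPrime.map_eq_maximalIdeal.le)
  have hbA' : ∀ r, r ∈ b.map (algebraMap Q A) ↔ r * algebraMap Q A f = 0 := by
    intro r
    obtain ⟨y, s, rfl⟩ := IsLocalization.exists_mk'_eq P.primeCompl r
    rw [IsLocalization.mk'_mem_map_algebraMap_iff P.primeCompl, mul_comm,
      IsLocalization.mul_mk'_eq_mk'_of_mul, IsLocalization.mk'_eq_zero_iff]
    constructor
    · rintro ⟨t, ht, hty⟩
      exact ⟨⟨t, ht⟩, by
        have := (hb _).mp hty
        linear_combination this⟩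
    · rintro ⟨⟨t, ht⟩, hty⟩
      exact ⟨t, ht, (hb _).mpr (by linear_combination hty)⟩
  refine gorenstein_quotient_of_principal d A hd (algebraMap Q A f) _ hbA' hbA ?_
  rw [← Set.image_singleton, ← Ideal.map_span]
  exact Groth.L13.LiaisonCM.le_depth_localized_quotient hass hd

end Groth.L13.LiaisonACI

namespace Groth.L13.LiaisonACI

open Groth.L13.Liaison Groth.L13.LiaisonCM in
/-- Links of almost complete intersections in an ambient Noetherian ring. -/
theorem isGorensteinRing_of_linked {R : Type u} [CommRing R] [IsNoetherianRing R] {c I J : Ideal R}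
    {f : R} [LocCoh.IsGorensteinRing (R ⧸ c)] (hI : I = c ⊔ Ideal.span {f})
    (hIJ : c.colon (I : Set R) = J) [LocCoh.IsCohenMacaulayRing (R ⧸ I)]
    (hass : ∀ p ∈ associatedPrimes R (R ⧸ I), p ∈ c.minimalPrimes) :
    LocCoh.IsGorensteinRing (R ⧸ J) := by
  have hcI : c ≤ I := hI ▸ le_sup_left
  have hcJ : c ≤ J := hIJ ▸ fun a ha => Submodule.mem_colon.mpr fun s _ => c.mul_mem_right s ha
  let π := Ideal.Quotient.mk c
  have hcomap : ∀ K : Ideal R, c ≤ K → (K.map π).comap π = K := fun K hK => by
    rw [Ideal.comap_map_of_surjective π Ideal.Quotient.mk_surjective, ← RingHom.ker_eq_comap_bot,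
      Ideal.mk_ker, sup_eq_left.2 hK]
  have hImap : I.map π = Ideal.span {π f} := by
    rw [hI, Ideal.map_sup, Ideal.map_quotient_self, bot_sup_eq, Ideal.map_span, Set.image_singleton]
  let eI : (R ⧸ c) ⧸ Ideal.span {π f} ≃+* R ⧸ I :=
    (Ideal.quotEquivOfEq hImap.symm).trans (DoubleQuot.quotQuotEquivQuotOfLE hcI)
  let eJ : (R ⧸ c) ⧸ J.map π ≃+* R ⧸ J := DoubleQuot.quotQuotEquivQuotOfLE hcJ
  haveI : LocCoh.IsCohenMacaulayRing ((R ⧸ c) ⧸ Ideal.span {π f}) := by
    refine { isCohenMacaulayLocalRing_localization := fun p hp => ?_ }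
    haveI : (p.comap (eI.symm : R ⧸ I →+* _)).IsPrime := Ideal.IsPrime.comap _
    exact cm_of_ringEquiv
      (IsLocalization.ringEquivOfRingEquiv (M := (p.comap (eI.symm : R ⧸ I →+* _)).primeCompl)
        (T := p.primeCompl) (Localization.AtPrime (p.comap (eI.symm : R ⧸ I →+* _)))
        (Localization.AtPrime p) eI.symm (by
          ext y
          constructor
          · rintro ⟨x, hx, rfl⟩; exact hx
          · intro hy
            exact ⟨eI y, fun h => hy (by simpa using h), eI.symm_apply_apply y⟩))
      (LocCoh.IsCohenMacaulayRing.isCohenMacaulayLocalRing_localization _)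
  haveI hG := isGorensteinRing_linked (Q := R ⧸ c) (π f) (b := J.map π) (fun r => by
      obtain ⟨r, rfl⟩ := Ideal.Quotient.mk_surjective r
      rw [← Ideal.mem_comap, hcomap J hcJ, ← hIJ, Submodule.mem_colon, ← map_mul,
        Ideal.Quotient.eq_zero_iff_mem]
      constructor
      · exact fun h => h f (hI ▸ Ideal.mem_sup_right (Ideal.mem_span_singleton_self f))
      · intro h x hx
        rw [hI] at hx
        obtain ⟨a, ha, y, hy, rfl⟩ := Submodule.mem_sup.mp hx
        obtain ⟨t, rfl⟩ := Ideal.mem_span_singleton'.mp hy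
        rw [smul_eq_mul, show r * (a + t * f) = r * a + t * (r * f) by ring]
        exact c.add_mem (c.mul_mem_left r ha) (c.mul_mem_left t h))
    (fun p hp => by
      obtain ⟨hpp, x, hx⟩ := isAssociatedPrime_iff.mp hp
      obtain ⟨x, rfl⟩ := Ideal.Quotient.mk_surjective x
      obtain ⟨x, rfl⟩ := Ideal.Quotient.mk_surjective x
      have hp' : p.comap π ∈ associatedPrimes R (R ⧸ I) := by
        refine isAssociatedPrime_iff.mpr ⟨Ideal.IsPrime.comap π, Ideal.Quotient.mk I x, ?_⟩
        ext r
        have e1 : π r • Ideal.Quotient.mk (Ideal.span {π f}) (π x) =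
            Ideal.Quotient.mk (Ideal.span {π f}) (π (r * x)) := by rw [map_mul π]; rfl
        have e2 : r • Ideal.Quotient.mk I x = Ideal.Quotient.mk I (r * x) := rfl
        rw [Ideal.mem_comap, hx, Submodule.mem_colon_singleton, Submodule.mem_colon_singleton,
          Submodule.mem_bot, Submodule.mem_bot, e1, e2, Ideal.Quotient.eq_zero_iff_mem,
          Ideal.Quotient.eq_zero_iff_mem, ← hImap, ← Ideal.mem_comap, hcomap I hcI]
      have h := hass _ hp'
      rw [Ideal.minimalPrimes_eq_comap] at h
      obtain ⟨P, hP, hPp⟩ := h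
      rwa [← Ideal.comap_injective_of_surjective π Ideal.Quotient.mk_surjective hPp])
  have h : Groth.L21.GorensteinFieldExt.LocGor (R ⧸ J) :=
    Groth.L21.GorensteinFieldExt.locGor_of_ringEquiv eJ fun p _ => hG.isGorensteinLocalRing_localization p
  exact { isGorensteinLocalRing_localization := h }

end Groth.L13.LiaisonACI
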