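/-
Associated primes of basic double links.
-/
import Groth.Agent.L13.LiaisonEquidim
import Mathlib.RingTheory.Ideal.AssociatedPrime.Basic
import Mathlib.RingTheory.Regular.RegularSequence

universe u

namespace Groth.L13.Liaison

theorem height_le_one_of_mem_associatedPrimes_quotient_span {Q : Type u} [CommRing Q]
    [LocCoh.IsCohenMacaulayRing Q] {f : Q} (hf : IsSMulRegular Q f) {P : Ideal Q}
    (hP : P ∈ associatedPrimes Q (Q ⧸ Ideal.span {f})) : P.height ≤ 1 := by
  classical
  obtain ⟨hPp, x, hx⟩ := isAssociatedPrime_iff.mp hP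
  obtain ⟨x, rfl⟩ := Ideal.Quotient.mk_surjective x
  have hmem : ∀ p, p ∈ P ↔ ∃ z, f * z = p * x := fun p => by
    rw [hx, Submodule.mem_colon_singleton, Submodule.mem_bot, Algebra.smul_def,
      Ideal.Quotient.algebraMap_eq, ← map_mul, Ideal.Quotient.eq_zero_iff_mem,
      Ideal.mem_span_singleton]
    exact ⟨fun ⟨z, hz⟩ => ⟨z, hz.symm⟩, fun ⟨z, hz⟩ => ⟨z, hz.symm⟩⟩
  rw [← Groth.L04.isCohenMacaulayRing_iff_height.mp inferInstance P hPp.ne_top]
  by_contra hlt
  unfold LocCoh.idealDepth at hlt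
  rw [if_neg (by rw [smul_eq_mul, Ideal.mul_top]; exact hPp.ne_top)] at hlt
  apply hlt
  refine iSup₂_le fun rs hrs => ?_
  obtain ⟨hreg, hrsP⟩ := hrs
  rcases rs with _ | ⟨a, _ | ⟨b, rs⟩⟩
  · simp
  · simp
  exfalso
  rw [RingTheory.Sequence.isWeaklyRegular_cons_iff] at hreg
  obtain ⟨ha, hreg⟩ := hreg
  rw [RingTheory.Sequence.isWeaklyRegular_cons_iff] at hreg
  have hb := hreg.1
  simp only [List.mem_cons, forall_eq_or_imp] at hrsP
  obtain ⟨haP, hbP, -⟩ := hrsP
  obtain ⟨y, hy⟩ := (hmem a).mp haP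
  obtain ⟨z, hz⟩ := (hmem b).mp hbP
  have h1 : a * z = b * y := hf (show f • (a * z) = f • (b * y) by
    simp only [smul_eq_mul]
    linear_combination a * hz - b * hy)
  have h2 : (Submodule.Quotient.mk y : QuotSMulTop a Q) = 0 := by
    refine hb.right_eq_zero_of_smul ?_
    rw [← Submodule.Quotient.mk_smul, Submodule.Quotient.mk_eq_zero, smul_eq_mul, ← h1]
    exact Submodule.smul_mem_pointwise_smul z a ⊤ trivial
  rw [Submodule.Quotient.mk_eq_zero] at h2
  obtain ⟨w, -, hw⟩ := h2
  have h3 : f * w = x := ha (show a • (f * w) = a • x by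
    simp only [smul_eq_mul]
    have hw' : a * w = y := hw
    rw [← hw'] at hy
    linear_combination hy)
  have h4 : (1 : Q) ∈ P := (hmem 1).mpr ⟨w, by rw [h3, one_mul]⟩
  exact hPp.ne_top ((Ideal.eq_top_iff_one P).mpr h4)

/-- Associated primes of a hypersurface section. -/
theorem height_of_mem_associatedPrimes_sup_span {K : Type u} [Field K] {n : ℕ}
    {J : Ideal (MvPolynomial (Fin n) K)} (hJ : J.IsHomogeneous (GrSyz.stdGr K (Fin n)))
    [LocCoh.IsCohenMacaulayRing (MvPolynomial (Fin n) K ⧸ J)] {f : MvPolynomial (Fin n) K}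
    (hJf : J.colon {f} = J) {p : Ideal (MvPolynomial (Fin n) K)}
    (hp : p ∈ associatedPrimes (MvPolynomial (Fin n) K)
      (MvPolynomial (Fin n) K ⧸ (J ⊔ Ideal.span {f}))) :
    p.height = J.height + 1 := by
  let R := MvPolynomial (Fin n) K
  obtain ⟨hpp, x, hx⟩ := isAssociatedPrime_iff.mp hp
  obtain ⟨x, rfl⟩ := Ideal.Quotient.mk_surjective x
  have hJfp : J ⊔ Ideal.span {f} ≤ p := fun a ha => by
    rw [hx, Submodule.mem_colon_singleton, Submodule.mem_bot, Algebra.smul_def,
      Ideal.Quotient.algebraMap_eq, ← map_mul, Ideal.Quotient.eq_zero_iff_mem]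
    exact Ideal.mul_mem_right _ _ ha
  have hJp : J ≤ p := le_sup_left.trans hJfp
  set π := Ideal.Quotient.mk J
  set P := p.map π
  haveI : P.IsPrime :=
    Ideal.map_isPrime_of_surjective Ideal.Quotient.mk_surjective (by rwa [Ideal.mk_ker])
  have hfreg : IsSMulRegular (R ⧸ J) (π f) := by
    refine fun a b hab => sub_eq_zero.mp ?_
    obtain ⟨d, hd⟩ := Ideal.Quotient.mk_surjective (a - b)
    rw [← hd]
    have h0 : π f * (a - b) = 0 := by rw [mul_sub]; exact sub_eq_zero.mpr hab
    rw [← hd, ← map_mul, Ideal.Quotient.eq_zero_iff_mem] at h0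
    refine Ideal.Quotient.eq_zero_iff_mem.mpr (hJf ▸ ?_)
    rw [Submodule.mem_colon_singleton, smul_eq_mul, mul_comm]
    exact h0
  have hcm : P.comap π = p := by
    rw [Ideal.comap_map_of_surjective π Ideal.Quotient.mk_surjective, sup_eq_left]
    rwa [← RingHom.ker_eq_comap_bot, Ideal.mk_ker]
  have hP : P ∈ associatedPrimes (R ⧸ J) ((R ⧸ J) ⧸ Ideal.span {π f}) := by
    refine isAssociatedPrime_iff.mpr ⟨inferInstance, Ideal.Quotient.mk _ (π x), ?_⟩
    ext b
    obtain ⟨a, rfl⟩ := Ideal.Quotient.mk_surjective b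
    have e1 : π a • Ideal.Quotient.mk (Ideal.span {π f}) (π x) =
        Ideal.Quotient.mk (Ideal.span {π f}) (π (a * x)) := by rw [map_mul π]; rfl
    have e2 : a • Ideal.Quotient.mk (J ⊔ Ideal.span {f}) x =
        Ideal.Quotient.mk (J ⊔ Ideal.span {f}) (a * x) := rfl
    rw [← Ideal.mem_comap, hcm, hx, Submodule.mem_colon_singleton, Submodule.mem_colon_singleton,
      Submodule.mem_bot, Submodule.mem_bot, e1, e2, Ideal.Quotient.eq_zero_iff_mem,
      Ideal.Quotient.eq_zero_iff_mem, ← Ideal.mem_comap (f := π), ← Set.image_singleton,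
      ← Ideal.map_span, Ideal.comap_map_of_surjective π Ideal.Quotient.mk_surjective,
      ← RingHom.ker_eq_comap_bot, Ideal.mk_ker, sup_comm]
  have h1 := height_le_one_of_mem_associatedPrimes_quotient_span hfreg hP
  have h2 : P.height = 1 := by
    refine le_antisymm h1 (Order.one_le_iff_pos.mpr (pos_iff_ne_zero.mpr fun h0 => ?_))
    have hnzd := Module.associatedPrimes.minimalPrimes_annihilator_subset_associatedPrimes (R ⧸ J) (R ⧸ J)
      (show P ∈ (Module.annihilator (R ⧸ J) (R ⧸ J)).minimalPrimes by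
        rw [Module.annihilator_eq_bot.mpr inferInstance]; exact Ideal.height_eq_zero_iff.mp h0)
    obtain ⟨hPp, y, hy⟩ := isAssociatedPrime_iff.mp hnzd
    have hfP : π f ∈ P := Ideal.mem_map_of_mem π (hJfp (Ideal.mem_sup_right (Ideal.mem_span_singleton_self f)))
    rw [hy, Submodule.mem_colon_singleton, Submodule.mem_bot] at hfP
    have hy0 : y = 0 := hfreg.right_eq_zero_of_smul hfP
    exact hPp.ne_top (by rw [hy, hy0]; ext; simp)
  obtain ⟨q, hq, hqp⟩ := Ideal.exists_minimalPrimes_le hJp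
  haveI := hq.1.1
  haveI := hpp
  haveI : (q.map π).IsPrime :=
    Ideal.map_isPrime_of_surjective Ideal.Quotient.mk_surjective (by rw [Ideal.mk_ker]; exact hq.1.2)
  have hQ : q.map π ∈ minimalPrimes (R ⧸ J) := by
    have h1 := hq
    rw [Ideal.minimalPrimes_eq_comap] at h1
    obtain ⟨Q, hQ, hQq⟩ := h1
    rw [← hQq, Ideal.map_comap_of_surjective π Ideal.Quotient.mk_surjective]
    exact hQ
  rw [← height_eq_of_mem_minimalPrimes hJ hq, ← h2, ← height_map_eq_of_minimal hQ (Ideal.map_mono hqp),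
    height_map_map hq.1.2 p, Groth.L04.height_add_height_quotient q p hqp]

/-- Basic double links preserve unmixedness. -/
theorem associatedPrimes_basicDoubleLink {R : Type u} [CommRing R] {J I : Ideal R} {f : R}
    (hJI : J ≤ I) (hJf : J.colon {f} = J) :
    associatedPrimes R (R ⧸ I) ⊆ associatedPrimes R (R ⧸ (J ⊔ Ideal.span {f} * I)) ∧
    associatedPrimes R (R ⧸ (J ⊔ Ideal.span {f} * I)) ⊆
      associatedPrimes R (R ⧸ I) ∪ associatedPrimes R (R ⧸ (J ⊔ Ideal.span {f})) := by
  let L := J ⊔ Ideal.span {f} * I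
  let M := J ⊔ Ideal.span {f}
  let φ : (R ⧸ I) →ₗ[R] (R ⧸ L) := Submodule.mapQ I L (LinearMap.mulLeft R f) fun i hi =>
    Ideal.mem_sup_right (Ideal.mul_mem_mul (Ideal.mem_span_singleton_self f) hi)
  have hLM : L ≤ M := sup_le_sup_left Ideal.mul_le_left _
  let ψ : (R ⧸ L) →ₗ[R] (R ⧸ M) := Submodule.mapQ L M LinearMap.id hLM
  have hφ : Function.Injective φ := by
    rw [← LinearMap.ker_eq_bot, LinearMap.ker_eq_bot']
    intro a ha
    obtain ⟨r, rfl⟩ := Submodule.Quotient.mk_surjective I a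
    rw [Submodule.mapQ_apply, Submodule.Quotient.mk_eq_zero] at ha
    obtain ⟨j, hj, y, hy, hjy⟩ := Submodule.mem_sup.mp ha
    obtain ⟨i, hi, rfl⟩ := Ideal.mem_span_singleton_mul.mp hy
    have h1 : (r - i) ∈ J.colon {f} := by
      rw [Submodule.mem_colon_singleton, smul_eq_mul]
      rw [LinearMap.mulLeft_apply] at hjy
      rw [show (r - i) * f = j by linear_combination -hjy]
      exact hj
    rw [hJf] at h1
    exact (Submodule.Quotient.mk_eq_zero _).mpr (by simpa using I.add_mem (hJI h1) hi)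
  have hex : Function.Exact φ ψ := by
    intro b
    obtain ⟨r, rfl⟩ := Submodule.Quotient.mk_surjective L b
    rw [Submodule.mapQ_apply, Submodule.Quotient.mk_eq_zero, LinearMap.id_apply]
    constructor
    · intro h
      obtain ⟨j, hj, y, hy, hjy⟩ := Submodule.mem_sup.mp h
      obtain ⟨t, rfl⟩ := Ideal.mem_span_singleton'.mp hy
      refine ⟨Submodule.Quotient.mk t, ?_⟩
      rw [Submodule.mapQ_apply, Submodule.Quotient.eq, LinearMap.mulLeft_apply, ← hjy,
        show f * t - (j + t * f) = -j by ring]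
      exact Ideal.mem_sup_left (J.neg_mem hj)
    · rintro ⟨a, ha⟩
      obtain ⟨t, rfl⟩ := Submodule.Quotient.mk_surjective I a
      rw [Submodule.mapQ_apply, Submodule.Quotient.eq, LinearMap.mulLeft_apply] at ha
      have := M.sub_mem (Ideal.mem_sup_right (Ideal.mul_mem_right t _ (Ideal.mem_span_singleton_self f))) (hLM ha)
      rwa [sub_sub_cancel] at this
  exact ⟨associatedPrimes.subset_of_injective hφ, associatedPrimes.subset_union_of_exact hφ hex⟩

end Groth.L13.Liaison
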