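/-
The intersection of geometrically linked Cohen–Macaulay quotients is Gorenstein.
-/
import Groth.Agent.L13.LiaisonAlmostCI
import Mathlib.RingTheory.Localization.Ideal

universe u

open CategoryTheory IsLocalRing RingTheory.Sequence
open scoped Pointwise

set_option backward.isDefEq.respectTransparency false

namespace Groth.L13.LiaisonGeom

section Local

variable {A : Type u} [CommRing A] [IsNoetherianRing A] [IsLocalRing A]

theorem le_ringKrullDim_quotient_of_killed {M : Type u} [AddCommGroup M] [Module A M] [Module.Finite A M]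
    {I : Ideal A} {n : ℕ} (h : (n : ℕ∞) ≤ LocCoh.idealDepth (maximalIdeal A) M) {z : M} (hz : z ≠ 0)
    (hI : ∀ r ∈ I, r • z = 0) : (n : WithBot ℕ∞) ≤ ringKrullDim (A ⧸ I) := by
  obtain ⟨p, hp, hle⟩ := exists_le_isAssociatedPrime_of_isNoetherianRing A z hz
  have hIp : I ≤ p := fun r hr => hle (by rw [Submodule.mem_colon_singleton, Submodule.mem_bot]; exact hI r hr)
  refine le_trans ?_ (ringKrullDim_le_of_surjective (Ideal.Quotient.factor hIp)
    (Ideal.Quotient.factor_surjective _))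
  exact (WithBot.coe_le_coe.mpr h).trans (Groth.L04.depth_le_ringKrullDim_quotient hp)

theorem exists_regular_mem_of_dim_lt {M : Type u} [AddCommGroup M] [Module A M] [Module.Finite A M]
    {I : Ideal A} {n e : ℕ} (h : (n : ℕ∞) ≤ LocCoh.idealDepth (maximalIdeal A) M)
    (hI : ringKrullDim (A ⧸ I) ≤ e) (hen : e < n) : ∃ x ∈ I, IsSMulRegular M x := by
  refine (Groth.L04.exists_regular_or_killed I M).resolve_right ?_
  rintro ⟨z, hz, hzI⟩
  have := (le_ringKrullDim_quotient_of_killed h hz hzI).trans hI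
  rw [Nat.cast_le] at this
  omega

theorem le_idealDepth_prod {M N : Type u} [AddCommGroup M] [Module A M] [Module.Finite A M]
    [AddCommGroup N] [Module A N] [Module.Finite A N] {I : Ideal A} {n : ℕ}
    (hM : (n : ℕ∞) ≤ LocCoh.idealDepth I M) (hN : (n : ℕ∞) ≤ LocCoh.idealDepth I N) :
    (n : ℕ∞) ≤ LocCoh.idealDepth I (M × N) :=
  Groth.L04.le_idealDepth_mid LinearMap.inl_injective LinearMap.snd_surjective
    Function.Exact.inl_snd hM hN

omit [IsNoetherianRing A] [IsLocalRing A] in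
theorem regular_fst {M N : Type u} [AddCommGroup M] [Module A M] [AddCommGroup N] [Module A N] {x : A}
    (h : IsSMulRegular (M × N) x) : IsSMulRegular M x := fun a b hab => by
  have := h (show x • ((a, 0) : M × N) = x • ((b, 0) : M × N) by simpa [Prod.ext_iff] using hab)
  exact congrArg Prod.fst this

omit [IsNoetherianRing A] [IsLocalRing A] in
theorem regular_snd {M N : Type u} [AddCommGroup M] [Module A M] [AddCommGroup N] [Module A N] {x : A}
    (h : IsSMulRegular (M × N) x) : IsSMulRegular N x := fun a b hab => by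
  have := h (show x • ((0, a) : M × N) = x • ((0, b) : M × N) by simpa [Prod.ext_iff] using hab)
  exact congrArg Prod.snd this

/-- Depth of a quotient modulo a regular element. -/
theorem le_depth_quotient_map (K : Ideal A) {x : A} (hxm : x ∈ maximalIdeal A)
    (hx : IsSMulRegular (A ⧸ K) x) [IsLocalRing (A ⧸ Ideal.span {x})] {n : ℕ}
    (h : ((n + 1 : ℕ) : ℕ∞) ≤ LocCoh.idealDepth (maximalIdeal A) (A ⧸ K)) :
    (n : ℕ∞) ≤ LocCoh.idealDepth (maximalIdeal (A ⧸ Ideal.span {x}))
      ((A ⧸ Ideal.span {x}) ⧸ K.map (Ideal.Quotient.mk (Ideal.span {x}))) := by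
  let π := Ideal.Quotient.mk (Ideal.span ({x} : Set A))
  rw [show maximalIdeal (A ⧸ Ideal.span {x}) = (maximalIdeal A).map (algebraMap A (A ⧸ Ideal.span {x}))
      from Groth.L01.maximalIdeal_quotient_eq_map,
    ← Groth.L04.idealDepth_eq_idealDepth_map_of_finite (B := A ⧸ Ideal.span {x}) (maximalIdeal A)
      ((A ⧸ Ideal.span {x}) ⧸ K.map π)]
  let g : (A ⧸ K) →ₗ[A] ((A ⧸ Ideal.span {x}) ⧸ K.map π) :=
    Submodule.liftQ K ((Ideal.Quotient.mkₐ A (K.map π)).toLinearMap ∘ₗ
      (Ideal.Quotient.mkₐ A (Ideal.span {x})).toLinearMap) (fun r hr => by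
        rw [LinearMap.mem_ker]
        exact Ideal.Quotient.eq_zero_iff_mem.mpr (Ideal.mem_map_of_mem π hr))
  have hg : Function.Surjective g := fun y => by
    obtain ⟨y, rfl⟩ := Ideal.Quotient.mk_surjective y
    obtain ⟨y, rfl⟩ := Ideal.Quotient.mk_surjective y
    exact ⟨Submodule.Quotient.mk y, rfl⟩
  have hk : LinearMap.ker g = x • (⊤ : Submodule A (A ⧸ K)) := by
    ext a
    obtain ⟨a, rfl⟩ := Submodule.Quotient.mk_surjective K a
    rw [LinearMap.mem_ker]
    change Ideal.Quotient.mk _ (π a) = 0 ↔ _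
    rw [Ideal.Quotient.eq_zero_iff_mem, ← Ideal.mem_comap,
      Ideal.comap_map_of_surjective π Ideal.Quotient.mk_surjective, ← RingHom.ker_eq_comap_bot,
      Ideal.mk_ker]
    constructor
    · intro ha
      obtain ⟨b, hb, y, hy, hby⟩ := Submodule.mem_sup.mp ha
      obtain ⟨t, rfl⟩ := Ideal.mem_span_singleton'.mp hy
      have h2 : (Submodule.Quotient.mk a : A ⧸ K) = x • Submodule.Quotient.mk t := by
        rw [← Submodule.Quotient.mk_smul, Submodule.Quotient.eq, smul_eq_mul, ← hby,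
          show b + t * x - x * t = b by ring]
        exact hb
      rw [h2]
      exact Submodule.smul_mem_pointwise_smul _ x ⊤ trivial
    · rintro ⟨c, -, hc⟩
      obtain ⟨c, rfl⟩ := Submodule.Quotient.mk_surjective K c
      replace hc : (Submodule.Quotient.mk (x * c) : A ⧸ K) = Submodule.Quotient.mk a := hc
      rw [Submodule.Quotient.eq] at hc
      refine Submodule.mem_sup.mpr ⟨-(x * c - a), K.neg_mem hc, c * x, ?_, by ring⟩
      exact Ideal.mem_span_singleton'.mpr ⟨c, rfl⟩
  rw [← Groth.L04.idealDepth_congr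
    ((Submodule.quotEquivOfEq _ _ hk.symm).trans (g.quotKerEquivOfSurjective hg))]
  exact (Groth.L04.le_idealDepth_quotSMulTop_iff hxm hx n).mpr h

end Local

theorem dim_quotient_regular {A : Type u} [CommRing A] [IsNoetherianRing A] [IsLocalRing A] {x : A}
    (hxm : x ∈ maximalIdeal A) (hx : IsSMulRegular A x) {n : ℕ} (h : ringKrullDim A ≤ ((n + 1 : ℕ) : WithBot ℕ∞)) :
    ringKrullDim (A ⧸ Ideal.span {x}) ≤ n := by
  have h1 := ringKrullDim_quotient_span_singleton_succ_eq_ringKrullDim_of_mem_jacobson hx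
    (by rwa [IsLocalRing.ringJacobson_eq_maximalIdeal])
  haveI : IsLocalRing (A ⧸ Ideal.span {x}) := Groth.L01.isLocalRing_quotient
    (ne_top_of_le_ne_top (maximalIdeal.isMaximal A).ne_top ((Ideal.span_singleton_le_iff_mem _).mpr hxm))
  obtain ⟨e, he⟩ := Groth.L01.exists_dim_eq_nat (R := A ⧸ Ideal.span {x})
  rw [he] at h1 ⊢
  rw [← h1] at h
  have h' : e + 1 ≤ n + 1 := by exact_mod_cast h
  exact_mod_cast (by omega : e ≤ n)

/-- The sum of two complementary maximal Cohen–Macaulay ideals has a Gorenstein quotient. -/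
theorem gorenstein_quotient_sup : ∀ (e : ℕ) (A : Type u) [CommRing A] [LocCoh.IsGorensteinLocalRing A],
    ringKrullDim A = ((e + 1 : ℕ) : WithBot ℕ∞) → ∀ a b : Ideal A, a ⊓ b = ⊥ → a ⊔ b ≠ ⊤ →
    ((e + 1 : ℕ) : ℕ∞) ≤ LocCoh.idealDepth (maximalIdeal A) (A ⧸ a) →
    ((e + 1 : ℕ) : ℕ∞) ≤ LocCoh.idealDepth (maximalIdeal A) (A ⧸ b) →
    (e : ℕ∞) ≤ LocCoh.idealDepth (maximalIdeal A) (A ⧸ (a ⊔ b)) →
    ringKrullDim (A ⧸ (a ⊔ b)) ≤ e →
    LocCoh.IsGorensteinLocalRing (A ⧸ (a ⊔ b)) := by
  intro e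
  induction e with
  | zero =>
    intro A _ _ hd a b hab hne ha hb _ hdim
    obtain ⟨x, hxS, hx⟩ := exists_regular_mem_of_dim_lt (e := 0) (M := A × ((A ⧸ a) × (A ⧸ b)))
      (le_idealDepth_prod (Groth.L13.LiaisonCM.depth_self hd) (le_idealDepth_prod ha hb)) hdim
      zero_lt_one
    have hxA := regular_fst hx
    have hxa := regular_fst (regular_snd hx)
    have hxb := regular_snd (regular_snd hx)
    have hxm : x ∈ maximalIdeal A := IsLocalRing.le_maximalIdeal hne hxS
    obtain ⟨u, hu, v, hv, huv⟩ := Submodule.mem_sup.mp hxS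
    have hzero : ∀ α ∈ a, ∀ β ∈ b, α * β = 0 := fun α hα β hβ =>
      (Submodule.mem_bot A).mp (hab ▸ ⟨a.mul_mem_right β hα, b.mul_mem_left α hβ⟩)
    let π := Ideal.Quotient.mk (Ideal.span ({x} : Set A))
    haveI := (Groth.Agent.S0343.result A x hxm hxA).mp inferInstance
    haveI : IsLocalRing (A ⧸ Ideal.span {x}) := inferInstance
    have hd' : ringKrullDim (A ⧸ Ideal.span {x}) = 0 := by
      refine le_antisymm (dim_quotient_regular hxm hxA hd.le) ringKrullDim_nonneg_of_nontrivial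
    let J := (a ⊔ b).map π
    have hJne : J ≠ ⊤ := fun h => by
      have h1 := congrArg (Ideal.comap π) h
      rw [Ideal.comap_top, Ideal.comap_map_of_surjective π Ideal.Quotient.mk_surjective,
        ← RingHom.ker_eq_comap_bot, Ideal.mk_ker] at h1
      exact hne (top_le_iff.mp (h1.ge.trans (sup_le le_rfl ((Ideal.span_singleton_le_iff_mem _).mpr hxS))))
    have hJ : ∀ r, r ∈ J ↔ r * π u = 0 := by
      intro r
      obtain ⟨r, rfl⟩ := Ideal.Quotient.mk_surjective r
      rw [← map_mul, Ideal.Quotient.eq_zero_iff_mem, ← Ideal.mem_comap,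
        Ideal.comap_map_of_surjective π Ideal.Quotient.mk_surjective, ← RingHom.ker_eq_comap_bot,
        Ideal.mk_ker, sup_eq_left.mpr ((Ideal.span_singleton_le_iff_mem _).mpr hxS),
        Ideal.mem_span_singleton']
      constructor
      · intro h
        obtain ⟨α, hα, β, hβ, rfl⟩ := Submodule.mem_sup.mp h
        refine ⟨α, ?_⟩
        rw [← huv, mul_add, hzero α hα v hv, add_mul, mul_comm β u, hzero u hu β hβ]
      · rintro ⟨t, ht⟩
        -- `(r - t) u = 0` and `t v = 0`
        have h1 : t * v = (r - t) * u := by linear_combination ht + t * huv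
        have h2 : t * v = 0 := (Submodule.mem_bot A).mp
          (hab ▸ ⟨h1 ▸ a.mul_mem_left _ hu, b.mul_mem_left _ hv⟩)
        have h3 : t ∈ a := Ideal.Quotient.eq_zero_iff_mem.mp (hxa (show x • Ideal.Quotient.mk a t = x • (0 : A ⧸ a) by
          rw [smul_zero, show x • Ideal.Quotient.mk a t = Ideal.Quotient.mk a (x * t) from rfl,
            Ideal.Quotient.eq_zero_iff_mem, show x * t = u * t + t * v by linear_combination -t * huv, h2, add_zero]
          exact a.mul_mem_right t hu))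
        have h4 : r - t ∈ b := Ideal.Quotient.eq_zero_iff_mem.mp (hxb (show x • Ideal.Quotient.mk b (r - t) = x • (0 : A ⧸ b) by
          rw [smul_zero, show x • Ideal.Quotient.mk b (r - t) = Ideal.Quotient.mk b (x * (r - t)) from rfl,
            Ideal.Quotient.eq_zero_iff_mem,
            show x * (r - t) = (r - t) * v + (r - t) * u by linear_combination -(r - t) * huv, ← h1, h2, add_zero]
          exact b.mul_mem_left _ hv))
        exact Submodule.mem_sup.mpr ⟨t, h3, r - t, h4, by ring⟩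
    haveI := Groth.L13.LiaisonACI.gorenstein_quotient_of_principal_zero hd' (π u) J hJ hJne
    exact Groth.L21.GorensteinAscend.isGorensteinLocalRing_of_ringEquiv
      (DoubleQuot.quotQuotEquivQuotOfLE ((Ideal.span_singleton_le_iff_mem _).mpr hxS)) this
  | succ e ih =>
    intro A _ _ hd a b hab hne ha hb hS hdim
    let I := a ⊔ b
    have h1 : ∀ {m : ℕ}, e + 1 ≤ m → ((e + 1 : ℕ) : ℕ∞) ≤ m := fun h => by exact_mod_cast h
    have hP : ((e + 1 : ℕ) : ℕ∞) ≤ LocCoh.idealDepth (maximalIdeal A) (A × ((A ⧸ a) × ((A ⧸ b) × (A ⧸ I)))) :=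
      le_idealDepth_prod ((h1 (by omega)).trans (Groth.L13.LiaisonCM.depth_self hd))
        (le_idealDepth_prod ((h1 (by omega)).trans ha) (le_idealDepth_prod ((h1 (by omega)).trans hb) hS))
    obtain ⟨rs, hlen, hrs, hmem⟩ := Groth.L04.exists_of_le_idealDepth
      (fun h => Submodule.top_ne_ideal_smul_of_le_jacobson_annihilator
        (maximalIdeal_le_jacobson (Module.annihilator A (A × ((A ⧸ a) × ((A ⧸ b) × (A ⧸ I)))))) h.symm) hP
    rcases rs with _ | ⟨y, rs⟩
    · simp at hlen
    rw [isWeaklyRegular_cons_iff] at hrs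
    have hy := hrs.1
    have hyA := regular_fst hy
    have hya := regular_fst (regular_snd hy)
    have hyb := regular_fst (regular_snd (regular_snd hy))
    have hyI := regular_snd (regular_snd (regular_snd hy))
    have hym : y ∈ maximalIdeal A := hmem y (List.mem_cons_self ..)
    let π := Ideal.Quotient.mk (Ideal.span ({y} : Set A))
    haveI := (Groth.Agent.S0343.result A y hym hyA).mp inferInstance
    haveI : IsLocalRing (A ⧸ Ideal.span {y}) := inferInstance
    have hd' : ringKrullDim (A ⧸ Ideal.span {y}) = ((e + 1 : ℕ) : WithBot ℕ∞) := by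
      have h := ringKrullDim_quotient_span_singleton_succ_eq_ringKrullDim_of_mem_jacobson hyA
        (by rwa [IsLocalRing.ringJacobson_eq_maximalIdeal])
      rw [hd] at h
      obtain ⟨d, hd2⟩ := Groth.L01.exists_dim_eq_nat (R := A ⧸ Ideal.span {y})
      rw [hd2] at h ⊢
      have h' : d + 1 = e + 1 + 1 := by exact_mod_cast h
      exact_mod_cast (by omega : d = e + 1)
    have hcm : ∀ K : Ideal A, (K.map π).comap π = K ⊔ Ideal.span {y} := fun K => by
      rw [Ideal.comap_map_of_surjective π Ideal.Quotient.mk_surjective, ← RingHom.ker_eq_comap_bot,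
        Ideal.mk_ker]
    have hab' : a.map π ⊓ b.map π = ⊥ := by
      rw [eq_bot_iff]
      intro z hz
      obtain ⟨z, rfl⟩ := Ideal.Quotient.mk_surjective z
      have hza : z ∈ a ⊔ Ideal.span {y} := hcm a ▸ Ideal.mem_comap.mpr hz.1
      have hzb : z ∈ b ⊔ Ideal.span {y} := hcm b ▸ Ideal.mem_comap.mpr hz.2
      obtain ⟨α, hα, _, hy1, rfl⟩ := Submodule.mem_sup.mp hza
      obtain ⟨β, hβ, _, hy2, hβz⟩ := Submodule.mem_sup.mp hzb
      obtain ⟨t₁, rfl⟩ := Ideal.mem_span_singleton'.mp hy1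
      obtain ⟨t₂, rfl⟩ := Ideal.mem_span_singleton'.mp hy2
      have ht : t₂ - t₁ ∈ I := Ideal.Quotient.eq_zero_iff_mem.mp
        (hyI (show y • Ideal.Quotient.mk I (t₂ - t₁) = y • (0 : A ⧸ I) by
          rw [smul_zero, show y • Ideal.Quotient.mk I (t₂ - t₁) = Ideal.Quotient.mk I (y * (t₂ - t₁)) from rfl,
            Ideal.Quotient.eq_zero_iff_mem, show y * (t₂ - t₁) = α - β by linear_combination hβz]
          exact I.sub_mem (Ideal.mem_sup_left hα) (Ideal.mem_sup_right hβ)))
      obtain ⟨α', hα', β', hβ', hαβ⟩ := Submodule.mem_sup.mp ht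
      have h0 : α - y * α' = 0 := (Submodule.mem_bot A).mp (hab ▸ ⟨a.sub_mem hα (a.mul_mem_left y hα'), by
        rw [show α - y * α' = β + y * β' by linear_combination -hβz - y * hαβ]
        exact b.add_mem hβ (b.mul_mem_left y hβ')⟩)
      rw [Submodule.mem_bot, Ideal.Quotient.eq_zero_iff_mem]
      exact Ideal.mem_span_singleton'.mpr ⟨α' + t₁, by linear_combination -h0⟩
    have hne' : a.map π ⊔ b.map π ≠ ⊤ := fun h => by
      rw [← Ideal.map_sup] at h
      have h2 := hcm (a ⊔ b)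
      rw [h, Ideal.comap_top] at h2
      exact (maximalIdeal.isMaximal A).ne_top (top_le_iff.mp (h2.le.trans
        (sup_le (IsLocalRing.le_maximalIdeal hne) ((Ideal.span_singleton_le_iff_mem _).mpr hym))))
    haveI : IsLocalRing (A ⧸ I) := Groth.L01.isLocalRing_quotient hne
    have hyI' : IsSMulRegular (A ⧸ I) (Ideal.Quotient.mk I y) := by
      intro p q hpq
      exact hyI hpq
    have hymI : Ideal.Quotient.mk I y ∈ maximalIdeal (A ⧸ I) := by
      rw [show maximalIdeal (A ⧸ I) = (maximalIdeal A).map (algebraMap A (A ⧸ I)) from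
        Groth.L01.maximalIdeal_quotient_eq_map]
      exact Ideal.mem_map_of_mem _ hym
    let E : (A ⧸ Ideal.span {y}) ⧸ (a.map π ⊔ b.map π) ≃+* (A ⧸ I) ⧸ Ideal.span {Ideal.Quotient.mk I y} :=
      ((Ideal.quotEquivOfEq (Ideal.map_sup π a b).symm).trans
        (DoubleQuot.quotQuotEquivComm (Ideal.span {y}) I)).trans
          (Ideal.quotEquivOfEq (by rw [Ideal.map_span, Set.image_singleton]))
    have hdim' : ringKrullDim ((A ⧸ Ideal.span {y}) ⧸ (a.map π ⊔ b.map π)) ≤ e := by
      rw [ringKrullDim_eq_of_ringEquiv E]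
      exact dim_quotient_regular hymI hyI' hdim
    have hS' : (e : ℕ∞) ≤ LocCoh.idealDepth (maximalIdeal (A ⧸ Ideal.span {y}))
        ((A ⧸ Ideal.span {y}) ⧸ (a.map π ⊔ b.map π)) := by
      rw [← Ideal.map_sup]
      exact le_depth_quotient_map I hym hyI hS
    have hq := ih (A ⧸ Ideal.span {y}) hd' (a.map π) (b.map π) hab' hne'
      (le_depth_quotient_map a hym hya ha) (le_depth_quotient_map b hym hyb hb) hS' hdim'
    exact (Groth.Agent.S0343.result (A ⧸ I) (Ideal.Quotient.mk I y) hymI hyI').mpr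
      (Groth.L21.GorensteinAscend.isGorensteinLocalRing_of_ringEquiv E hq)

/-- Depth of the sum of two complementary ideals. -/
theorem le_depth_sup {A : Type u} [CommRing A] [IsNoetherianRing A] [IsLocalRing A] {a b : Ideal A}
    (hab : a ⊓ b = ⊥) {e : ℕ} (hA : ((e + 1 : ℕ) : ℕ∞) ≤ LocCoh.idealDepth (maximalIdeal A) A)
    (ha : (e : ℕ∞) ≤ LocCoh.idealDepth (maximalIdeal A) (A ⧸ a))
    (hb : (e : ℕ∞) ≤ LocCoh.idealDepth (maximalIdeal A) (A ⧸ b)) :
    (e : ℕ∞) ≤ LocCoh.idealDepth (maximalIdeal A) (A ⧸ (a ⊔ b)) := by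
  let i : A →ₗ[A] (A ⧸ a) × (A ⧸ b) := a.mkQ.prod b.mkQ
  let p : (A ⧸ a) × (A ⧸ b) →ₗ[A] A ⧸ (a ⊔ b) :=
    (Submodule.factor le_sup_left).coprod (-(Submodule.factor le_sup_right))
  have hi : Function.Injective i := by
    rw [← LinearMap.ker_eq_bot, LinearMap.ker_prod, Submodule.ker_mkQ, Submodule.ker_mkQ, hab]
  have hp : Function.Surjective p := fun y => by
    obtain ⟨y, rfl⟩ := Submodule.Quotient.mk_surjective _ y
    exact ⟨(Submodule.Quotient.mk y, 0), by simp [p]⟩
  have hex : Function.Exact i p := by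
    rintro ⟨x, y⟩
    obtain ⟨r, rfl⟩ := Submodule.Quotient.mk_surjective a x
    obtain ⟨s, rfl⟩ := Submodule.Quotient.mk_surjective b y
    constructor
    · intro h
      have h2 : r - s ∈ a ⊔ b := by
        rw [← Submodule.Quotient.eq]
        simpa [p, sub_eq_zero, ← sub_eq_add_neg] using h
      obtain ⟨α, hα, β, hβ, hαβ⟩ := Submodule.mem_sup.mp h2
      refine ⟨r - α, Prod.ext ?_ ?_⟩
      · show Submodule.Quotient.mk (r - α) = Submodule.Quotient.mk r
        rw [Submodule.Quotient.eq]; simpa using a.neg_mem hα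
      · show Submodule.Quotient.mk (r - α) = Submodule.Quotient.mk s
        rw [Submodule.Quotient.eq, show r - α - s = β by linear_combination -hαβ]; exact hβ
    · rintro ⟨z, hz⟩
      rw [← hz]
      simp [p, i]
  exact Groth.L04.le_idealDepth_right hi hp hex hA (le_idealDepth_prod ha hb)

end Groth.L13.LiaisonGeom

namespace Groth.L13.LiaisonGeom

open Groth.L13.Liaison Groth.L13.LiaisonCM

theorem cmRing_of_ringEquiv {S T : Type u} [CommRing S] [CommRing T] (e : S ≃+* T)
    [LocCoh.IsCohenMacaulayRing S] : LocCoh.IsCohenMacaulayRing T := by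
  haveI : IsNoetherianRing T := isNoetherianRing_of_ringEquiv S e
  refine { isCohenMacaulayLocalRing_localization := fun p hp => ?_ }
  haveI : (p.comap (e : S →+* T)).IsPrime := Ideal.IsPrime.comap _
  exact cm_of_ringEquiv
    (IsLocalization.ringEquivOfRingEquiv (M := (p.comap (e : S →+* T)).primeCompl)
      (T := p.primeCompl) (Localization.AtPrime (p.comap (e : S →+* T)))
      (Localization.AtPrime p) e (by
        ext y
        constructor
        · rintro ⟨x, hx, rfl⟩; exact hx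
        · intro hy
          exact ⟨e.symm y, fun h => hy (by simpa using h), e.apply_symm_apply y⟩))
    (LocCoh.IsCohenMacaulayRing.isCohenMacaulayLocalRing_localization _)

/-- Geometrically linked quotients in a Gorenstein ring. -/
theorem sum_gorenstein {Q : Type u} [CommRing Q] [LocCoh.IsGorensteinRing Q] {a b : Ideal Q}
    (hab : a ⊓ b = ⊥) [LocCoh.IsCohenMacaulayRing (Q ⧸ a)] [LocCoh.IsCohenMacaulayRing (Q ⧸ b)]
    (hassa : ∀ p ∈ associatedPrimes Q (Q ⧸ a), p ∈ minimalPrimes Q)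
    (hassb : ∀ p ∈ associatedPrimes Q (Q ⧸ b), p ∈ minimalPrimes Q)
    (hmin : ∀ p ∈ minimalPrimes Q, ¬ a ⊔ b ≤ p) :
    LocCoh.IsGorensteinRing (Q ⧸ (a ⊔ b)) ∧ ∀ p ∈ (a ⊔ b).minimalPrimes, p.height = 1 := by
  haveI hQ := isCohenMacaulayRing_of_gorenstein Q
  have key : ∀ (P : Ideal Q) [P.IsPrime], a ⊔ b ≤ P → ∃ e : ℕ,
      ringKrullDim (Localization.AtPrime P) = ((e + 1 : ℕ) : WithBot ℕ∞) ∧
      (e : ℕ∞) ≤ LocCoh.idealDepth (maximalIdeal (Localization.AtPrime P))
        (Localization.AtPrime P ⧸ (a.map (algebraMap Q (Localization.AtPrime P)) ⊔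
          b.map (algebraMap Q (Localization.AtPrime P)))) ∧
      ringKrullDim (Localization.AtPrime P ⧸ (a.map (algebraMap Q (Localization.AtPrime P)) ⊔
          b.map (algebraMap Q (Localization.AtPrime P)))) ≤ e := by
    intro P _ hle
    let A := Localization.AtPrime P
    haveI := LocCoh.IsGorensteinRing.isGorensteinLocalRing_localization (A := Q) P
    haveI := LocCoh.IsCohenMacaulayRing.isCohenMacaulayLocalRing_localization (R := Q) P
    obtain ⟨d, hd⟩ := Groth.L01.exists_dim_eq_nat (R := A)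
    set J := a.map (algebraMap Q A) ⊔ b.map (algebraMap Q A) with hJdef
    have hJ : J ≠ ⊤ := by
      rw [hJdef, ← Ideal.map_sup]
      exact ne_top_of_le_ne_top (maximalIdeal.isMaximal A).ne_top
        ((Ideal.map_mono hle).trans Localization.AtPrime.map_eq_maximalIdeal.le)
    have hht : 1 ≤ J.height := by
      rw [Ideal.height_eq_inf_minimalPrimes (I := J)]
      refine le_iInf₂ fun q hq => ?_
      haveI := hq.1.1
      rw [← IsLocalization.height_under P.primeCompl q]
      refine Order.one_le_iff_pos.mpr (pos_iff_ne_zero.mpr fun h0 => ?_)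
      refine hmin _ (Ideal.height_eq_zero_iff.mp h0) ?_
      refine Ideal.map_le_iff_le_comap.mp ?_
      rw [Ideal.map_sup]
      exact hq.1.2
    have hformula : ringKrullDim A = ringKrullDim (A ⧸ J) + ((J.height : ℕ∞) : WithBot ℕ∞) := by
      have h := Groth.L04.supportDim_eq_add_idealDepth hJ
        (show LocCoh.IsCohenMacaulayModule A A from LocCoh.IsCohenMacaulayLocalRing.supportDim_eq_depth)
      rwa [Module.supportDim_self_eq_ringKrullDim, smul_eq_mul, Ideal.mul_top,
        Module.supportDim_quotient_eq_ringKrullDim,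
        (Groth.L04.isCohenMacaulayRing_iff_height (R := A)).mp (Groth.L04.isCohenMacaulayRing_of_local A) _ hJ] at h
    haveI : IsLocalRing (A ⧸ J) := Groth.L01.isLocalRing_quotient hJ
    obtain ⟨s, hs⟩ := Groth.L01.exists_dim_eq_nat (R := A ⧸ J)
    obtain ⟨t, ht⟩ := ENat.ne_top_iff_exists.1 (Ideal.height_ne_top hJ)
    rw [← ht] at hht
    have ht1 : 1 ≤ t := by exact_mod_cast hht
    rw [hd, hs, ← ht] at hformula
    have hst : d = s + t := by exact_mod_cast hformula
    obtain ⟨e, rfl⟩ : ∃ e, d = e + 1 := ⟨d - 1, by omega⟩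
    have hle' : (e : ℕ∞) ≤ ((e + 1 : ℕ) : ℕ∞) := by exact_mod_cast Nat.le_succ e
    refine ⟨e, hd, ?_, ?_⟩
    · refine le_depth_sup ?_ (Groth.L13.LiaisonCM.depth_self hd)
        (hle'.trans (le_depth_localized_quotient hassa hd))
        (hle'.trans (le_depth_localized_quotient hassb hd))
      rw [← IsLocalization.map_inf P.primeCompl, hab, Ideal.map_bot]
    · rw [hs]
      exact_mod_cast (by omega : s ≤ e)
  refine ⟨{ isGorensteinLocalRing_localization := fun P' _ => ?_ }, fun P hP => ?_⟩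
  · obtain ⟨eq⟩ := nonempty_ringEquiv_localization_quotient (a ⊔ b) P'
    refine Groth.L21.GorensteinAscend.isGorensteinLocalRing_of_ringEquiv eq ?_
    have hle : a ⊔ b ≤ P'.comap (Ideal.Quotient.mk (a ⊔ b)) := fun x hx => by
      rw [Ideal.mem_comap, Ideal.Quotient.eq_zero_iff_mem.mpr hx]
      exact P'.zero_mem
    set P := P'.comap (Ideal.Quotient.mk (a ⊔ b))
    haveI := LocCoh.IsGorensteinRing.isGorensteinLocalRing_localization (A := Q) P
    obtain ⟨e, hd, hS, hdim⟩ := key P hle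
    rw [Ideal.map_sup]
    refine gorenstein_quotient_sup e _ hd _ _ ?_ ?_ (le_depth_localized_quotient hassa hd)
      (le_depth_localized_quotient hassb hd) hS hdim
    · rw [← IsLocalization.map_inf P.primeCompl, hab, Ideal.map_bot]
    · rw [← Ideal.map_sup]
      exact ne_top_of_le_ne_top (maximalIdeal.isMaximal _).ne_top
        ((Ideal.map_mono hle).trans Localization.AtPrime.map_eq_maximalIdeal.le)
  · haveI := hP.1.1
    obtain ⟨e, hd, hS, -⟩ := key P hP.1.2
    let A := Localization.AtPrime P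
    haveI := LocCoh.IsCohenMacaulayRing.isCohenMacaulayLocalRing_localization (R := Q) P
    set J := a.map (algebraMap Q A) ⊔ b.map (algebraMap Q A) with hJdef
    have hJ : J ≠ ⊤ := by
      rw [hJdef, ← Ideal.map_sup]
      exact ne_top_of_le_ne_top (maximalIdeal.isMaximal A).ne_top
        ((Ideal.map_mono hP.1.2).trans Localization.AtPrime.map_eq_maximalIdeal.le)
    haveI : IsLocalRing (A ⧸ J) := Groth.L01.isLocalRing_quotient hJ
    -- the only prime over `J` is the maximal ideal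
    have hdim0 : ringKrullDim (A ⧸ J) = 0 := by
      refine le_antisymm ?_ ringKrullDim_nonneg_of_nontrivial
      rw [ringKrullDim_quotient]
      refine iSup_le fun l => ?_
      suffices l.length = 0 by simp [this]
      by_contra hl
      have h01 : (l ⟨0, by omega⟩).1 < (l ⟨1, by omega⟩).1 := l.strictMono (Fin.mk_lt_mk.mpr zero_lt_one)
      have hmax : ∀ i, (l i).1.asIdeal = maximalIdeal A := fun i => by
        haveI := (l i).1.2
        refine le_antisymm (IsLocalRing.le_maximalIdeal Ideal.IsPrime.ne_top') ?_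
        rw [← Localization.AtPrime.map_eq_maximalIdeal (I := P),
          ← IsLocalization.map_under P.primeCompl A (l i).1.asIdeal]
        refine Ideal.map_mono (hP.2 ⟨Ideal.IsPrime.comap _, ?_⟩ ?_)
        · refine Ideal.map_le_iff_le_comap.mp ?_
          rw [Ideal.map_sup]
          exact (l i).2
        · refine (Ideal.comap_mono (IsLocalRing.le_maximalIdeal Ideal.IsPrime.ne_top')).trans ?_
          exact (IsLocalization.AtPrime.comap_maximalIdeal A P).le
      exact h01.ne (PrimeSpectrum.ext (by rw [hmax, hmax]))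
    have h2 : (e : WithBot ℕ∞) ≤ 0 := by
      rw [← hdim0]
      refine le_trans (WithBot.coe_le_coe.mpr hS) ?_
      refine (Groth.L04.depth_le_supportDim (R := A) (M := A ⧸ J)).trans ?_
      rw [Module.supportDim_quotient_eq_ringKrullDim]
    have he : e = 0 := by exact_mod_cast le_antisymm (by exact_mod_cast h2 : e ≤ 0) (Nat.zero_le e)
    rw [he, IsLocalization.AtPrime.ringKrullDim_eq_height P] at hd
    exact_mod_cast hd

/-- The union is Gorenstein implies the intersection is Gorenstein of one codimension more. -/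
theorem height_and_gorenstein_sup {K : Type u} [Field K] {n c : ℕ}
    {I₁ I₂ : Ideal (MvPolynomial (Fin n) K)}
    (hI₁ : I₁.IsHomogeneous (GrSyz.stdGr K (Fin n))) (hI₂ : I₂.IsHomogeneous (GrSyz.stdGr K (Fin n)))
    [LocCoh.IsCohenMacaulayRing (MvPolynomial (Fin n) K ⧸ I₁)]
    [LocCoh.IsCohenMacaulayRing (MvPolynomial (Fin n) K ⧸ I₂)]
    (h₁ : I₁.height = c) (h₂ : I₂.height = c) (hdisj : Disjoint I₁.minimalPrimes I₂.minimalPrimes)
    [LocCoh.IsGorensteinRing (MvPolynomial (Fin n) K ⧸ (I₁ ⊓ I₂))] :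
    (I₁ ⊔ I₂).height = c + 1 ∧ LocCoh.IsGorensteinRing (MvPolynomial (Fin n) K ⧸ (I₁ ⊔ I₂)) := by
  let R := MvPolynomial (Fin n) K
  set L := I₁ ⊓ I₂ with hL
  haveI := isCohenMacaulayRing_of_gorenstein (R ⧸ L)
  have hLh : L.IsHomogeneous (GrSyz.stdGr K (Fin n)) := hI₁.inf hI₂
  have hne₁ : I₁ ≠ ⊤ := fun h => by rw [h, Ideal.height_top] at h₁; exact ENat.top_ne_natCast c h₁
  have hne₂ : I₂ ≠ ⊤ := fun h => by rw [h, Ideal.height_top] at h₂; exact ENat.top_ne_natCast c h₂
  have hLc : L.height = c := by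
    refine le_antisymm ((Ideal.height_mono inf_le_left).trans h₁.le) ?_
    rw [Ideal.height_eq_inf_minimalPrimes (I := L)]
    refine le_iInf₂ fun p hp => ?_
    rcases hp.1.1.inf_le.mp hp.1.2 with h | h
    · exact h₁.symm.le.trans (Ideal.height_mono h)
    · exact h₂.symm.le.trans (Ideal.height_mono h)
  let π := Ideal.Quotient.mk L
  have hcomap : ∀ M : Ideal R, L ≤ M → (M.map π).comap π = M := fun M hM => by
    rw [Ideal.comap_map_of_surjective π Ideal.Quotient.mk_surjective, ← RingHom.ker_eq_comap_bot,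
      Ideal.mk_ker, sup_eq_left.2 hM]
  have hminQ : ∀ P ∈ minimalPrimes (R ⧸ L), P.comap π ∈ L.minimalPrimes := fun P hP => by
    rw [Ideal.minimalPrimes_eq_comap]
    exact ⟨P, hP, rfl⟩
  have hmin : ∀ P ∈ minimalPrimes (R ⧸ L), ¬ I₁.map π ⊔ I₂.map π ≤ P := fun P hP hle => by
    have hp := hminQ P hP
    haveI := hp.1.1
    have hht := height_eq_of_mem_minimalPrimes hLh hp
    have h1 : I₁ ≤ P.comap π := Ideal.map_le_iff_le_comap.mp (le_sup_left.trans hle)
    have h2 : I₂ ≤ P.comap π := Ideal.map_le_iff_le_comap.mp (le_sup_right.trans hle)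
    refine Set.disjoint_left.mp hdisj (mem_minimalPrimes_of_height_eq h1 ?_)
      (mem_minimalPrimes_of_height_eq h2 ?_)
    · rw [hht, hLc, h₁]
    · rw [hht, hLc, h₂]
  have hass : ∀ (M : Ideal R), L ≤ M → M.IsHomogeneous (GrSyz.stdGr K (Fin n)) → M.height = c →
      LocCoh.IsCohenMacaulayRing (R ⧸ M) →
      ∀ P ∈ associatedPrimes (R ⧸ L) ((R ⧸ L) ⧸ M.map π), P ∈ minimalPrimes (R ⧸ L) := by
    intro M hLM hM hMc _ P hP
    obtain ⟨hPp, x, hx⟩ := isAssociatedPrime_iff.mp hP
    obtain ⟨x, rfl⟩ := Ideal.Quotient.mk_surjective x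
    obtain ⟨x, rfl⟩ := Ideal.Quotient.mk_surjective x
    have hp' : P.comap π ∈ associatedPrimes R (R ⧸ M) := by
      refine isAssociatedPrime_iff.mpr ⟨Ideal.IsPrime.comap π, Ideal.Quotient.mk M x, ?_⟩
      ext r
      have e1 : π r • Ideal.Quotient.mk (M.map π) (π x) = Ideal.Quotient.mk (M.map π) (π (r * x)) := by
        rw [map_mul π]; rfl
      have e2 : r • Ideal.Quotient.mk M x = Ideal.Quotient.mk M (r * x) := rfl
      rw [Ideal.mem_comap, hx, Submodule.mem_colon_singleton, Submodule.mem_colon_singleton,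
        Submodule.mem_bot, Submodule.mem_bot, e1, e2, Ideal.Quotient.eq_zero_iff_mem,
        Ideal.Quotient.eq_zero_iff_mem, ← Ideal.mem_comap, hcomap M hLM]
    have h := minimalPrimes_of_mem_associatedPrimes_quotient (c := M) hp'
    haveI := h.1.1
    have h3 := mem_minimalPrimes_of_height_eq (hLM.trans h.1.2)
      ((height_eq_of_mem_minimalPrimes hM h).trans (hMc.trans hLc.symm)).le
    rw [Ideal.minimalPrimes_eq_comap] at h3
    obtain ⟨P', hP', hPp'⟩ := h3
    rwa [← Ideal.comap_injective_of_surjective π Ideal.Quotient.mk_surjective hPp']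
  haveI : LocCoh.IsCohenMacaulayRing ((R ⧸ L) ⧸ I₁.map π) :=
    cmRing_of_ringEquiv (S := R ⧸ I₁) (T := (R ⧸ L) ⧸ I₁.map π)
      (DoubleQuot.quotQuotEquivQuotOfLE (inf_le_left : L ≤ I₁)).symm
  haveI : LocCoh.IsCohenMacaulayRing ((R ⧸ L) ⧸ I₂.map π) :=
    cmRing_of_ringEquiv (S := R ⧸ I₂) (T := (R ⧸ L) ⧸ I₂.map π)
      (DoubleQuot.quotQuotEquivQuotOfLE (inf_le_right : L ≤ I₂)).symm
  have hab : I₁.map π ⊓ I₂.map π = ⊥ := by
    rw [eq_bot_iff]
    intro z hz
    obtain ⟨z, rfl⟩ := Ideal.Quotient.mk_surjective z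
    rw [Submodule.mem_bot, Ideal.Quotient.eq_zero_iff_mem]
    exact ⟨hcomap I₁ inf_le_left ▸ Ideal.mem_comap.mpr hz.1, hcomap I₂ inf_le_right ▸ Ideal.mem_comap.mpr hz.2⟩
  obtain ⟨hG, hh⟩ := sum_gorenstein hab (hass I₁ inf_le_left hI₁ h₁ ‹_›) (hass I₂ inf_le_right hI₂ h₂ ‹_›) hmin
  have hLs : L ≤ I₁ ⊔ I₂ := inf_le_left.trans le_sup_left
  refine ⟨?_, ?_⟩
  · have hne : I₁ ⊔ I₂ ≠ ⊤ := by
      obtain ⟨q₁, hq₁⟩ := Ideal.nonempty_minimalPrimes hne₁
      obtain ⟨q₂, hq₂⟩ := Ideal.nonempty_minimalPrimes hne₂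
      refine ne_top_of_le_ne_top ?_ (sup_le (hq₁.1.2.trans (minimalPrimes_le_vertex hI₁ hq₁))
        (hq₂.1.2.trans (minimalPrimes_le_vertex hI₂ hq₂)))
      exact RingHom.ker_ne_top _
    have hp : ∀ p ∈ (I₁ ⊔ I₂).minimalPrimes, p.height = c + 1 := fun p hp => by
      haveI := hp.1.1
      have hLp : L ≤ p := hLs.trans hp.1.2
      haveI : (p.map π).IsPrime :=
        Ideal.map_isPrime_of_surjective Ideal.Quotient.mk_surjective (by rwa [Ideal.mk_ker])
      have hP : p.map π ∈ (I₁.map π ⊔ I₂.map π).minimalPrimes := by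
        rw [← Ideal.map_sup]
        refine ⟨⟨‹_›, Ideal.map_mono hp.1.2⟩, fun q hq hqp => ?_⟩
        have h1 : p ≤ q.comap π := hp.2 ⟨hq.1.comap π, Ideal.map_le_iff_le_comap.mp hq.2⟩
          ((Ideal.comap_mono hqp).trans (hcomap p hLp).le)
        exact Ideal.map_le_iff_le_comap.mpr h1
      obtain ⟨q, hq, hqp⟩ := Ideal.exists_minimalPrimes_le hLp
      haveI := hq.1.1
      haveI : (q.map π).IsPrime :=
        Ideal.map_isPrime_of_surjective Ideal.Quotient.mk_surjective (by rw [Ideal.mk_ker]; exact hq.1.2)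
      have hQ : q.map π ∈ minimalPrimes (R ⧸ L) := by
        have h1 := hq
        rw [Ideal.minimalPrimes_eq_comap] at h1
        obtain ⟨Q, hQ, hQq⟩ := h1
        rw [← hQq, Ideal.map_comap_of_surjective π Ideal.Quotient.mk_surjective]
        exact hQ
      rw [← Groth.L04.height_add_height_quotient q p hqp, height_eq_of_mem_minimalPrimes hLh hq, hLc,
        ← height_map_map hq.1.2 p, height_map_eq_of_minimal hQ (Ideal.map_mono hqp), hh _ hP]
    rw [Ideal.height_eq_inf_minimalPrimes (I := I₁ ⊔ I₂)]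
    obtain ⟨p, hp'⟩ := Ideal.nonempty_minimalPrimes hne
    exact le_antisymm ((iInf₂_le p hp').trans (hp p hp').le) (le_iInf₂ fun q hq => (hp q hq).ge)
  · let e : (R ⧸ L) ⧸ (I₁.map π ⊔ I₂.map π) ≃+* R ⧸ (I₁ ⊔ I₂) :=
      (Ideal.quotEquivOfEq (Ideal.map_sup π I₁ I₂).symm).trans (DoubleQuot.quotQuotEquivQuotOfLE hLs)
    have h : Groth.L21.GorensteinFieldExt.LocGor (R ⧸ (I₁ ⊔ I₂)) :=
      Groth.L21.GorensteinFieldExt.locGor_of_ringEquiv e fun p _ => hG.isGorensteinLocalRing_localization p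
    exact { isGorensteinLocalRing_localization := h }

end Groth.L13.LiaisonGeom
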