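/-
Local cohomology of basic double links.
-/
import Groth.Agent.L13.LiaisonDoubleLink
import Groth.Agent.L04.LC.Depth
import Groth.Agent.L04.Depth2
import Groth.Agent.L22.AffineDim
import Mathlib.RingTheory.KrullDimension.Polynomial

universe u

open CategoryTheory

namespace Groth.L13.Liaison

variable {K : Type u} [Field K] {n : ℕ}

theorem irrel_eq_vertex :
    (GrSyz.irrel (GrSyz.stdGr K (Fin n))).toIdeal = vertex K n := by
  classical
  refine le_antisymm (Ideal.span_le.mpr ?_) fun x hx => ?_
  · rintro r ⟨m, hm, hr⟩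
    rw [GrSyz.mem_stdGr_iff] at hr
    rw [SetLike.mem_coe, RingHom.mem_ker, MvPolynomial.constantCoeff_eq]
    by_contra h
    have h1 := hr h
    rw [map_zero] at h1
    omega
  · have h1 : x ∈ Ideal.span (MvPolynomial.X '' (Set.univ : Set (Fin n))) := by
      rw [MvPolynomial.mem_ideal_span_X_image]
      intro m hm
      by_contra hc
      push_neg at hc
      have hm0 : m = 0 := Finsupp.ext fun i => hc i (Set.mem_univ i)
      rw [RingHom.mem_ker, MvPolynomial.constantCoeff_eq] at hx
      exact MvPolynomial.mem_support_iff.mp hm (hm0 ▸ hx)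
    refine Ideal.span_mono ?_ h1
    rintro _ ⟨i, -, rfl⟩
    exact ⟨1, one_pos, MvPolynomial.isWeightedHomogeneous_X K _ i⟩

theorem height_vertex : (vertex K n).height = n := by
  haveI : (vertex K n).IsMaximal := RingHom.ker_isMaximal_of_surjective MvPolynomial.constantCoeff
    fun a => ⟨MvPolynomial.C a, MvPolynomial.constantCoeff_C _ a⟩
  have h := Groth.L22.AffineDim.height_of_isMaximal (k := K) (MvPolynomial (Fin n) K) (vertex K n)
  rw [MvPolynomial.ringKrullDim_of_isNoetherianRing, ringKrullDim_eq_zero_of_field, zero_add,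
    Nat.card_fin] at h
  exact_mod_cast h

/-- Local cohomology of a homogeneous Cohen–Macaulay quotient vanishes below the dimension. -/
theorem subsingleton_H_cm {J : Ideal (MvPolynomial (Fin n) K)}
    (hJ : J.IsHomogeneous (GrSyz.stdGr K (Fin n))) {h : ℕ} (hJh : J.height = h)
    [LocCoh.IsCohenMacaulayRing (MvPolynomial (Fin n) K ⧸ J)] (i : ℕ) (hi : i + h < n) :
    Subsingleton (LocCoh.H (vertex K n) i (MvPolynomial (Fin n) K ⧸ J)) := by
  let R := MvPolynomial (Fin n) K
  let π := Ideal.Quotient.mk J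
  have hne : J ≠ ⊤ := fun h0 => by
    rw [h0, Ideal.height_top] at hJh
    exact ENat.top_ne_natCast h hJh
  obtain ⟨q, hq⟩ := Ideal.nonempty_minimalPrimes hne
  haveI := hq.1.1
  have hqm := minimalPrimes_le_vertex hJ hq
  haveI : (vertex K n).IsMaximal := RingHom.ker_isMaximal_of_surjective MvPolynomial.constantCoeff
    fun a => ⟨MvPolynomial.C a, MvPolynomial.constantCoeff_C _ a⟩
  haveI : (q.map π).IsPrime :=
    Ideal.map_isPrime_of_surjective Ideal.Quotient.mk_surjective (by rw [Ideal.mk_ker]; exact hq.1.2)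
  haveI : ((vertex K n).map π).IsPrime := Ideal.map_isPrime_of_surjective Ideal.Quotient.mk_surjective
    (by rw [Ideal.mk_ker]; exact hq.1.2.trans hqm)
  have hQ : q.map π ∈ minimalPrimes (R ⧸ J) := by
    have h1 := hq
    rw [Ideal.minimalPrimes_eq_comap] at h1
    obtain ⟨Q, hQ, hQq⟩ := h1
    rw [← hQq, Ideal.map_comap_of_surjective π Ideal.Quotient.mk_surjective]
    exact hQ
  have h2 := height_map_eq_of_minimal hQ (Ideal.map_mono hqm)
  rw [height_map_map hq.1.2] at h2
  have h3 := Groth.L04.height_add_height_quotient q (vertex K n) hqm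
  rw [h2, height_eq_of_mem_minimalPrimes hJ hq, hJh, height_vertex] at h3
  have h4 : LocCoh.idealDepth (vertex K n) (R ⧸ J) = ((vertex K n).map π).height := by
    rw [Groth.L04.idealDepth_eq_idealDepth_map_of_finite (B := R ⧸ J) (vertex K n) (R ⧸ J)]
    exact Groth.L04.isCohenMacaulayRing_iff_height.mp inferInstance _ (Ideal.IsPrime.ne_top ‹_›)
  have h5 : (((i + 1 : ℕ)) : ℕ∞) ≤ LocCoh.idealDepth (vertex K n) (R ⧸ J) := by
    rw [h4]
    refine (ENat.add_le_add_iff_left (ENat.natCast_ne_top h)).mp ?_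
    rw [h3]
    exact_mod_cast (by omega : h + (i + 1) ≤ n)
  exact (Groth.L04.LC.le_idealDepth_iff_H (vertex K n) (R ⧸ J) (i + 1)).mp h5 i (Nat.lt_succ_self i)

/-- Local cohomology of a regular hypersurface section. -/
theorem subsingleton_H_hypersurface {R : Type u} [CommRing R] (I : Ideal R) {J : Ideal R} {f : R}
    (hJf : J.colon {f} = J) (i : ℕ) (h0 : Subsingleton (LocCoh.H I i (R ⧸ J)))
    (h1 : Subsingleton (LocCoh.H I (i + 1) (R ⧸ J))) :
    Subsingleton (LocCoh.H I i (R ⧸ (J ⊔ Ideal.span {f}))) := by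
  let M := J ⊔ Ideal.span {f}
  let φ : (R ⧸ J) →ₗ[R] (R ⧸ J) := f • LinearMap.id
  let ψ : (R ⧸ J) →ₗ[R] (R ⧸ M) := Submodule.mapQ J M LinearMap.id le_sup_left
  have hφ : Function.Injective φ := by
    rw [← LinearMap.ker_eq_bot, LinearMap.ker_eq_bot']
    intro a ha
    obtain ⟨r, rfl⟩ := Submodule.Quotient.mk_surjective J a
    rw [LinearMap.smul_apply, LinearMap.id_apply, ← Submodule.Quotient.mk_smul,
      Submodule.Quotient.mk_eq_zero] at ha
    refine (Submodule.Quotient.mk_eq_zero _).mpr (hJf ▸ ?_)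
    rw [Submodule.mem_colon_singleton, smul_eq_mul, mul_comm]
    exact ha
  have hex : Function.Exact φ ψ := by
    intro b
    obtain ⟨r, rfl⟩ := Submodule.Quotient.mk_surjective J b
    rw [Submodule.mapQ_apply, Submodule.Quotient.mk_eq_zero, LinearMap.id_apply]
    constructor
    · intro h
      obtain ⟨j, hj, y, hy, hjy⟩ := Submodule.mem_sup.mp h
      obtain ⟨t, rfl⟩ := Ideal.mem_span_singleton'.mp hy
      refine ⟨Submodule.Quotient.mk t, ?_⟩
      rw [LinearMap.smul_apply, LinearMap.id_apply, ← Submodule.Quotient.mk_smul,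
        Submodule.Quotient.eq, ← hjy, smul_eq_mul, show f * t - (j + t * f) = -j by ring]
      exact J.neg_mem hj
    · rintro ⟨a, ha⟩
      obtain ⟨t, rfl⟩ := Submodule.Quotient.mk_surjective J a
      rw [LinearMap.smul_apply, LinearMap.id_apply, ← Submodule.Quotient.mk_smul,
        Submodule.Quotient.eq, smul_eq_mul] at ha
      have := M.sub_mem (Ideal.mem_sup_right (Ideal.mul_mem_right t _ (Ideal.mem_span_singleton_self f)))
        (Ideal.mem_sup_left ha : f * t - r ∈ M)
      rwa [sub_sub_cancel] at this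
  have hS : (ShortComplex.moduleCatMk φ ψ hex.linearMap_comp_eq_zero).ShortExact := by
    have hm : Mono (ModuleCat.ofHom φ) := (ModuleCat.mono_iff_injective _).mpr hφ
    have he : Epi (ModuleCat.ofHom ψ) := (ModuleCat.epi_iff_surjective _).mpr fun b => by
      obtain ⟨r, rfl⟩ := Submodule.Quotient.mk_surjective M b
      exact ⟨Submodule.Quotient.mk r, rfl⟩
    exact { exact := (ShortComplex.moduleCat_exact_iff_ker_sub_range _).mpr
              (hex.linearMap_ker_eq.le)
            mono_f := hm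
            epi_g := he }
  refine ⟨fun a b => ?_⟩
  rw [← sub_eq_zero]
  obtain ⟨c, hc⟩ := (Groth.L04.LC.H_exact₃ I hS i (a - b)).mp (h1.elim _ _)
  haveI : Subsingleton ↑((localCohomology I i).obj (ModuleCat.of R (R ⧸ J))) := h0
  rw [← hc, Subsingleton.elim (α := ↑((localCohomology I i).obj (ModuleCat.of R (R ⧸ J)))) c 0]
  exact map_zero _

/-- Below the dimension the local cohomology of a basic double link agrees with the original. -/
theorem nonempty_H_basicDoubleLink {R : Type u} [CommRing R] (I' : Ideal R) {J I : Ideal R} {f : R}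
    (hJI : J ≤ I) (hJf : J.colon {f} = J) (i : ℕ)
    (hprev : ∀ j, j + 1 = i → Subsingleton (LocCoh.H I' j (R ⧸ (J ⊔ Ideal.span {f}))))
    (hcur : Subsingleton (LocCoh.H I' i (R ⧸ (J ⊔ Ideal.span {f})))) :
    Nonempty (LocCoh.H I' i (R ⧸ (J ⊔ Ideal.span {f} * I)) ≃ₗ[R] LocCoh.H I' i (R ⧸ I)) := by
  let L := J ⊔ Ideal.span {f} * I
  let M := J ⊔ Ideal.span {f}
  let φ : (R ⧸ I) →ₗ[R] (R ⧸ L) := Submodule.mapQ I L (LinearMap.mulLeft R f) fun i hi =>
    Ideal.mem_sup_right (Ideal.mul_mem_mul (Ideal.mem_span_singleton_self f) hi)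
  have hLM : L ≤ M := sup_le_sup_left Ideal.mul_le_left _
  let ψ : (R ⧸ L) →ₗ[R] (R ⧸ M) := Submodule.mapQ L M LinearMap.id hLM
  have hφ : Function.Injective φ := by
    rw [← LinearMap.ker_eq_bot, LinearMap.ker_eq_bot']
    intro a ha
    obtain ⟨r, rfl⟩ := Submodule.Quotient.mk_surjective I a
    rw [Submodule.mapQ_apply, Submodule.Quotient.mk_eq_zero] at ha
    obtain ⟨j, hj, y, hy, hjy⟩ := Submodule.mem_sup.mp ha
    obtain ⟨i, hi, rfl⟩ := Ideal.mem_span_singleton_mul.mp hy
    have h1 : (r - i) ∈ J.colon {f} := by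
      rw [Submodule.mem_colon_singleton, smul_eq_mul]
      rw [LinearMap.mulLeft_apply] at hjy
      rw [show (r - i) * f = j by linear_combination -hjy]
      exact hj
    rw [hJf] at h1
    exact (Submodule.Quotient.mk_eq_zero _).mpr (by simpa using I.add_mem (hJI h1) hi)
  have hex : Function.Exact φ ψ := by
    intro b
    obtain ⟨r, rfl⟩ := Submodule.Quotient.mk_surjective L b
    rw [Submodule.mapQ_apply, Submodule.Quotient.mk_eq_zero, LinearMap.id_apply]
    constructor
    · intro h
      obtain ⟨j, hj, y, hy, hjy⟩ := Submodule.mem_sup.mp h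
      obtain ⟨t, rfl⟩ := Ideal.mem_span_singleton'.mp hy
      refine ⟨Submodule.Quotient.mk t, ?_⟩
      rw [Submodule.mapQ_apply, Submodule.Quotient.eq, LinearMap.mulLeft_apply, ← hjy,
        show f * t - (j + t * f) = -j by ring]
      exact Ideal.mem_sup_left (J.neg_mem hj)
    · rintro ⟨a, ha⟩
      obtain ⟨t, rfl⟩ := Submodule.Quotient.mk_surjective I a
      rw [Submodule.mapQ_apply, Submodule.Quotient.eq, LinearMap.mulLeft_apply] at ha
      have := M.sub_mem (Ideal.mem_sup_right (Ideal.mul_mem_right t _ (Ideal.mem_span_singleton_self f))) (hLM ha)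
      rwa [sub_sub_cancel] at this
  have hS : (ShortComplex.moduleCatMk φ ψ hex.linearMap_comp_eq_zero).ShortExact := by
    have hm : Mono (ModuleCat.ofHom φ) := (ModuleCat.mono_iff_injective _).mpr hφ
    have he : Epi (ModuleCat.ofHom ψ) := (ModuleCat.epi_iff_surjective _).mpr fun b => by
      obtain ⟨r, rfl⟩ := Submodule.Quotient.mk_surjective M b
      exact ⟨Submodule.Quotient.mk r, rfl⟩
    exact { exact := (ShortComplex.moduleCat_exact_iff_ker_sub_range _).mpr
              (hex.linearMap_ker_eq.le)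
            mono_f := hm
            epi_g := he }
  let g := ((localCohomology I' i).map (ModuleCat.ofHom φ)).hom
  have hsurj : Function.Surjective g := fun b =>
    (Groth.L04.LC.H_exact₂ I' hS i b).mp (hcur.elim _ _)
  have hinj : Function.Injective g := by
    rcases i with _ | j
    · exact Groth.L04.LC.injective_H_map_f I' hS
    · refine (injective_iff_map_eq_zero g).mpr fun a ha => ?_
      obtain ⟨c, hc⟩ := (Groth.L04.LC.H_exact₁ I' hS j a).mp ha
      rw [← hc, (hprev j rfl).elim c 0]
      exact map_zero _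
  exact ⟨(LinearEquiv.ofBijective g ⟨hinj, hsurj⟩).symm⟩

end Groth.L13.Liaison
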