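/-
Leading coefficients of Hilbert polynomials of homogeneous ideals as sums of local lengths,
and their additivity under linkage in a Gorenstein quotient.
-/
import Groth.Agent.L13.LiaisonDouble
import Groth.Agent.L13.LiaisonEquidim
import Groth.Agent.L13.LiaisonLocalCoh
import Groth.Agent.L12.GrSub
import Mathlib.RingTheory.Length
import Mathlib.RingTheory.GradedAlgebra.Homogeneous.Ideal
import Mathlib.RingTheory.GradedAlgebra.Radical

set_option autoImplicit false

universe u

open DirectSum IsLocalRing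

namespace Groth.L13.Liaison.Hilb

open Groth.L12.GrSyzLib

section Poly

open Polynomial

lemma shift_coeff {p : ℚ[X]} {d : ℕ} (hp : p.natDegree ≤ d) (a : ℚ) :
    (p.comp (X - C a)).natDegree ≤ d ∧ (p.comp (X - C a)).coeff d = p.coeff d := by
  have h1 : (p.comp (X - C a)).natDegree = p.natDegree := by
    rw [natDegree_comp, natDegree_X_sub_C, mul_one]
  refine ⟨h1.le.trans hp, ?_⟩
  rcases hp.lt_or_eq with h | h
  · rw [coeff_eq_zero_of_natDegree_lt h, coeff_eq_zero_of_natDegree_lt (h1.trans_lt h)]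
  · subst h
    rw [coeff_natDegree]
    conv_lhs => rw [← h1, coeff_natDegree]
    rw [leadingCoeff_comp (by rw [natDegree_X_sub_C]; exact one_ne_zero), (monic_X_sub_C a).leadingCoeff,
      one_pow, mul_one]

lemma exists_antidiff : ∀ (e : ℕ) (p : ℚ[X]), p.degree < (e : WithBot ℕ) →
    ∃ q : ℚ[X], q.degree < ((e + 1 : ℕ) : WithBot ℕ) ∧ ∀ t : ℚ, q.eval t - q.eval (t - 1) = p.eval t := by
  intro e
  induction e with
  | zero =>
    intro p hp
    refine ⟨0, by rw [degree_zero]; exact WithBot.bot_lt_coe 1, fun t => ?_⟩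
    rw [degree_lt_iff_coeff_zero] at hp
    have : p = 0 := Polynomial.ext fun m => by simpa using hp m (Nat.zero_le m)
    simp [this]
  | succ e ih =>
    intro p hp
    rw [degree_lt_iff_coeff_zero] at hp
    set c : ℚ := p.coeff e / (e + 1) with hc
    have hr : (p - C c * (X ^ (e + 1) - (X + C (-1)) ^ (e + 1))).degree < (e : WithBot ℕ) := by
      rw [degree_lt_iff_coeff_zero]
      intro m hm
      rw [coeff_sub, coeff_C_mul, coeff_sub, coeff_X_pow, coeff_X_add_C_pow]
      rcases eq_or_lt_of_le hm with rfl | hm'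
      · rw [if_neg (by omega), show e + 1 - e = 1 by omega, Nat.choose_succ_self_right, hc]
        push_cast
        field_simp
        ring
      · rcases eq_or_lt_of_le (Nat.succ_le_of_lt hm') with rfl | hm''
        · rw [hp _ le_rfl]
          simp
        · rw [hp m (by omega), if_neg (by omega), Nat.choose_eq_zero_of_lt (by omega)]
          simp
    obtain ⟨q, hq, hqe⟩ := ih _ hr
    refine ⟨C c * X ^ (e + 1) + q, ?_, fun t => ?_⟩
    · rw [degree_lt_iff_coeff_zero] at hq ⊢
      intro m hm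
      rw [coeff_add, coeff_C_mul, coeff_X_pow, if_neg (by omega), hq m (by omega)]
      simp
    · have h := hqe t
      simp only [eval_sub, eval_mul, eval_C, eval_pow, eval_add, eval_X] at h ⊢
      linear_combination h

end Poly

section Graded

variable {K : Type u} [Field K] {n : ℕ}

local notation "R" => MvPolynomial (Fin (n + 1)) K
local notation "𝒜" => GrSyz.stdGr K (Fin (n + 1))

/-- The Hilbert function of `R/A`. -/
noncomputable def hq (A : Ideal R) (j : ℤ) : ℕ :=
  Module.finrank K ↥(Submodule.map (Ideal.Quotient.mkₐ K A).toLinearMap (𝒜 j))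

lemma finite_map (A : Ideal R) (j : ℤ) :
    Module.Finite K ↥(Submodule.map (Ideal.Quotient.mkₐ K A).toLinearMap (𝒜 j)) :=
  Module.Finite.map _ _

lemma colon_homogeneous {A : Ideal R} (hA : A.IsHomogeneous 𝒜) {s : Set R}
    (hs : ∀ x ∈ s, ∃ e, x ∈ 𝒜 e) : (A.colon s).IsHomogeneous 𝒜 := by
  intro i y hy
  rw [Submodule.mem_colon]
  intro x hx
  obtain ⟨e, he⟩ := hs x hx
  have h := hA (e + i) (Submodule.mem_colon.1 hy x hx)
  rw [smul_eq_mul, mul_comm, ← prj_apply, ← smul_eq_mul, prj_smul 𝒜 𝒜 he, prj_apply, smul_eq_mul,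
    mul_comm] at h
  exact h

lemma sup_homogeneous {A : Ideal R} (hA : A.IsHomogeneous 𝒜) {e : ℤ} {x : R} (hx : x ∈ 𝒜 e) :
    (A ⊔ Ideal.span {x}).IsHomogeneous 𝒜 :=
  hA.sup (Ideal.homogeneous_span _ _ fun y hy => ⟨e, by rwa [Set.mem_singleton_iff.1 hy]⟩)

lemma hq_step {A : Ideal R} (hA : A.IsHomogeneous 𝒜) {e : ℤ} {x : R} (hx : x ∈ 𝒜 e) (j : ℤ) :
    hq A j = hq (A ⊔ Ideal.span {x}) j + hq (A.colon {x}) (j - e) := by
  haveI := finite_map A j
  set V := Submodule.map (Ideal.Quotient.mkₐ K A).toLinearMap (𝒜 j) with hV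
  let F : (R ⧸ A) →ₗ[K] (R ⧸ (A ⊔ Ideal.span {x})) :=
    (Submodule.factor (p := A) (p' := A ⊔ Ideal.span {x}) le_sup_left).restrictScalars K
  let ι : (R ⧸ A.colon {x}) →ₗ[K] (R ⧸ A) :=
    (Submodule.mapQ (A.colon {x}) A (LinearMap.toSpanSingleton R R x) fun r hr =>
      Submodule.mem_colon_singleton.1 hr).restrictScalars K
  have hι : Function.Injective ι := by
    rw [← LinearMap.ker_eq_bot, LinearMap.ker_eq_bot']
    intro z hz
    obtain ⟨r, rfl⟩ := Ideal.Quotient.mk_surjective z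
    have h : r • x ∈ A := (Submodule.Quotient.mk_eq_zero A).1 hz
    exact Ideal.Quotient.eq_zero_iff_mem.2 (Submodule.mem_colon_singleton.2 h)
  have h1 : LinearMap.range (F.domRestrict V) =
      Submodule.map (Ideal.Quotient.mkₐ K (A ⊔ Ideal.span {x})).toLinearMap (𝒜 j) := by
    rw [LinearMap.range_domRestrict, hV, ← Submodule.map_comp]
    rfl
  have h2 : Submodule.map V.subtype (LinearMap.ker (F.domRestrict V)) = Submodule.map ι
      (Submodule.map (Ideal.Quotient.mkₐ K (A.colon {x})).toLinearMap (𝒜 (j - e))) := by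
    refine le_antisymm ?_ ?_
    · rintro _ ⟨⟨z, hz⟩, hk, rfl⟩
      obtain ⟨y, hy, rfl⟩ := hz
      have hk' : y ∈ A ⊔ Ideal.span {x} := (Submodule.Quotient.mk_eq_zero _).1 hk
      obtain ⟨a, ha, b, hb, hab⟩ := Submodule.mem_sup.1 hk'
      obtain ⟨r, rfl⟩ := Ideal.mem_span_singleton'.1 hb
      refine ⟨_, ⟨prj 𝒜 (j - e) r, prj_mem 𝒜 _ r, rfl⟩, ?_⟩
      change Ideal.Quotient.mk A (prj 𝒜 (j - e) r • x) = Ideal.Quotient.mk A y
      refine (Ideal.Quotient.eq.2 ?_).symm
      have h3 : prj 𝒜 j y = y := prj_same 𝒜 hy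
      have h4 : prj 𝒜 j (r * x) = prj 𝒜 (j - e) r • x := by
        rw [show j = e + (j - e) by ring, mul_comm r x, ← smul_eq_mul, prj_smul 𝒜 𝒜 hx,
          add_sub_cancel_left, smul_eq_mul, smul_eq_mul, mul_comm]
      rw [← h3, ← hab, map_add, h4, add_sub_cancel_right]
      exact hA j ha
    · rintro _ ⟨_, ⟨r, hr, rfl⟩, rfl⟩
      refine ⟨⟨_, ⟨r • x, ?_, rfl⟩⟩, ?_, rfl⟩
      · have := smul_mem_add 𝒜 𝒜 hr hx
        rwa [sub_add_cancel] at this
      · exact (Submodule.Quotient.mk_eq_zero _).2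
          (Ideal.mem_sup_right (Ideal.mul_mem_left _ r (Ideal.subset_span rfl)))
  have h3 := LinearMap.finrank_range_add_finrank_ker (F.domRestrict V)
  rw [h1] at h3
  have h4 : Module.finrank K ↥(LinearMap.ker (F.domRestrict V)) = hq (A.colon {x}) (j - e) := by
    rw [← Submodule.finrank_map_subtype_eq, h2]
    exact (Submodule.equivMapOfInjective ι hι _).finrank_eq.symm
  unfold hq at h4 ⊢
  rw [← hV, ← h3, h4]

lemma exists_prime_colon {A : Ideal R} (hA : A.IsHomogeneous 𝒜) (hne : A ≠ ⊤) :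
    ∃ (e : ℤ) (x : R), x ∈ 𝒜 e ∧ x ∉ A ∧ (A.colon {x}).IsPrime := by
  have h1 : ({P : Ideal R | ∃ (e : ℤ) (x : R), x ∈ 𝒜 e ∧ x ∉ A ∧ P = A.colon {x}}).Nonempty :=
    ⟨_, 0, 1, SetLike.one_mem_graded 𝒜, fun h => hne ((Ideal.eq_top_iff_one A).2 h), rfl⟩
  obtain ⟨P, ⟨e, x, hx, hxA, rfl⟩, hmax⟩ := (wellFounded_gt (α := Ideal R)).has_min _ h1
  refine ⟨e, x, hx, hxA, ?_⟩
  refine (colon_homogeneous hA fun y hy => ⟨e, by rwa [Set.mem_singleton_iff.1 hy]⟩).isPrime_of_homogeneous_mem_or_mem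
    (fun h => hxA ?_) ?_
  · have h' : (1 : R) ∈ A.colon {x} := (Ideal.eq_top_iff_one _).1 h
    simpa using Submodule.mem_colon_singleton.1 h'
  · rintro a b ⟨i, ha⟩ ⟨k, hb⟩ hab
    by_cases hbP : b ∈ A.colon {x}
    · exact Or.inr hbP
    left
    have hbx : b • x ∉ A := fun h => hbP (Submodule.mem_colon_singleton.2 h)
    have hle : A.colon {x} ≤ A.colon {b • x} := fun r hr => by
      have := A.mul_mem_left b (Submodule.mem_colon_singleton.1 hr)
      rw [Submodule.mem_colon_singleton, smul_eq_mul, smul_eq_mul]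
      rw [smul_eq_mul] at this
      rwa [mul_left_comm]
    have heq : A.colon {x} = A.colon {b • x} := by
      by_contra h
      exact hmax _ ⟨k + e, b • x, smul_mem_add 𝒜 𝒜 hb hx, hbx, rfl⟩ (lt_of_le_of_ne hle h)
    rw [heq, Submodule.mem_colon_singleton, smul_smul]
    exact Submodule.mem_colon_singleton.1 hab

/-- The Hilbert function of `R/A` is eventually a polynomial of degree `< e`. -/
def IsPolyLT (A : Ideal R) (e : ℕ) : Prop :=
  ∃ p : Polynomial ℚ, p.degree < (e : WithBot ℕ) ∧ ∃ j₀ : ℤ, ∀ j, j₀ ≤ j → (hq A j : ℚ) = p.eval (j : ℚ)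

lemma isPolyLT_of_eventually_zero {A : Ideal R} (e : ℕ) (j₀ : ℤ) (h : ∀ j, j₀ ≤ j → hq A j = 0) :
    IsPolyLT A e :=
  ⟨0, by rw [Polynomial.degree_zero]; exact WithBot.bot_lt_coe e, j₀, fun j hj => by simp [h j hj]⟩

lemma hq_eq_zero_of_le {A : Ideal R} {j : ℤ} (h : ∀ y ∈ 𝒜 j, y ∈ A) : hq A j = 0 := by
  have hb : Submodule.map (Ideal.Quotient.mkₐ K A).toLinearMap (𝒜 j) = ⊥ := by
    rw [eq_bot_iff]
    rintro _ ⟨y, hy, rfl⟩
    exact (Submodule.mem_bot K).2 (Ideal.Quotient.eq_zero_iff_mem.2 (h y hy))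
  unfold hq
  rw [hb, finrank_bot]

lemma isPolyLT_of_primes (e : ℕ) : ∀ A : Ideal R, A.IsHomogeneous 𝒜 →
    (∀ Q : Ideal R, Q.IsPrime → Q.IsHomogeneous 𝒜 → A ≤ Q → IsPolyLT Q e) → IsPolyLT A e := by
  intro A
  induction A using (wellFounded_gt (α := Ideal R)).induction with
  | _ A ih =>
    intro hA hQ
    rcases eq_or_ne A ⊤ with rfl | hne
    · exact isPolyLT_of_eventually_zero e 0 fun j _ => hq_eq_zero_of_le fun y _ => Submodule.mem_top
    obtain ⟨a, x, hx, hxA, hP⟩ := exists_prime_colon hA hne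
    have hlt : A < A ⊔ Ideal.span {x} :=
      lt_of_le_of_ne le_sup_left fun h => hxA (h ▸ Ideal.mem_sup_right (Ideal.subset_span rfl))
    obtain ⟨p₁, hp₁, j₁, h₁⟩ := ih _ hlt (sup_homogeneous hA hx)
      fun Q hQ1 hQ2 hQ3 => hQ Q hQ1 hQ2 (le_sup_left.trans hQ3)
    obtain ⟨p₂, hp₂, j₂, h₂⟩ := hQ _ hP (colon_homogeneous hA fun y hy => ⟨a, by rwa [Set.mem_singleton_iff.1 hy]⟩)
      (fun y hy => Submodule.mem_colon_singleton.2 (Ideal.mul_mem_right x A hy))
    refine ⟨p₁ + p₂.comp (Polynomial.X - Polynomial.C (a : ℚ)), ?_, max j₁ (j₂ + a), fun j hj => ?_⟩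
    · refine lt_of_le_of_lt (Polynomial.degree_add_le _ _) (max_lt hp₁ ?_)
      rcases e with _ | d
      · rw [Polynomial.degree_lt_iff_coeff_zero] at hp₂ ⊢
        have : p₂ = 0 := Polynomial.ext fun m => by simpa using hp₂ m (Nat.zero_le m)
        simp [this]
      · by_cases h0 : p₂ = 0
        · rw [h0, Polynomial.zero_comp, Polynomial.degree_zero]
          exact WithBot.bot_lt_coe _
        · have h5 : p₂.natDegree < d + 1 := (Polynomial.natDegree_lt_iff_degree_lt h0).2 hp₂
          refine Polynomial.degree_le_natDegree.trans_lt ?_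
          exact_mod_cast Nat.lt_succ_of_le (shift_coeff (Nat.lt_succ_iff.1 h5) (a : ℚ)).1
    · rw [hq_step hA hx, Polynomial.eval_add, Polynomial.eval_comp, Nat.cast_add,
        h₁ j (le_of_max_le_left hj), h₂ (j - a) (by have := le_of_max_le_right hj; omega)]
      simp

lemma le_vertex_of_prime {P : Ideal R} (hP : P.IsPrime) (hh : P.IsHomogeneous 𝒜) :
    P ≤ vertex K (n + 1) :=
  minimalPrimes_le_vertex hh (by rw [Ideal.minimalPrimes_eq_subsingleton_self]; rfl)

lemma isPolyLT_vertex (e : ℕ) : IsPolyLT (vertex K (n + 1)) e :=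
  isPolyLT_of_eventually_zero e 1 fun _ hj => hq_eq_zero_of_le fun _ hy =>
    RingHom.mem_ker.2 (constantCoeff_of_mem (by omega) hy)

lemma isPolyLT_prime : ∀ (e : ℕ) (P : Ideal R), P.IsPrime → P.IsHomogeneous 𝒜 →
    ((n + 1 : ℕ) : ℕ∞) ≤ P.height + e → IsPolyLT P e := by
  intro e
  induction e with
  | zero =>
    intro P hP hh hht
    rcases eq_or_ne P (vertex K (n + 1)) with rfl | hne
    · exact isPolyLT_vertex 0
    exfalso
    haveI := hP
    haveI : (vertex K (n + 1)).IsPrime := RingHom.ker_isPrime _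
    have := Ideal.height_strict_mono_of_isPrime (lt_of_le_of_ne (le_vertex_of_prime hP hh) hne)
    rw [height_vertex] at this
    exact not_lt.2 (by simpa using hht) this
  | succ e ih =>
    intro P hP hh hht
    rcases eq_or_ne P (vertex K (n + 1)) with rfl | hne
    · exact isPolyLT_vertex _
    obtain ⟨i, hi⟩ : ∃ i, (MvPolynomial.X i : R) ∉ P := by
      by_contra h
      push Not at h
      refine hne (le_antisymm (le_vertex_of_prime hP hh) fun y hy => ?_)
      have hy' : y ∈ mm K (Fin (n + 1)) := mem_mm_iff.2 hy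
      rw [mm_eq_span] at hy'
      refine Ideal.span_le.2 ?_ hy'
      rintro _ ⟨i, -, rfl⟩
      exact h i
    have hx : (MvPolynomial.X i : R) ∈ 𝒜 1 := MvPolynomial.isWeightedHomogeneous_X K _ i
    obtain ⟨p, hp, j₀, h₀⟩ := isPolyLT_of_primes e _ (sup_homogeneous hh hx) (fun Q hQ1 hQ2 hQ3 => by
      refine ih Q hQ1 hQ2 ?_
      haveI := hP
      haveI := hQ1
      have hlt : P < Q := lt_of_le_of_ne (le_sup_left.trans hQ3) fun h =>
        hi (h.symm ▸ hQ3 (Ideal.mem_sup_right (Ideal.subset_span rfl)))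
      have h1 := Order.add_one_le_of_lt (Ideal.height_strict_mono_of_isPrime hlt)
      refine hht.trans ?_
      rw [Nat.cast_succ, add_comm (e : ℕ∞) 1, ← add_assoc]
      exact add_le_add h1 le_rfl)
    obtain ⟨q, hq', hqe⟩ := exists_antidiff e p hp
    have hcol : P.colon {(MvPolynomial.X i : R)} = P := by
      refine le_antisymm (fun r hr => ?_) fun r hr => Submodule.mem_colon_singleton.2 (P.mul_mem_right _ hr)
      exact (hP.mem_or_mem (Submodule.mem_colon_singleton.1 hr)).resolve_right hi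
    refine ⟨q + Polynomial.C ((hq P j₀ : ℚ) - q.eval (j₀ : ℚ)), ?_, j₀, fun j hj => ?_⟩
    · refine lt_of_le_of_lt (Polynomial.degree_add_le _ _) (max_lt hq' ?_)
      exact Polynomial.degree_C_le.trans_lt (WithBot.coe_lt_coe.2 (Nat.succ_pos e))
    · induction j, hj using Int.le_induction with
      | base => simp
      | succ m hm ihm =>
        have h1 := hq_step hh hx (m + 1)
        rw [hcol, add_sub_cancel_right] at h1
        rw [h1, Nat.cast_add, ihm, h₀ _ (by omega)]
        have h2 := hqe (((m + 1 : ℤ)) : ℚ)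
        simp only [Polynomial.eval_add, Polynomial.eval_C]
        push_cast at h2 ⊢
        rw [add_sub_cancel_right] at h2
        linarith

end Graded

section Artin

variable {B : Type u} [CommRing B]

/-- Annihilator of an ideal. -/
noncomputable abbrev ann (a : Ideal B) : Ideal B := (⊥ : Ideal B).colon (a : Set B)

lemma ann_anti {a b : Ideal B} (h : a ≤ b) : ann b ≤ ann a := fun _ hx =>
  Submodule.mem_colon.2 fun s hs => Submodule.mem_colon.1 hx s (h hs)

lemma le_ann_ann (a : Ideal B) : a ≤ ann (ann a) := fun x hx => Submodule.mem_colon.2 fun s hs => by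
  have := Submodule.mem_colon.1 hs x hx
  rwa [smul_eq_mul, mul_comm] at this

lemma ann_ann_eq [IsNoetherianRing B] [Module.Injective B B] (a : Ideal B) : ann (ann a) = a := by
  refine le_antisymm (fun x hx => ?_) (le_ann_ann a)
  obtain ⟨m, g, hg⟩ := Submodule.fg_iff_exists_fin_generating_family.mp a.fg_of_isNoetherianRing
  have h := mem_span_of_forall_annihilates g x fun r hr => ?_
  · exact (SetLike.ext_iff.1 hg x).1 h
  have hr' : r ∈ ann a := by
    refine Submodule.mem_colon.2 fun s hs => ?_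
    have hle : Submodule.span B (Set.range g) ≤ LinearMap.ker (LinearMap.mulLeft B r) := by
      refine Submodule.span_le.2 ?_
      rintro _ ⟨i, rfl⟩
      exact hr i
    exact (Submodule.mem_bot B).2 (hle ((SetLike.ext_iff.1 hg s).2 hs))
  have h2 := (Submodule.mem_bot B).1 (Submodule.mem_colon.1 hx r hr')
  rwa [smul_eq_mul, mul_comm] at h2

lemma length_quotient_ann_add [IsNoetherianRing B] [Module.Injective B B] (a : Ideal B) :
    Module.length B (B ⧸ ann a) + Module.length B (B ⧸ a) = Module.length B B := by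
  have h1 : Module.length B ↥(ann a) = Module.length B (B ⧸ a) := by
    have e1 : Submodule B ↥(ann a) ≃o Set.Iic (ann a) := Submodule.mapIic (ann a)
    have e2 : Submodule B (B ⧸ a) ≃o Set.Ici a := Submodule.comapMkQRelIso a
    let e : Set.Iic (ann a) ≃o (Set.Ici a)ᵒᵈ :=
      { toFun := fun c => OrderDual.toDual ⟨ann c.1, (le_ann_ann a).trans (ann_anti c.2)⟩
        invFun := fun c => ⟨ann (OrderDual.ofDual c).1, ann_anti (OrderDual.ofDual c).2⟩
        left_inv := fun c => Subtype.ext (ann_ann_eq c.1)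
        right_inv := fun c => OrderDual.ofDual.injective (Subtype.ext (ann_ann_eq (OrderDual.ofDual c).1))
        map_rel_iff' := fun {c d} => by
          refine ⟨fun h => ?_, fun h => ann_anti h⟩
          have := ann_anti (show ann d.1 ≤ ann c.1 from h)
          rw [ann_ann_eq, ann_ann_eq] at this
          exact this }
    apply WithBot.coe_injective
    rw [Module.coe_length, Module.coe_length, Order.krullDim_eq_of_orderIso (e1.trans e),
      Order.krullDim_orderDual, ← Order.krullDim_eq_of_orderIso e2]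
  rw [Module.length_eq_add_of_exact (ann a).subtype (ann a).mkQ Subtype.val_injective
    (Submodule.mkQ_surjective _) (LinearMap.exact_subtype_mkQ _), h1, add_comm]

end Artin

section Localise

variable {T : Type u} [CommRing T] (Q : Ideal T) [Q.IsPrime]

/-- The length of `(T/A)_Q`. -/
noncomputable def len (A : Ideal T) : ℕ∞ :=
  Module.length (Localization.AtPrime Q)
    (Localization.AtPrime Q ⧸ A.map (algebraMap T (Localization.AtPrime Q)))

lemma mul_mem_map_iff (A : Ideal T) (r : T) (s : Q.primeCompl) (x : T) :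
    IsLocalization.mk' (Localization.AtPrime Q) r s * algebraMap T _ x ∈ A.map (algebraMap T _) ↔
      ∃ t ∈ Q.primeCompl, t * (r * x) ∈ A := by
  rw [mul_comm, IsLocalization.mul_mk'_eq_mk'_of_mul, IsLocalization.mk'_mem_map_algebraMap_iff, mul_comm x r]

lemma len_step (A : Ideal T) (x : T) :
    len Q A = len Q (A ⊔ Ideal.span {x}) + len Q (A.colon {x}) := by
  let L := Localization.AtPrime Q
  let f : (L ⧸ (A.colon {x}).map (algebraMap T L)) →ₗ[L] (L ⧸ A.map (algebraMap T L)) :=
    Submodule.mapQ _ _ (LinearMap.toSpanSingleton L L (algebraMap T L x)) fun z hz => by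
      obtain ⟨r, s, rfl⟩ := IsLocalization.exists_mk'_eq Q.primeCompl z
      obtain ⟨t, ht, htr⟩ := (IsLocalization.mk'_mem_map_algebraMap_iff Q.primeCompl L (A.colon {x}) r s).1 hz
      refine (mul_mem_map_iff Q A r s x).2 ⟨t, ht, ?_⟩
      have := Submodule.mem_colon_singleton.1 htr
      rwa [smul_eq_mul, mul_assoc] at this
  have hle : A.map (algebraMap T L) ≤ (A ⊔ Ideal.span {x}).map (algebraMap T L) := Ideal.map_mono le_sup_left
  let g : (L ⧸ A.map (algebraMap T L)) →ₗ[L] (L ⧸ (A ⊔ Ideal.span {x}).map (algebraMap T L)) :=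
    Submodule.factor hle
  have hf : Function.Injective f := by
    rw [← LinearMap.ker_eq_bot, LinearMap.ker_eq_bot']
    intro z hz
    obtain ⟨z, rfl⟩ := Ideal.Quotient.mk_surjective z
    obtain ⟨r, s, rfl⟩ := IsLocalization.exists_mk'_eq Q.primeCompl z
    have h : IsLocalization.mk' L r s * algebraMap T L x ∈ A.map (algebraMap T L) :=
      (Submodule.Quotient.mk_eq_zero _).1 hz
    obtain ⟨t, ht, htr⟩ := (mul_mem_map_iff Q A r s x).1 h
    refine Ideal.Quotient.eq_zero_iff_mem.2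
      ((IsLocalization.mk'_mem_map_algebraMap_iff Q.primeCompl L (A.colon {x}) r s).2 ⟨t, ht, ?_⟩)
    rw [Submodule.mem_colon_singleton, smul_eq_mul, mul_assoc]
    exact htr
  have hg : Function.Surjective g := Submodule.factor_surjective hle
  have hfg : Function.Exact f g := by
    intro z
    obtain ⟨z, rfl⟩ := Ideal.Quotient.mk_surjective z
    refine ⟨fun h => ?_, ?_⟩
    · have h' : z ∈ (A ⊔ Ideal.span {x}).map (algebraMap T L) := (Submodule.Quotient.mk_eq_zero _).1 h
      rw [Ideal.map_sup, Ideal.map_span, Set.image_singleton] at h'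
      obtain ⟨a, ha, b, hb, hab⟩ := Submodule.mem_sup.1 h'
      obtain ⟨c, rfl⟩ := Ideal.mem_span_singleton'.1 hb
      refine ⟨Ideal.Quotient.mk _ c, ?_⟩
      change Ideal.Quotient.mk _ (c * algebraMap T L x) = Ideal.Quotient.mk _ z
      rw [← hab, map_add, Ideal.Quotient.eq_zero_iff_mem.2 ha, zero_add]
    · rintro ⟨y, hy⟩
      obtain ⟨y, rfl⟩ := Ideal.Quotient.mk_surjective y
      rw [← hy]
      exact (Submodule.Quotient.mk_eq_zero _).2
        (Ideal.mul_mem_left _ y (Ideal.mem_map_of_mem _ (Ideal.mem_sup_right (Ideal.subset_span rfl))))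
  unfold len
  rw [Module.length_eq_add_of_exact f g hf hg hfg, add_comm]

lemma len_top : len Q ⊤ = 0 := by
  unfold len
  rw [Ideal.map_top]
  haveI : Subsingleton (Localization.AtPrime Q ⧸ (⊤ : Ideal (Localization.AtPrime Q))) :=
    Submodule.Quotient.subsingleton_iff.2 rfl
  exact Module.length_eq_zero

lemma len_of_not_le {P : Ideal T} (h : ¬ P ≤ Q) : len Q P = 0 := by
  obtain ⟨y, hy, hyQ⟩ := SetLike.not_le_iff_exists.1 h
  have : P.map (algebraMap T (Localization.AtPrime Q)) = ⊤ :=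
    Ideal.eq_top_of_isUnit_mem _ (Ideal.mem_map_of_mem _ hy)
      (IsLocalization.map_units _ (⟨y, hyQ⟩ : Q.primeCompl))
  unfold len
  rw [this]
  haveI : Subsingleton (Localization.AtPrime Q ⧸ (⊤ : Ideal (Localization.AtPrime Q))) :=
    Submodule.Quotient.subsingleton_iff.2 rfl
  exact Module.length_eq_zero

lemma len_self : len Q Q = 1 := by
  unfold len
  rw [Localization.AtPrime.map_eq_maximalIdeal, Module.length_eq_one_iff, isSimpleModule_iff_isCoatom]
  exact Ideal.isMaximal_def.1 (IsLocalRing.maximalIdeal.isMaximal _)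

lemma len_linked [IsNoetherianRing T] [Module.Injective (Localization.AtPrime Q) (Localization.AtPrime Q)]
    (a : Ideal T) : len Q (ann a) + len Q a = len Q ⊥ := by
  let L := Localization.AtPrime Q
  have h : (ann a).map (algebraMap T L) = ann (a.map (algebraMap T L)) := by
    refine le_antisymm (Ideal.map_le_iff_le_comap.2 fun y hy => Submodule.mem_colon.2 fun s hs => ?_) fun z hz => ?_
    · have hle : a.map (algebraMap T L) ≤ LinearMap.ker (LinearMap.mulLeft L (algebraMap T L y)) := by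
        refine Ideal.span_le.2 ?_
        rintro _ ⟨w, hw, rfl⟩
        change algebraMap T L y * algebraMap T L w = 0
        rw [← map_mul, show y * w = 0 from (Submodule.mem_bot T).1 (Submodule.mem_colon.1 hy w hw), map_zero]
      exact (Submodule.mem_bot L).2 (hle hs)
    · obtain ⟨r, s, rfl⟩ := IsLocalization.exists_mk'_eq Q.primeCompl z
      obtain ⟨m, g, hg⟩ := Submodule.fg_iff_exists_fin_generating_family.mp a.fg_of_isNoetherianRing
      have hg' : ∀ i, g i ∈ a := fun i => hg ▸ Submodule.subset_span ⟨i, rfl⟩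
      have h2 : ∀ i, ∃ t : T, t ∈ Q.primeCompl ∧ t * (r * g i) = 0 := fun i => by
        have h3 := (Submodule.mem_bot L).1 (Submodule.mem_colon.1 hz _ (Ideal.mem_map_of_mem _ (hg' i)))
        rw [smul_eq_mul] at h3
        obtain ⟨t, ht, htr⟩ := (mul_mem_map_iff Q ⊥ r s (g i)).1 (by rw [h3]; exact Submodule.zero_mem _)
        exact ⟨t, ht, htr⟩
      choose t ht htc using h2
      refine (IsLocalization.mk'_mem_map_algebraMap_iff Q.primeCompl L (ann a) r s).2
        ⟨∏ i, t i, Submonoid.prod_mem _ fun i _ => ht i, Submodule.mem_colon.2 fun w hw => ?_⟩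
      have hle : Submodule.span T (Set.range g) ≤ LinearMap.ker (LinearMap.mulLeft T ((∏ i, t i) * r)) := by
        refine Submodule.span_le.2 ?_
        rintro _ ⟨i, rfl⟩
        obtain ⟨d, hd⟩ := Finset.dvd_prod_of_mem t (Finset.mem_univ i)
        change (∏ j, t j) * r * g i = 0
        rw [hd, show t i * d * r * g i = d * (t i * (r * g i)) by ring, htc i, mul_zero]
      exact (Submodule.mem_bot T).2 (hle ((SetLike.ext_iff.1 hg w).2 hw))
  unfold len
  rw [h, Ideal.map_bot, length_quotient_ann_add,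
    (Submodule.quotEquivOfEqBot (⊥ : Ideal L) rfl).length_eq]

end Localise

section Main

variable {K : Type u} [Field K] {n : ℕ}

local notation "R" => MvPolynomial (Fin (n + 1)) K
local notation "𝒜" => GrSyz.stdGr K (Fin (n + 1))

lemma poly_unique {f : ℤ → ℕ} {p q : Polynomial ℚ} {a b : ℤ} (hp : ∀ j, a ≤ j → (f j : ℚ) = p.eval (j : ℚ))
    (hq : ∀ j, b ≤ j → (f j : ℚ) = q.eval (j : ℚ)) : p = q := by
  refine Polynomial.eq_of_infinite_eval_eq p q (Set.Infinite.mono ?_
    ((Set.Ici_infinite (max a b)).image (f := fun j : ℤ => (j : ℚ)) Int.cast_injective.injOn))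
  rintro _ ⟨j, hj, rfl⟩
  exact (hp j (le_of_max_le_left hj)).symm.trans (hq j (le_of_max_le_right hj))

lemma poly_of_nat {f : ℤ → ℕ} {p : Polynomial ℚ}
    (h : ∃ j₀ : ℕ, ∀ j : ℕ, j₀ ≤ j → (f (j : ℤ) : ℚ) = p.eval (j : ℚ)) :
    ∃ j₀ : ℤ, ∀ j, j₀ ≤ j → (f j : ℚ) = p.eval (j : ℚ) := by
  obtain ⟨j₀, hj₀⟩ := h
  refine ⟨j₀, fun j hj => ?_⟩
  lift j to ℕ using le_trans (Int.natCast_nonneg j₀) hj
  exact_mod_cast hj₀ j (by exact_mod_cast hj)

theorem exists_coeff_formula (𝔠 : Ideal R) (d : ℕ) (hd : ((n + 1 : ℕ) : ℕ∞) ≤ 𝔠.height + ((d + 1 : ℕ) : ℕ∞)) :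
    ∃ w : PrimeSpectrum (R ⧸ 𝔠) → ℚ, ∃ S : Finset (PrimeSpectrum (R ⧸ 𝔠)),
      (∀ Q ∈ S, Q.asIdeal ∈ minimalPrimes (R ⧸ 𝔠)) ∧
      ∀ A : Ideal R, A.IsHomogeneous 𝒜 → 𝔠 ≤ A →
        (∀ Q ∈ S, len Q.asIdeal (A.map (Ideal.Quotient.mk 𝔠)) ≠ ⊤) ∧
        ∀ (p : Polynomial ℚ) (j₀ : ℤ), (∀ j, j₀ ≤ j → (hq A j : ℚ) = p.eval (j : ℚ)) →
          p.coeff d = ∑ Q ∈ S, ((len Q.asIdeal (A.map (Ideal.Quotient.mk 𝔠))).toNat : ℚ) * w Q := by
  classical
  have hfin : {Q : PrimeSpectrum (R ⧸ 𝔠) | Q.asIdeal ∈ minimalPrimes (R ⧸ 𝔠)}.Finite :=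
    (minimalPrimes.finite_of_isNoetherianRing (R ⧸ 𝔠)).preimage
      ((fun _ _ _ _ h => PrimeSpectrum.ext h) : Set.InjOn PrimeSpectrum.asIdeal _)
  let cf : Ideal R → ℚ := fun P => if h : IsPolyLT P (d + 1) then h.choose.coeff d else 0
  refine ⟨fun Q => cf (Q.asIdeal.comap (Ideal.Quotient.mk 𝔠)), hfin.toFinset, fun Q hQ => hfin.mem_toFinset.1 hQ,
    fun A => ?_⟩
  induction A using (wellFounded_gt (α := Ideal R)).induction with
  | _ A ih =>
    intro hA hcA
    rcases eq_or_ne A ⊤ with rfl | hne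
    · refine ⟨fun Q _ => by rw [Ideal.map_top, len_top]; exact ENat.zero_ne_top, fun p j₀ hp => ?_⟩
      have h0 : p = 0 := poly_unique hp (q := 0) (b := 0) fun j _ => by
        rw [hq_eq_zero_of_le fun y _ => Submodule.mem_top]; simp
      simp [h0, Ideal.map_top, len_top]
    obtain ⟨a, x, hx, hxA, hP⟩ := exists_prime_colon hA hne
    set P := A.colon {x} with hPdef
    have hPh : P.IsHomogeneous 𝒜 := colon_homogeneous hA fun y hy => ⟨a, by rwa [Set.mem_singleton_iff.1 hy]⟩
    have hAP : A ≤ P := fun y hy => Submodule.mem_colon_singleton.2 (Ideal.mul_mem_right x A hy)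
    have hlt : A < A ⊔ Ideal.span {x} :=
      lt_of_le_of_ne le_sup_left fun h => hxA (h ▸ Ideal.mem_sup_right (Ideal.subset_span rfl))
    obtain ⟨hfin', hform⟩ := ih _ hlt (sup_homogeneous hA hx) (hcA.trans le_sup_left)
    set PT := P.map (Ideal.Quotient.mk 𝔠) with hPT
    have hPTprime : PT.IsPrime := Ideal.map_isPrime_of_surjective Ideal.Quotient.mk_surjective
      (by rw [Ideal.mk_ker]; exact hcA.trans hAP)
    have hcomap : PT.comap (Ideal.Quotient.mk 𝔠) = P := by
      rw [hPT, Ideal.comap_map_of_surjective' _ Ideal.Quotient.mk_surjective, Ideal.mk_ker,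
        sup_eq_left.2 (hcA.trans hAP)]
    have hcol : (A.map (Ideal.Quotient.mk 𝔠)).colon {Ideal.Quotient.mk 𝔠 x} = PT := by
      refine le_antisymm (fun y hy => ?_) ?_
      · obtain ⟨y, rfl⟩ := Ideal.Quotient.mk_surjective y
        have h' : y * x ∈ A := by
          have h := Submodule.mem_colon_singleton.1 hy
          rw [smul_eq_mul, ← map_mul, ← Ideal.mem_comap,
            Ideal.comap_map_of_surjective' _ Ideal.Quotient.mk_surjective, Ideal.mk_ker, sup_eq_left.2 hcA] at h
          exact h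
        exact Ideal.mem_map_of_mem _ (Submodule.mem_colon_singleton.2 h')
      · refine Ideal.map_le_iff_le_comap.2 fun y hy => Submodule.mem_colon_singleton.2 ?_
        rw [smul_eq_mul, ← map_mul]
        exact Ideal.mem_map_of_mem _ (Submodule.mem_colon_singleton.1 hy)
    have hstep : ∀ Q : PrimeSpectrum (R ⧸ 𝔠), Q ∈ hfin.toFinset →
        len Q.asIdeal (A.map (Ideal.Quotient.mk 𝔠)) =
          len Q.asIdeal ((A ⊔ Ideal.span {x}).map (Ideal.Quotient.mk 𝔠)) +
            (if Q.asIdeal = PT then 1 else 0) := by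
      intro Q hQ
      rw [len_step Q.asIdeal _ (Ideal.Quotient.mk 𝔠 x), hcol, Ideal.map_sup, Ideal.map_span, Set.image_singleton]
      congr 1
      split_ifs with h
      · rw [← h, len_self]
      · refine len_of_not_le _ fun hle => h (le_antisymm ?_ hle)
        exact (hfin.mem_toFinset.1 hQ).2 ⟨hPTprime, bot_le⟩ hle
    refine ⟨fun Q hQ => ?_, fun p j₀ hp => ?_⟩
    · rw [hstep Q hQ]
      split_ifs <;> simp [hfin' Q hQ]
    have hht : ((n + 1 : ℕ) : ℕ∞) ≤ P.height + ((d + 1 : ℕ) : ℕ∞) :=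
      hd.trans (add_le_add (Ideal.height_mono (hcA.trans hAP)) le_rfl)
    have hPd := isPolyLT_prime (d + 1) P hP hPh hht
    obtain ⟨jP, hjP⟩ := hPd.choose_spec.2
    have hsum : IsPolyLT (A ⊔ Ideal.span {x}) (d + 1) := isPolyLT_of_primes _ _ (sup_homogeneous hA hx)
      fun Q hQ1 hQ2 hQ3 => isPolyLT_prime _ Q hQ1 hQ2
        (hd.trans (add_le_add (Ideal.height_mono ((hcA.trans le_sup_left).trans hQ3)) le_rfl))
    obtain ⟨p₁, hp₁, j₁, h₁⟩ := hsum
    have hpeq : p = p₁ + hPd.choose.comp (Polynomial.X - Polynomial.C (a : ℚ)) := by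
      refine poly_unique hp (b := max j₁ (jP + a)) fun j hj => ?_
      rw [hq_step hA hx, Polynomial.eval_add, Polynomial.eval_comp, Nat.cast_add,
        h₁ j (le_of_max_le_left hj), hjP (j - a) (by have := le_of_max_le_right hj; omega)]
      simp
    have hnd : hPd.choose.natDegree ≤ d := by
      by_cases h0 : hPd.choose = 0
      · exact (congrArg Polynomial.natDegree h0).trans_le (by simp)
      · exact Nat.lt_succ_iff.1 ((Polynomial.natDegree_lt_iff_degree_lt h0).2 hPd.choose_spec.1)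
    have hcfP : cf P = hPd.choose.coeff d := dif_pos hPd
    rw [hpeq, Polynomial.coeff_add, hform p₁ j₁ h₁, (shift_coeff hnd _).2, ← hcfP]
    have hcast : ∀ Q ∈ hfin.toFinset,
        ((len Q.asIdeal (A.map (Ideal.Quotient.mk 𝔠))).toNat : ℚ) * cf (Q.asIdeal.comap (Ideal.Quotient.mk 𝔠)) =
          ((len Q.asIdeal ((A ⊔ Ideal.span {x}).map (Ideal.Quotient.mk 𝔠))).toNat : ℚ) *
              cf (Q.asIdeal.comap (Ideal.Quotient.mk 𝔠)) +
            (if Q.asIdeal = PT then cf P else 0) := by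
      intro Q hQ
      rw [hstep Q hQ]
      split_ifs with h
      · rw [ENat.toNat_add (hfin' Q hQ) ENat.one_ne_top,
          (congrArg (Ideal.comap (Ideal.Quotient.mk 𝔠)) h).trans hcomap, ENat.toNat_one]
        push_cast
        ring
      · simp
    rw [Finset.sum_congr rfl hcast, Finset.sum_add_distrib]
    congr 1
    by_cases hmin : PT ∈ minimalPrimes (R ⧸ 𝔠)
    · rw [Finset.sum_eq_single (⟨PT, hPTprime⟩ : PrimeSpectrum (R ⧸ 𝔠))]
      · exact (if_pos rfl).symm
      · exact fun Q _ hne => if_neg fun h => hne (PrimeSpectrum.ext h)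
      · exact fun h => absurd (hfin.mem_toFinset.2 hmin) h
    · rw [Finset.sum_eq_zero fun Q hQ => if_neg fun h => hmin (by rw [← h]; exact hfin.mem_toFinset.1 hQ)]
      have hPnot : P ∉ 𝔠.minimalPrimes := fun h => hmin ⟨⟨hPTprime, bot_le⟩, fun J hJ hJP => by
        haveI := hJ.1
        have h2 := h.2 (y := J.comap (Ideal.Quotient.mk 𝔠))
          ⟨inferInstance, by intro z hz; simp [Ideal.Quotient.eq_zero_iff_mem.2 hz]⟩
          (by rw [← hcomap]; exact Ideal.comap_mono hJP)
        rw [hPT]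
        exact Ideal.map_le_iff_le_comap.2 h2⟩
      have hlt' : 𝔠.height < P.height := lt_of_not_ge fun h =>
        hPnot (mem_minimalPrimes_of_height_eq (hcA.trans hAP) h)
      have hP' : IsPolyLT P d := isPolyLT_prime d P hP hPh (hd.trans (by
        rw [Nat.cast_succ, add_comm (d : ℕ∞) 1, ← add_assoc]
        exact add_le_add (Order.add_one_le_of_lt hlt') le_rfl))
      obtain ⟨p', hp', j', hj'⟩ := hP'
      rw [hcfP, poly_unique hjP hj']
      exact (Polynomial.degree_lt_iff_coeff_zero p' d).1 hp' d le_rfl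

end Main

end Groth.L13.Liaison.Hilb
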