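/-
The subsheaf generated by sections of an invertible module on a regular curve.
-/
import Groth.Agent.L21.Bundle.Lines
import Groth.Agent.L21.Bundle.Tors
import Groth.Agent.L21.RR.Equality
import Groth.Agent.L21.RR.Finite
import Groth.Agent.L16.CohSupport
import Groth.Agent.L29.DCoh.TensorPerfect
import Groth.Agent.L16.NegPow.Gen
import Groth.Agent.L18.ProjSpaceUP
import Groth.Prelude.Def_LinSer

set_option autoImplicit false
set_option linter.style.haveILetI false
set_option backward.isDefEq.respectTransparency false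

universe u

open CategoryTheory CategoryTheory.Limits AlgebraicGeometry

noncomputable section

namespace Groth.L13.LinSerMap

open Groth.L21.RR (st oneSec one)
open Groth.L21.Bundle (rk rk_eq)

variable {X : Scheme.{u}} [IsIntegral X] [IsLocallyNoetherian X]
  (hreg : ∀ x : X, IsRegularLocalRing (X.presheaf.stalk x)) (hd : topologicalKrullDim X ≤ 1)

include hreg hd in
theorem exists_generated_sub {n : ℕ} {L : X.Modules} (hL : PicF.IsInvertible L) (s : Fin n → ProjUP.Γm L)
    (i₀ : Fin n) (h0 : s i₀ ≠ 0) :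
    ∃ (L' : X.Modules) (α : L' ⟶ L) (t : Fin n → ProjUP.Γm L'), PicF.IsInvertible L' ∧
      ProjUP.GeneratedBy L' t ∧ ∀ i, α.app ⊤ (t i) = s i := by
  classical
  have hrL := Groth.L21.Bundle.rk_eq (Groth.L21.Bundle.locFree_one hL)
  have hcL := Groth.L21.Bundle.isCoh_of_rank (Groth.L21.Bundle.locFree_one hL)
  let q : FlatMod.freeMod X n ⟶ L := Sigma.desc fun i => Groth.L16.homOfSection L (s i)
  let ι : Fin n → (Coh.structureModule X ⟶ FlatMod.freeMod X n) := fun i =>
    Sigma.ι (fun _ : Fin n => Coh.structureModule X) i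
  let π : Fin n → (FlatMod.freeMod X n ⟶ Coh.structureModule X) := fun i =>
    Sigma.desc fun j => if j = i then 𝟙 _ else 0
  have htot : 𝟙 (FlatMod.freeMod X n) = ∑ i, π i ≫ ι i := by
    refine Sigma.hom_ext _ _ fun j => ?_
    rw [Category.comp_id, Preadditive.comp_sum, Finset.sum_eq_single j]
    · rw [← Category.assoc, Sigma.ι_desc, if_pos rfl, Category.id_comp]
    · intro b _ hb
      rw [← Category.assoc, Sigma.ι_desc, if_neg hb.symm, Limits.zero_comp]
    · intro h; exact absurd (Finset.mem_univ j) h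
  let p := Abelian.factorThruImage q
  have hfree : Coh.IsCoh (FlatMod.freeMod X n) :=
    Groth.L16.NegPow.isCoh_of_isFinLocFree (Groth.L29.DC.isFinLocFree_freeMod X _)
  haveI : Coh.IsQCoh L := hcL.1
  have hcI : Coh.IsCoh (Abelian.image q) := Groth.L16.CohSupport.isCoh_image hfree q
  have hI := Groth.L21.Bundle.locFree_of_mono hreg hd (Abelian.image.ι q) hcI (Groth.L21.Bundle.locFree_one hL)
  let t : Fin n → ProjUP.Γm (Abelian.image q) := fun i => (ι i ≫ p).app ⊤ (oneSec X)
  have ht : ∀ i, (Abelian.image.ι q).app ⊤ (t i) = s i := fun i => by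
    have h : (ι i ≫ p) ≫ Abelian.image.ι q = Groth.L16.homOfSection L (s i) := by
      rw [Category.assoc, Abelian.image.fac]; exact Sigma.ι_desc _ _
    show ((ι i ≫ p) ≫ Abelian.image.ι q).app ⊤ (oneSec X) = s i
    rw [h]
    exact Groth.L21.RR.app_homOfSection_one _
  have hle : rk (Abelian.image q) ≤ 1 := (Groth.L21.Bundle.rk_le_of_mono (Abelian.image.ι q) hcI hcL).trans_eq hrL
  have hne : rk (Abelian.image q) ≠ 0 := fun h => h0 <| by
    have hz := Groth.L21.Bundle.isZero_of_rank_zero (h ▸ hI)
    rw [← ht i₀, hz.eq_of_src (Abelian.image.ι q) 0]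
    rfl
  have h1 : rk (Abelian.image q) = 1 := by omega
  refine ⟨Abelian.image q, Abelian.image.ι q, t, Groth.L21.Bundle.isInvertible_of_rank (h1 ▸ hI), fun x => ?_, ht⟩
  rw [eq_top_iff]
  rintro v -
  haveI : Epi p := inferInstanceAs (Epi (Abelian.factorThruImage q))
  obtain ⟨w, rfl⟩ := (Groth.L21.Mod.epi_iff_stalk_surjective p).1 inferInstance x v
  have hw : w = ∑ i, st (ι i) x (st (π i) x w) := by
    have h := congrArg (fun g => ((Groth.L00.Stk.F X x).map g).hom w) htot
    simp only [CategoryTheory.Functor.map_id, Functor.map_sum, Functor.map_comp, ModuleCat.hom_sum,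
      LinearMap.sum_apply] at h
    exact h
  show st p x w ∈ _
  rw [hw, map_sum]
  refine Submodule.sum_mem _ fun i _ => ?_
  obtain ⟨a, ha⟩ := (Groth.L21.RR.bijective_smul_one x).2 (st (π i) x w)
  rw [show st (π i) x w = a • one X x from ha.symm, map_smul, map_smul]
  refine Submodule.smul_mem _ _ (Submodule.subset_span ⟨i, ?_⟩)
  refine Eq.trans ?_ ((Groth.L21.RR.st_one (ι i ≫ p) x (W := ⊤) trivial).symm.trans
    (Groth.L21.RR.st_comp (ι i) p x (one X x)))
  exact congrArg _ (Groth.L18.Frame.rs_self _ le_rfl _).symm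

end Groth.L13.LinSerMap
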