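import Groth.Prelude.Def_ThetaS
import Mathlib.AlgebraicGeometry.Morphisms.Separated
import Mathlib.AlgebraicGeometry.Gluing
import Mathlib.AlgebraicGeometry.Morphisms.ClosedImmersion

/-!
`G_m × T → A¹ × T` is schematically dominant, and the multiplication description of the scaling action.
-/

set_option autoImplicit false

noncomputable section

universe u

open CategoryTheory CategoryTheory.Limits MonoidalCategory CartesianMonoidalCategory AlgebraicGeometry Opposite MonObj
open scoped TensorProduct Polynomial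

namespace Groth.Agent.L13.LineExt

local instance braidedAlgSpecOf (R : Type u) [CommRing R] : (algSpec (CommRingCat.of R)).Braided :=
  braidedAlgSpec

variable {R : Type u} [CommRing R] {X : Over (Spec (CommRingCat.of R))} [IsSeparated X.hom]

theorem ext_of_injective {B C : Type u} [CommRing B] [CommRing C] [Algebra R B] [Algebra R C]
    (φ : B →ₐ[R] C) (hφ : Function.Injective φ) {u v : CoactBr.sp R B ⟶ X}
    (h : CoactBr.pt φ ≫ u = CoactBr.pt φ ≫ v) : u = v := by
  set e := equalizer.ι u v
  have : IsClosedImmersion e.left := isClosedImmersion_equalizer_ι_left u v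
  have hinj : Function.Injective e.left.appTop := by
    have h1 : Function.Injective (CoactBr.pt φ).left.appTop := by
      rw [CoactBr.pt_left]
      have e0 : (Spec.map (CommRingCat.ofHom φ.toRingHom)).appTop =
          (Scheme.ΓSpecIso (CommRingCat.of B)).hom ≫ CommRingCat.ofHom φ.toRingHom ≫
            (Scheme.ΓSpecIso (CommRingCat.of C)).inv := by
        rw [← Scheme.ΓSpecIso_naturality_assoc, Iso.hom_inv_id, Category.comp_id]
      erw [e0]
      exact (ConcreteCategory.bijective_of_isIso (Scheme.ΓSpecIso (CommRingCat.of C)).inv).1.comp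
        (hφ.comp (ConcreteCategory.bijective_of_isIso (Scheme.ΓSpecIso (CommRingCat.of B)).hom).1)
    rw [← equalizer.lift_ι (CoactBr.pt φ) h, Over.comp_left, Scheme.Hom.comp_appTop] at h1
    exact Function.Injective.of_comp (f := (equalizer.lift (CoactBr.pt φ) h).left.appTop) h1
  haveI : IsAffine (CoactBr.sp R B).left := inferInstanceAs (IsAffine (Spec (CommRingCat.of B)))
  have : IsIso e.left := IsClosedImmersion.isIso_of_injective_of_isAffine hinj
  apply Over.OverMorphism.ext
  rw [← cancel_epi e.left, ← Over.comp_left, ← Over.comp_left, equalizer.condition]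

theorem whiskerRight_sp_ext {B C A : Type u} [CommRing B] [CommRing C] [CommRing A] [Algebra R B] [Algebra R C]
    [Algebra R A] (φ : B →ₐ[R] C) (r : C →ₗ[R] B) (hr : ∀ b, r (φ b) = b)
    {u v : CoactBr.sp R B ⊗ CoactBr.sp R A ⟶ X}
    (h : (CoactBr.pt φ ▷ CoactBr.sp R A) ≫ u = (CoactBr.pt φ ▷ CoactBr.sp R A) ≫ v) : u = v := by
  have hinj : Function.Injective (Algebra.TensorProduct.map φ (AlgHom.id R A)) := by
    refine Function.LeftInverse.injective (g := TensorProduct.map r LinearMap.id) fun z => ?_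
    induction z using TensorProduct.induction_on with
    | zero => simp
    | tmul b a => simp [hr]
    | add x y hx hy => rw [map_add, map_add, hx, hy]
  let μB : CoactBr.sp R B ⊗ CoactBr.sp R A ⟶ CoactBr.sp R (B ⊗[R] A) :=
    Functor.LaxMonoidal.μ (algSpec (CommRingCat.of R)) (op (CommAlgCat.of R B)) (op (CommAlgCat.of R A))
  haveI : IsIso μB := inferInstanceAs (IsIso (Functor.LaxMonoidal.μ (algSpec (CommRingCat.of R)) (op (CommAlgCat.of R B)) (op (CommAlgCat.of R A))))
  let μC : CoactBr.sp R C ⊗ CoactBr.sp R A ⟶ CoactBr.sp R (C ⊗[R] A) :=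
    Functor.LaxMonoidal.μ (algSpec (CommRingCat.of R)) (op (CommAlgCat.of R C)) (op (CommAlgCat.of R A))
  haveI : IsIso μC := inferInstanceAs (IsIso (Functor.LaxMonoidal.μ (algSpec (CommRingCat.of R)) (op (CommAlgCat.of R C)) (op (CommAlgCat.of R A))))
  have hnat : (CoactBr.pt φ ▷ CoactBr.sp R A) ≫ μB =
      μC ≫ CoactBr.pt (Algebra.TensorProduct.map φ (AlgHom.id R A)) :=
    Functor.LaxMonoidal.μ_natural_left (algSpec (CommRingCat.of R)) (CommAlgCat.ofHom φ).op (op (CommAlgCat.of R A))
  have e : inv μB ≫ u = inv μB ≫ v := by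
    refine ext_of_injective (B := B ⊗[R] A) (C := C ⊗[R] A) _ hinj ?_
    rw [← cancel_epi μC, ← Category.assoc, ← hnat, ← Category.assoc μC, ← hnat]
    simpa using h
  exact (cancel_epi (inv μB)).1 e

theorem whiskerRight_ext {B C : Type u} [CommRing B] [CommRing C] [Algebra R B] [Algebra R C]
    (φ : B →ₐ[R] C) (r : C →ₗ[R] B) (hr : ∀ b, r (φ b) = b) (T : Over (Spec (CommRingCat.of R)))
    {u v : CoactBr.sp R B ⊗ T ⟶ X}
    (h : (CoactBr.pt φ ▷ T) ≫ u = (CoactBr.pt φ ▷ T) ≫ v) : u = v := by
  apply Over.OverMorphism.ext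
  refine Scheme.Cover.hom_ext (T.left.affineCover.pullback₁ ((CartesianMonoidalCategory.snd (CoactBr.sp R B) T).left)) _ _ fun i => ?_
  let q : T.left.affineCover.X i ⟶ T.left := T.left.affineCover.f i
  let A : CommRingCat.{u} := Γ(T.left.affineCover.X i, ⊤)
  let g0 : Spec A ⟶ Spec (CommRingCat.of R) := (T.left.affineCover.X i).isoSpec.inv ≫ q ≫ T.hom
  letI : Algebra R A := (Spec.preimage g0).hom.toAlgebra
  let qq : CoactBr.sp R A ⟶ T := Over.homMk ((T.left.affineCover.X i).isoSpec.inv ≫ q)
    (by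
      show _ = Spec.map (CommRingCat.ofHom (algebraMap R A))
      rw [Category.assoc]
      exact (Spec.map_preimage g0).symm)
  have key : (CoactBr.sp R B ◁ qq) ≫ u = (CoactBr.sp R B ◁ qq) ≫ v := by
    refine whiskerRight_sp_ext φ r hr ?_
    rw [← Category.assoc, ← Category.assoc, ← whisker_exchange, Category.assoc, Category.assoc, h]
  have key' := congrArg Over.Hom.left key
  rw [Over.comp_left, Over.comp_left] at key'
  let P := pullback.fst ((CartesianMonoidalCategory.snd (CoactBr.sp R B) T).left) (T.left.affineCover.f i)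
  change P ≫ u.left = P ≫ v.left
  let m : pullback ((CartesianMonoidalCategory.snd (CoactBr.sp R B) T).left) (T.left.affineCover.f i) ⟶
      (CoactBr.sp R B ⊗ CoactBr.sp R A).left :=
    pullback.lift (P ≫ (CartesianMonoidalCategory.fst (CoactBr.sp R B) T).left)
      (pullback.snd _ _ ≫ (T.left.affineCover.X i).isoSpec.hom)
      (by
        rw [Category.assoc, Category.assoc, Over.w, ← Over.w (CartesianMonoidalCategory.snd (CoactBr.sp R B) T),
          ← Category.assoc, pullback.condition, ← Over.w qq]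
        simp [qq, q])
  have hm : m ≫ (CoactBr.sp R B ◁ qq).left = P := by
    have e1 : (CoactBr.sp R B ◁ qq).left ≫ pullback.fst (CoactBr.sp R B).hom T.hom =
        pullback.fst (CoactBr.sp R B).hom (CoactBr.sp R A).hom :=
      congrArg Over.Hom.left (whiskerLeft_fst (CoactBr.sp R B) qq)
    have e2 : (CoactBr.sp R B ◁ qq).left ≫ pullback.snd (CoactBr.sp R B).hom T.hom =
        pullback.snd (CoactBr.sp R B).hom (CoactBr.sp R A).hom ≫ (T.left.affineCover.X i).isoSpec.inv ≫ q :=
      congrArg Over.Hom.left (whiskerLeft_snd (CoactBr.sp R B) qq)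
    apply pullback.hom_ext
    · refine (Category.assoc m _ _).trans ?_
      rw [e1]
      exact pullback.lift_fst _ _ _
    · refine (Category.assoc m _ _).trans ?_
      rw [e2]
      refine (Category.assoc m _ _).symm.trans ?_
      erw [pullback.lift_snd]
      rw [Category.assoc, Iso.hom_inv_id_assoc]
      exact pullback.condition.symm
  rw [← hm, Category.assoc, Category.assoc, key']

theorem act_line (T : Over (Spec (CommRingCat.of R))) (g h : T ⟶ ThetaS.Gm R) :
    lift g (h ≫ CoactBr.pt (ThetaS.linePt (ThetaS.zPow R 1))) ≫ (ThetaS.lineAction R).act =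
      (g * h) ≫ CoactBr.pt (ThetaS.linePt (ThetaS.zPow R 1)) := by
  let L := ThetaS.Lau R
  let μL : ThetaS.Gm R ⊗ ThetaS.Gm R ⟶ CoactBr.sp R (ThetaS.Lau R ⊗[R] ThetaS.Lau R) :=
    Functor.LaxMonoidal.μ (algSpec (CommRingCat.of R)) (op (CommAlgCat.of R L)) (op (CommAlgCat.of R L))
  haveI : IsIso μL := inferInstanceAs (IsIso (Functor.LaxMonoidal.μ (algSpec (CommRingCat.of R)) (op (CommAlgCat.of R L)) (op (CommAlgCat.of R L))))
  let i1 : L →ₐ[R] L ⊗[R] L := Algebra.TensorProduct.includeLeft
  let i2 : L →ₐ[R] L ⊗[R] L := Algebra.TensorProduct.includeRight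
  let p : CoactBr.sp R (L ⊗[R] L) ⟶ ThetaS.Gm R ⊗ ThetaS.Gm R := lift (CoactBr.pt i1) (CoactBr.pt i2)
  have hp : p ≫ μL = 𝟙 _ := by
    refine (CoactBr.lift_pt_pt i1 i2).trans ?_
    rw [show Algebra.TensorProduct.lift i1 i2 (fun _ _ => .all _ _) = AlgHom.id R _ from
      Algebra.TensorProduct.ext' fun a b => by simp [i1, i2]]
    exact CoactBr.pt_id
  have : IsIso p := by
    rw [← Category.comp_id p, ← IsIso.hom_inv_id μL, ← Category.assoc, hp, Category.id_comp]
    infer_instance
  suffices hu : (ThetaS.Gm R ◁ (CoactBr.pt (ThetaS.linePt (ThetaS.zPow R 1)) : ThetaS.Gm R ⟶ ThetaS.Line R)) ≫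
      (ThetaS.lineAction R).act = μ[ThetaS.Gm R] ≫ CoactBr.pt (ThetaS.linePt (ThetaS.zPow R 1)) by
    rw [← lift_whiskerLeft_assoc, hu, ← Category.assoc, ← Hom.mul_def]
  rw [← cancel_epi p]
  simp only [p, lift_whiskerLeft_assoc, ← CoactBr.pt_comp]
  have hR : lift (CoactBr.pt i1) (CoactBr.pt i2) ≫ μ[ThetaS.Gm R] = CoactBr.pt i1 * CoactBr.pt i2 := rfl
  rw [reassoc_of% hR, CoactBr.pt_mul_pt, ← CoactBr.pt_comp,
    show i2.comp (ThetaS.linePt (ThetaS.zPow R 1)) = ThetaS.linePt (i2 (ThetaS.zPow R 1)) from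
      Polynomial.algHom_ext (by simp), ThetaS.lineAction_pt]
  congr 1
  apply Polynomial.algHom_ext
  simp [i1, i2, Bialgebra.comulAlgHom_apply]
  exact (ThetaS.comul_zPow R 1).symm

end Groth.Agent.L13.LineExt
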