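import Groth.Agent.L12.PSRing
import Mathlib.RingTheory.Flat.EquationalCriterion
import Mathlib.RingTheory.Nakayama
import Mathlib.RingTheory.MvPowerSeries.NoZeroDivisors
import Mathlib.RingTheory.AdicCompletion.Noetherian
import Mathlib.RingTheory.LocalRing.ResidueField.Basic
import Mathlib.RingTheory.Filtration
import Mathlib.FieldTheory.IsAlgClosed.Basic
import Mathlib.Tactic

/-!
A flat deformation of a node with an involution diagonal on the branches is `R⟦X, Y⟧/(XY - t)`,
equivariantly.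
-/

set_option autoImplicit false

universe u

open IsLocalRing

namespace Groth.Agent.L13.NodeDeform

variable {k R S D : Type u} [Field k] [CommRing R] [IsLocalRing R] [CommRing S] [IsLocalRing S]
  [Algebra k R] [Algebra R S] [Algebra k S] [IsScalarTower k R S] [CommRing D] [Algebra k D]

local notation "mR" => maximalIdeal R
local notation "J" => Ideal.map (algebraMap R S) (maximalIdeal R)

lemma map_le_maximalIdeal [IsLocalHom (algebraMap R S)] : J ≤ maximalIdeal S :=
  ((IsLocalRing.local_hom_TFAE (algebraMap R S)).out 0 2).mp ‹_›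

lemma map_mem_pow (σ : S ≃ₐ[R] S) {n : ℕ} {z : S} (h : z ∈ J ^ n) : σ z ∈ J ^ n := by
  have := Ideal.mem_map_of_mem σ.toAlgHom.toRingHom h
  rw [Ideal.map_pow, Ideal.map_map] at this
  rwa [show σ.toAlgHom.toRingHom.comp (algebraMap R S) = algebraMap R S from
    RingHom.ext fun r => σ.commutes r] at this

/-- Decomposition of the graded pieces along two generators of the closed fibre. -/
lemma exists_decomp (hres : ∀ s : S, ∃ c : k, s - algebraMap k S c ∈ maximalIdeal S) (x y : S)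
    (hgen : ∀ s ∈ maximalIdeal S, ∃ g h, s - (x * g + y * h) ∈ J) (n : ℕ) {e : S} (he : e ∈ J ^ n) :
    ∃ r ∈ mR ^ n, ∃ a ∈ J ^ n, ∃ b ∈ J ^ n,
      e - (algebraMap R S r + x * a + y * b) ∈ J ^ (n + 1) := by
  rw [← Ideal.map_pow] at he
  refine Submodule.span_induction (p := fun e _ => ∃ r ∈ mR ^ n, ∃ a ∈ J ^ n, ∃ b ∈ J ^ n,
      e - (algebraMap R S r + x * a + y * b) ∈ J ^ (n + 1)) ?_ ?_ ?_ ?_ he
  · rintro _ ⟨r, hr, rfl⟩
    exact ⟨r, hr, 0, zero_mem _, 0, zero_mem _, by simp⟩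
  · exact ⟨0, zero_mem _, 0, zero_mem _, 0, zero_mem _, by simp⟩
  · rintro e e' _ _ ⟨r, hr, a, ha, b, hb, h⟩ ⟨r', hr', a', ha', b', hb', h'⟩
    refine ⟨r + r', add_mem hr hr', a + a', add_mem ha ha', b + b', add_mem hb hb', ?_⟩
    convert add_mem h h' using 1
    rw [map_add]; ring
  · rintro s e _ ⟨r, hr, a, ha, b, hb, h⟩
    have hen : e ∈ J ^ n := by
      have h1 : algebraMap R S r ∈ J ^ n := by
        rw [← Ideal.map_pow]; exact Ideal.mem_map_of_mem _ hr
      have := add_mem (Ideal.pow_le_pow_right (Nat.le_succ n) h)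
        (add_mem (add_mem h1 (Ideal.mul_mem_left _ x ha)) (Ideal.mul_mem_left _ y hb))
      rwa [sub_add_cancel] at this
    obtain ⟨c, hc⟩ := hres s
    obtain ⟨g, h', hgh⟩ := hgen _ hc
    refine ⟨algebraMap k R c * r, Ideal.mul_mem_left _ _ hr,
      algebraMap k S c * a + g * e, add_mem (Ideal.mul_mem_left _ _ ha) (Ideal.mul_mem_left _ _ hen),
      algebraMap k S c * b + h' * e, add_mem (Ideal.mul_mem_left _ _ hb) (Ideal.mul_mem_left _ _ hen),
      ?_⟩
    have h2 : (s - algebraMap k S c - (x * g + y * h')) * e ∈ J ^ (n + 1) := by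
      rw [pow_succ']; exact Ideal.mul_mem_mul hgh hen
    convert add_mem (Ideal.mul_mem_left _ (algebraMap k S c) h) h2 using 1
    rw [map_mul, ← IsScalarTower.algebraMap_apply, smul_eq_mul]; ring

/-- The equivariant deformation theorem. -/
theorem exists_iso [IsLocalHom (algebraMap R S)] [IsNoetherianRing R]
    [IsAdicComplete mR R] [IsAdicComplete (maximalIdeal S) S] [Module.Flat R S]
    [IsNoetherianRing D] [IsLocalRing D]
    (h2 : (2 : k) ≠ 0) (π : S →+* D) (hπ : Function.Surjective π) (hker : RingHom.ker π = J)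
    (hπk : ∀ c, π (algebraMap k S c) = algebraMap k D c)
    (α : MvPowerSeries (Fin 2) k →ₐ[k] D) (hα : Function.Surjective α)
    (hαk : RingHom.ker α.toRingHom = Ideal.span {MvPowerSeries.X 0 * MvPowerSeries.X 1})
    (σ : S ≃ₐ[R] S) (hσ : ∀ s, σ (σ s) = s) (σ₀ : D →ₐ[k] D) (hσ₀ : ∀ s, π (σ s) = σ₀ (π s))
    (ξ₁ ξ₂ : k) (h₁ : ξ₁ ^ 2 = 1) (h₂ : ξ₂ ^ 2 = 1)
    (hX : σ₀ (α (MvPowerSeries.X 0)) = algebraMap k D ξ₂ * α (MvPowerSeries.X 0))
    (hY : σ₀ (α (MvPowerSeries.X 1)) = algebraMap k D ξ₁ * α (MvPowerSeries.X 1)) :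
    ∃ (t : R) (Φ : MvPowerSeries (Fin 2) R →ₐ[R] S), (ξ₁ = -ξ₂ → t = 0) ∧ Function.Surjective Φ ∧
      RingHom.ker Φ.toRingHom = Ideal.span
        {MvPowerSeries.X 0 * MvPowerSeries.X 1 - MvPowerSeries.C t} ∧
      σ (Φ (MvPowerSeries.X 0)) = algebraMap k S ξ₂ * Φ (MvPowerSeries.X 0) ∧
      σ (Φ (MvPowerSeries.X 1)) = algebraMap k S ξ₁ * Φ (MvPowerSeries.X 1) := by
  classical
  have hJm : J ≤ maximalIdeal S := map_le_maximalIdeal
  have σk : ∀ c : k, σ (algebraMap k S c) = algebraMap k S c := fun c => by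
    rw [IsScalarTower.algebraMap_apply k R S, σ.commutes]
  have hXY : ∀ i : Fin 2, MvPowerSeries.constantCoeff
      (MvPowerSeries.X i : MvPowerSeries (Fin 2) k) = 0 := fun i => MvPowerSeries.constantCoeff_X i
  have hαunit : ∀ f, IsUnit (α f) → MvPowerSeries.constantCoeff f ≠ 0 := by
    intro f hu h0
    obtain ⟨v, hv⟩ := hu.exists_right_inv
    obtain ⟨g, rfl⟩ := hα v
    have : f * g - 1 ∈ RingHom.ker α.toRingHom := by
      rw [RingHom.mem_ker]; show α (f * g - 1) = 0
      rw [map_sub, map_mul, hv, map_one, sub_self]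
    rw [hαk, Ideal.mem_span_singleton] at this
    obtain ⟨w, hw⟩ := this
    simpa [h0, hXY] using congrArg MvPowerSeries.constantCoeff hw
  have hπunit : ∀ s, IsUnit (π s) → s ∉ maximalIdeal S := by
    intro s hu hs
    obtain ⟨v, hv⟩ := hu.exists_right_inv
    obtain ⟨g, rfl⟩ := hπ v
    have hmem : s * g - 1 ∈ maximalIdeal S := hJm (by
      rw [← hker, RingHom.mem_ker, map_sub, map_mul, hv, map_one, sub_self])
    apply (maximalIdeal.isMaximal S).ne_top
    rw [Ideal.eq_top_iff_one, show (1 : S) = s * g - (s * g - 1) by ring]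
    exact sub_mem (Ideal.mul_mem_right _ _ hs) hmem
  have hres : ∀ s : S, ∃ c : k, s - algebraMap k S c ∈ maximalIdeal S := by
    intro s
    obtain ⟨f, hf⟩ := hα (π s)
    refine ⟨MvPowerSeries.constantCoeff f, (mem_maximalIdeal _).mpr fun hu => ?_⟩
    have := hu.map π
    rw [map_sub, hπk, ← hf, ← α.commutes, ← map_sub] at this
    exact hαunit _ this (by simp [MvPowerSeries.algebraMap_apply])
  have hresR : ∀ r : R, ∃ c : k, r - algebraMap k R c ∈ mR := fun r => by
    obtain ⟨c, hc⟩ := hres (algebraMap R S r)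
    refine ⟨c, (mem_maximalIdeal _).mpr fun hu => ?_⟩
    rw [IsScalarTower.algebraMap_apply k R S, ← map_sub] at hc
    exact (mem_maximalIdeal _).mp hc (hu.map _)
  -- halving
  set H : S := algebraMap k S (2⁻¹ : k)
  have hH : H * 2 = 1 := by
    rw [show (2 : S) = algebraMap k S 2 from (map_ofNat _ 2).symm, ← map_mul, inv_mul_cancel₀ h2,
      map_one]
  have hξ₁ : algebraMap k S ξ₁ * algebraMap k S ξ₁ = 1 := by rw [← map_mul, ← sq, h₁, map_one]
  have hξ₂ : algebraMap k S ξ₂ * algebraMap k S ξ₂ = 1 := by rw [← map_mul, ← sq, h₂, map_one]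
  set e₁ : S := algebraMap k S ξ₁
  set e₂ : S := algebraMap k S ξ₂
  have σH : σ H = H := σk _
  have σe₁ : σ e₁ = e₁ := σk _
  have σe₂ : σ e₂ = e₂ := σk _
  -- coordinates
  obtain ⟨x₀, hx₀⟩ := hπ (α (MvPowerSeries.X 0))
  obtain ⟨y₀, hy₀⟩ := hπ (α (MvPowerSeries.X 1))
  set x : S := H * (x₀ + e₂ * σ x₀) with hx
  set y : S := H * (y₀ + e₁ * σ y₀) with hy
  have πH : π H * 2 = 1 := by rw [← map_ofNat π 2, ← map_mul, hH, map_one]
  have πx : π x = α (MvPowerSeries.X 0) := by
    rw [hx, map_mul, map_add, map_mul, hσ₀, hx₀, hX, ← mul_assoc (π e₂), ← hπk, ← map_mul, hξ₂,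
      map_one, one_mul]
    linear_combination α (MvPowerSeries.X 0) * πH
  have πy : π y = α (MvPowerSeries.X 1) := by
    rw [hy, map_mul, map_add, map_mul, hσ₀, hy₀, hY, ← mul_assoc (π e₁), ← hπk, ← map_mul, hξ₁,
      map_one, one_mul]
    linear_combination α (MvPowerSeries.X 1) * πH
  have σx : σ x = e₂ * x := by
    rw [hx, map_mul, map_add, map_mul, hσ, σe₂, σH]
    linear_combination -(H * σ x₀) * hξ₂
  have σy : σ y = e₁ * y := by
    rw [hy, map_mul, map_add, map_mul, hσ, σe₁, σH]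
    linear_combination -(H * σ y₀) * hξ₁
  clear_value x y
  have hgen : ∀ s ∈ maximalIdeal S, ∃ g h, s - (x * g + y * h) ∈ J := by
    intro s hs
    obtain ⟨f, hf⟩ := hα (π s)
    have hf0 : MvPowerSeries.constantCoeff f = 0 := by
      by_contra h0
      refine hπunit s ?_ hs
      rw [← hf]
      exact (MvPowerSeries.isUnit_iff_constantCoeff.mpr (isUnit_iff_ne_zero.mpr h0)).map α
    have := Groth.L12.sub_C_mem_span_X f
    rw [hf0, map_zero, sub_zero, Ideal.mem_span_range_iff_exists_fun] at this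
    obtain ⟨c, hc⟩ := this
    rw [Fin.sum_univ_two] at hc
    obtain ⟨g, hg⟩ := hπ (α (c 0))
    obtain ⟨h, hh⟩ := hπ (α (c 1))
    refine ⟨g, h, ?_⟩
    rw [← hker, RingHom.mem_ker, map_sub, map_add, map_mul, map_mul, πx, πy, hg, hh, ← hf, ← hc,
      map_add, map_mul, map_mul]
    ring
  have hxm : x ∈ maximalIdeal S := (mem_maximalIdeal _).mpr fun hu =>
    hαunit _ (πx ▸ hu.map π) (hXY 0)
  have hym : y ∈ maximalIdeal S := (mem_maximalIdeal _).mpr fun hu =>
    hαunit _ (πy ▸ hu.map π) (hXY 1)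
  have h2R : ∀ r : R, algebraMap R S (algebraMap k R 2⁻¹ * (r + algebraMap k R (ξ₁ * ξ₂) * r)) =
      H * (algebraMap R S r + e₁ * e₂ * algebraMap R S r) := fun r => by
    simp only [H, e₁, e₂, map_mul, map_add, ← IsScalarTower.algebraMap_apply]
  -- the iteration
  let Good : ℕ → S × S × R → Prop := fun n q =>
    q.1 - x ∈ J ∧ q.2.1 - y ∈ J ∧ q.2.2 ∈ mR ∧ σ q.1 = e₂ * q.1 ∧ σ q.2.1 = e₁ * q.2.1 ∧
      (ξ₁ = -ξ₂ → q.2.2 = 0) ∧ q.1 * q.2.1 - algebraMap R S q.2.2 ∈ J ^ (n + 1)
  have base : Good 0 (x, y, 0) := by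
    refine ⟨by simp, by simp, zero_mem _, σx, σy, fun _ => rfl, ?_⟩
    rw [pow_one, map_zero, sub_zero, ← hker, RingHom.mem_ker, map_mul, πx, πy, ← map_mul]
    show α.toRingHom _ = 0
    rw [← RingHom.mem_ker, hαk]
    exact Ideal.subset_span rfl
  have step : ∀ n q, Good n q → ∃ q', Good (n + 1) q' ∧ q'.1 - q.1 ∈ J ^ (n + 1) ∧
      q'.2.1 - q.2.1 ∈ J ^ (n + 1) ∧ q'.2.2 - q.2.2 ∈ mR ^ (n + 1) := by
    rintro n ⟨p, q, t⟩ ⟨hp, hq, ht, σp, σq, ht0, he⟩
    dsimp only at *
    obtain ⟨r, hr, a, ha, b, hb, h⟩ := exists_decomp hres x y hgen (n + 1) he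
    set e := p * q - algebraMap R S t with hedef
    have σe : σ e = e₁ * e₂ * e := by
      by_cases hneg : ξ₁ = -ξ₂
      · rw [hedef, ht0 hneg, map_zero, sub_zero, map_mul, σp, σq]; ring
      · have : ξ₁ = ξ₂ := by
          rcases sq_eq_one_iff.mp h₁ with a | a <;> rcases sq_eq_one_iff.mp h₂ with b | b <;>
            simp [a, b] at hneg ⊢
        have hee : e₁ * e₂ = 1 := by
          show algebraMap k S ξ₁ * algebraMap k S ξ₂ = 1
          rw [this]; exact hξ₂
        rw [hedef, map_sub, map_mul, σp, σq, σ.commutes]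
        linear_combination (p * q) * hee + (algebraMap R S t - p * q) * hee
    set r' := algebraMap k R 2⁻¹ * (r + algebraMap k R (ξ₁ * ξ₂) * r) with hr'
    set a' := H * (a + e₁ * σ a) with ha'
    set b' := H * (b + e₂ * σ b) with hb'
    have key : e - (algebraMap R S r' + x * a' + y * b') ∈ J ^ (n + 1 + 1) := by
      have h' := map_mem_pow σ h
      rw [map_sub, σe, map_add, map_add, σ.commutes, map_mul, map_mul, σx, σy] at h'
      convert Ideal.mul_mem_left _ H (add_mem h (Ideal.mul_mem_left _ (e₁ * e₂) h')) using 1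
      rw [h2R, ha', hb']
      linear_combination (-H * e₁ * e₁ * e + H * x * e₁ * σ a) * hξ₂ + (-H * e + H * y * e₂ * σ b) * hξ₁
        - e * hH
    have ha'm : a' ∈ J ^ (n + 1) :=
      Ideal.mul_mem_left _ _ (add_mem ha (Ideal.mul_mem_left _ _ (map_mem_pow σ ha)))
    have hb'm : b' ∈ J ^ (n + 1) :=
      Ideal.mul_mem_left _ _ (add_mem hb (Ideal.mul_mem_left _ _ (map_mem_pow σ hb)))
    have hr'm : r' ∈ mR ^ (n + 1) :=
      Ideal.mul_mem_left _ _ (add_mem hr (Ideal.mul_mem_left _ _ hr))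
    have hle : J ^ (n + 1) ≤ J := Ideal.pow_le_self (Nat.succ_ne_zero n)
    refine ⟨(p - b', q - a', t + r'),
      ⟨?_, ?_, add_mem ht (Ideal.pow_le_self (Nat.succ_ne_zero n) hr'm), ?_, ?_, ?_, ?_⟩,
      by simpa using hb'm, by simpa using ha'm, by simpa using hr'm⟩
    · rw [show p - b' - x = (p - x) - b' by ring]; exact sub_mem hp (hle hb'm)
    · rw [show q - a' - y = (q - y) - a' by ring]; exact sub_mem hq (hle ha'm)
    · show σ (p - b') = e₂ * (p - b')
      rw [hb', map_sub, σp, map_mul, map_add, map_mul, hσ, σe₂, σH]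
      linear_combination (H * σ b) * hξ₂
    · show σ (q - a') = e₁ * (q - a')
      rw [ha', map_sub, σq, map_mul, map_add, map_mul, hσ, σe₁, σH]
      linear_combination (H * σ a) * hξ₁
    · intro hneg
      show t + r' = 0
      rw [ht0 hneg, hr', show ξ₁ * ξ₂ = -1 by rw [hneg, neg_mul, ← sq, h₂]]
      simp
    · show (p - b') * (q - a') - algebraMap R S (t + r') ∈ J ^ (n + 1 + 1)
      have hm : ∀ {u v : S}, u ∈ J → v ∈ J ^ (n + 1) → u * v ∈ J ^ (n + 1 + 1) := fun hu hv => by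
        rw [pow_succ' _ (n + 1)]; exact Ideal.mul_mem_mul hu hv
      convert add_mem (sub_mem (sub_mem key (hm hp ha'm)) (hm hq hb'm)) (hm (hle ha'm) hb'm)
        using 1
      rw [hedef, map_add]; ring
  let T (n : ℕ) := {q : S × S × R // Good n q}
  let next (n : ℕ) (q : T n) : T (n + 1) :=
    ⟨(step n q.1 q.2).choose, (step n q.1 q.2).choose_spec.1⟩
  let F : ∀ n, T n := fun n => Nat.rec (⟨(x, y, 0), base⟩ : T 0) (fun n q => next n q) n
  have hF : ∀ n, (F (n + 1)).1.1 - (F n).1.1 ∈ J ^ (n + 1) ∧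
      (F (n + 1)).1.2.1 - (F n).1.2.1 ∈ J ^ (n + 1) ∧
      (F (n + 1)).1.2.2 - (F n).1.2.2 ∈ mR ^ (n + 1) :=
    fun n => (step n (F n).1 (F n).2).choose_spec.2
  have lim : ∀ {A : Type u} [CommRing A] (I : Ideal A) [IsPrecomplete I A] (f : ℕ → A),
      (∀ n, f (n + 1) - f n ∈ I ^ (n + 1)) → ∃ L, ∀ n, f n - L ∈ I ^ n := by
    intro A _ I _ f hf
    obtain ⟨L, hL⟩ := IsPrecomplete.prec' (I := I) f (fun {m n} hmn => by
      rw [SModEq.sub_mem, smul_eq_mul, Ideal.mul_top]
      induction n, hmn using Nat.le_induction with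
      | base => simp
      | succ n hmn ih =>
        rw [show f m - f (n + 1) = (f m - f n) - (f (n + 1) - f n) by ring]
        exact sub_mem ih (Ideal.pow_le_pow_right (by omega) (hf n)))
    exact ⟨L, fun n => by simpa [SModEq.sub_mem, smul_eq_mul, Ideal.mul_top] using hL n⟩
  have hJn : ∀ n, J ^ n ≤ maximalIdeal S ^ n := fun n => Ideal.pow_right_mono hJm n
  obtain ⟨x', hx'⟩ := lim (maximalIdeal S) (fun n => (F n).1.1) (fun n => hJn _ (hF n).1)
  obtain ⟨y', hy'⟩ := lim (maximalIdeal S) (fun n => (F n).1.2.1) (fun n => hJn _ (hF n).2.1)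
  obtain ⟨t, ht⟩ := lim mR (fun n => (F n).1.2.2) (fun n => (hF n).2.2)
  have sep : ∀ {u v : S}, (∀ n, u - v ∈ maximalIdeal S ^ n) → u = v :=
    Groth.L12.eq_of_forall_sub_mem_pow _
  have σpow : ∀ {n : ℕ} {z : S}, z ∈ maximalIdeal S ^ n → σ z ∈ maximalIdeal S ^ n := by
    intro n z hz
    have := Ideal.mem_map_of_mem σ.toRingEquiv.toRingHom hz
    rw [Ideal.map_pow] at this
    refine Ideal.pow_right_mono (Ideal.map_le_iff_le_comap.mpr fun w hw => ?_) n this
    rw [Ideal.mem_comap, mem_maximalIdeal]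
    intro hu
    exact (mem_maximalIdeal _).mp hw (by simpa using hu.map σ.toRingEquiv.symm)
  have σx' : σ x' = e₂ * x' := sep fun n => by
    have := sub_mem (Ideal.mul_mem_left _ e₂ (hx' n)) (σpow (hx' n))
    rwa [map_sub, (F n).2.2.2.2.1, show e₂ * ((F n).1.1 - x') - (e₂ * (F n).1.1 - σ x') =
      σ x' - e₂ * x' by ring] at this
  have σy' : σ y' = e₁ * y' := sep fun n => by
    have := sub_mem (Ideal.mul_mem_left _ e₁ (hy' n)) (σpow (hy' n))
    rwa [map_sub, (F n).2.2.2.2.2.1, show e₁ * ((F n).1.2.1 - y') - (e₁ * (F n).1.2.1 - σ y') =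
      σ y' - e₁ * y' by ring] at this
  have hxy : x' * y' = algebraMap R S t := sep fun n => by
    have hmapt : algebraMap R S (F n).1.2.2 - algebraMap R S t ∈ maximalIdeal S ^ n := by
      rw [← map_sub]
      refine hJn n ?_
      rw [← Ideal.map_pow]; exact Ideal.mem_map_of_mem _ (ht n)
    rw [show x' * y' - algebraMap R S t = ((F n).1.1 * (F n).1.2.1 - algebraMap R S (F n).1.2.2)
      - (F n).1.2.1 * ((F n).1.1 - x') - x' * ((F n).1.2.1 - y') +
        (algebraMap R S (F n).1.2.2 - algebraMap R S t) by ring]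
    exact add_mem (sub_mem (sub_mem
      (Ideal.pow_le_pow_right (Nat.le_succ n) (hJn _ (F n).2.2.2.2.2.2.2))
      (Ideal.mul_mem_left _ _ (hx' n))) (Ideal.mul_mem_left _ _ (hy' n))) hmapt
  have ht0 : ξ₁ = -ξ₂ → t = 0 := fun hneg =>
    Groth.L12.eq_of_forall_sub_mem_pow mR fun n => by
      have := neg_mem (ht n)
      rw [(F n).2.2.2.2.2.2.1 hneg] at this
      simpa using this
  have htm : t ∈ mR := by
    simpa using sub_mem (F 1).2.2.2.1 (by simpa using ht 1 : (F 1).1.2.2 - t ∈ mR)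
  have hx'm : x' ∈ maximalIdeal S := by
    have h1 : (F 1).1.1 ∈ maximalIdeal S := by simpa using add_mem (hJm (F 1).2.1) hxm
    simpa using sub_mem h1 (by simpa using hx' 1 : (F 1).1.1 - x' ∈ maximalIdeal S)
  have hy'm : y' ∈ maximalIdeal S := by
    have h1 : (F 1).1.2.1 ∈ maximalIdeal S := by simpa using add_mem (hJm (F 1).2.2.1) hym
    simpa using sub_mem h1 (by simpa using hy' 1 : (F 1).1.2.1 - y' ∈ maximalIdeal S)
  -- congruences modulo the base
  have hD : IsHausdorff (maximalIdeal D) D :=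
    IsHausdorff.of_isLocalRing (maximalIdeal D) D (maximalIdeal.isMaximal D).ne_top
  have hcongr : ∀ (z z' : S) (f : ℕ → S), (∀ n, f n - z ∈ J) →
      (∀ n, f n - z' ∈ maximalIdeal S ^ n) → π z' = π z := by
    intro z z' f hz hz'
    have hmax : ∀ (z : S) (N : ℕ), z ∈ maximalIdeal S ^ N → π z ∈ maximalIdeal D ^ N := by
      intro z N hz
      have := Ideal.mem_map_of_mem π hz
      rw [Ideal.map_pow] at this
      refine Ideal.pow_right_mono (Ideal.map_le_iff_le_comap.mpr fun w hw => ?_) N this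
      rw [Ideal.mem_comap, mem_maximalIdeal]
      exact fun hu => hπunit w hu hw
    refine Groth.L12.eq_of_forall_sub_mem_pow (maximalIdeal D) fun N => ?_
    rw [← map_sub, show z' - z = -(f N - z') + (f N - z) by ring, map_add,
      show π (f N - z) = 0 by rw [← RingHom.mem_ker, hker]; exact hz N, add_zero]
    exact hmax _ _ (neg_mem (hz' N))
  have πx' : π x' = α (MvPowerSeries.X 0) :=
    (hcongr x x' (fun n => (F n).1.1) (fun n => (F n).2.1) hx').trans πx
  have πy' : π y' = α (MvPowerSeries.X 1) :=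
    (hcongr y y' (fun n => (F n).1.2.1) (fun n => (F n).2.2.1) hy').trans πy
  -- the map
  obtain ⟨Φ, hΦ⟩ := Groth.L12.exists_evalPS (R := R) (maximalIdeal S) ![x', y']
    (fun i => by fin_cases i <;> assumption)
  have hΦ0 : Φ (MvPowerSeries.X 0) = x' := hΦ 0
  have hΦ1 : Φ (MvPowerSeries.X 1) = y' := hΦ 1
  have hΦC : ∀ r, Φ (MvPowerSeries.C r) = algebraMap R S r := fun r => Φ.commutes r
  have hΦsurj : Function.Surjective Φ := by
    set I := maximalIdeal (MvPowerSeries (Fin 2) R)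
    have hJI : J ≤ I.map Φ.toRingHom := Ideal.map_le_iff_le_comap.mpr fun r hr => by
      rw [Ideal.mem_comap, ← hΦC r]
      exact Ideal.mem_map_of_mem Φ.toRingHom (Groth.L12.C_mem_maximalIdeal hr)
    have hle : I.map Φ.toRingHom ≤ maximalIdeal S := by
      refine Ideal.map_le_iff_le_comap.mpr fun f hf => ?_
      rw [Ideal.mem_comap, show f = MvPowerSeries.C (MvPowerSeries.constantCoeff f) +
        (f - MvPowerSeries.C (MvPowerSeries.constantCoeff f)) by ring, map_add]
      refine add_mem ?_ ?_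
      · show Φ (MvPowerSeries.C _) ∈ _
        rw [hΦC]
        exact hJm (Ideal.mem_map_of_mem _ ((Groth.L12.ps_mem_maximalIdeal_iff f).mp hf))
      · have h1 := Ideal.mem_map_of_mem Φ.toRingHom (Groth.L12.sub_C_mem_span_X f)
        rw [Ideal.map_span, ← Set.range_comp] at h1
        refine Ideal.span_le.mpr ?_ h1
        rintro _ ⟨i, rfl⟩
        show Φ (MvPowerSeries.X i) ∈ maximalIdeal S
        fin_cases i
        · rw [Fin.zero_eta, hΦ0]; exact hx'm
        · rw [Fin.mk_one, hΦ1]; exact hy'm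
    have : IsHausdorff (I.map Φ.toRingHom) S := ⟨fun z hz => sep (v := 0) fun n => by
      have := hz n
      rw [SModEq.sub_mem, smul_eq_mul, Ideal.mul_top] at this
      exact Ideal.pow_right_mono hle n this⟩
    have := Groth.L12.isAdicComplete_mvPowerSeries (σ := Fin 2) (R := R)
    refine surjective_of_mk_map_comp_surjective (I := I) Φ.toRingHom fun z => ?_
    obtain ⟨s, rfl⟩ := Ideal.Quotient.mk_surjective z
    obtain ⟨c, hc⟩ := hres s
    refine ⟨MvPowerSeries.C (algebraMap k R c), Ideal.Quotient.eq.mpr ?_⟩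
    rw [show Φ.toRingHom (MvPowerSeries.C (algebraMap k R c)) = algebraMap k S c by
      rw [IsScalarTower.algebraMap_apply k R S]; exact hΦC _]
    obtain ⟨g, h, hgh⟩ := hgen _ hc
    have hxI : x ∈ I.map Φ.toRingHom := by
      rw [show x = x' - (x' - x) by ring, ← hΦ0]
      refine sub_mem (Ideal.mem_map_of_mem Φ.toRingHom (Groth.L12.X_mem_maximalIdeal 0)) (hJI ?_)
      rw [hΦ0, ← hker, RingHom.mem_ker, map_sub, πx', πx, sub_self]
    have hyI : y ∈ I.map Φ.toRingHom := by
      rw [show y = y' - (y' - y) by ring, ← hΦ1]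
      refine sub_mem (Ideal.mem_map_of_mem Φ.toRingHom (Groth.L12.X_mem_maximalIdeal 1)) (hJI ?_)
      rw [hΦ1, ← hker, RingHom.mem_ker, map_sub, πy', πy, sub_self]
    rw [show algebraMap k S c - s =
      -((s - algebraMap k S c - (x * g + y * h)) + (x * g + y * h)) by ring]
    exact neg_mem (add_mem (hJI hgh)
      (add_mem (Ideal.mul_mem_right _ _ hxI) (Ideal.mul_mem_right _ _ hyI)))
  refine ⟨t, Φ, ht0, hΦsurj, ?_, by rw [hΦ0]; exact σx', by rw [hΦ1]; exact σy'⟩
  set Tt : MvPowerSeries (Fin 2) R :=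
    MvPowerSeries.X 0 * MvPowerSeries.X 1 - MvPowerSeries.C t with hTt
  have hT : Φ Tt = 0 := by rw [hTt, map_sub, map_mul, hΦ0, hΦ1, hΦC, hxy, sub_self]
  refine le_antisymm ?_ (Ideal.span_le.mpr (by simpa using hT))
  -- residue field
  let toRes : k →+* ResidueField R := (residue R).comp (algebraMap k R)
  have hbij : Function.Bijective toRes := ⟨toRes.injective, fun z => by
    obtain ⟨r, rfl⟩ := residue_surjective z
    obtain ⟨c, hc⟩ := hresR r
    exact ⟨c, ((Ideal.Quotient.mk_eq_mk_iff_sub_mem _ _).mpr hc).symm⟩⟩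
  let ρ : R →+* k := (RingEquiv.ofBijective toRes hbij).symm.toRingHom.comp (residue R)
  have hρ0 : ∀ r, ρ r = 0 ↔ r ∈ mR := fun r => by
    show (RingEquiv.ofBijective toRes hbij).symm (residue R r) = 0 ↔ _
    rw [map_eq_zero_iff _ (RingEquiv.injective _)]
    exact Ideal.Quotient.eq_zero_iff_mem
  have hρs : ∀ c, ρ (algebraMap k R c) = c := fun c =>
    (RingEquiv.ofBijective toRes hbij).symm_apply_apply c
  have hπR : ∀ r, π (algebraMap R S r) = algebraMap k D (ρ r) := fun r => by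
    rw [← hπk, ← sub_eq_zero, ← map_sub, ← RingHom.mem_ker, hker,
      IsScalarTower.algebraMap_apply k R S, ← map_sub]
    refine Ideal.mem_map_of_mem _ ?_
    rw [← hρ0, map_sub, hρs, sub_self]
  have agree : ∀ (N : ℕ) f, π (Φ f) - α (MvPowerSeries.map ρ f) ∈ maximalIdeal D ^ N := by
    intro N
    induction N with
    | zero => simp
    | succ N ih =>
      intro f
      obtain ⟨c, hc⟩ := Ideal.mem_span_range_iff_exists_fun.mp (Groth.L12.sub_C_mem_span_X f)
      have hf : f = MvPowerSeries.C (MvPowerSeries.constantCoeff f) +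
          (c 0 * MvPowerSeries.X 0 + c 1 * MvPowerSeries.X 1) := by
        rw [← Fin.sum_univ_two (fun i => c i * MvPowerSeries.X i), hc]; ring
      rw [hf]
      simp only [map_add, map_mul, MvPowerSeries.map_C, MvPowerSeries.map_X, hΦC, hΦ0, hΦ1,
        hπR, πx', πy']
      rw [show α (MvPowerSeries.C (ρ (MvPowerSeries.constantCoeff f))) =
        algebraMap k D (ρ (MvPowerSeries.constantCoeff f)) from α.commutes _]
      have hmem : ∀ i : Fin 2, α (MvPowerSeries.X i) ∈ maximalIdeal D := fun i =>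
        (mem_maximalIdeal _).mpr fun hu => hαunit _ hu (hXY i)
      rw [pow_succ]
      convert add_mem (Ideal.mul_mem_mul (ih (c 0)) (hmem 0))
        (Ideal.mul_mem_mul (ih (c 1)) (hmem 1)) using 1
      ring
  have agree' : ∀ f, π (Φ f) = α (MvPowerSeries.map ρ f) := fun f =>
    Groth.L12.eq_of_forall_sub_mem_pow (maximalIdeal D) fun N => agree N f
  set K := RingHom.ker Φ.toRingHom
  have hRS : ∀ (r : R) (f : MvPowerSeries (Fin 2) R),
      MvPowerSeries.C r * f = r • f := fun r f => by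
    rw [MvPowerSeries.smul_eq_C_mul]
  refine Submodule.le_of_le_smul_of_le_jacobson_bot
    (I := Ideal.map (MvPowerSeries.C (σ := Fin 2) (R := R)) mR) (IsNoetherian.noetherian K) ?_ ?_
  · rw [jacobson_eq_maximalIdeal ⊥ bot_ne_top]
    exact Ideal.map_le_iff_le_comap.mpr fun r hr => Groth.L12.C_mem_maximalIdeal hr
  intro f hf
  have hf' : Φ f = 0 := hf
  have hker' : MvPowerSeries.map ρ f ∈ RingHom.ker α.toRingHom := by
    show α _ = 0
    rw [← agree', hf', map_zero]
  rw [hαk, Ideal.mem_span_singleton] at hker'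
  obtain ⟨g, hg⟩ := hker'
  let g' : MvPowerSeries (Fin 2) R := fun d => algebraMap k R (MvPowerSeries.coeff d g)
  have hg' : MvPowerSeries.map ρ g' = g := MvPowerSeries.ext fun d => by
    rw [MvPowerSeries.coeff_map]; exact hρs _
  have hcoef : ∀ d, MvPowerSeries.coeff d (f - Tt * g') ∈ mR := fun d => by
    rw [← hρ0, ← MvPowerSeries.coeff_map, map_sub (MvPowerSeries.map ρ),
      map_mul (MvPowerSeries.map ρ), hg', hTt, map_sub (MvPowerSeries.map ρ),
      map_mul (MvPowerSeries.map ρ), MvPowerSeries.map_X, MvPowerSeries.map_X,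
      MvPowerSeries.map_C, (hρ0 t).mpr htm, hg]
    simp
  obtain ⟨N, gens, hgens⟩ := Submodule.fg_iff_exists_fin_generating_family.mp
    (IsNoetherian.noetherian mR)
  have : ∀ d, ∃ c : Fin N → R, ∑ i, c i * gens i = MvPowerSeries.coeff d (f - Tt * g') :=
    fun d => Ideal.mem_span_range_iff_exists_fun.mp (by
      show _ ∈ Submodule.span R _
      rw [hgens]; exact hcoef d)
  choose c hc using this
  let h : Fin N → MvPowerSeries (Fin 2) R := fun i d => c d i
  have hsum : f - Tt * g' = ∑ i, gens i • h i := MvPowerSeries.ext fun d => by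
    rw [← hc d, map_sum]
    refine Finset.sum_congr rfl fun i _ => ?_
    rw [MvPowerSeries.coeff_smul, mul_comm]
    rfl
  have hrel : ∑ i, gens i • Φ (h i) = 0 := by
    simp only [← map_smul, ← map_sum, ← hsum, map_sub, map_mul, hT, hf', zero_mul, sub_zero]
  obtain ⟨l, a, z, hz, ha⟩ := Module.Flat.isTrivialRelation_of_sum_smul_eq_zero (R := R) (M := S) hrel
  choose m hm using fun j => hΦsurj (z j)
  have hk : ∀ i, h i - ∑ j, a i j • m j ∈ K := fun i => by
    show Φ _ = 0
    simp only [map_sub, map_sum, map_smul, hm, hz i, sub_self]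
  have hfinal : ∑ i, gens i • h i = ∑ i, MvPowerSeries.C (gens i) * (h i - ∑ j, a i j • m j) := by
    simp only [hRS, smul_sub, Finset.sum_sub_distrib, Finset.smul_sum, smul_smul]
    rw [Finset.sum_comm (f := fun i j => (gens i * a i j) • m j)]
    simp only [← Finset.sum_smul, ha, zero_smul, Finset.sum_const_zero, sub_zero]
  rw [show f = Tt * g' + ∑ i, gens i • h i by rw [← hsum]; ring, hfinal]
  refine Submodule.add_mem_sup (Ideal.mul_mem_right _ _ (Ideal.subset_span rfl))
    (Submodule.sum_mem _ fun i _ => Submodule.smul_mem_smul (Ideal.mem_map_of_mem _ ?_) (hk i))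
  rw [← hgens]; exact Submodule.subset_span ⟨i, rfl⟩

end Groth.Agent.L13.NodeDeform
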