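import Groth.Agent.L01.FormalInverse
import Groth.Agent.L28.PSer
import Mathlib.RingTheory.MvPowerSeries.Inverse
import Mathlib.RingTheory.MvPowerSeries.NoZeroDivisors
import Mathlib.RingTheory.MvPowerSeries.Derivative
import Mathlib.RingTheory.PowerSeries.Order
import Mathlib.RingTheory.PowerSeries.Substitution
import Mathlib.RingTheory.Ideal.Quotient.Operations
import Mathlib.RingTheory.PowerSeries.Inverse
import Mathlib.FieldTheory.IsAlgClosed.Basic

/-!
Coordinate changes in `k⟦X₀, X₁⟧`.
-/

set_option autoImplicit false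

universe u

open MvPowerSeries

namespace Groth.Agent.L13.PlaneGerm

variable {k : Type u} [Field k]

local notation "P" => MvPowerSeries (Fin 2) k

instance : IsDomain P := NoZeroDivisors.to_isDomain _

/-- The linear coefficient of `f` at `X i`. -/
noncomputable abbrev lc (i : Fin 2) (f : P) : k := coeff (Finsupp.single i 1) f

lemma lc_X (i j : Fin 2) : lc j (X i : P) = if i = j then 1 else 0 := by
  classical
  simp only [lc, coeff_X, Finsupp.single_left_inj one_ne_zero, eq_comm]

lemma lc_mul (i : Fin 2) (f g : P) :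
    lc i (f * g) = constantCoeff f * lc i g + lc i f * constantCoeff g := by
  rw [lc, ← Groth.L28.PSer.constantCoeff_pderiv i (f * g), Derivation.leibniz, map_add, smul_eq_mul, smul_eq_mul,
    map_mul, map_mul, Groth.L28.PSer.constantCoeff_pderiv, Groth.L28.PSer.constantCoeff_pderiv]
  ring

/-- Power series with prescribed images of the variables and invertible linear part give an
automorphism. -/
lemma exists_aut (a b : P) (ha : constantCoeff a = 0) (hb : constantCoeff b = 0)
    (hdet : lc 0 a * lc 1 b - lc 1 a * lc 0 b ≠ 0) :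
    ∃ φ : P ≃ₐ[k] P, φ (X 0) = a ∧ φ (X 1) = b := by
  have hv : ∀ i, constantCoeff (![a, b] i) = 0 := fun i => by fin_cases i <;> assumption
  let f := substAlgHom (R := k) (hasSubst_of_constantCoeff_zero hv)
  have hf : ∀ i, f (X i) = ![a, b] i := substAlgHom_X _
  have hbij : Function.Bijective f := Groth.L01.FormalInverse.bijective_of_isUnit_det f
    (fun i => by rw [hf]; exact hv i) (isUnit_iff_ne_zero.mpr (by
      simpa [Matrix.det_fin_two, hf, lc] using hdet))
  exact ⟨AlgEquiv.ofBijective f hbij, hf 0, hf 1⟩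

lemma isUnit_iff {f : P} : IsUnit f ↔ constantCoeff f ≠ 0 := by
  rw [isUnit_iff_constantCoeff, isUnit_iff_ne_zero]

lemma constantCoeff_map_X (φ : P →ₐ[k] P) (i : Fin 2) : constantCoeff (φ (X i)) = 0 := by
  by_contra h
  have hu : IsUnit (X i - C (constantCoeff (φ (X i))) : P) := by
    rw [isUnit_iff]; simpa using h
  have := hu.map φ
  rw [isUnit_iff] at this
  have hC : φ (C (constantCoeff (φ (X i)))) = C (constantCoeff (φ (X i))) := by
    rw [c_eq_algebraMap, AlgHom.commutes]
  simp [map_sub, hC] at this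

lemma order_map (φ : P →ₐ[k] P) {m : ℕ} {f : P} (h : (m : ℕ∞) ≤ f.order) :
    (m : ℕ∞) ≤ (φ f).order :=
  Groth.L01.FormalInverse.order_map φ (constantCoeff_map_X φ) m f h

lemma order_map_equiv (φ : P ≃ₐ[k] P) {m : ℕ} {f : P} :
    (m : ℕ∞) ≤ (φ f).order ↔ (m : ℕ∞) ≤ f.order := by
  refine ⟨fun h => ?_, order_map φ.toAlgHom⟩
  simpa using order_map φ.symm.toAlgHom h

/-- A series of order `≥ m` lies in the `m`-th power of the ideal of the variables. -/
lemma mem_span_X_pow : ∀ (m : ℕ) {f : P}, (m : ℕ∞) ≤ f.order →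
    f ∈ (Ideal.span (Set.range (X : Fin 2 → P))) ^ m
  | 0, f, _ => by simp
  | m + 1, f, hf => by
    obtain ⟨g, rfl, hg⟩ := Groth.L01.FormalInverse.exists_decomp hf
    refine Ideal.sum_mem _ fun i _ => ?_
    rw [pow_succ']
    exact Ideal.mul_mem_mul (Ideal.subset_span ⟨i, rfl⟩) (mem_span_X_pow m (hg i))

/-- An automorphism carrying `F` to a unit multiple of `F'` identifies the quotients. -/
lemma nonempty_equiv_of_map (φ : P ≃ₐ[k] P) {F F' : P} (h : Associated (φ F) F') :
    Nonempty ((P ⧸ Ideal.span {F}) ≃ₐ[k] (P ⧸ Ideal.span {F'})) :=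
  ⟨Ideal.quotientEquivAlg _ _ φ (by
    rw [Ideal.map_span, Set.image_singleton]
    exact (Ideal.span_singleton_eq_span_singleton.mpr h).symm)⟩

/-- A series in `X₀` only, as a series in two variables. -/
noncomputable def inX (b : PowerSeries k) : P := PowerSeries.subst (X 0 : P) b

lemma coeff_inX (b : PowerSeries k) (e : Fin 2 →₀ ℕ) :
    coeff e (inX b) = if e 1 = 0 then PowerSeries.coeff (e 0) b else 0 := by
  rw [inX, PowerSeries.coeff_subst_single]
  refine if_congr ⟨fun h => ?_, fun h => ?_⟩ rfl rfl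
  · rw [h]; simp
  · ext t; fin_cases t <;> simp [h]

lemma constantCoeff_inX (b : PowerSeries k) :
    constantCoeff (inX b) = PowerSeries.constantCoeff b := by
  rw [← coeff_zero_eq_constantCoeff_apply, coeff_inX]
  simp

lemma lc_one_inX (b : PowerSeries k) : lc 1 (inX b) = 0 := by
  simp [lc, coeff_inX]

lemma map_inX (φ : P →ₐ[k] P) (h : φ (X 0) = X 0) (b : PowerSeries k) : φ (inX b) = inX b := by
  have h0 : PowerSeries.HasSubst (X (0 : Fin 2) : P) :=
    PowerSeries.HasSubst.of_constantCoeff_zero (constantCoeff_X _)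
  rw [← sub_eq_zero]
  apply Groth.L01.FormalInverse.eq_zero_of_order
  intro m
  set T : Polynomial k := PowerSeries.trunc m b
  have hd : (PowerSeries.X : PowerSeries k) ^ m ∣ b - (T : PowerSeries k) := by
    rw [PowerSeries.X_pow_dvd_iff]
    intro j hj
    simp [T, Polynomial.coeff_coe, PowerSeries.coeff_trunc, hj]
  obtain ⟨c, hc⟩ := hd
  have e : inX b = Polynomial.aeval (X 0 : P) T + X 0 ^ m * inX c := by
    have hb : b = (T : PowerSeries k) + PowerSeries.X ^ m * c := by rw [← hc]; ring
    simp only [inX]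
    nth_rw 1 [hb]
    rw [← PowerSeries.coe_substAlgHom h0, map_add, map_mul, map_pow, PowerSeries.substAlgHom_X,
      PowerSeries.substAlgHom_coe]
  have e' : φ (inX b) - inX b = X 0 ^ m * (φ (inX c) - inX c) := by
    rw [e, map_add, map_mul, map_pow, ← Polynomial.aeval_algHom_apply, h]
    ring
  rw [e']
  refine le_trans ?_ le_order_mul
  refine le_trans ?_ le_self_add
  rw [X_pow_eq]
  refine nat_le_order fun d hd => ?_
  classical
  rw [coeff_monomial, if_neg]
  rintro rfl
  simp at hd

/-- Every series is a series in `X₀` plus a multiple of `X₁`. -/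
lemma exists_split_zero (f : P) : ∃ (D : PowerSeries k) (g : P), f = inX D + X 1 * g := by
  classical
  let g : P := fun e => coeff (e + Finsupp.single 1 1) f
  refine ⟨PowerSeries.mk fun i => coeff (Finsupp.single 0 i) f, g, MvPowerSeries.ext fun e => ?_⟩
  rw [map_add, coeff_inX, MvPowerSeries.X, coeff_monomial_mul, one_mul]
  by_cases h : e 1 = 0
  · rw [if_pos h, if_neg (by rw [Finsupp.single_le_iff]; omega), add_zero, PowerSeries.coeff_mk]
    congr 2
    ext t; fin_cases t <;> simp [h]
  · rw [if_neg h, if_pos (by rw [Finsupp.single_le_iff]; omega), zero_add]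
    show coeff e f = g (e - Finsupp.single 1 1)
    simp only [g]
    rw [tsub_add_cancel_of_le (by rw [Finsupp.single_le_iff]; omega)]

/-- Division by `X₁ - b(X₀)`. -/
lemma exists_split (b : PowerSeries k) (hb : PowerSeries.constantCoeff b = 0) (f : P) :
    ∃ (D : PowerSeries k) (g : P), f = inX D + (X 1 - inX b) * g := by
  obtain ⟨τ, hτ0, hτ1⟩ := exists_aut (X 0) (X 1 - inX b) (constantCoeff_X _)
    (by simp [constantCoeff_inX, hb]) (by
      simp only [lc, map_sub]
      rw [show coeff (Finsupp.single 1 1) (inX b) = 0 from lc_one_inX b]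
      simp [coeff_X, Finsupp.single_left_inj one_ne_zero])
  obtain ⟨D, g, h⟩ := exists_split_zero (τ.symm f)
  refine ⟨D, τ g, ?_⟩
  have := congrArg τ h
  rwa [AlgEquiv.apply_symm_apply, map_add, map_mul, hτ1,
    show τ (inX D) = inX D from map_inX τ.toAlgHom hτ0 D] at this

/-- Square roots of units. -/
lemma exists_sq [IsAlgClosed k] (h2 : (2 : k) ≠ 0) {f : P} (hf : constantCoeff f ≠ 0) :
    ∃ w : P, IsUnit w ∧ w ^ 2 = f := by
  set A : PowerSeries k := 2 * PowerSeries.X + PowerSeries.X ^ 2
  have hA0 : A.constantCoeff = 0 := by simp [A]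
  have hA1 : IsUnit (PowerSeries.coeff 1 A) := by
    rw [isUnit_iff_ne_zero]
    rw [show A = PowerSeries.C 2 * PowerSeries.X + PowerSeries.X ^ 2 by simp [A, map_ofNat]]
    simpa [PowerSeries.coeff_X_pow] using h2
  set Q := A.substInvOfIsUnit hA1
  have hQ : (1 + Q) ^ 2 = 1 + (PowerSeries.X : PowerSeries k) := by
    have h := PowerSeries.subst_substInvOfIsUnit_right A hA0 hA1
    have hs : PowerSeries.HasSubst Q := PowerSeries.HasSubst.substInvOfIsUnit A hA1
    rw [← PowerSeries.coe_substAlgHom hs] at h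
    simp only [A, map_add, map_mul, map_pow, map_ofNat, PowerSeries.substAlgHom_X] at h
    rw [← h]; ring
  obtain ⟨c, hc⟩ := IsAlgClosed.exists_pow_nat_eq (constantCoeff f) two_pos
  have hc0 : c ≠ 0 := fun h => hf (by rw [← hc, h]; simp)
  set e : P := C (constantCoeff f)⁻¹ * f - 1
  have he : constantCoeff e = 0 := by simp [e, inv_mul_cancel₀ hf]
  have hse : PowerSeries.HasSubst e := PowerSeries.HasSubst.of_constantCoeff_zero he
  have hQ' := congrArg (PowerSeries.substAlgHom (R := k) hse) hQ
  simp only [map_pow, map_add, map_one, PowerSeries.substAlgHom_X] at hQ'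
  have he1 : C (constantCoeff f) * (1 + e) = f := by
    simp only [e, add_sub_cancel]
    rw [← mul_assoc, ← map_mul, mul_inv_cancel₀ hf, map_one, one_mul]
  refine ⟨C c * (1 + PowerSeries.substAlgHom hse Q), ?_, ?_⟩
  · rw [isUnit_iff, map_mul, constantCoeff_C]
    refine mul_ne_zero hc0 fun h => ?_
    have := congrArg constantCoeff hQ'
    rw [map_pow, h, map_add, map_one, he] at this
    simp at this
  · rw [mul_pow, hQ', ← map_pow, hc, he1]

end Groth.Agent.L13.PlaneGerm
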