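import Groth.Agent.L13.ArSingClassify
import Groth.Agent.L13.PlaneGermBasic

/-!
Involutions of the node that preserve the branches, and branch coordinates.
-/

set_option autoImplicit false

universe u

namespace Groth.Agent.L13.NodeInvolution

open Groth.Agent.L13.ArSingBase Groth.Agent.L13.ArSingOdd Groth.Agent.L13.ArSingNode

variable {k : Type u} [Field k]

/-- The first branch ideal is a minimal prime. -/
lemma ker_p₁_mem_minimalPrimes (h2 : (2 : k) ≠ 0) :
    RingHom.ker (p₁ (k := k) (r := 1) (m := 1) one_pos rfl) ∈ minimalPrimes (ArSing.ring k 1) := by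
  set P := p₁ (k := k) (r := 1) (m := 1) one_pos rfl
  set Q := p₂ (k := k) (r := 1) (m := 1) one_pos rfl
  refine ⟨⟨RingHom.ker_isPrime P, bot_le⟩, fun p hp hle => ?_⟩
  intro z hz
  have hz' : P z = 0 := hz
  set u := ArSing.x k 1 + ArSing.y k 1
  have Pu : P u = 2 * PowerSeries.X := by
    simp [u, P, p₁_x, p₁_y, two_mul]
  have Qu : Q u = 0 := by simp [u, Q, p₂_x, p₂_y]
  have huz : u * z = 0 := eq_of_branches one_pos rfl h2
    (by show P _ = P _; rw [map_mul, hz', mul_zero, map_zero])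
    (by show Q _ = Q _; rw [map_mul, Qu, zero_mul, map_zero])
  refine (hp.1.mem_or_mem (show u * z ∈ p by rw [huz]; exact Submodule.zero_mem p)).resolve_left
    fun hu => ?_
  have := hle hu
  rw [RingHom.mem_ker, Pu] at this
  exact mul_ne_zero (two_ne h2) PowerSeries.X_ne_zero this

/-- A branch-preserving involution is diagonal in suitable branch coordinates. -/
lemma exists_coords (h2 : (2 : k) ≠ 0) (σ : ArSing.ring k 1 ≃ₐ[k] ArSing.ring k 1)
    (hσ : ∀ z, σ (σ z) = z)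
    (hbr : ∀ p ∈ minimalPrimes (ArSing.ring k 1), ∀ z ∈ p, σ z ∈ p) :
    ∃ (α : MvPowerSeries (Fin 2) k →ₐ[k] ArSing.ring k 1) (ξ₁ ξ₂ : k),
      Function.Surjective α ∧
      RingHom.ker α.toRingHom = Ideal.span {MvPowerSeries.X 0 * MvPowerSeries.X 1} ∧
      ξ₁ ^ 2 = 1 ∧ ξ₂ ^ 2 = 1 ∧
      σ (α (MvPowerSeries.X 0)) = algebraMap k _ ξ₂ * α (MvPowerSeries.X 0) ∧
      σ (α (MvPowerSeries.X 1)) = algebraMap k _ ξ₁ * α (MvPowerSeries.X 1) := by
  obtain ⟨φ, ξ₁, ξ₂, h₁, h₂, hu, hv⟩ : ∃ (φ : ArSing.ring k 1 ≃ₐ[k] ArSing.ring k 1) (ξ₁ ξ₂ : k),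
      ξ₁ ^ 2 = 1 ∧ ξ₂ ^ 2 = 1 ∧
      σ (φ (ArSing.x k 1 + ArSing.y k 1)) = algebraMap k _ ξ₂ * φ (ArSing.x k 1 + ArSing.y k 1) ∧
      σ (φ (ArSing.y k 1 - ArSing.x k 1)) =
        algebraMap k _ ξ₁ * φ (ArSing.y k 1 - ArSing.x k 1) := by
    by_cases hne : σ = AlgEquiv.refl
    · refine ⟨AlgEquiv.refl, 1, 1, by norm_num, by norm_num, ?_, ?_⟩ <;> simp [hne]
    obtain ⟨φ, h | h | ⟨hm, _⟩ | h⟩ :=
      ArSingClassify.classify (r := 1) (m := 1) one_pos rfl h2 σ hσ hne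
    · exfalso
      set P := p₁ (k := k) (r := 1) (m := 1) one_pos rfl
      have hp : Ideal.comap φ.symm (RingHom.ker P) ∈ minimalPrimes (ArSing.ring k 1) := by
        obtain ⟨⟨hpp, -⟩, hmin⟩ := ker_p₁_mem_minimalPrimes (k := k) h2
        refine ⟨⟨Ideal.comap_isPrime _ _, bot_le⟩, fun q hq hle z hz => ?_⟩
        have := hq.1
        have hq' : (Ideal.comap φ q).IsPrime := Ideal.comap_isPrime φ q
        have h' := hmin ⟨hq', bot_le⟩ (fun w hw => by
          have := hle (Ideal.mem_comap.mp hw)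
          simpa using this) (Ideal.mem_comap.mp hz)
        simpa using Ideal.mem_comap.mp h'
      have := hbr _ hp (φ (ArSing.y k 1 - ArSing.x k 1))
        (by simp [P, p₁_x, p₁_y])
      rw [map_sub φ, map_sub σ, h.1, h.2, ← map_neg φ, ← map_sub φ, Ideal.mem_comap,
        AlgEquiv.symm_apply_apply, RingHom.mem_ker] at this
      simp only [P, map_sub, map_neg, p₁_x, p₁_y, pow_one] at this
      refine mul_ne_zero (two_ne h2) (PowerSeries.X_ne_zero (R := k)) ?_
      linear_combination -this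
    · refine ⟨φ, -1, -1, by norm_num, by norm_num, ?_, ?_⟩ <;>
        simp only [map_neg, map_one, map_add, map_sub, h.1, h.2, pow_one] <;> ring
    · omega
    · refine ⟨φ, -1, 1, by norm_num, by norm_num, ?_, ?_⟩ <;>
        simp only [map_neg, map_one, map_add, map_sub, h.2.1, h.2.2] <;> ring
  obtain ⟨χ, hχ0, hχ1⟩ := PlaneGerm.exists_aut
    (MvPowerSeries.X 0 + MvPowerSeries.X 1 : MvPowerSeries (Fin 2) k)
    (MvPowerSeries.X 1 - MvPowerSeries.X 0) (by simp) (by simp) (by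
      simp [PlaneGerm.lc, MvPowerSeries.coeff_X, Finsupp.single_left_inj one_ne_zero,
        one_add_one_eq_two, h2])
  refine ⟨(φ.toAlgHom.comp (Ideal.Quotient.mkₐ k _)).comp χ.toAlgHom, ξ₁, ξ₂,
    φ.surjective.comp (Ideal.Quotient.mk_surjective.comp χ.surjective), ?_, h₁, h₂, ?_, ?_⟩
  · ext f
    rw [RingHom.mem_ker, Ideal.mem_span_singleton]
    show φ (Ideal.Quotient.mk _ (χ f)) = 0 ↔ _
    rw [map_eq_zero_iff φ φ.injective, Ideal.Quotient.eq_zero_iff_mem, Ideal.mem_span_singleton]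
    have : ArSing.eqn k 1 = χ (MvPowerSeries.X 0 * MvPowerSeries.X 1) := by
      rw [map_mul, hχ0, hχ1, ArSing.eqn]; ring
    rw [this]
    exact map_dvd_iff χ.toRingEquiv.toMulEquiv
  · show σ (φ (Ideal.Quotient.mk _ (χ (MvPowerSeries.X 0)))) = _ * φ (Ideal.Quotient.mk _ (χ _))
    rw [hχ0, map_add (Ideal.Quotient.mk _)]
    exact hu
  · show σ (φ (Ideal.Quotient.mk _ (χ (MvPowerSeries.X 1)))) = _ * φ (Ideal.Quotient.mk _ (χ _))
    rw [hχ1, map_sub (Ideal.Quotient.mk _)]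
    exact hv

end Groth.Agent.L13.NodeInvolution
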