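import Groth.Prelude.Def_Conn
import Mathlib.RingTheory.MvPolynomial.Basic
import Mathlib.RingTheory.Derivation.Basic
import Mathlib.Algebra.MvPolynomial.Derivation
import Mathlib.Data.ZMod.Basic
import Mathlib.Algebra.Field.ZMod
import Mathlib.RingTheory.MvPolynomial.Basic
import Mathlib.Algebra.MvPolynomial.NoZeroDivisors
import Mathlib.Algebra.Algebra.ZMod
import Mathlib.Algebra.CharP.Algebra
import Mathlib.Data.Nat.Choose.Dvd
import Mathlib.Data.Nat.Choose.Sum
import Mathlib.Tactic.LinearCombination
import Mathlib.Tactic.Ring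

/-!
Hochschild's identity `(b D)^p = b^p D^p + c D` in characteristic `p`, for derivations and for
additive operators satisfying the Leibniz rule over them.
-/

universe u v

namespace Groth.L13.PCurv

section Coeff

variable {R : Type u} [CommRing R]

/-- The coefficients of `(b D)^n` as a polynomial in `D`. -/
def coef (d : R → R) (b : R) : ℕ → ℕ → R
  | 0, i => if i = 0 then 1 else 0
  | n + 1, 0 => b * d (coef d b n 0)
  | n + 1, i + 1 => b * d (coef d b n (i + 1)) + b * coef d b n i

theorem coef_eq_zero (d : R → R) (hd : d 0 = 0) (b : R) :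
    ∀ n i, n < i → coef d b n i = 0
  | 0, i, h => by simp [coef, h.ne']
  | n + 1, 0, h => by omega
  | n + 1, i + 1, h => by
    simp [coef, coef_eq_zero d hd b n (i + 1) (by omega), coef_eq_zero d hd b n i (by omega), hd]

theorem coef_succ_zero (d : R → R) (hd : d 0 = 0) (hd1 : d 1 = 0) (b : R) :
    ∀ n, coef d b (n + 1) 0 = 0
  | 0 => by simp [coef, hd1]
  | n + 1 => by
    rw [coef, coef_succ_zero d hd hd1 b n, hd, mul_zero]

theorem coef_self (d : R → R) (hd : d 0 = 0) (b : R) : ∀ n, coef d b n n = b ^ n
  | 0 => by simp [coef]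
  | n + 1 => by
    rw [coef, coef_eq_zero d hd b n (n + 1) (by omega), coef_self d hd b n, hd]
    ring

theorem map_coef {S : Type v} [CommRing S] (φ : R →+* S) (d : R → R) (d' : S → S)
    (h : ∀ x, φ (d x) = d' (φ x)) (b : R) :
    ∀ n i, φ (coef d b n i) = coef d' (φ b) n i
  | 0, i => by simp only [coef]; split <;> simp
  | n + 1, 0 => by simp [coef, h, map_coef φ d d' h b n 0]
  | n + 1, i + 1 => by
    simp [coef, h, map_coef φ d d' h b n (i + 1), map_coef φ d d' h b n i]

/-- Powers of `b • T` for an additive `T` with the Leibniz rule over `d`. -/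
theorem iterate_smul_eq {M : Type v} [AddCommGroup M] [Module R M] (d : R → R) (hd : d 0 = 0)
    (T : M → M) (hT0 : T 0 = 0) (hTadd : ∀ x y, T (x + y) = T x + T y)
    (hT : ∀ (r : R) (m : M), T (r • m) = d r • m + r • T m) (b : R) (n : ℕ) (m : M) :
    (fun x => b • T x)^[n] m = ∑ i ∈ Finset.range (n + 1), coef d b n i • T^[i] m := by
  induction n with
  | zero => simp [coef]
  | succ n ih =>
    rw [Function.iterate_succ_apply', ih]
    let T' : M →+ M := { toFun := T, map_zero' := hT0, map_add' := hTadd }
    show b • T' _ = _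
    rw [map_sum, Finset.smul_sum]
    show ∑ i ∈ Finset.range (n + 1), b • T (coef d b n i • T^[i] m) = _
    simp only [hT, smul_add, smul_smul, Finset.sum_add_distrib, ← Function.iterate_succ_apply']
    conv_rhs => rw [Finset.sum_range_succ']
    simp only [coef, add_smul, Finset.sum_add_distrib]
    rw [Finset.sum_range_succ' (fun i => (b * d (coef d b n i)) • T^[i] m),
      Finset.sum_range_succ (fun i => (b * d (coef d b n (i + 1))) • T^[i + 1] m),
      coef_eq_zero d hd b n (n + 1) (by omega), hd, mul_zero, zero_smul, add_zero]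
    abel

end Coeff

section Leibniz

variable {A : Type v} {B : Type u} [CommRing A] [CommRing B] [Algebra A B]

theorem iterate_mul (D : Derivation A B B) (a b : B) :
    ∀ n, (⇑D)^[n] (a * b) =
      ∑ i ∈ Finset.range (n + 1), (n.choose i : B) * ((⇑D)^[i] a * (⇑D)^[n - i] b) := by
  intro n
  induction n with
  | zero => simp
  | succ n ih =>
    rw [Function.iterate_succ_apply', ih, map_sum]
    have hterm : ∀ i ∈ Finset.range (n + 1),
        D ((n.choose i : B) * ((⇑D)^[i] a * (⇑D)^[n - i] b)) =
          (n.choose i : B) * ((⇑D)^[i] a * (⇑D)^[n + 1 - i] b) +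
            (n.choose i : B) * ((⇑D)^[i + 1] a * (⇑D)^[n - i] b) := by
      intro i hi
      have : n + 1 - i = (n - i) + 1 := by simp only [Finset.mem_range] at hi; omega
      rw [this, Function.iterate_succ_apply', Function.iterate_succ_apply', Derivation.leibniz,
        Derivation.map_natCast, smul_zero, add_zero, Derivation.leibniz, smul_eq_mul, smul_eq_mul,
        smul_eq_mul]
      ring
    rw [Finset.sum_congr rfl hterm, Finset.sum_add_distrib]
    conv_rhs => rw [Finset.sum_range_succ']
    simp only [Nat.choose_succ_succ', Nat.cast_add, add_mul, Finset.sum_add_distrib,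
      Nat.add_sub_add_right, Nat.choose_zero_right]
    rw [Finset.sum_range_succ' (fun i => (n.choose i : B) * ((⇑D)^[i] a * (⇑D)^[n + 1 - i] b)),
      Finset.sum_range_succ (fun i => (n.choose (i + 1) : B) * ((⇑D)^[i + 1] a * (⇑D)^[n - i] b))]
    simp only [Nat.choose_succ_self, Nat.cast_zero, zero_mul, add_zero, Nat.add_sub_add_right,
      Nat.choose_zero_right]
    abel

/-- The `p`-fold iterate of a derivation in characteristic `p`. -/
noncomputable def iterPow (p : ℕ) [Fact p.Prime] [CharP B p] (D : Derivation A B B) :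
    Derivation A B B :=
  Derivation.mk' ((D : B →ₗ[A] B) ^ p) fun a b => by
    simp only [Module.End.pow_apply, Derivation.coeFn_coe]
    have hp := (Fact.out : p.Prime)
    rw [iterate_mul D a b p, Finset.sum_eq_add (0 : ℕ) p hp.pos.ne]
    · simp [smul_eq_mul, mul_comm]
    · intro i hi hne
      have hdvd : p ∣ p.choose i := hp.dvd_choose_self hne.1 (by
        simp only [Finset.mem_range] at hi; omega)
      rw [(CharP.cast_eq_zero_iff B p _).2 hdvd, zero_mul]
    · intro h; simp at h
    · intro h; simp at h

theorem isIterPow_iterPow (p : ℕ) [Fact p.Prime] [CharP B p] (D : Derivation A B B) :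
    Conn.IsIterPow D p (iterPow p D) := fun b => by
  simp [iterPow, Module.End.pow_apply]

end Leibniz

section Universal

variable (p : ℕ) [Fact p.Prime]

/-- The universal differential ring. -/
abbrev U := MvPolynomial (Option ℕ) (ZMod p)

/-- The universal derivation: `D x = 1`, `D b_n = b_{n+1}`. -/
noncomputable def D₁ : Derivation (ZMod p) (U p) (U p) :=
  MvPolynomial.mkDerivation (ZMod p) fun o => o.elim 1 fun n => MvPolynomial.X (some (n + 1))

/-- The universal derivation, without `x`. -/
noncomputable def D₀ : Derivation (ZMod p) (MvPolynomial ℕ (ZMod p)) (MvPolynomial ℕ (ZMod p)) :=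
  MvPolynomial.mkDerivation (ZMod p) fun n => MvPolynomial.X (n + 1)

theorem intertwine {R σ : Type*} {S : Type*} [CommRing R] [CommRing S] [Algebra R S]
    (φ : MvPolynomial σ R →ₐ[R] S) (D : Derivation R (MvPolynomial σ R) (MvPolynomial σ R))
    (D' : Derivation R S S) (h : ∀ i, φ (D (MvPolynomial.X i)) = D' (φ (MvPolynomial.X i)))
    (x : MvPolynomial σ R) : φ (D x) = D' (φ x) := by
  induction x using MvPolynomial.induction_on with
  | C r =>
    simp [← MvPolynomial.algebraMap_eq]
  | add f g hf hg => simp [hf, hg]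
  | mul_X f i hf => simp [hf, h, smul_eq_mul]

theorem coef_mid_U (j : ℕ) (h2 : 2 ≤ j) (hjp : j < p) :
    coef (⇑(D₁ p)) (MvPolynomial.X (some 0)) p j = 0 := by
  induction j using Nat.strong_induction_on with
  | _ j ih =>
    have hp := (Fact.out : p.Prime)
    have hx : D₁ p (MvPolynomial.X none) = 1 := by simp [D₁]
    generalize hbdef : (MvPolynomial.X (some 0) : U p) = b at ih ⊢
    let x : U p := MvPolynomial.X none
    let E : Derivation (ZMod p) (U p) (U p) := iterPow p (b • D₁ p)
    have hE : ∀ y : U p, E y = ∑ i ∈ Finset.range (p + 1),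
        coef (⇑(D₁ p)) b p i * (⇑(D₁ p))^[i] y := fun y => by
      rw [show E y = (⇑(b • D₁ p))^[p] y from isIterPow_iterPow p (b • D₁ p) y]
      exact iterate_smul_eq (⇑(D₁ p)) (map_zero _) (⇑(D₁ p)) (map_zero _) (map_add (D₁ p))
        (fun r m => by rw [smul_eq_mul, Derivation.leibniz, smul_eq_mul, smul_eq_mul, smul_eq_mul]; ring) b p y
    have hpow : ∀ i l : ℕ, (⇑(D₁ p))^[i] (x ^ l) = (l.descFactorial i : U p) * x ^ (l - i) := by
      intro i
      induction i with
      | zero => simp
      | succ i ihi =>
        intro l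
        rw [Function.iterate_succ_apply', ihi, Derivation.leibniz, Derivation.map_natCast,
          smul_zero, add_zero, Derivation.leibniz_pow, hx, Nat.descFactorial_succ]
        simp [Nat.cast_mul, smul_eq_mul, Nat.sub_sub]
        ring
    have hcz : coef (⇑(D₁ p)) b p 0 = 0 := by
      obtain ⟨q, hq⟩ : ∃ q, p = q + 1 := ⟨p - 1, by omega⟩
      conv_lhs => arg 3; rw [hq]
      exact coef_succ_zero _ (map_zero _) (Derivation.map_one_eq_zero _) b q
    have h1 : E x = coef (⇑(D₁ p)) b p 1 := by
      rw [hE, Finset.sum_eq_single 1]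
      · simp [x, hx]
      · intro i _ hi
        rcases Nat.lt_or_ge 1 i with h | h
        · have hh := hpow i 1
          rw [pow_one, Nat.descFactorial_of_lt h, Nat.cast_zero, zero_mul] at hh
          rw [hh, mul_zero]
        · rw [show i = 0 by omega, hcz, zero_mul]
      · intro h; simp only [Finset.mem_range] at h; omega
    have hj := hE (x ^ j)
    rw [Derivation.leibniz_pow, h1] at hj
    have hsum : ∑ i ∈ Finset.range (p + 1), coef (⇑(D₁ p)) b p i * (⇑(D₁ p))^[i] (x ^ j) =
        ((j : U p) * x ^ (j - 1)) * coef (⇑(D₁ p)) b p 1 +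
          coef (⇑(D₁ p)) b p j * (j.factorial : U p) := by
      rw [Finset.sum_eq_add (1 : ℕ) j (by omega)]
      · rw [hpow, hpow, Nat.descFactorial_one, Nat.descFactorial_self, Nat.sub_self, pow_zero,
          mul_one]
        ring
      · intro i _ hne
        rcases Nat.lt_trichotomy i j with h | h | h
        · rcases Nat.eq_zero_or_pos i with rfl | h0
          · rw [hcz, zero_mul]
          · rw [ih i h (by omega) (by omega), zero_mul]
        · exact absurd h hne.2
        · rw [hpow, Nat.descFactorial_of_lt h, Nat.cast_zero, zero_mul, mul_zero]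
      · intro h; simp only [Finset.mem_range] at h; omega
      · intro h; simp only [Finset.mem_range] at h; omega
    rw [hsum, smul_eq_mul, nsmul_eq_mul] at hj
    have h0 : coef (⇑(D₁ p)) b p j * (j.factorial : U p) = 0 := by linear_combination -hj
    refine (mul_eq_zero.1 h0).resolve_right fun hf => ?_
    rw [CharP.cast_eq_zero_iff (U p) p, hp.dvd_factorial] at hf
    omega

variable {p}

theorem coef_mid {A : Type v} {B : Type u} [CommRing A] [CommRing B] [Algebra A B] [CharP B p]
    (D : Derivation A B B) (b : B) (j : ℕ) (h2 : 2 ≤ j) (hjp : j < p) :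
    coef (⇑D) b p j = 0 := by
  letI : Algebra (ZMod p) B := ZMod.algebra B p
  let D' : Derivation (ZMod p) B B := Derivation.mk'
    ((D : B →ₗ[A] B).toAddMonoidHom.toZModLinearMap p) fun x y => by
      simpa using D.leibniz x y
  let φ : MvPolynomial ℕ (ZMod p) →ₐ[ZMod p] B := MvPolynomial.aeval fun n => (⇑D)^[n] b
  let ι : MvPolynomial ℕ (ZMod p) →ₐ[ZMod p] U p := MvPolynomial.rename some
  have hφ : ∀ z, φ (D₀ p z) = D (φ z) := fun z => intertwine φ (D₀ p) D' (fun n => by
    simp [D₀, φ, D', Function.iterate_succ_apply']) z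
  have hι : ∀ z, ι (D₀ p z) = D₁ p (ι z) := fun z => intertwine ι (D₀ p) (D₁ p) (fun n => by
    simp [D₀, D₁, ι]) z
  have h0 : coef (⇑(D₀ p)) (MvPolynomial.X 0) p j = 0 := by
    refine MvPolynomial.rename_injective _ (Option.some_injective ℕ) ?_
    show ι _ = ι 0
    rw [map_zero]
    refine (map_coef (ι : MvPolynomial ℕ (ZMod p) →+* U p) _ (⇑(D₁ p)) hι _ p j).trans ?_
    simpa [ι] using coef_mid_U p j h2 hjp
  have h := map_coef (φ : MvPolynomial ℕ (ZMod p) →+* B) _ (⇑D) hφ (MvPolynomial.X 0) p j
  rw [h0, map_zero] at h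
  simpa [φ] using h.symm

/-- Hochschild's identity. -/
theorem hochschild {A : Type v} {B : Type u} [CommRing A] [CommRing B] [Algebra A B] [CharP B p]
    {M : Type*} [AddCommGroup M] [Module B M] (D : Derivation A B B) (T : M → M) (hT0 : T 0 = 0)
    (hTadd : ∀ x y, T (x + y) = T x + T y)
    (hT : ∀ (r : B) (m : M), T (r • m) = D r • m + r • T m) (b : B) (m : M) :
    (fun x => b • T x)^[p] m = b ^ p • T^[p] m + coef (⇑D) b p 1 • T m := by
  have hp := (Fact.out : p.Prime)
  rw [iterate_smul_eq (⇑D) (map_zero D) T hT0 hTadd hT b p m,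
    Finset.sum_eq_add p 1 hp.one_lt.ne', coef_self _ (map_zero D), Function.iterate_one]
  · intro i hi hne
    rcases Nat.eq_zero_or_pos i with rfl | h0
    · obtain ⟨q, hq⟩ : ∃ q, p = q + 1 := ⟨p - 1, (Nat.sub_add_cancel hp.pos).symm⟩
      have h := coef_succ_zero (⇑D) (map_zero D) D.map_one_eq_zero b q
      rw [← hq] at h
      rw [h, zero_smul]
    · simp only [Finset.mem_range] at hi
      have := hne.1; have := hne.2
      rw [coef_mid D b i (by omega) (by omega), zero_smul]
  · intro h; simp at h
  · intro h; exact absurd (Finset.mem_range.2 (by have := hp.pos; omega)) h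

end Universal

section Conn

variable {A : Type v} {B M : Type u} [CommRing A] [CommRing B] [Algebra A B]
  [AddCommGroup M] [Module B M] [Module A M] [IsScalarTower A B M]

open TensorProduct

theorem alongDer_smul (nabla : M →ₗ[A] M ⊗[B] KaehlerDifferential A B)
    (hc : Conn.IsConn (KaehlerDifferential.D A B) nabla) (D : Derivation A B B) (r : B) (m : M) :
    Conn.alongDer nabla D (r • m) = D r • m + r • Conn.alongDer nabla D m := by
  simp only [Conn.alongDer, Conn.along_apply, hc r m, map_add, map_smul, TensorProduct.map_tmul,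
    LinearMap.id_apply, TensorProduct.rid_tmul, Derivation.liftKaehlerDifferential_comp_D]
  rw [add_comm]

theorem alongDer_add_smul (nabla : M →ₗ[A] M ⊗[B] KaehlerDifferential A B)
    (D D' : Derivation A B B) (r s : B) (m : M) :
    Conn.alongDer nabla (r • D + s • D') m =
      r • Conn.alongDer nabla D m + s • Conn.alongDer nabla D' m := by
  have h : (r • D + s • D').liftKaehlerDifferential =
      r • D.liftKaehlerDifferential + s • D'.liftKaehlerDifferential := by
    apply Derivation.liftKaehlerDifferential_unique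
    ext b
    simp
  simp only [Conn.alongDer, Conn.along_apply, h, TensorProduct.map_add_right,
    TensorProduct.map_smul_right, LinearMap.add_apply, LinearMap.smul_apply, map_add, map_smul]

theorem eq_smul_of_basis (bΩ : Module.Basis (Fin 1) B (KaehlerDifferential A B))
    (θ₀ θ : Derivation A B B) (hθ₀ : θ₀.liftKaehlerDifferential (bΩ 0) = 1) :
    θ = θ.liftKaehlerDifferential (bΩ 0) • θ₀ := by
  have h : θ.liftKaehlerDifferential =
      θ.liftKaehlerDifferential (bΩ 0) • θ₀.liftKaehlerDifferential := by
    refine bΩ.ext fun i => ?_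
    fin_cases i
    simp [hθ₀]
  ext b
  have := LinearMap.congr_fun h (KaehlerDifferential.D A B b)
  simpa using this

theorem pCurv_eq_zero {p : ℕ} [Fact p.Prime] [CharP B p]
    (nabla : M →ₗ[A] M ⊗[B] KaehlerDifferential A B)
    (hc : Conn.IsConn (KaehlerDifferential.D A B) nabla) (θ₀ : Derivation A B B) (c : B)
    (h0 : Conn.pCurv p nabla θ₀ (iterPow p θ₀) = 0) (θp : Derivation A B B)
    (hθp : Conn.IsIterPow (c • θ₀) p θp) : Conn.pCurv p nabla (c • θ₀) θp = 0 := by
  have hp := (Fact.out : p.Prime)
  have hθ : θp = c ^ p • iterPow p θ₀ + coef (⇑θ₀) c p 1 • θ₀ := by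
    ext b
    rw [hθp b, Derivation.coe_add, Pi.add_apply, Derivation.smul_apply, Derivation.smul_apply,
      isIterPow_iterPow p θ₀ b]
    exact hochschild θ₀ (⇑θ₀) (map_zero _) (map_add θ₀)
      (fun r m => by rw [smul_eq_mul, Derivation.leibniz, smul_eq_mul, smul_eq_mul, smul_eq_mul]; ring) c b
  have hD : ∀ m, Conn.alongDer nabla (c • θ₀) m = c • Conn.alongDer nabla θ₀ m := fun m => by
    have := alongDer_add_smul nabla θ₀ θ₀ c 0 m
    simpa using this
  ext m
  have h0' : (⇑(Conn.alongDer nabla θ₀))^[p] m = Conn.alongDer nabla (iterPow p θ₀) m := by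
    have := LinearMap.congr_fun h0 m
    rwa [Conn.pCurv, LinearMap.sub_apply, Module.End.pow_apply, LinearMap.zero_apply,
      sub_eq_zero] at this
  rw [Conn.pCurv, LinearMap.sub_apply, Module.End.pow_apply, LinearMap.zero_apply, hθ,
    alongDer_add_smul, sub_eq_zero, ← h0', show (⇑(Conn.alongDer nabla (c • θ₀))) =
      fun x => c • Conn.alongDer nabla θ₀ x from funext hD]
  exact hochschild θ₀ _ (map_zero _) (map_add _) (alongDer_smul nabla hc θ₀) c m

end Conn

end Groth.L13.PCurv
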