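import Mathlib.RingTheory.PowerSeries.Substitution
import Mathlib.RingTheory.PowerSeries.Inverse
import Mathlib.RingTheory.PowerSeries.Trunc

/-!
# Endomorphisms and involutions of `k[[t]]`
-/

set_option autoImplicit false
universe u

open PowerSeries

noncomputable section

namespace Groth.L13.PSAut

theorem algHom_ext {R : Type u} [CommRing R] (χ₁ χ₂ : R⟦X⟧ →ₐ[R] R⟦X⟧)
    (h : χ₁ X = χ₂ X) (h0 : constantCoeff (χ₁ X) = 0) : χ₁ = χ₂ := by
  refine AlgHom.ext fun f => PowerSeries.ext fun n => ?_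
  obtain ⟨g, hg⟩ : X ^ (n + 1) ∣ f - ((f.trunc (n + 1) : Polynomial R) : R⟦X⟧) := by
    rw [X_pow_dvd_iff]
    intro m hm
    rw [map_sub, Polynomial.coeff_coe, coeff_trunc, if_pos hm, sub_self]
  have hp : ∀ p : Polynomial R, χ₁ (p : R⟦X⟧) = χ₂ (p : R⟦X⟧) := fun p => by
    induction p using Polynomial.induction_on' with
    | add p q hp hq => rw [Polynomial.coe_add, map_add, map_add, hp, hq]
    | monomial m a =>
      rw [← Polynomial.C_mul_X_pow_eq_monomial, Polynomial.coe_mul, Polynomial.coe_C, Polynomial.coe_pow,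
        Polynomial.coe_X, map_mul, map_mul, map_pow, map_pow, h,
        show (PowerSeries.C a : R⟦X⟧) = algebraMap R _ a from rfl, AlgHom.commutes, AlgHom.commutes]
  have key : ∀ χ : R⟦X⟧ →ₐ[R] R⟦X⟧, constantCoeff (χ X) = 0 →
      coeff n (χ f) = coeff n (χ ((f.trunc (n + 1) : Polynomial R) : R⟦X⟧)) := by
    intro χ hχ
    have h1 : X ^ (n + 1) ∣ χ f - χ ((f.trunc (n + 1) : Polynomial R) : R⟦X⟧) := by
      rw [← map_sub, hg, map_mul, map_pow]
      exact Dvd.dvd.mul_right (pow_dvd_pow_of_dvd (X_dvd_iff.2 hχ) _) _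
    have h2 := X_pow_dvd_iff.1 h1 n (Nat.lt_succ_self n)
    rwa [map_sub, sub_eq_zero] at h2
  rw [key χ₁ h0, key χ₂ (h ▸ h0), hp]

/-- a substitution as an endomorphism -/
def endo {R : Type u} [CommRing R] (s : R⟦X⟧) (hs : constantCoeff s = 0) : R⟦X⟧ →ₐ[R] R⟦X⟧ :=
  substAlgHom (HasSubst.of_constantCoeff_zero' hs)

theorem endo_X {R : Type u} [CommRing R] (s : R⟦X⟧) (hs : constantCoeff s = 0) : endo s hs X = s := by
  rw [endo, coe_substAlgHom, subst_X (HasSubst.of_constantCoeff_zero' hs)]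

theorem exists_aut {R : Type u} [CommRing R] (s : R⟦X⟧) (hs : constantCoeff s = 0) (hs' : IsUnit (coeff 1 s)) :
    ∃ φ : R⟦X⟧ ≃ₐ[R] R⟦X⟧, φ X = s := by
  let t := substInvOfIsUnit s hs'
  have ht : constantCoeff t = 0 := constantCoeff_substInvOfIsUnit s hs'
  have h1 : (endo s hs).comp (endo t ht) = AlgHom.id R _ := by
    refine algHom_ext _ _ ?_ ?_ <;>
      rw [AlgHom.comp_apply, endo_X] <;>
      rw [show endo s hs t = subst s t by rw [endo, coe_substAlgHom], subst_substInvOfIsUnit_left s hs hs']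
    · rfl
    · exact constantCoeff_X
  have h2 : (endo t ht).comp (endo s hs) = AlgHom.id R _ := by
    refine algHom_ext _ _ ?_ ?_ <;>
      rw [AlgHom.comp_apply, endo_X] <;>
      rw [show endo t ht s = subst t s by rw [endo, coe_substAlgHom], subst_substInvOfIsUnit_right s hs hs']
    · rfl
    · exact constantCoeff_X
  exact ⟨AlgEquiv.ofAlgHom _ _ h1 h2, endo_X s hs⟩

variable {k : Type u} [Field k]

theorem constantCoeff_aut (σ : k⟦X⟧ ≃ₐ[k] k⟦X⟧) (f : k⟦X⟧) : constantCoeff (σ f) = constantCoeff f := by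
  have h : ∀ g : k⟦X⟧, constantCoeff g = 0 → constantCoeff (σ g) = 0 := fun g hg => by
    by_contra hne
    have hu : IsUnit g := by
      have := (isUnit_iff_constantCoeff.2 (Ne.isUnit hne)).map σ.symm
      rwa [σ.symm_apply_apply] at this
    exact (isUnit_iff_constantCoeff.1 hu).ne_zero hg
  have h1 := h (f - C (constantCoeff f)) (by simp)
  rwa [map_sub, show (C (constantCoeff f) : k⟦X⟧) = algebraMap k _ _ from rfl, AlgEquiv.commutes, map_sub,
    ← C_eq_algebraMap, constantCoeff_C, sub_eq_zero] at h1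

theorem main (h2 : (2 : k) ≠ 0) (σ : k⟦X⟧ ≃ₐ[k] k⟦X⟧) (hσ : ∀ f, σ (σ f) = f) :
    (coeff 1 (σ X)) ^ 2 = 1 ∧
    ∃ φ : k⟦X⟧ ≃ₐ[k] k⟦X⟧,
      φ X = C (2⁻¹ : k) * (X + C (coeff 1 (σ X)) * σ X) ∧
      ∀ f, φ.symm (σ (φ f)) = rescale (coeff 1 (σ X)) f := by
  set ξ := coeff 1 (σ X) with hξdef
  have ha : constantCoeff (σ X) = 0 := (constantCoeff_aut σ X).trans constantCoeff_X
  have hξ : ξ ^ 2 = 1 := by
    obtain ⟨g, hg⟩ := X_dvd_iff.2 ha
    have h0 : constantCoeff g = ξ := by rw [hξdef, hg, coeff_succ_X_mul, coeff_zero_eq_constantCoeff]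
    have h := hσ X
    rw [hg, map_mul, hg] at h
    have h' := congrArg (coeff 1) h
    rwa [mul_assoc, coeff_succ_X_mul, coeff_zero_eq_constantCoeff, map_mul, constantCoeff_aut, h0, coeff_one_X,
      ← sq] at h'
  set s := C (2⁻¹ : k) * (X + C ξ * σ X) with hsdef
  have hs : constantCoeff s = 0 := by simp [hsdef, ha]
  have hs' : coeff 1 s = 1 := by
    rw [hsdef, coeff_C_mul, map_add, coeff_one_X, coeff_C_mul, ← hξdef, ← sq, hξ]
    field_simp
    norm_num
  obtain ⟨φ, hφ⟩ := exists_aut s hs (hs'.symm ▸ isUnit_one)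
  refine ⟨hξ, φ, hφ, fun f => ?_⟩
  have hσs : σ s = C ξ * s := by
    have hc : ∀ c : k, σ (C c) = C c := fun c => by
      rw [show (C c : k⟦X⟧) = algebraMap k k⟦X⟧ c from rfl, AlgEquiv.commutes]
    rw [hsdef, map_mul, map_add, map_mul, hσ, hc, hc]
    have : (C ξ : k⟦X⟧) * C ξ = 1 := by rw [← map_mul, ← sq, hξ, map_one]
    linear_combination (-(C (2⁻¹ : k)) * σ X) * this
  let r : k⟦X⟧ →ₐ[k] k⟦X⟧ :=
    { rescale ξ with
      commutes' := fun c => by
        show rescale ξ (algebraMap k k⟦X⟧ c) = _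
        rw [← C_eq_algebraMap]
        ext n
        rw [coeff_rescale, coeff_C]
        split_ifs with hn <;> simp [hn] }
  have key : (σ.toAlgHom.comp φ.toAlgHom) = φ.toAlgHom.comp r := by
    refine algHom_ext _ _ ?_ ?_
    · show σ (φ X) = φ (rescale ξ X)
      rw [hφ, hσs, rescale_X, map_mul, hφ, show (C ξ : k⟦X⟧) = algebraMap k _ _ from rfl, AlgEquiv.commutes]
    · show constantCoeff (σ (φ X)) = 0
      rw [constantCoeff_aut, hφ, hs]
  rw [AlgEquiv.symm_apply_eq]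
  exact DFunLike.congr_fun key f

end Groth.L13.PSAut
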