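import Groth.Agent.L13.PlaneGermBasic
import Groth.Prelude.Def_W4c1arstab1appArSing

/-!
Plane germs of order at most two are `A_n` or a double smooth branch, and order is an invariant.
-/

set_option autoImplicit false

universe u

open MvPowerSeries

namespace Groth.Agent.L13.PlaneGerm

variable {k : Type u} [Field k]

local notation "P" => MvPowerSeries (Fin 2) k

/-- The quotient by `F` is an `A_n`-algebra or the algebra of a double line. -/
def IsASing (F : P) : Prop :=
  (∃ n : ℕ, Nonempty ((P ⧸ Ideal.span {F}) ≃ₐ[k] ArSing.ring k n)) ∨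
    Nonempty ((P ⧸ Ideal.span {F}) ≃ₐ[k] (P ⧸ Ideal.span ({X 1 ^ 2} : Set P)))

lemma IsASing.of_aut {F F' : P} (φ : P ≃ₐ[k] P) (h : Associated (φ F) F') (hF : IsASing F') :
    IsASing F := by
  obtain ⟨e⟩ := nonempty_equiv_of_map φ h
  obtain hF | hF := hF
  · obtain ⟨n, hf⟩ := hF
    exact Or.inl ⟨n, hf.map e.trans⟩
  · exact Or.inr (hF.map e.trans)

lemma lc_eq_zero_of_mem {f : P} (h : f ∈ Groth.L28.PSer.M (Fin 2) k ^ 2) (i : Fin 2) :
    lc i f = 0 := by
  have := Groth.L28.PSer.order_mem_pow f 2 h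
  exact coeff_of_lt_order (lt_of_lt_of_le (by simp) this)

/-- The order one case. -/
lemma isASing_of_lc [IsAlgClosed k] {F : P} (h0 : constantCoeff F = 0)
    (h : lc 0 F ≠ 0 ∨ lc 1 F ≠ 0) : IsASing F := by
  have hl : ∃ i, lc (1 - i) F ≠ 0 := h.elim (fun h => ⟨1, h⟩) (fun h => ⟨0, h⟩)
  obtain ⟨i, hi⟩ := hl
  have hsq : ∀ j, lc j ((X i : P) ^ 2) = 0 := fun j => by
    rw [pow_two, lc_mul, constantCoeff_X]; ring
  have hlc : ∀ j, lc j ((X i : P) ^ 2 - F) = -lc j F := fun j => by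
    have := hsq j
    simp only [lc, map_sub] at this ⊢
    rw [this, zero_sub]
  obtain ⟨φ, hφ0, hφ1⟩ := exists_aut (X i ^ 2 - F) (X i) (by simp [h0]) (constantCoeff_X _) (by
    rw [hlc, hlc, lc_X, lc_X]
    fin_cases i <;> simpa using hi)
  refine Or.inl ⟨0, ?_⟩
  obtain ⟨e⟩ := nonempty_equiv_of_map φ (F := ArSing.eqn k 0) (F' := F) (by
    rw [ArSing.eqn, map_sub, map_pow, map_pow, hφ0, hφ1, zero_add, pow_one, sub_sub_cancel])
  exact ⟨e.symm⟩

lemma coeff_two (U W : P) :
    coeff (Finsupp.single 1 2) (X 1 ^ 2 * U + X 0 * W) = constantCoeff U := by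
  classical
  rw [map_add, X_pow_eq, coeff_monomial_mul, if_pos le_rfl, one_mul, tsub_self,
    coeff_zero_eq_constantCoeff_apply, MvPowerSeries.X, coeff_monomial_mul, if_neg, add_zero]
  rw [Finsupp.single_le_iff]
  simp

lemma pderiv_one_inX (D : PowerSeries k) : pderiv k 1 (inX D) = 0 := by
  refine MvPowerSeries.ext fun e => ?_
  rw [coeff_pderiv, coeff_inX, if_neg (by simp), zero_mul, map_zero]

/-- The order two case, with a non-zero coefficient at `X₁ ^ 2`. -/
lemma isASing_of_coeff_two [IsAlgClosed k] (h2 : (2 : k) ≠ 0) {F : P} (h0 : constantCoeff F = 0)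
    (h1 : lc 1 F = 0) (hc : coeff (Finsupp.single 1 2) F ≠ 0) : IsASing F := by
  have hd0 : constantCoeff (pderiv k 1 F) = 0 := by
    rw [Groth.L28.PSer.constantCoeff_pderiv]; exact h1
  have hd1 : lc 1 (pderiv k 1 F) ≠ 0 := by
    rw [lc, Groth.L28.PSer.coeff_single_pderiv, if_pos rfl]
    exact mul_ne_zero h2 hc
  obtain ⟨φ, hφ0, hφ1⟩ := exists_aut (X 0) (pderiv k 1 F) (constantCoeff_X _) hd0 (by
    simpa [lc_X] using hd1)
  obtain ⟨b, c', hb⟩ := exists_split_zero (φ.symm (X 1))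
  have hX1 := congrArg φ hb
  rw [AlgEquiv.apply_symm_apply, map_add, map_mul, hφ1,
    show φ (inX b) = inX b from map_inX φ.toAlgHom hφ0 b] at hX1
  have hb0 : PowerSeries.constantCoeff b = 0 := by
    simpa [hd0, constantCoeff_inX] using (congrArg constantCoeff hX1).symm
  obtain ⟨U, hU⟩ : IsUnit (φ c') := by
    rw [isUnit_iff]
    intro h
    have := congrArg (lc 1) hX1
    simp only [lc] at this
    rw [map_add, show coeff (Finsupp.single 1 1) (inX b) = 0 from lc_one_inX b] at this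
    rw [show coeff (Finsupp.single 1 1) (pderiv k 1 F * φ c') =
      lc 1 (pderiv k 1 F * φ c') from rfl, lc_mul, hd0, h] at this
    simp [coeff_X] at this
  set z : P := X 1 - inX b with hz
  have hdF : pderiv k 1 F = z * ↑U⁻¹ := by
    rw [Units.eq_mul_inv_iff_mul_eq, hU, hz, eq_sub_iff_add_eq, add_comm]
    exact hX1.symm
  obtain ⟨D, F₁, hF⟩ := exists_split b hb0 F
  have hz' : pderiv k 1 z = 1 := by
    rw [hz, map_sub, pderiv_one_inX, pderiv_X_self, sub_zero]
  have hF₁ : F₁ = z * (↑U⁻¹ - pderiv k 1 F₁) := by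
    have := congrArg (pderiv k 1) hF
    rw [map_add, pderiv_one_inX, zero_add, Derivation.leibniz, ← hz, hz', smul_eq_mul, smul_eq_mul,
      mul_one, hdF] at this
    linear_combination -this
  set W : P := ↑U⁻¹ - pderiv k 1 F₁ with hW
  have hF' : F = inX D + z ^ 2 * W := by rw [hF, hF₁]; ring
  have hb' : ∃ b' : P, inX b = X 0 * b' := by
    obtain ⟨b', rfl⟩ := PowerSeries.X_dvd_iff.mpr hb0
    have h0 : PowerSeries.HasSubst (X (0 : Fin 2) : P) :=
      PowerSeries.HasSubst.of_constantCoeff_zero (constantCoeff_X _)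
    exact ⟨inX b', by simp [inX, PowerSeries.subst_mul h0, PowerSeries.subst_X h0]⟩
  have hW0 : constantCoeff W ≠ 0 := by
    obtain ⟨b', hb'⟩ := hb'
    intro h
    apply hc
    rw [hF', map_add, coeff_inX, if_neg (by simp), zero_add, hz, hb',
      show (X 1 - X 0 * b') ^ 2 * W = X 1 ^ 2 * W + X 0 * ((-2 * X 1 * b' + X 0 * b' ^ 2) * W) by
        ring, coeff_two, h]
  obtain ⟨W', hW'⟩ := isUnit_iff.mpr hW0
  have hzdet : ∀ (s : P), constantCoeff s ≠ 0 →
      lc 0 (X 0 : P) * lc 1 (z * s) - lc 1 (X 0 : P) * lc 0 (z * s) ≠ 0 := by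
    intro s hs
    have : lc 1 (z * s) = constantCoeff s := by
      rw [lc_mul, hz, map_sub, constantCoeff_X, constantCoeff_inX, hb0]
      simp only [lc, map_sub]
      rw [show coeff (Finsupp.single 1 1) (inX b) = 0 from lc_one_inX b]
      simp [coeff_X]
    rw [lc_X, lc_X, this]
    simpa using hs
  have hz0 : ∀ (s : P), constantCoeff (z * s) = 0 := fun s => by
    simp [hz, constantCoeff_inX, hb0]
  by_cases hD : D = 0
  · obtain ⟨χ, hχ0, hχ1⟩ := exists_aut (X 0) (z * 1) (constantCoeff_X _) (hz0 1)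
      (hzdet 1 (by simp))
    obtain ⟨e⟩ := nonempty_equiv_of_map χ (F := (X 1 : P) ^ 2) (F' := F)
      ⟨W', by
        rw [map_pow, hχ1, mul_one, hW', hF', hD,
          show inX (0 : PowerSeries k) = 0 from MvPowerSeries.ext fun e => by simp [coeff_inX],
          zero_add]⟩
    exact Or.inr ⟨e.symm⟩
  · obtain ⟨u, N, hu0, hN⟩ : ∃ (u : PowerSeries k) (N : ℕ),
        PowerSeries.constantCoeff u ≠ 0 ∧ D = PowerSeries.X ^ N * u :=
      ⟨D.divXPowOrder, D.order.toNat,
        fun h => hD (PowerSeries.constantCoeff_divXPowOrder_eq_zero_iff.mp h),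
        PowerSeries.X_pow_order_mul_divXPowOrder.symm⟩
    obtain ⟨M, rfl⟩ : ∃ M, N = M + 1 := Nat.exists_eq_add_one.mpr (by
      rcases N with _ | N
      · exfalso
        apply hu0
        have := congrArg constantCoeff hF'
        rw [h0, map_add, constantCoeff_inX, hN, pow_zero, one_mul, map_mul, pow_two, hz0,
          zero_mul, add_zero] at this
        exact this.symm
      · exact Nat.succ_pos _)
    have hinX : inX D = X 0 ^ (M + 1) * inX u := by
      have h0 : PowerSeries.HasSubst (X (0 : Fin 2) : P) :=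
        PowerSeries.HasSubst.of_constantCoeff_zero (constantCoeff_X _)
      rw [hN]
      simp [inX, PowerSeries.subst_mul h0, PowerSeries.subst_pow h0, PowerSeries.subst_X h0]
    obtain ⟨w, ⟨w', hw'⟩, hw⟩ := exists_sq h2 (f := -(inX u * ↑W'⁻¹)) (by
      rw [map_neg, map_mul, constantCoeff_inX]
      exact neg_ne_zero.mpr (mul_ne_zero hu0 (isUnit_iff.mp (Units.isUnit _))))
    obtain ⟨χ, hχ0, hχ1⟩ := exists_aut (X 0) (z * ↑w'⁻¹) (constantCoeff_X _) (hz0 _)
      (hzdet _ (isUnit_iff.mp (Units.isUnit _)))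
    obtain ⟨e⟩ := nonempty_equiv_of_map χ (F := ArSing.eqn k M) (F' := F)
      ⟨W' * w' ^ 2, by
        rw [ArSing.eqn, map_sub, map_pow, map_pow, hχ0, hχ1, hF', hinX, Units.val_mul,
          Units.val_pow_eq_pow_val, hW', hw']
        have e1 : (↑w'⁻¹ : P) * w = 1 := by rw [← hw', Units.inv_mul]
        have e2 : w ^ 2 * W = -inX u := by
          rw [hw, neg_mul, mul_assoc, ← hW', Units.inv_mul, mul_one]
        linear_combination z ^ 2 * W * ((↑w'⁻¹ : P) * w + 1) * e1 - (X 0 : P) ^ (M + 1) * e2⟩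
    exact Or.inl ⟨M, ⟨e.symm⟩⟩

/-- A germ of order at most two is of type `A`. -/
theorem isASing_of_not_order_three [IsAlgClosed k] (h2 : (2 : k) ≠ 0) {F : P}
    (h0 : constantCoeff F = 0) (h : ¬ ((3 : ℕ) : ℕ∞) ≤ F.order) : IsASing F := by
  by_cases hl : lc 0 F ≠ 0 ∨ lc 1 F ≠ 0
  · exact isASing_of_lc h0 hl
  push Not at hl
  have ho : ((2 : ℕ) : ℕ∞) ≤ F.order := nat_le_order fun d hd => by
    rcases Groth.L28.PSer.degree_le_one (show d.degree ≤ 1 by omega) with rfl | ⟨i, rfl⟩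
    · exact h0
    · fin_cases i
      · exact hl.1
      · exact hl.2
  obtain ⟨g, hg, hgo⟩ := Groth.L01.FormalInverse.exists_decomp (m := 1) ho
  have hg' : ∀ i, ∃ g' : Fin 2 → P, g i = ∑ j, X j * g' j := fun i =>
    let ⟨g', e, _⟩ := Groth.L01.FormalInverse.exists_decomp (m := 0) (hgo i)
    ⟨g', e⟩
  choose g' hg' using hg'
  set A := g' 0 0
  set B := g' 0 1 + g' 1 0
  set E := g' 1 1
  have hF : F = X 0 ^ 2 * A + X 0 * X 1 * B + X 1 ^ 2 * E := by
    rw [hg, Fin.sum_univ_two, hg', hg', Fin.sum_univ_two, Fin.sum_univ_two]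
    ring
  have hne : constantCoeff A ≠ 0 ∨ constantCoeff B ≠ 0 ∨ constantCoeff E ≠ 0 := by
    by_contra hh
    push Not at hh
    apply h
    rw [hF]
    have key : ∀ (a b c : P), constantCoeff a = 0 → constantCoeff b = 0 → constantCoeff c = 0 →
        ((3 : ℕ) : ℕ∞) ≤ (a * b * c).order := fun a b c ha hb hc => by
      refine le_trans ?_ (le_trans (add_le_add le_order_mul le_rfl) le_order_mul)
      exact le_trans (le_of_eq (by norm_num))
        (add_le_add (add_le_add (one_le_order_iff_constCoeff_eq_zero.mpr ha)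
          (one_le_order_iff_constCoeff_eq_zero.mpr hb))
          (one_le_order_iff_constCoeff_eq_zero.mpr hc))
    refine le_trans (le_min (le_trans (le_min ?_ ?_) min_order_le_add) ?_) min_order_le_add
    · rw [pow_two]; exact key _ _ _ (constantCoeff_X _) (constantCoeff_X _) hh.1
    · exact key _ _ _ (constantCoeff_X _) (constantCoeff_X _) hh.2.1
    · rw [pow_two]; exact key _ _ _ (constantCoeff_X _) (constantCoeff_X _) hh.2.2
  have hcc : ∀ (φ : P ≃ₐ[k] P) (f : P), constantCoeff (φ f) = constantCoeff f := by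
    intro φ f
    have h1 : ((1 : ℕ) : ℕ∞) ≤ (f - C (constantCoeff f)).order := by
      rw [Nat.cast_one, one_le_order_iff_constCoeff_eq_zero]; simp
    have := (order_map_equiv φ).mpr h1
    rw [Nat.cast_one, one_le_order_iff_constCoeff_eq_zero, map_sub φ, c_eq_algebraMap,
      AlgEquiv.commutes, ← c_eq_algebraMap, map_sub, constantCoeff_C, sub_eq_zero] at this
    exact this
  obtain ⟨φ, hφ⟩ : ∃ φ : P ≃ₐ[k] P, coeff (Finsupp.single 1 2) (φ F) ≠ 0 := by
    by_cases hE : constantCoeff E = 0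
    · by_cases hA : constantCoeff A = 0
      · obtain ⟨φ, hφ0, hφ1⟩ := exists_aut (X 0 + X 1 : P) (X 1) (by simp) (constantCoeff_X _)
          (by simp [lc, coeff_X, Finsupp.single_left_inj one_ne_zero])
        refine ⟨φ, ?_⟩
        have eF : φ F = X 1 ^ 2 * (φ A + φ B + φ E) +
            X 0 * ((X 0 + 2 * X 1) * φ A + X 1 * φ B) := by
          rw [hF]; simp only [map_add, map_mul, map_pow, hφ0, hφ1]; ring
        rw [eF, coeff_two, map_add, map_add, hcc, hcc, hcc, hA, hE]
        simpa [hA, hE] using hne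
      · obtain ⟨φ, hφ0, hφ1⟩ := exists_aut (X 1 : P) (X 0) (constantCoeff_X _) (constantCoeff_X _)
          (by simp [lc, coeff_X, Finsupp.single_left_inj one_ne_zero])
        refine ⟨φ, ?_⟩
        have eF : φ F = X 1 ^ 2 * φ A + X 0 * (X 1 * φ B + X 0 * φ E) := by
          rw [hF]; simp only [map_add, map_mul, map_pow, hφ0, hφ1]; ring
        rwa [eF, coeff_two, hcc]
    · refine ⟨AlgEquiv.refl, ?_⟩
      show coeff _ F ≠ 0
      rwa [hF, show X 0 ^ 2 * A + X 0 * X 1 * B + X 1 ^ 2 * E =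
        X 1 ^ 2 * E + X 0 * (X 0 * A + X 1 * B) by ring, coeff_two]
  exact IsASing.of_aut φ (Associated.refl _) (isASing_of_coeff_two h2
    (by rw [hcc, h0]) (coeff_of_lt_order (lt_of_lt_of_le (by simp)
      ((order_map_equiv φ).mpr ho))) hφ)

lemma hom_agree {A : Type u} [CommRing A] [Algebra k A] (F₁ F₂ : P →ₐ[k] A) (J : Ideal A)
    (hJ : ∀ i, F₂ (X i) ∈ J) :
    ∀ (N : ℕ), (∀ i, F₁ (X i) = F₂ (X i)) → ∀ f, F₁ f - F₂ f ∈ J ^ N
  | 0, _, f => by simp
  | N + 1, h, f => by
    obtain ⟨g, hg, -⟩ := Groth.L01.FormalInverse.exists_decomp (m := 0)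
      (f := f - C (constantCoeff f)) (by
        rw [Nat.cast_add, Nat.cast_zero, Nat.cast_one, zero_add,
          one_le_order_iff_constCoeff_eq_zero]
        simp)
    have hf : f = algebraMap k P (constantCoeff f) + ∑ i, X i * g i := by
      rw [← hg, ← c_eq_algebraMap]; ring
    rw [hf, map_add, map_add, AlgHom.commutes, AlgHom.commutes, map_sum, map_sum,
      add_sub_add_left_eq_sub, ← Finset.sum_sub_distrib]
    refine Ideal.sum_mem _ fun i _ => ?_
    rw [map_mul, map_mul, h, ← mul_sub, pow_succ']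
    exact Ideal.mul_mem_mul (hJ i) (hom_agree F₁ F₂ J hJ N h (g i))

/-- Order at least three is an invariant of the quotient algebra. -/
theorem order_three_of_equiv {F G : P} (hF : ((3 : ℕ) : ℕ∞) ≤ F.order) (hG : constantCoeff G = 0)
    (e : (P ⧸ Ideal.span {F}) ≃ₐ[k] (P ⧸ Ideal.span {G})) : ((3 : ℕ) : ℕ∞) ≤ G.order := by
  have hF0 : constantCoeff F = 0 :=
    one_le_order_iff_constCoeff_eq_zero.mp (le_trans (by norm_num) hF)
  have lift' : ∀ (F G : P), constantCoeff G = 0 →
      ∀ (e : (P ⧸ Ideal.span {F}) ≃ₐ[k] (P ⧸ Ideal.span {G})),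
      ∃ h : Fin 2 → P, (∀ i, constantCoeff (h i) = 0) ∧
        ∀ i, Ideal.Quotient.mk (Ideal.span {F}) (h i) =
          e.symm (Ideal.Quotient.mk _ (X i)) := by
    intro F G hG e
    choose h hh using fun i =>
      Ideal.Quotient.mk_surjective (e.symm (Ideal.Quotient.mk (Ideal.span {G}) (X i)))
    refine ⟨h, fun i => ?_, hh⟩
    by_contra hne
    have hu : IsUnit (Ideal.Quotient.mk (Ideal.span {G}) (X i)) := by
      have := ((isUnit_iff.mpr hne).map (Ideal.Quotient.mk (Ideal.span {F}))).map e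
      rwa [hh, AlgEquiv.apply_symm_apply] at this
    obtain ⟨v, hv⟩ := hu.exists_right_inv
    obtain ⟨v, rfl⟩ := Ideal.Quotient.mk_surjective v
    rw [← map_mul, ← map_one (Ideal.Quotient.mk (Ideal.span {G})),
      Ideal.Quotient.mk_eq_mk_iff_sub_mem, Ideal.mem_span_singleton] at hv
    obtain ⟨c, hc⟩ := hv
    simpa [hG] using congrArg constantCoeff hc
  obtain ⟨h, hh0, hh⟩ := lift' F G hG e
  obtain ⟨g, hg0, hg⟩ := lift' G F hF0 e.symm
  simp only [AlgEquiv.symm_symm] at hg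
  set J := Ideal.map (Ideal.Quotient.mk (Ideal.span {F})) (Groth.L28.PSer.M (Fin 2) k) with hJ
  have hsF : Ideal.span {F} ≤ Groth.L28.PSer.M (Fin 2) k ^ 3 := by
    rw [Ideal.span_le, Set.singleton_subset_iff]
    exact Groth.L28.PSer.mem_pow_of_order 3 F hF
  let ψ := substAlgHom (R := k) (hasSubst_of_constantCoeff_zero hh0)
  have hψ : ∀ i, ψ (X i) = h i := substAlgHom_X _
  have back : ∀ (N : ℕ) (f : P), N ≤ 3 → Ideal.Quotient.mk (Ideal.span {F}) f ∈ J ^ N →
      f ∈ Groth.L28.PSer.M (Fin 2) k ^ N := by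
    intro N f hN hf
    rw [hJ, ← Ideal.map_pow, Ideal.mem_map_iff_of_surjective _ Ideal.Quotient.mk_surjective] at hf
    obtain ⟨f', hf', e'⟩ := hf
    rw [Ideal.Quotient.mk_eq_mk_iff_sub_mem] at e'
    have := sub_mem hf' (Ideal.pow_le_pow_right hN (hsF e'))
    rwa [sub_sub_cancel] at this
  have agree : ∀ (N : ℕ) (f : P), Ideal.Quotient.mk (Ideal.span {F}) (ψ f) -
      e.symm (Ideal.Quotient.mk _ f) ∈ J ^ N := fun N f =>
    hom_agree ((Ideal.Quotient.mkₐ k _).comp ψ)
      (e.symm.toAlgHom.comp (Ideal.Quotient.mkₐ k _)) J (fun i => by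
        show e.symm (Ideal.Quotient.mk _ (X i)) ∈ J
        rw [← hh]
        refine Ideal.mem_map_of_mem _ ?_
        have := Groth.L28.PSer.mem_pow_of_order 1 (h i) (by
          rw [Nat.cast_one, one_le_order_iff_constCoeff_eq_zero]; exact hh0 i)
        rwa [pow_one] at this) N (fun i => by
        show Ideal.Quotient.mk _ (ψ (X i)) = e.symm (Ideal.Quotient.mk _ (X i))
        rw [hψ, hh]) f
  have lin : ∀ j i, (∑ l, lc l (g j) * lc i (h l)) = if j = i then 1 else 0 := by
    intro j i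
    have h1 : ψ (g j) - X j ∈ Groth.L28.PSer.M (Fin 2) k ^ 2 := by
      refine back 2 _ (by norm_num) ?_
      have := agree 2 (g j)
      rwa [hg, AlgEquiv.symm_apply_apply, ← map_sub] at this
    have h2 : ψ (g j) - ∑ l, C (lc l (g j)) * h l ∈ Groth.L28.PSer.M (Fin 2) k ^ 2 := by
      have hs : ψ (∑ l, C (lc l (g j)) * X l) = ∑ l, C (lc l (g j)) * h l := by
        rw [map_sum]
        refine Finset.sum_congr rfl fun l _ => ?_
        rw [map_mul, hψ, c_eq_algebraMap, AlgHom.commutes]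
      rw [← hs, ← map_sub]
      refine Groth.L28.PSer.mem_pow_of_order 2 _ (order_map ψ ?_)
      exact Groth.L28.PSer.order_mem_pow _ 2 (Groth.L28.PSer.sub_linear_mem_sq _ (hg0 j))
    have h3 := lc_eq_zero_of_mem (sub_mem h1 h2) i
    simp only [lc, sub_sub_sub_cancel_left, map_sub, map_sum, coeff_C_mul, sub_eq_zero] at h3
    simp only [lc, h3]
    exact lc_X j i
  obtain ⟨φ, hφ0, hφ1⟩ := exists_aut (h 0) (h 1) (hh0 0) (hh0 1) (by
    intro hd
    have e00 := lin 0 0
    have e01 := lin 0 1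
    have e10 := lin 1 0
    have e11 := lin 1 1
    simp only [Fin.sum_univ_two, if_true, if_neg (show (0 : Fin 2) ≠ 1 by decide),
      if_neg (show (1 : Fin 2) ≠ 0 by decide)] at e00 e01 e10 e11
    refine one_ne_zero (α := k) ?_
    linear_combination (lc 0 (g 0) * lc 1 (g 1) - lc 1 (g 0) * lc 0 (g 1)) * hd
      - (lc 0 (g 1) * lc 1 (h 0) + lc 1 (g 1) * lc 1 (h 1)) * e00
      - e11 + (lc 0 (g 1) * lc 0 (h 0) + lc 1 (g 1) * lc 0 (h 1)) * e01)
  have hψφ : ψ G = φ G := by
    rw [← sub_eq_zero]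
    apply Groth.L01.FormalInverse.eq_zero_of_order
    intro m
    exact Groth.L28.PSer.order_mem_pow _ m (hom_agree ψ φ.toAlgHom (Groth.L28.PSer.M (Fin 2) k)
      (fun i => by
        have := Groth.L28.PSer.mem_pow_of_order 1 (φ (X i)) (by
          rw [Nat.cast_one, one_le_order_iff_constCoeff_eq_zero]
          exact constantCoeff_map_X φ.toAlgHom i)
        rwa [pow_one] at this) m
      (fun i => by fin_cases i <;> simp [hψ, hφ0, hφ1]) G)
  rw [← order_map_equiv φ, ← hψφ]
  refine Groth.L28.PSer.order_mem_pow _ 3 (back 3 _ le_rfl ?_)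
  have := agree 3 G
  rwa [show Ideal.Quotient.mk (Ideal.span {G}) G = 0 from
    Ideal.Quotient.eq_zero_iff_mem.mpr (Ideal.subset_span rfl), map_zero, sub_zero] at this

end Groth.Agent.L13.PlaneGerm
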