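import Groth.Agent.L13.PlaneGermBasic
import Mathlib.Algebra.MvPolynomial.PDeriv
import Mathlib.RingTheory.MvPowerSeries.Basic

/-!
Recentring plane polynomials at a point.
-/

set_option autoImplicit false

universe u

open MvPowerSeries

namespace Groth.Agent.L13.PlaneGerm

variable {k : Type u} [Field k]

local notation "P" => MvPowerSeries (Fin 2) k

/-- The polynomial recentred at `a`. -/
noncomputable abbrev shift (a : Fin 2 → k) :
    MvPolynomial (Fin 2) k →ₐ[k] MvPolynomial (Fin 2) k :=
  MvPolynomial.aeval (fun i : Fin 2 => MvPolynomial.X i + MvPolynomial.C (a i))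

/-- The germ at `a` of a polynomial. -/
noncomputable abbrev germ (a : Fin 2 → k) (f : MvPolynomial (Fin 2) k) : P :=
  (shift a f).toMvPowerSeries

lemma germ_eq (a : Fin 2 → k) (f : MvPolynomial (Fin 2) k) :
    germ a f = MvPolynomial.coeToMvPowerSeries.ringHom (shift a f) := rfl

lemma germ_add (a : Fin 2 → k) (f g : MvPolynomial (Fin 2) k) :
    germ a (f + g) = germ a f + germ a g := by rw [germ_eq, map_add, map_add]; rfl

lemma germ_mul (a : Fin 2 → k) (f g : MvPolynomial (Fin 2) k) :
    germ a (f * g) = germ a f * germ a g := by rw [germ_eq, map_mul, map_mul]; rfl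

lemma germ_X (a : Fin 2 → k) (i : Fin 2) :
    germ a (MvPolynomial.X i) = X i + C (a i) := by
  rw [germ_eq, shift, MvPolynomial.aeval_X, map_add]
  simp [MvPolynomial.coeToMvPowerSeries.ringHom_apply]

lemma pderiv_shift (a : Fin 2 → k) (i : Fin 2) (f : MvPolynomial (Fin 2) k) :
    MvPolynomial.pderiv i (shift a f) = shift a (MvPolynomial.pderiv i f) := by
  induction f using MvPolynomial.induction_on with
  | C c => simp
  | add p q hp hq => simp [map_add, hp, hq]
  | mul_X p j hp =>
    rw [map_mul, Derivation.leibniz, Derivation.leibniz, hp]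
    simp only [shift, MvPolynomial.aeval_X, map_add, MvPolynomial.pderiv_C, add_zero,
      smul_eq_mul, map_mul, MvPolynomial.pderiv_X]
    by_cases h : i = j
    · subst h; simp
    · simp [Pi.single_eq_of_ne, h, Ne.symm h]

lemma constantCoeff_germ (a : Fin 2 → k) (f : MvPolynomial (Fin 2) k) :
    constantCoeff (germ a f) = MvPolynomial.eval a f := by
  rw [← coeff_zero_eq_constantCoeff_apply, MvPolynomial.coeff_coe]
  induction f using MvPolynomial.induction_on with
  | C c => simp
  | add p q hp hq => simp [map_add, hp, hq, MvPolynomial.coeff_add]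
  | mul_X p j hp =>
    simp only [← MvPolynomial.constantCoeff_eq] at hp ⊢
    simp [map_mul, hp]

lemma pderiv_germ (a : Fin 2 → k) (i : Fin 2) (f : MvPolynomial (Fin 2) k) :
    MvPowerSeries.pderiv k i (germ a f) = germ a (MvPolynomial.pderiv i f) := by
  rw [germ, MvPowerSeries.pderiv_coe, pderiv_shift]

lemma lc_germ (a : Fin 2 → k) (i : Fin 2) (f : MvPolynomial (Fin 2) k) :
    lc i (germ a f) = MvPolynomial.eval a (MvPolynomial.pderiv i f) := by
  rw [lc, ← Groth.L28.PSer.constantCoeff_pderiv, pderiv_germ, constantCoeff_germ]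

lemma eq_pair_of_degree_two {d : Fin 2 →₀ ℕ} (h : d.degree = 2) :
    ∃ i j, d = Finsupp.single i 1 + Finsupp.single j 1 := by
  rw [Finsupp.degree_eq_sum, Fin.sum_univ_two] at h
  rcases (show d 0 = 0 ∨ d 0 = 1 ∨ d 0 = 2 by omega) with e | e | e
  · exact ⟨1, 1, by ext t; fin_cases t <;> simp <;> omega⟩
  · exact ⟨0, 1, by ext t; fin_cases t <;> simp <;> omega⟩
  · exact ⟨0, 0, by ext t; fin_cases t <;> simp <;> omega⟩

/-- The germ has order at least three iff the value, gradient and Hessian vanish. -/
lemma order_germ_iff (h2 : (2 : k) ≠ 0) (a : Fin 2 → k) (f : MvPolynomial (Fin 2) k)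
    (hf : MvPolynomial.eval a f = 0) :
    ((3 : ℕ) : ℕ∞) ≤ (germ a f).order ↔
      ((∀ i : Fin 2, MvPolynomial.eval a (MvPolynomial.pderiv i f) = 0) ∧
        ∀ i j : Fin 2, MvPolynomial.eval a
          (MvPolynomial.pderiv i (MvPolynomial.pderiv j f)) = 0) := by
  have hess : ∀ i j : Fin 2, MvPolynomial.eval a (MvPolynomial.pderiv i (MvPolynomial.pderiv j f)) =
      if j = i then 2 * coeff (Finsupp.single j 2) (germ a f)
      else coeff (Finsupp.single i 1 + Finsupp.single j 1) (germ a f) := fun i j => by
    rw [← lc_germ, ← pderiv_germ]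
    exact Groth.L28.PSer.coeff_single_pderiv j i _
  constructor
  · intro h
    refine ⟨fun i => ?_, fun i j => ?_⟩
    · rw [← lc_germ]
      exact coeff_of_lt_order (lt_of_lt_of_le (by simp) h)
    · rw [hess]
      split_ifs
      · rw [coeff_of_lt_order (lt_of_lt_of_le (by simp; norm_num) h), mul_zero]
      · exact coeff_of_lt_order (lt_of_lt_of_le (by simp; norm_num) h)
  · rintro ⟨h1, h3⟩
    refine nat_le_order fun d hd => ?_
    rcases (show d.degree ≤ 1 ∨ d.degree = 2 by omega) with hd' | hd'
    · rcases Groth.L28.PSer.degree_le_one hd' with rfl | ⟨i, rfl⟩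
      · rw [coeff_zero_eq_constantCoeff_apply, constantCoeff_germ, hf]
      · exact (lc_germ a i f).trans (h1 i)
    · obtain ⟨i, j, rfl⟩ := eq_pair_of_degree_two hd'
      have := h3 i j
      rw [hess] at this
      split_ifs at this with e
      · subst e
        rw [← Finsupp.single_add]
        exact (mul_eq_zero.mp this).resolve_left h2
      · exact this

end Groth.Agent.L13.PlaneGerm
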