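import Groth.Agent.L13.PlaneGermPoly
import Groth.Agent.L13.PlaneGermNormal
import Mathlib.RingTheory.MvPolynomial.Expand
import Mathlib.Algebra.CharP.Lemmas
import Mathlib.FieldTheory.Perfect
import Mathlib.RingTheory.KrullDimension.Polynomial
import Mathlib.RingTheory.KrullDimension.Field
import Mathlib.RingTheory.UniqueFactorizationDomain.Ideal
import Mathlib.RingTheory.Polynomial.UniqueFactorization
import Mathlib.Algebra.MvPolynomial.NoZeroDivisors
import Mathlib.Algebra.Group.Irreducible.Lemmas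

/-!
Plane curves whose germ is a double smooth branch.
-/

set_option autoImplicit false

universe u

open MvPowerSeries

namespace Groth.Agent.L13.PlaneGerm

variable {k : Type u} [Field k]

local notation "P" => MvPowerSeries (Fin 2) k

lemma prime_X_one : Prime (X 1 : P) := by
  classical
  refine ⟨fun h => ?_, fun h => by simpa using (isUnit_iff.mp h), fun f g hfg => ?_⟩
  · have := congrArg (lc 1) h
    rw [lc_X, if_pos rfl] at this
    simp [lc] at this
  obtain ⟨D, f', rfl⟩ := exists_split_zero f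
  obtain ⟨E, g', rfl⟩ := exists_split_zero g
  have hmul : inX D * inX E = inX (D * E) := by
    have h0 : PowerSeries.HasSubst (X (0 : Fin 2) : P) :=
      PowerSeries.HasSubst.of_constantCoeff_zero (constantCoeff_X _)
    simp [inX, PowerSeries.subst_mul h0]
  have h1 : (X 1 : P) ∣ inX (D * E) := by
    rw [← hmul]
    have : (X 1 : P) ∣ (inX D + X 1 * f') * (inX E + X 1 * g') - inX D * inX E :=
      ⟨inX D * g' + f' * (inX E + X 1 * g'), by ring⟩
    have := dvd_sub hfg this
    rwa [sub_sub_cancel] at this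
  have h2 : D * E = 0 := by
    refine PowerSeries.ext fun n => ?_
    obtain ⟨c, hc⟩ := h1
    have := congrArg (coeff (Finsupp.single 0 n)) hc
    rw [coeff_inX, if_pos (by simp), MvPowerSeries.X, coeff_monomial_mul, if_neg (by
      rw [Finsupp.single_le_iff]; simp)] at this
    simpa using this
  rcases mul_eq_zero.mp h2 with rfl | rfl
  · left
    rw [show inX (0 : PowerSeries k) = 0 from MvPowerSeries.ext fun e => by simp [coeff_inX],
      zero_add]
    exact dvd_mul_right _ _
  · right
    rw [show inX (0 : PowerSeries k) = 0 from MvPowerSeries.ext fun e => by simp [coeff_inX],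
      zero_add]
    exact dvd_mul_right _ _

/-- An element of order one is the image of `X₁` under an automorphism. -/
lemma exists_aut_X_one {G : P} (h0 : constantCoeff G = 0) (h : ∃ i, lc i G ≠ 0) :
    ∃ φ : P ≃ₐ[k] P, φ (X 1) = G := by
  by_cases h1 : lc 1 G ≠ 0
  · obtain ⟨φ, -, hφ⟩ := exists_aut (X 0) G (constantCoeff_X _) h0 (by simpa [lc_X] using h1)
    exact ⟨φ, hφ⟩
  · obtain ⟨i, hi⟩ := h
    fin_cases i
    · obtain ⟨φ, -, hφ⟩ := exists_aut (X 1) G (constantCoeff_X _) h0 (by simpa [lc_X] using hi)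
      exact ⟨φ, hφ⟩
    · exact absurd hi h1

lemma prime_of_lc {G : P} (h0 : constantCoeff G = 0) (h : ∃ i, lc i G ≠ 0) : Prime G := by
  obtain ⟨φ, rfl⟩ := exists_aut_X_one h0 h
  exact (MulEquiv.prime_iff φ.toMulEquiv).mpr prime_X_one

/-- If the quotient by `F` is a double line then `F` is the square of a series of order one. -/
lemma exists_sq_of_equiv {F : P}
    (e : (P ⧸ Ideal.span {F}) ≃ₐ[k] (P ⧸ Ideal.span ({X 1 ^ 2} : Set P))) :
    ∃ G : P, constantCoeff G = 0 ∧ (∃ i, lc i G ≠ 0) ∧ Associated (G ^ 2) F := by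
  set I := Ideal.span ({X 1 ^ 2} : Set P)
  have hI : ∀ f ∈ I, constantCoeff f = 0 := fun f hf => by
    obtain ⟨c, rfl⟩ := Ideal.mem_span_singleton.mp hf
    simp
  have hIM : I ≤ Groth.L28.PSer.M (Fin 2) k ^ 2 := by
    rw [Ideal.span_le, Set.singleton_subset_iff]
    exact Ideal.pow_mem_pow (Groth.L28.PSer.X_mem 1) 2
  have hF0 : constantCoeff F = 0 := by
    by_contra hne
    have hu : Ideal.Quotient.mk I (1 : P) = 0 := by
      have h1 : Ideal.Quotient.mk (Ideal.span {F}) (1 : P) = 0 := by
        rw [Ideal.Quotient.eq_zero_iff_mem,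
          Ideal.span_singleton_eq_top.mpr (isUnit_iff.mpr hne)]
        exact Submodule.mem_top
      simpa using congrArg e h1
    simpa using hI _ (Ideal.Quotient.eq_zero_iff_mem.mp hu)
  have maps : ∀ f : P, constantCoeff f = 0 → ∀ f' : P,
      Ideal.Quotient.mk I f' = e (Ideal.Quotient.mk _ f) → constantCoeff f' = 0 := by
    intro f hf f' he
    by_contra hne
    have hu : IsUnit (Ideal.Quotient.mk (Ideal.span {F}) f) := by
      have := ((isUnit_iff.mpr hne).map (Ideal.Quotient.mk I)).map e.symm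
      rwa [he, AlgEquiv.symm_apply_apply] at this
    obtain ⟨v, hv⟩ := hu.exists_right_inv
    obtain ⟨v, rfl⟩ := Ideal.Quotient.mk_surjective v
    rw [← map_mul, ← map_one (Ideal.Quotient.mk (Ideal.span {F})),
      Ideal.Quotient.mk_eq_mk_iff_sub_mem, Ideal.mem_span_singleton] at hv
    obtain ⟨c, hc⟩ := hv
    simpa [hF0, hf] using congrArg constantCoeff hc
  obtain ⟨G, hG⟩ := Ideal.Quotient.mk_surjective (e.symm (Ideal.Quotient.mk I (X 1)))
  have heG : e (Ideal.Quotient.mk _ G) = Ideal.Quotient.mk I (X 1) := by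
    rw [hG, AlgEquiv.apply_symm_apply]
  have hG2 : F ∣ G ^ 2 := by
    rw [← Ideal.mem_span_singleton, ← Ideal.Quotient.eq_zero_iff_mem]
    apply e.injective
    rw [map_pow, map_pow, heG, map_zero, ← map_pow, Ideal.Quotient.eq_zero_iff_mem]
    exact Ideal.subset_span rfl
  have hG0 : constantCoeff G = 0 := by
    by_contra hne
    have hu := ((isUnit_iff.mpr hne).map (Ideal.Quotient.mk (Ideal.span {F}))).map e
    rw [heG] at hu
    obtain ⟨v, hv⟩ := hu.exists_right_inv
    obtain ⟨v, rfl⟩ := Ideal.Quotient.mk_surjective v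
    rw [← map_mul, ← map_one (Ideal.Quotient.mk I), Ideal.Quotient.mk_eq_mk_iff_sub_mem] at hv
    simpa using hI _ hv
  have hlc : ∃ i, lc i G ≠ 0 := by
    by_contra hh
    push Not at hh
    obtain ⟨g, hg, hgo⟩ := Groth.L01.FormalInverse.exists_decomp (m := 1) (f := G) (by
      refine nat_le_order fun d hd => ?_
      rcases Groth.L28.PSer.degree_le_one (show d.degree ≤ 1 by omega) with rfl | ⟨i, rfl⟩
      · exact hG0
      · exact hh i)
    choose a ha using fun i => Ideal.Quotient.mk_surjective (e (Ideal.Quotient.mk _ (X i)))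
    choose b hb using fun i => Ideal.Quotient.mk_surjective (e (Ideal.Quotient.mk _ (g i)))
    have hmem : (X 1 : P) - ∑ i, a i * b i ∈ I := by
      rw [← Ideal.Quotient.mk_eq_mk_iff_sub_mem, map_sum, ← heG, hg, map_sum, map_sum]
      simp only [map_mul, ha, hb]
    have hab : ∑ i, a i * b i ∈ Groth.L28.PSer.M (Fin 2) k ^ 2 := by
      refine Ideal.sum_mem _ fun i _ => ?_
      have hM : ∀ x : P, constantCoeff x = 0 → x ∈ Groth.L28.PSer.M (Fin 2) k := fun x hx => by
        have := Groth.L28.PSer.mem_pow_of_order 1 x (by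
          rw [Nat.cast_one, one_le_order_iff_constCoeff_eq_zero]; exact hx)
        rwa [pow_one] at this
      rw [pow_two]
      exact Ideal.mul_mem_mul (hM _ (maps _ (constantCoeff_X i) _ (ha i)))
        (hM _ (maps _ (one_le_order_iff_constCoeff_eq_zero.mp (by exact_mod_cast hgo i)) _ (hb i)))
    have := lc_eq_zero_of_mem (add_mem (hIM hmem) hab) 1
    rw [sub_add_cancel, lc_X, if_pos rfl] at this
    exact one_ne_zero this
  refine ⟨G, hG0, hlc, ?_⟩
  obtain ⟨i, hi, hFi⟩ := (dvd_prime_pow (prime_of_lc hG0 hlc) 2).mp hG2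
  rcases (show i = 0 ∨ i = 1 ∨ i = 2 by omega) with rfl | rfl | rfl
  · rw [pow_zero, associated_one_iff_isUnit, isUnit_iff] at hFi
    exact absurd hF0 hFi
  · rw [pow_one] at hFi
    have : Ideal.Quotient.mk (Ideal.span {F}) G = 0 :=
      Ideal.Quotient.eq_zero_iff_mem.mpr (Ideal.mem_span_singleton.mpr hFi.dvd)
    rw [this, map_zero, eq_comm, Ideal.Quotient.eq_zero_iff_mem] at heG
    have := lc_eq_zero_of_mem (hIM heG) 1
    rw [lc_X, if_pos rfl] at this
    exact absurd this one_ne_zero
  · exact hFi.symm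

/-- An irreducible polynomial over a perfect field has a non-zero partial derivative. -/
lemma exists_pderiv_ne_zero {σ : Type} [PerfectField k] {p : MvPolynomial σ k}
    (hp : Irreducible p) : ∃ i, MvPolynomial.pderiv i p ≠ 0 := by
  classical
  by_contra h
  push Not at h
  have hd : ∀ d ∈ p.support, ∀ i, (d i : k) = 0 := by
    intro d hd i
    rcases Nat.eq_zero_or_pos (d i) with e | e
    · simp [e]
    have h1 := congrArg (MvPolynomial.coeff (d - Finsupp.single i 1)) (h i)
    rw [MvPolynomial.coeff_pderiv, MvPolynomial.coeff_zero,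
      tsub_add_cancel_of_le (Finsupp.single_le_iff.mpr e)] at h1
    simp only [Finsupp.tsub_apply, Finsupp.single_eq_same, MvPolynomial.mem_support_iff] at h1 hd
    rcases mul_eq_zero.mp h1 with h2 | h2
    · exact absurd h2 hd
    · rw [← h2, Nat.cast_sub (show 1 ≤ d i from e), Nat.cast_one, sub_add_cancel]
  obtain ⟨l, hl⟩ := CharP.exists k
  rcases CharP.char_is_prime_or_zero k l with hlp | rfl
  · have : Fact l.Prime := ⟨hlp⟩
    have := PerfectField.toPerfectRing (K := k) l
    have hdiv : ∀ d ∈ p.support, ∃ d' : σ →₀ ℕ, l • d' = d := fun d hd' =>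
      ⟨d.mapRange (· / l) (Nat.zero_div l), Finsupp.ext fun i => by
        simp [Nat.mul_div_cancel' ((CharP.cast_eq_zero_iff k l _).mp (hd d hd' i))]⟩
    choose! d' hd'' using hdiv
    apply not_irreducible_pow hlp.one_lt.ne'
      (x := ∑ d ∈ p.support, MvPolynomial.monomial (d' d) ((frobeniusEquiv k l).symm (p.coeff d)))
    rw [sum_pow_char]
    convert hp
    conv_rhs => rw [MvPolynomial.as_sum p]
    refine Finset.sum_congr rfl fun d hd' => ?_
    rw [MvPolynomial.monomial_pow, hd'' d hd', frobeniusEquiv_symm_pow_p]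
  · have : CharZero k := CharP.charP_to_charZero k
    have hC : p = MvPolynomial.C (p.coeff 0) := by
      refine MvPolynomial.ext _ _ fun d => ?_
      rw [MvPolynomial.coeff_C]
      split_ifs with e
      · rw [e]
      · by_contra hne
        exact e (Finsupp.ext fun i =>
          (Nat.cast_eq_zero.mp (hd d (MvPolynomial.mem_support_iff.mpr hne) i)).symm)
    by_cases h0 : p.coeff 0 = 0
    · exact hp.ne_zero (by rw [hC, h0, map_zero])
    · exact hp.not_isUnit (hC ▸ (isUnit_iff_ne_zero.mpr h0).map MvPolynomial.C)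

lemma totalDegree_pderiv_lt {σ : Type} {p : MvPolynomial σ k} {i : σ}
    (h : MvPolynomial.pderiv i p ≠ 0) :
    (MvPolynomial.pderiv i p).totalDegree < p.totalDegree := by
  classical
  have hle : ∀ d ∈ (MvPolynomial.pderiv i p).support, (d.sum fun _ e => e) + 1 ≤ p.totalDegree := by
    intro d hd
    have hm : d + Finsupp.single i 1 ∈ p.support := by
      rw [MvPolynomial.mem_support_iff, MvPolynomial.coeff_pderiv] at *
      exact left_ne_zero_of_mul hd
    have := MvPolynomial.le_totalDegree hm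
    rwa [Finsupp.sum_add_index' (fun _ => rfl) (fun _ _ _ => rfl), Finsupp.sum_single_index rfl]
      at this
  obtain ⟨d, hd⟩ := (MvPolynomial.support_nonempty.mpr h)
  exact Finset.sup_lt_iff (by have := hle d hd; simp only [bot_eq_zero]; omega) |>.mpr
    fun d hd => by have := hle d hd; omega

lemma germ_ne_zero (a : Fin 2 → k) {f : MvPolynomial (Fin 2) k} (hf : f ≠ 0) : germ a f ≠ 0 := by
  intro h
  apply hf
  have hinv : ∀ g, shift (fun i => - a i) (shift a g) = g := fun g => by
    have : (shift (fun i => - a i)).comp (shift a) = AlgHom.id k _ := by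
      apply MvPolynomial.algHom_ext
      intro i
      simp [map_add]
    exact AlgHom.congr_fun this g
  have h' : shift a f = 0 := MvPolynomial.coe_eq_zero_iff.mp h
  rw [← hinv f, h', map_zero]

/-- A polynomial whose germ is the square of a branch is the square of a curve smooth at the point
times a unit at the point. -/
theorem exists_decomp_of_germ [IsAlgClosed k] (a : Fin 2 → k) {f : MvPolynomial (Fin 2) k} {G : P}
    (hG0 : constantCoeff G = 0) (hG1 : ∃ i, lc i G ≠ 0)
    (hf : Associated (G ^ 2) (germ a f)) :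
    ∃ g h : MvPolynomial (Fin 2) k, f = g ^ 2 * h ∧ MvPolynomial.eval a h ≠ 0 ∧
      MvPolynomial.eval a g = 0 ∧
      ∃ i : Fin 2, MvPolynomial.eval a (MvPolynomial.pderiv i g) ≠ 0 := by
  have hGp : Prime G := prime_of_lc hG0 hG1
  let τ : MvPolynomial (Fin 2) k →+* P :=
    (MvPolynomial.coeToMvPowerSeries.ringHom).comp (shift a).toRingHom
  have hτ : ∀ g, τ g = germ a g := fun g => rfl
  have hspan : (Ideal.span {G}).IsPrime :=
    (Ideal.span_singleton_prime hGp.ne_zero).mpr hGp
  set Q := (Ideal.span {G}).comap τ with hQ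
  have hQmem : ∀ g, g ∈ Q ↔ G ∣ germ a g := fun g => by
    rw [hQ, Ideal.mem_comap, Ideal.mem_span_singleton, hτ]
  have hfne : f ≠ 0 := by
    rintro rfl
    rw [show germ a (0 : MvPolynomial (Fin 2) k) = 0 by simp, associated_zero_iff_eq_zero] at hf
    exact hGp.ne_zero (eq_zero_of_pow_eq_zero hf)
  have hQprime : Q.IsPrime := Ideal.comap_isPrime τ _
  obtain ⟨p, hpQ, hp⟩ := hQprime.exists_mem_prime_of_ne_bot (fun hb => hfne (by
    have : f ∈ Q := (hQmem f).mpr (dvd_trans (dvd_pow_self G two_ne_zero) hf.dvd)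
    simpa [hb] using this))
  set ma : Ideal (MvPolynomial (Fin 2) k) := RingHom.ker (MvPolynomial.eval a) with hma
  have hQp : Q = Ideal.span {p} := by
    refine ((Ideal.span_le.mpr (by simpa using hpQ)).eq_or_lt).elim Eq.symm fun hlt => ?_
    exfalso
    have hQa : Q ≤ ma := fun g hg => by
      obtain ⟨c, hc⟩ := (hQmem g).mp hg
      rw [hma, RingHom.mem_ker, ← constantCoeff_germ, hc, map_mul, hG0, zero_mul]
    have hQne : Q ≠ ma := fun he => by
      have hX : ∀ i : Fin 2, G ∣ (X i : P) := fun i => by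
        have : MvPolynomial.X i - MvPolynomial.C (a i) ∈ Q := by
          rw [he, hma, RingHom.mem_ker]; simp
        have e := (hQmem _).mp this
        rwa [germ_eq, map_sub, map_sub, show shift a (MvPolynomial.X i) =
          MvPolynomial.X i + MvPolynomial.C (a i) from MvPolynomial.aeval_X _ _,
          MvPolynomial.aeval_C, map_add, MvPolynomial.algebraMap_eq, add_sub_cancel_right,
          MvPolynomial.coeToMvPowerSeries.ringHom_apply, MvPolynomial.coe_X] at e
      obtain ⟨c₀, h₀⟩ := hX 0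
      obtain ⟨c₁, h₁⟩ := hX 1
      have e : ∀ (c : P) (j : Fin 2), lc j (G * c) = lc j G * constantCoeff c := fun c j => by
        rw [lc_mul, hG0, zero_mul, zero_add]
      have e00 := congrArg (lc 0) h₀
      have e01 := congrArg (lc 1) h₀
      have e11 := congrArg (lc 1) h₁
      rw [lc_X, e] at e00 e01 e11
      simp only [if_true, if_neg (show (0 : Fin 2) ≠ 1 by decide)] at e00 e01 e11
      have h1 : lc 1 G = 0 :=
        (mul_eq_zero.mp e01.symm).resolve_right (fun hc => by simp [hc] at e00)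
      simp [h1] at e11
    have hma' : ma.IsPrime := RingHom.ker_isPrime _
    have hp' : (Ideal.span {p}).IsPrime := (Ideal.span_singleton_prime hp.ne_zero).mpr hp
    let s : LTSeries (PrimeSpectrum (MvPolynomial (Fin 2) k)) :=
      (((RelSeries.singleton _ (⟨⊥, Ideal.isPrime_bot⟩ : PrimeSpectrum (MvPolynomial (Fin 2) k))).snoc
        ⟨Ideal.span {p}, hp'⟩ (by
          show (⊥ : Ideal (MvPolynomial (Fin 2) k)) < Ideal.span {p}
          simpa [bot_lt_iff_ne_bot, Ideal.span_singleton_eq_bot] using hp.ne_zero)).snoc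
        ⟨Q, hQprime⟩ (by rw [RelSeries.last_snoc]; exact hlt)).snoc
        ⟨ma, hma'⟩ (by rw [RelSeries.last_snoc]; exact lt_of_le_of_ne hQa hQne)
    have hle : (s.length : WithBot ℕ∞) ≤ ringKrullDim (MvPolynomial (Fin 2) k) :=
      Order.LTSeries.length_le_krullDim s
    rw [MvPolynomial.ringKrullDim_of_isNoetherianRing, ringKrullDim_eq_zero_of_field] at hle
    rw [show s.length = 3 from rfl, Nat.card_fin, zero_add] at hle
    exact absurd (show (3 : ℕ) ≤ 2 by exact_mod_cast hle) (by norm_num)
  have key : ∀ g, G ∣ germ a g → p ∣ g := fun g hg => by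
    rw [← Ideal.mem_span_singleton, ← hQp, hQmem]; exact hg
  have hpG : G ∣ germ a p := (hQmem p).mp hpQ
  obtain ⟨v, hv⟩ := hpG
  have hv' : ¬ G ∣ v := by
    intro hGv
    obtain ⟨i, hi⟩ := exists_pderiv_ne_zero hp.irreducible
    have hd : G ∣ germ a (MvPolynomial.pderiv i p) := by
      obtain ⟨w, rfl⟩ := hGv
      rw [← pderiv_germ, hv, Derivation.leibniz, smul_eq_mul, smul_eq_mul]
      exact dvd_add (dvd_mul_right _ _) (dvd_mul_of_dvd_left (dvd_mul_right _ _) _)
    obtain ⟨c, hc⟩ := key _ hd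
    have hc0 : c ≠ 0 := fun h => hi (by rw [hc, h, mul_zero])
    have := totalDegree_pderiv_lt hi
    rw [hc, MvPolynomial.totalDegree_mul_of_isDomain hp.ne_zero hc0] at this
    omega
  obtain ⟨f', rfl⟩ := key f (dvd_trans (dvd_pow_self G two_ne_zero) hf.dvd)
  rw [germ_mul, hv] at hf
  obtain ⟨U, hU⟩ := hf
  have e1 : G * ↑U = v * germ a f' := mul_left_cancel₀ hGp.ne_zero (by rw [← mul_assoc, ← sq, hU, mul_assoc])
  have hGf' : G ∣ germ a f' := (hGp.dvd_or_dvd ⟨↑U, e1.symm⟩).resolve_left hv'
  obtain ⟨h, rfl⟩ := key f' hGf'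
  rw [germ_mul, hv] at e1
  have e2 : (↑U : P) = v * v * germ a h := mul_left_cancel₀ hGp.ne_zero (by rw [e1]; ring)
  have hu : IsUnit (v * v * germ a h) := e2 ▸ U.isUnit
  rw [IsUnit.mul_iff, IsUnit.mul_iff] at hu
  refine ⟨p, h, by ring, ?_, ?_, ?_⟩
  · rw [← constantCoeff_germ]; exact isUnit_iff.mp hu.2
  · rw [← constantCoeff_germ, hv, map_mul, hG0, zero_mul]
  · obtain ⟨i, hi⟩ := hG1
    refine ⟨i, ?_⟩
    rw [← lc_germ, hv, lc_mul, hG0, zero_mul, zero_add]
    exact mul_ne_zero hi (isUnit_iff.mp hu.1.1)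

end Groth.Agent.L13.PlaneGerm
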