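import Mathlib.AlgebraicGeometry.ValuativeCriterion
import Mathlib.AlgebraicGeometry.Morphisms.FinitePresentation
import Mathlib.Order.Filter.Ultrafilter.Basic
import Mathlib.RingTheory.Valuation.ValuationSubring
import Mathlib.RingTheory.Finiteness.Prod

/-!
A morphism locally of finite type satisfying the valuative criterion is quasi-compact when the
source has finitely many irreducible components: the closure of a point over an affine open is
compact, by taking a limit of valuation rings along an ultrafilter.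
-/

universe u

open CategoryTheory AlgebraicGeometry TopologicalSpace IsLocalRing

namespace Groth.L13.QCValuative

variable {X Y : Scheme.{u}}

/-- Evaluation of a section at a point. -/
noncomputable def ev {W : X.Opens} {η : X} (h : η ∈ W) : Γ(X, W) →+* X.residueField η :=
  (X.presheaf.germ W η h ≫ X.residue η).hom

theorem SpecMap_ev {W : X.Opens} (hW : IsAffineOpen W) {η : X} (h : η ∈ W) :
    Spec.map (CommRingCat.ofHom (ev h)) ≫ hW.fromSpec = X.fromSpecResidueField η := by
  show Spec.map (X.presheaf.germ W η h ≫ X.residue η) ≫ hW.fromSpec = _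
  rw [Spec.map_comp, Category.assoc, Scheme.fromSpecResidueField,
    ← hW.fromSpecStalk_eq_fromSpecStalk h]
  rfl

theorem isCompact_closure_inter (f : X ⟶ Y) [LocallyOfFiniteType f] (hf : ValuativeCriterion f)
    {V : Y.Opens} (hV : IsAffineOpen V) (η : X) (hη : η ∈ f ⁻¹ᵁ V) :
    IsCompact (closure ({η} : Set X) ∩ (f ⁻¹ᵁ V : Set X)) := by
  classical
  rw [isCompact_iff_finite_subcover]
  intro ι U hUo hcov
  by_contra hno
  push Not at hno
  -- a bad point for each finite family, with a valuation ring centred at it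
  have hbad : ∀ F : Finset ι, ∃ x, x ∈ closure ({η} : Set X) ∧ x ∈ f ⁻¹ᵁ V ∧ ∀ i ∈ F, x ∉ U i := by
    intro F
    obtain ⟨x, ⟨hx1, hx2⟩, hx3⟩ := Set.not_subset.1 (hno F)
    exact ⟨x, hx1, hx2, fun i hi hxi => hx3 (Set.mem_biUnion hi hxi)⟩
  choose x hxη hxV hxU using hbad
  have hsp : ∀ F, η ⤳ x F := fun F => specializes_iff_mem_closure.2 (hxη F)
  have hval : ∀ F, ∃ A : ValuationSubring (X.residueField η),
      ∃ h : ∀ s, (X.presheaf.stalkSpecializes (hsp F) ≫ X.residue η).hom s ∈ A.toSubring,
        IsLocalHom ((X.presheaf.stalkSpecializes (hsp F) ≫ X.residue η).hom.codRestrict A.toSubring h) :=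
    fun F => IsLocalRing.exists_factor_valuationRing _
  choose A hA hAloc using hval
  -- the limit valuation ring
  let 𝔘 : Ultrafilter (Finset ι) := Ultrafilter.of Filter.atTop
  let O : ValuationSubring (X.residueField η) :=
    { carrier := {a | ∀ᶠ F in (𝔘 : Filter (Finset ι)), a ∈ A F}
      mul_mem' := fun ha hb => by
        filter_upwards [ha, hb] with F h1 h2
        exact mul_mem h1 h2
      one_mem' := Filter.Eventually.of_forall fun F => one_mem _
      add_mem' := fun ha hb => by
        filter_upwards [ha, hb] with F h1 h2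
        exact add_mem h1 h2
      zero_mem' := Filter.Eventually.of_forall fun F => zero_mem _
      neg_mem' := fun ha => by
        filter_upwards [ha] with F h1
        exact neg_mem h1
      mem_or_inv_mem' := fun a =>
        Ultrafilter.eventually_or.1 (Filter.Eventually.of_forall fun F => (A F).mem_or_inv_mem a) }
  -- the sections over `V` are integral everywhere
  let φ : Γ(Y, V) →+* X.residueField η := (ev hη).comp (f.app V).hom
  have hevA : ∀ F (W : X.Opens) (hxW : x F ∈ W) (s : Γ(X, W)),
      ev ((hsp F).mem_open W.2 hxW) s ∈ A F := by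
    intro F W hxW s
    have h := hA F (X.presheaf.germ W (x F) hxW s)
    rw [CommRingCat.comp_apply] at h
    rwa [TopCat.Presheaf.germ_stalkSpecializes_apply] at h
  have hφA : ∀ F r, φ r ∈ A F := fun F r => hevA F (f ⁻¹ᵁ V) (hxV F) (f.app V r)
  have hφO : ∀ r, φ r ∈ O.toSubring := fun r => Filter.Eventually.of_forall fun F => hφA F r
  -- morphisms from valuation rings given by sections over an affine open
  have hsquare : ∀ (B : ValuationSubring (X.residueField η)) (hB : ∀ r, φ r ∈ B.toSubring),
      CommSq (X.fromSpecResidueField η)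
        (Spec.map (CommRingCat.ofHom (algebraMap B (X.residueField η))))
        f (Spec.map (CommRingCat.ofHom (φ.codRestrict B.toSubring hB)) ≫ hV.fromSpec) := by
    intro B hB
    refine ⟨?_⟩
    obtain ⟨_, ⟨W, hW, rfl⟩, hηW, hWV⟩ :=
      X.isBasis_affineOpens.exists_subset_of_mem_open hη (f ⁻¹ᵁ V).2
    change X.Opens at W
    replace hW : IsAffineOpen W := hW
    change W ≤ f ⁻¹ᵁ V at hWV
    rw [← SpecMap_ev hW hηW, Category.assoc, ← IsAffineOpen.SpecMap_appLE_fromSpec f hV hW hWV]
    simp only [← Spec.map_comp_assoc, ← Spec.map_comp]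
    congr 2
    ext r
    show ev hηW (X.presheaf.map (homOfLE hWV).op (f.app V r)) = ev hη (f.app V r)
    simp [ev, TopCat.Presheaf.germ_res_apply]
  have hlift : ∀ (B : ValuationSubring (X.residueField η)) (W : X.Opens) (hW : IsAffineOpen W)
      (hWV : W ≤ f ⁻¹ᵁ V) (hηW : η ∈ W) (hev : ∀ s, ev hηW s ∈ B.toSubring)
      (hB : ∀ r, φ r ∈ B.toSubring),
      Spec.map (CommRingCat.ofHom (algebraMap B (X.residueField η))) ≫
          Spec.map (CommRingCat.ofHom ((ev hηW).codRestrict B.toSubring hev)) ≫ hW.fromSpec =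
        X.fromSpecResidueField η ∧
      (Spec.map (CommRingCat.ofHom ((ev hηW).codRestrict B.toSubring hev)) ≫ hW.fromSpec) ≫ f =
        Spec.map (CommRingCat.ofHom (φ.codRestrict B.toSubring hB)) ≫ hV.fromSpec := by
    intro B W hW hWV hηW hev hB
    refine ⟨?_, ?_⟩
    · rw [← Spec.map_comp_assoc, ← SpecMap_ev hW hηW]
      rfl
    · rw [Category.assoc, ← IsAffineOpen.SpecMap_appLE_fromSpec f hV hW hWV, ← Spec.map_comp_assoc]
      congr 2
      ext r
      show ev hηW (X.presheaf.map (homOfLE hWV).op (f.app V r)) = ev hη (f.app V r)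
      simp [ev, TopCat.Presheaf.germ_res_apply]
  -- the centre of the limit
  obtain ⟨l, hl₁, hl₂⟩ := (hf.existence
    { R := O
      K := X.residueField η
      i₁ := X.fromSpecResidueField η
      i₂ := Spec.map (CommRingCat.ofHom (φ.codRestrict O.toSubring hφO)) ≫ hV.fromSpec
      commSq := hsquare O hφO }).exists_lift
  change Spec (CommRingCat.of O) ⟶ X at l
  change Spec.map (CommRingCat.ofHom (algebraMap O (X.residueField η))) ≫ l = _ at hl₁
  change l ≫ f = _ at hl₂
  let z : X := l (closedPoint O)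
  have hzη : z ∈ closure ({η} : Set X) := by
    refine Specializes.mem_closure ?_
    have h : l (Spec.map (CommRingCat.ofHom (algebraMap O (X.residueField η)))
        (closedPoint (X.residueField η))) = η := by
      exact (congrArg (fun φ => φ (closedPoint (X.residueField η))) hl₁).trans
        (Scheme.fromSpecResidueField_apply _ _)
    rw [← h]
    exact (IsLocalRing.specializes_closedPoint _).map l.continuous
  have hzV : z ∈ f ⁻¹ᵁ V := by
    show f (l (closedPoint O)) ∈ V
    rw [show f (l (closedPoint O)) = _ from congrArg (fun φ => φ (closedPoint O)) hl₂]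
    exact hV.range_fromSpec.subset ⟨_, rfl⟩
  obtain ⟨i, hzi⟩ := Set.mem_iUnion.1 (hcov ⟨hzη, hzV⟩)
  obtain ⟨_, ⟨W, hW, rfl⟩, hzW, hWsub⟩ := X.isBasis_affineOpens.exists_subset_of_mem_open
    (show z ∈ (f ⁻¹ᵁ V : Set X) ∩ U i from ⟨hzV, hzi⟩) ((f ⁻¹ᵁ V).2.inter (hUo i))
  change X.Opens at W
  replace hW : IsAffineOpen W := hW
  have hWV : W ≤ f ⁻¹ᵁ V := fun w hw => (hWsub hw).1
  have hηW : η ∈ W := (specializes_iff_mem_closure.2 hzη).mem_open W.2 hzW
  have hrange : Set.range l ⊆ Set.range hW.fromSpec := by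
    rintro _ ⟨q, rfl⟩
    rw [hW.range_fromSpec]
    exact ((IsLocalRing.specializes_closedPoint q).map l.continuous).mem_open W.2 hzW
  obtain ⟨ψ, hψ⟩ := Spec.map_surjective (IsOpenImmersion.lift hW.fromSpec l hrange)
  have hψl : Spec.map ψ ≫ hW.fromSpec = l := by rw [hψ, IsOpenImmersion.lift_fac]
  have hψev : ψ ≫ CommRingCat.ofHom (algebraMap O (X.residueField η)) =
      CommRingCat.ofHom (ev hηW) := by
    apply Spec.map_injective
    rw [← cancel_mono hW.fromSpec, Spec.map_comp, Category.assoc, hψl, hl₁, SpecMap_ev hW hηW]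
  have hevO : ∀ s, ev hηW s ∈ O := fun s => by
    rw [← show ((ψ.hom s : O) : X.residueField η) = ev hηW s from congrArg (fun r => r.hom s) hψev]
    exact (ψ.hom s).2
  -- finitely many generators
  have hev : ∀ᶠ F in (𝔘 : Filter (Finset ι)), ∀ s, ev hηW s ∈ A F := by
    letI := (f.appLE V W hWV).hom.toAlgebra
    haveI : Algebra.FiniteType Γ(Y, V) Γ(X, W) := f.finiteType_appLE hV hW hWV
    obtain ⟨gens, hgens⟩ := Algebra.FiniteType.out (R := Γ(Y, V)) (A := Γ(X, W))
    have : ∀ᶠ F in (𝔘 : Filter (Finset ι)), ∀ g ∈ gens, ev hηW g ∈ A F :=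
      (Filter.eventually_all_finset gens).2 fun g _ => hevO g
    filter_upwards [this] with F hF s
    have hs : s ∈ Algebra.adjoin Γ(Y, V) (gens : Set Γ(X, W)) := hgens ▸ Algebra.mem_top
    induction hs using Algebra.adjoin_induction with
    | mem g hg => exact hF g hg
    | algebraMap r =>
      have h : ev hηW (f.appLE V W hWV r) = φ r := by
        show ev hηW (X.presheaf.map (homOfLE hWV).op (f.app V r)) = ev hη (f.app V r)
        simp [ev, TopCat.Presheaf.germ_res_apply]
      rw [RingHom.algebraMap_toAlgebra]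
      exact h ▸ hφA F r
    | add a b _ _ ha hb => rw [map_add]; exact add_mem ha hb
    | mul a b _ _ ha hb => rw [map_mul]; exact mul_mem ha hb
  have hlarge : ∀ᶠ F in (𝔘 : Filter (Finset ι)), i ∈ F :=
    (Ultrafilter.of_le Filter.atTop) <| (Filter.eventually_ge_atTop ({i} : Finset ι)).mono
      fun F hF => hF (Finset.mem_singleton_self i)
  obtain ⟨F, hF, hiF⟩ := (hev.and hlarge).exists
  -- two lifts over `A F`
  obtain ⟨_, ⟨W', hW', rfl⟩, hxW', hW'V⟩ :=
    X.isBasis_affineOpens.exists_subset_of_mem_open (hxV F) (f ⁻¹ᵁ V).2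
  change X.Opens at W'
  replace hW' : IsAffineOpen W' := hW'
  have hηW' : η ∈ W' := (hsp F).mem_open W'.2 hxW'
  obtain ⟨a1, a2⟩ := hlift (A F) W hW hWV hηW hF (hφA F)
  obtain ⟨b1, b2⟩ := hlift (A F) W' hW' hW'V hηW' (hevA F W' hxW') (hφA F)
  let sq : ValuativeCommSq f :=
    { R := A F
      K := X.residueField η
      i₁ := X.fromSpecResidueField η
      i₂ := Spec.map (CommRingCat.ofHom (φ.codRestrict (A F).toSubring (hφA F))) ≫ hV.fromSpec
      commSq := hsquare (A F) (hφA F) }
  haveI : Subsingleton sq.commSq.LiftStruct := hf.uniqueness sq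
  have heq := congrArg CommSq.LiftStruct.l
    (Subsingleton.elim (α := sq.commSq.LiftStruct) ⟨_, a1, a2⟩ ⟨_, b1, b2⟩)
  have hpt : (Spec.map (CommRingCat.ofHom ((ev hηW').codRestrict (A F).toSubring (hevA F W' hxW'))) ≫
      hW'.fromSpec) (closedPoint (A F)) = x F := by
    let γ : X.presheaf.stalk (x F) ⟶ CommRingCat.of (A F) :=
      CommRingCat.ofHom ((X.presheaf.stalkSpecializes (hsp F) ≫ X.residue η).hom.codRestrict
        (A F).toSubring (hA F))
    haveI : IsLocalHom γ.hom := hAloc F
    have hfac : CommRingCat.ofHom ((ev hηW').codRestrict (A F).toSubring (hevA F W' hxW')) =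
        X.presheaf.germ W' (x F) hxW' ≫ γ := by
      ext s
      show ev hηW' s = X.residue η (X.presheaf.stalkSpecializes (hsp F) (X.presheaf.germ W' (x F) hxW' s))
      rw [TopCat.Presheaf.germ_stalkSpecializes_apply]
      rfl
    rw [hfac, Spec.map_comp, Category.assoc]
    show hW'.fromSpecStalk hxW' (Spec.map γ (closedPoint (A F))) = _
    rw [show Spec.map γ (closedPoint (A F)) = closedPoint _ from
      IsLocalRing.comap_closedPoint γ.hom, hW'.fromSpecStalk_eq_fromSpecStalk]
    exact Scheme.fromSpecStalk_closedPoint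
  refine hxU F i hiF ((hWsub ?_).2)
  rw [← hpt]
  show (CommSq.LiftStruct.l (sq := sq.commSq) ⟨_, b1, b2⟩) (closedPoint (A F)) ∈ _
  rw [← heq]
  exact hW.range_fromSpec.subset ⟨_, rfl⟩

theorem quasiCompact (f : X ⟶ Y) [LocallyOfFiniteType f] (hf : ValuativeCriterion f)
    (hX : (irreducibleComponents X).Finite) : QuasiCompact f := by
  refine quasiCompact_iff_forall_isAffineOpen.2 fun V hV => ?_
  have h : (f ⁻¹ᵁ V : Set X) = ⋃ C ∈ irreducibleComponents X, C ∩ (f ⁻¹ᵁ V : Set X) := by
    ext z
    simp only [Set.mem_iUnion, Set.mem_inter_iff, exists_prop]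
    exact ⟨fun hz => ⟨_, irreducibleComponent_mem_irreducibleComponents z, mem_irreducibleComponent, hz⟩,
      fun ⟨C, _, _, hz⟩ => hz⟩
  rw [h]
  refine hX.isCompact_biUnion fun C hC => ?_
  obtain ⟨η, hη⟩ := QuasiSober.sober hC.1 (isClosed_of_mem_irreducibleComponents C hC)
  rw [← hη.def]
  by_cases hηV : η ∈ f ⁻¹ᵁ V
  · exact isCompact_closure_inter f hf hV η hηV
  · convert isCompact_empty
    refine Set.eq_empty_iff_forall_notMem.2 fun z ⟨hz1, hz2⟩ => hηV ?_
    exact (specializes_iff_mem_closure.2 hz1).mem_open (f ⁻¹ᵁ V).2 hz2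

end Groth.L13.QCValuative
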