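/-
Submodules of the sheaf of rational functions of an integral scheme.
-/
import Groth.Agent.L13.OrdSurf.Basic
import Groth.Agent.L03.ShStab.CohSub
import Mathlib.AlgebraicGeometry.Stalk
import Mathlib.LinearAlgebra.Dimension.Finite

set_option autoImplicit false
set_option linter.style.haveILetI false

universe u

open CategoryTheory CategoryTheory.Limits AlgebraicGeometry TopologicalSpace Opposite

noncomputable section

namespace Groth.L13.RatSub

open Groth.L18.Frame (rs ro rs_rs rs_smul)
open Groth.L20.ModStalk (germ_rs germ_smul)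

variable {X : Scheme.{u}} [IsIntegral X]

/-- The canonical morphism from the spectrum of the function field. -/
abbrev jη (X : Scheme.{u}) [IsIntegral X] : Spec (X.presheaf.stalk (genericPoint X)) ⟶ X :=
  X.fromSpecStalk (genericPoint X)

/-- The sheaf of rational functions. -/
abbrev ratMod (X : Scheme.{u}) [IsIntegral X] : X.Modules :=
  (Scheme.Modules.pushforward (jη X)).obj (Coh.structureModule (Spec (X.presheaf.stalk (genericPoint X))))

theorem preimage_eq_top {V : X.Opens} (hη : genericPoint X ∈ V) : jη X ⁻¹ᵁ V = ⊤ :=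
  top_le_iff.1 fun p _ => by
    have hp : jη X p ∈ Set.range (jη X) := ⟨p, rfl⟩
    rw [Scheme.range_fromSpecStalk] at hp
    exact hp.mem_open V.2 hη

theorem preimage_eq_bot {V : X.Opens} (hη : genericPoint X ∉ V) : jη X ⁻¹ᵁ V = ⊥ :=
  le_bot_iff.1 fun p hp => (hη ((genericPoint_specializes (jη X p)).mem_open V.2 hp)).elim

/-- Sections over an open containing the generic point are rational functions. -/
def valV {V : X.Opens} (hη : genericPoint X ∈ V) :
    Γ(Spec (X.presheaf.stalk (genericPoint X)), jη X ⁻¹ᵁ V) ≅ X.presheaf.stalk (genericPoint X) :=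
  (Spec (X.presheaf.stalk (genericPoint X))).presheaf.mapIso (eqToIso (preimage_eq_top hη)).symm.op ≪≫
    Scheme.ΓSpecIso _

theorem valV_app {V : X.Opens} (hη : genericPoint X ∈ V) (r : Γ(X, V)) :
    (valV hη).hom ((jη X).app V r) = X.presheaf.germ V (genericPoint X) hη r := by
  have h : (jη X).app V ≫ (valV hη).hom = X.presheaf.germ V (genericPoint X) hη := by
    rw [Scheme.fromSpecStalk_app hη, valV, Category.assoc, Category.assoc, Iso.trans_hom,
      Functor.mapIso_hom, ← Functor.map_comp_assoc]
    convert (Category.comp_id _) using 2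
    rw [show ((homOfLE (le_top : jη X ⁻¹ᵁ V ≤ ⊤)).op ≫ (eqToIso (preimage_eq_top hη)).symm.op.hom) = 𝟙 _ from
      Quiver.Hom.unop_inj (Subsingleton.elim _ _), CategoryTheory.Functor.map_id, Category.id_comp,
      Iso.inv_hom_id]
  exact ConcreteCategory.congr_hom h r

theorem valV_res {V W : X.Opens} (h : W ≤ V) (hW : genericPoint X ∈ W)
    (z : Γ(Spec (X.presheaf.stalk (genericPoint X)), jη X ⁻¹ᵁ V)) :
    (valV hW).hom ((Spec (X.presheaf.stalk (genericPoint X))).presheaf.map
      ((Opens.map (jη X).base).map (homOfLE h)).op z) = (valV (h hW)).hom z := by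
  have e : (Spec (X.presheaf.stalk (genericPoint X))).presheaf.map
      ((Opens.map (jη X).base).map (homOfLE h)).op ≫ (valV hW).hom = (valV (h hW)).hom := by
    rw [valV, valV, Iso.trans_hom, Iso.trans_hom, Functor.mapIso_hom, Functor.mapIso_hom,
      ← Functor.map_comp_assoc]
    congr 2
  exact ConcreteCategory.congr_hom e z

/-- The value at the generic point of a section of the sheaf of rational functions. -/
def val {V : X.Opens} (hη : genericPoint X ∈ V) : Γ(ratMod X, V) →+ X.presheaf.stalk (genericPoint X) :=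
  (valV hη).hom.hom.toAddMonoidHom

theorem val_smul {V : X.Opens} (hη : genericPoint X ∈ V) (r : Γ(X, V)) (z : Γ(ratMod X, V)) :
    val hη (r • z) = X.presheaf.germ V (genericPoint X) hη r * val hη z := by
  show (valV hη).hom ((jη X).app V r * (show Γ(Spec _, jη X ⁻¹ᵁ V) from z)) = _
  rw [map_mul, valV_app]
  rfl

theorem val_rs {V W : X.Opens} (h : W ≤ V) (hW : genericPoint X ∈ W) (z : Γ(ratMod X, V)) :
    val hW (rs (ratMod X) h z) = val (h hW) z :=
  valV_res h hW z

theorem val_injective {V : X.Opens} (hη : genericPoint X ∈ V) : Function.Injective (val hη) :=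
  (valV hη).commRingCatIsoToRingEquiv.injective

theorem subsingleton_of_notMem {V : X.Opens} (hη : genericPoint X ∉ V) : Subsingleton Γ(ratMod X, V) := by
  haveI : Subsingleton Γ(Spec (X.presheaf.stalk (genericPoint X)), jη X ⁻¹ᵁ V) := by
    rw [preimage_eq_bot hη]
    exact CommRingCat.subsingleton_of_isTerminal
      ((Spec (X.presheaf.stalk (genericPoint X))).sheaf.isTerminalOfEmpty)
  exact ‹_›

section Of

variable (F : X.Modules)
  (φ : F.presheaf.stalk (genericPoint X) →ₗ[X.presheaf.stalk (genericPoint X)] X.presheaf.stalk (genericPoint X))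

open Classical in
/-- The sections map of a linear form on the generic stalk. -/
def ofFormApp (V : X.Opens) : Γ(F, V) →+ Γ(ratMod X, V) :=
  if h : genericPoint X ∈ V then
    ((valV h).inv.hom.toAddMonoidHom.comp φ.toAddMonoidHom).comp (F.presheaf.germ V (genericPoint X) h).hom
  else 0

theorem val_ofFormApp {V : X.Opens} (h : genericPoint X ∈ V) (s : Γ(F, V)) :
    val h (ofFormApp F φ V s) = φ (F.presheaf.germ V (genericPoint X) h s) := by
  rw [ofFormApp, dif_pos h]
  exact ConcreteCategory.congr_hom (valV h).inv_hom_id _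

theorem ofFormApp_rs {V W : X.Opens} (h : W ≤ V) (s : Γ(F, V)) :
    ofFormApp F φ W (rs F h s) = rs (ratMod X) h (ofFormApp F φ V s) := by
  by_cases hW : genericPoint X ∈ W
  · apply val_injective hW
    rw [val_ofFormApp, val_rs, val_ofFormApp, germ_rs]
  · haveI := subsingleton_of_notMem hW
    exact Subsingleton.elim _ _

theorem ofFormApp_smul (V : X.Opens) (r : Γ(X, V)) (s : Γ(F, V)) :
    ofFormApp F φ V (r • s) = r • ofFormApp F φ V s := by
  by_cases hV : genericPoint X ∈ V
  · apply val_injective hV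
    rw [val_ofFormApp, val_smul, val_ofFormApp, germ_smul, map_smul, smul_eq_mul]
  · haveI := subsingleton_of_notMem hV
    exact Subsingleton.elim _ _

/-- The morphism to rational functions of a linear form on the generic stalk. -/
def ofForm : F ⟶ ratMod X :=
  ⟨PresheafOfModules.homMk
    { app := fun V => AddCommGrpCat.ofHom (ofFormApp F φ V.unop)
      naturality := fun V V' f => AddCommGrpCat.ext fun a => ofFormApp_rs F φ f.unop.le a }
    (fun V r a => ofFormApp_smul F φ V.unop r a)⟩

theorem ofForm_app (V : X.Opens) (s : Γ(F, V)) : (ofForm F φ).app V s = ofFormApp F φ V s := rfl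

end Of

theorem eq_zero_of_notMem (F : X.Modules) {V : X.Opens} (hη : genericPoint X ∉ V) (s : Γ(F, V)) : s = 0 :=
  TopCat.Presheaf.section_ext ((Groth.L21.Mod.toAbSh X).obj F) _ _ _ fun x hx =>
    (hη ((genericPoint_specializes (α := X) x).mem_open V.2 hx)).elim

theorem exists_mono_ratMod (F : X.Modules) [Coh.IsQCoh F] (hF : TorSh.IsTorsionFree F)
    (h1 : Module.finrank (X.presheaf.stalk (genericPoint X)) (F.presheaf.stalk (genericPoint X)) = 1) :
    ∃ i : F ⟶ ratMod X, Mono i := by
  letI : Field (X.presheaf.stalk (genericPoint X)) := inferInstanceAs (Field X.functionField)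
  haveI : FiniteDimensional (X.presheaf.stalk (genericPoint X)) (F.presheaf.stalk (genericPoint X)) :=
    Module.finite_of_finrank_eq_succ h1
  obtain ⟨e⟩ := FiniteDimensional.nonempty_linearEquiv_of_finrank_eq
    (R := X.presheaf.stalk (genericPoint X)) (M' := X.presheaf.stalk (genericPoint X))
    (h1.trans (Module.finrank_self _).symm)
  refine ⟨ofForm F e.toLinearMap, ⟨fun a b hab => Scheme.Modules.hom_ext _ _ fun V => ?_⟩⟩
  ext s
  have h := ConcreteCategory.congr_hom (congrArg (fun f => f.app V) hab) s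
  change (ofForm F e.toLinearMap).app V (a.app V s) = (ofForm F e.toLinearMap).app V (b.app V s) at h
  rw [ofForm_app, ofForm_app] at h
  rw [← sub_eq_zero]
  by_cases hV : genericPoint X ∈ V
  · refine Groth.L13.OrdSurf.section_eq_zero_of_generic F hF hV _ ?_
    have h2 := congrArg (val hV) h
    rw [val_ofFormApp, val_ofFormApp] at h2
    rw [map_sub, sub_eq_zero]
    exact e.injective h2
  · exact eq_zero_of_notMem F hV _

section Sub

variable {G : X.Modules} (i : G ⟶ ratMod X) [Mono i]

include i in
theorem eq_zero_of_val {V : X.Opens} (hη : genericPoint X ∈ V) {s : Γ(G, V)} (h : val hη (i.app V s) = 0) : s = 0 :=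
  Groth.L03.ShStab.CohSub.app_injective i V ((val_injective hη (h.trans (map_zero _).symm)).trans (map_zero _).symm)

include i in
theorem isTorsionFree_sub : TorSh.IsTorsionFree G := by
  intro x
  haveI : IsDomain (X.presheaf.stalk x) := inferInstance
  refine Module.IsTorsionFree.of_smul_eq_zero fun a v hav => or_iff_not_imp_left.2 fun ha => ?_
  obtain ⟨U, hxU, r, rfl⟩ := TopCat.Presheaf.exists_germ_eq X.presheaf a
  obtain ⟨U', hxU', s, rfl⟩ := TopCat.Presheaf.exists_germ_eq G.presheaf v
  have hx : x ∈ U ⊓ U' := ⟨hxU, hxU'⟩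
  rw [← TopCat.Presheaf.germ_res_apply X.presheaf (homOfLE (inf_le_left : U ⊓ U' ≤ U)) x hx r,
    ← germ_rs G (inf_le_right : U ⊓ U' ≤ U') hx s, ← germ_smul, ← map_zero (G.presheaf.germ (U ⊓ U') x hx).hom] at hav
  obtain ⟨W, hxW, i₁, i₂, hW⟩ := TopCat.Presheaf.germ_eq G.presheaf x hx hx _ _ hav
  have hη : genericPoint X ∈ W := (genericPoint_specializes x).mem_open W.2 hxW
  have hW' : ro i₁.le (ro (inf_le_left : U ⊓ U' ≤ U) r) • rs G i₁.le (rs G inf_le_right s) = 0 := by
    rw [← rs_smul]
    exact hW.trans (map_zero _)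
  have h2 := congrArg (fun z => val hη (i.app W z)) hW'
  simp only [Scheme.Modules.Hom.app_smul, val_smul, map_zero] at h2
  have hr : X.presheaf.germ W (genericPoint X) hη (ro i₁.le (ro (inf_le_left : U ⊓ U' ≤ U) r)) ≠ 0 := by
    intro h0
    haveI : Nonempty W := ⟨⟨x, hxW⟩⟩
    have h3 : ro i₁.le (ro (inf_le_left : U ⊓ U' ≤ U) r) = 0 :=
      germ_injective_of_isIntegral X _ hη (h0.trans (map_zero _).symm)
    apply ha
    rw [← TopCat.Presheaf.germ_res_apply X.presheaf (homOfLE (inf_le_left : U ⊓ U' ≤ U)) x hx r,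
      ← TopCat.Presheaf.germ_res_apply X.presheaf i₁ x hxW]
    exact (congrArg _ h3).trans (map_zero _)
  letI : Field (X.presheaf.stalk (genericPoint X)) := inferInstanceAs (Field X.functionField)
  have h4 := eq_zero_of_val i hη ((mul_eq_zero.1 h2).resolve_left hr)
  rw [← germ_rs G (inf_le_right : U ⊓ U' ≤ U') hx s, ← germ_rs G i₁.le hxW, h4, map_zero]

include i in
theorem finrank_sub (hG : ¬ Limits.IsZero G) :
    Module.finrank (X.presheaf.stalk (genericPoint X)) (G.presheaf.stalk (genericPoint X)) = 1 := by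
  letI : Field (X.presheaf.stalk (genericPoint X)) := inferInstanceAs (Field X.functionField)
  obtain ⟨V, s, hs⟩ : ∃ (V : X.Opens) (s : Γ(G, V)), s ≠ 0 := by
    by_contra! h
    refine hG ((IsZero.iff_id_eq_zero G).2 (Scheme.Modules.hom_ext _ _ fun V => ?_))
    ext s
    rw [h V s, map_zero, map_zero]
  have hη : genericPoint X ∈ V := by_contra fun hη => hs (eq_zero_of_notMem G hη s)
  refine finrank_eq_one (G.presheaf.germ V (genericPoint X) hη s) (fun h0 => hs ?_) fun w => ?_
  · rw [← map_zero (G.presheaf.germ V (genericPoint X) hη).hom] at h0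
    obtain ⟨W, hW, i₁, i₂, he⟩ := TopCat.Presheaf.germ_eq G.presheaf _ hη hη _ _ h0
    have he' : rs G i₁.le s = 0 := he.trans (map_zero _)
    apply eq_zero_of_val i hη
    have h1 := congrArg (fun z => val hW (i.app W z)) he'
    simp only [map_zero] at h1
    rw [← val_rs i₁.le hW]
    exact (congrArg (val hW) (ConcreteCategory.congr_hom (i.mapPresheaf.naturality i₁.op) s).symm).trans h1
  · obtain ⟨W, hW, t, rfl⟩ := TopCat.Presheaf.exists_germ_eq G.presheaf w
    have hne : val hη (i.app V s) ≠ 0 := fun h => hs (eq_zero_of_val i hη h)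
    let c := val hW (i.app W t) / val hη (i.app V s)
    obtain ⟨U, hU, r, hr⟩ := TopCat.Presheaf.exists_germ_eq X.presheaf c
    have hQ : genericPoint X ∈ U ⊓ (V ⊓ W) := ⟨hU, hη, hW⟩
    have h : ro (inf_le_left : U ⊓ (V ⊓ W) ≤ U) r • rs G (inf_le_right.trans inf_le_left : U ⊓ (V ⊓ W) ≤ V) s =
        rs G (inf_le_right.trans inf_le_right : U ⊓ (V ⊓ W) ≤ W) t := by
      rw [← sub_eq_zero]
      apply eq_zero_of_val i hQ
      have nat : ∀ {A B : X.Opens} (h : B ≤ A) (z : Γ(G, A)), i.app B (rs G h z) = rs (ratMod X) h (i.app A z) :=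
        fun h z => ConcreteCategory.congr_hom (i.mapPresheaf.naturality (homOfLE h).op) z
      rw [map_sub, map_sub, Scheme.Modules.Hom.app_smul, val_smul, nat, nat, val_rs, val_rs]
      rw [show X.presheaf.germ _ (genericPoint X) hQ (ro (inf_le_left : U ⊓ (V ⊓ W) ≤ U) r) = c from
        (TopCat.Presheaf.germ_res_apply X.presheaf (homOfLE inf_le_left) _ hQ r).trans hr,
        div_mul_cancel₀ _ hne, sub_self]
    have h5 := congrArg (G.presheaf.germ _ (genericPoint X) hQ) h
    rw [germ_smul, germ_rs, germ_rs] at h5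
    refine ⟨c, ?_⟩
    rw [← h5, ← hr]
    congr 1
    exact (TopCat.Presheaf.germ_res_apply X.presheaf (homOfLE inf_le_left) _ hQ r).symm

end Sub

end Groth.L13.RatSub
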