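/-
Regular matrices: over a field the commutant of dimension `n` forces a cyclic vector; over a
ring, pointwise regularity makes the commutant the free module on `1, g, …, g^(n-1)`.
-/
import Mathlib.Algebra.Module.PID
import Mathlib.Algebra.Polynomial.Module.AEval
import Mathlib.LinearAlgebra.Matrix.Charpoly.Coeff
import Mathlib.LinearAlgebra.Matrix.MvPolynomial
import Mathlib.LinearAlgebra.Dual.Lemmas
import Mathlib.RingTheory.LocalProperties.Submodule
import Mathlib.RingTheory.LocalRing.ResidueField.Basic
import Mathlib.RingTheory.Flat.Stability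
import Mathlib.RingTheory.Flat.Basic
import Mathlib.RingTheory.Flat.Localization
import Mathlib.RingTheory.Polynomial.Basic
import Mathlib.RingTheory.Localization.AtPrime.Basic
import Mathlib.FieldTheory.Minpoly.Field
import Mathlib.LinearAlgebra.FiniteDimensional.Basic
import Mathlib.LinearAlgebra.Matrix.ToLin

open Polynomial Module

namespace Groth.L13.RegularMatrix

universe u v

section Field

variable {K : Type u} [Field K] {V : Type v} [AddCommGroup V] [Module K V] [FiniteDimensional K V]

/-- There is a vector whose annihilator is the whole kernel of `aeval G`. -/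
theorem exists_maximal_vector (G : Module.End K V) :
    ∃ v : V, ∀ p : K[X], aeval G p v = 0 → aeval G p = 0 := by
  obtain ⟨x, hx⟩ := Module.exists_ker_toSpanSingleton_eq_annihilator (R := K[X]) (M := AEval' G)
  refine ⟨(AEval'.of G).symm x, fun p hp => ?_⟩
  have h1 : p • x = 0 := by
    apply (AEval'.of G).symm.injective
    rw [map_zero]
    exact (Module.AEval.of_symm_smul (a := G) p x).trans hp
  have h2 : p ∈ Module.annihilator K[X] (AEval' G) := by
    rw [← hx]
    simpa using h1
  have h3 : p ∈ RingHom.ker (aeval G : K[X] →ₐ[K] Module.End K V) := by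
    rwa [← Module.AEval.annihilator_eq_ker_aeval (R := K) (a := G) (M := V)]
  exact h3

/-- A commutant of dimension at most `dim V` forces a cyclic vector. -/
theorem exists_cyclic_vector (G : Module.End K V)
    (h : finrank K (Subalgebra.centralizer K ({G} : Set (Module.End K V))) ≤ finrank K V) :
    ∃ v : V, ∀ w : V, ∃ p : K[X], aeval G p v = w := by
  classical
  obtain ⟨v, hv⟩ := exists_maximal_vector G
  refine ⟨v, ?_⟩
  by_contra hnot
  have hint : IsIntegral K G := Algebra.IsIntegral.isIntegral G
  set m := minpoly K G with hm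
  set k := m.natDegree with hk
  -- independence of the orbit below the degree of the minimal polynomial
  let L : degreeLT K k →ₗ[K] V :=
    (LinearMap.applyₗ v).comp ((aeval G).toLinearMap.comp (degreeLT K k).subtype)
  have hLker : ∀ q, L q = 0 → q = 0 := by
    intro q hq
    apply Subtype.ext
    have h1 : aeval G (q : K[X]) = 0 := hv _ hq
    by_contra hne
    have h2 : m.degree ≤ (q : K[X]).degree :=
      minpoly.degree_le_of_ne_zero K G hne h1
    have h3 : (q : K[X]).degree < (k : ℕ) := mem_degreeLT.mp q.2
    rw [degree_eq_natDegree (minpoly.ne_zero hint)] at h2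
    exact absurd (h2.trans_lt h3) (lt_irrefl _)
  obtain ⟨gL, hgL⟩ := L.exists_leftInverse_of_injective (LinearMap.ker_eq_bot'.mpr hLker)
  let f : V →ₗ[K] K := (lcoeff K (k - 1)).comp ((degreeLT K k).subtype.comp gL)
  have hf : ∀ q : K[X], q.degree < (k : ℕ) → f (aeval G q v) = q.coeff (k - 1) := by
    intro q hq
    have h1 := LinearMap.congr_fun hgL ⟨q, mem_degreeLT.mpr hq⟩
    simp only [LinearMap.coe_comp, Function.comp_apply, LinearMap.id_coe, id_eq] at h1
    have h2 : L ⟨q, mem_degreeLT.mpr hq⟩ = aeval G q v := rfl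
    rw [h2] at h1
    simp [f, h1]
  -- the commutative algebra generated by `G`
  let R := Algebra.adjoin K ({G} : Set (Module.End K V))
  have hR : ∀ r : R, ∃ p : K[X], aeval G p = (r : Module.End K V) := by
    intro r
    have h1 : (r : Module.End K V) ∈ (aeval G : K[X] →ₐ[K] Module.End K V).range :=
      (Algebra.adjoin_singleton_eq_range_aeval K G) ▸ r.2
    exact h1
  let gR : R := ⟨G, Algebra.subset_adjoin rfl⟩
  have hcomm : ∀ r s : R, r * s = s * r := by
    intro r s
    obtain ⟨p, hp⟩ := hR r
    obtain ⟨q, hq⟩ := hR s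
    apply Subtype.ext
    simp only [Subalgebra.coe_mul, ← hp, ← hq, ← map_mul, mul_comm p q]
  let ev : R →ₗ[K] V := (LinearMap.applyₗ v).comp R.val.toLinearMap
  let Ψ : V →ₗ[K] Module.Dual K R :=
    LinearMap.mk₂ K (fun (x : V) (s : R) => f ((s : Module.End K V) x))
      (fun a b s => by simp) (fun c a s => by simp) (fun a s t => by simp)
      (fun c a s => by simp)
  let Φ : R →ₗ[K] Module.Dual K R := Ψ.comp ev
  have hΦker : ∀ r, Φ r = 0 → r = 0 := by
    intro r hr
    obtain ⟨p₀, hp₀⟩ := hR r
    set p := p₀ %ₘ m with hpm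
    have hp : aeval G p = (r : Module.End K V) := by
      rw [← hp₀, hpm, aeval_modByMonic_eq_self_of_root]
      exact minpoly.aeval K G
    apply Subtype.ext
    rw [← hp]
    by_contra hne
    have hp0 : p ≠ 0 := fun h0 => hne (by simp [h0])
    have hdeg : p.degree < m.degree := degree_modByMonic_lt _ (minpoly.monic hint)
    have hlt : p.natDegree < k := natDegree_lt_natDegree hp0 hdeg
    set q := X ^ (k - 1 - p.natDegree) * p with hqdef
    have hqd : q.natDegree = k - 1 := by
      rw [hqdef, natDegree_mul (pow_ne_zero _ X_ne_zero) hp0, natDegree_X_pow]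
      omega
    have hq0 : q ≠ 0 := mul_ne_zero (pow_ne_zero _ X_ne_zero) hp0
    have hqlt : q.degree < (k : ℕ) := by
      rw [degree_eq_natDegree hq0, hqd]
      exact_mod_cast (by omega : k - 1 < k)
    have h1 := LinearMap.congr_fun hr (gR ^ (k - 1 - p.natDegree))
    have h2 : f (aeval G q v) = 0 := by
      rw [hqdef, map_mul, aeval_X_pow, hp]
      simpa [Φ, Ψ, ev, gR] using h1
    rw [hf q hqlt, ← hqd] at h2
    exact hq0 (leadingCoeff_eq_zero.mp h2)
  have hΦbij : Function.Bijective Φ := by
    have hinj : Function.Injective Φ := LinearMap.ker_eq_bot.mp (LinearMap.ker_eq_bot'.mpr hΦker)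
    exact ⟨hinj, (LinearMap.injective_iff_surjective_of_finrank_eq_finrank
      (Subspace.dual_finrank_eq).symm).mp hinj⟩
  let e := LinearEquiv.ofBijective Φ hΦbij
  let π : V →ₗ[K] R := e.symm.toLinearMap.comp Ψ
  have hπv : π v = 1 := by
    simp only [π, LinearMap.coe_comp, LinearEquiv.coe_coe, Function.comp_apply]
    rw [LinearEquiv.symm_apply_eq]
    ext s
    simp [e, Φ, Ψ, ev]
  have hπ : ∀ x, π (G x) = gR * π x := by
    intro x
    simp only [π, LinearMap.coe_comp, LinearEquiv.coe_coe, Function.comp_apply]
    rw [LinearEquiv.symm_apply_eq]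
    refine LinearMap.ext fun s => ?_
    have h0 : Φ (e.symm (Ψ x)) = Ψ x := e.apply_symm_apply _
    have h1 := LinearMap.congr_fun h0 (s * gR)
    simp only [Φ, Ψ, ev, e, gR, LinearEquiv.ofBijective_apply, LinearMap.coe_comp,
      Function.comp_apply, LinearMap.mk₂_apply, AlgHom.toLinearMap_apply, Subalgebra.coe_val,
      LinearMap.applyₗ_apply_apply, Subalgebra.coe_mul, Module.End.mul_apply] at h1 ⊢
    exact h1.symm
  let E : V →ₗ[K] Module.End K V :=
    LinearMap.mk₂ K (fun (u x : V) => (π x : Module.End K V) u)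
      (fun a b x => by simp) (fun c a x => by simp) (fun a x y => by simp)
      (fun c a x => by simp)
  have hEv : ∀ u, E u v = u := by
    intro u
    simp [E, hπv]
  have hEG : ∀ u, G * E u = E u * G := by
    intro u
    refine LinearMap.ext fun x => ?_
    simp only [Module.End.mul_apply, E, LinearMap.mk₂_apply, hπ, Subalgebra.coe_mul]
    rfl
  let Q : Module.End K V := 1 - E v
  have hQ0 : Q ≠ 0 := by
    intro hQ
    apply hnot
    intro w
    obtain ⟨p, hp⟩ := hR (π w)
    refine ⟨p, ?_⟩
    have h1 := LinearMap.congr_fun hQ w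
    simp only [Q, LinearMap.sub_apply, Module.End.one_apply, LinearMap.zero_apply, E,
      LinearMap.mk₂_apply, sub_eq_zero] at h1
    rw [hp]
    exact h1.symm
  have hQv : Q v = 0 := by simp [Q, hEv]
  have hQG : G * Q = Q * G := by simp only [Q, mul_sub, sub_mul, mul_one, one_mul, hEG v]
  let J : V × K →ₗ[K] Subalgebra.centralizer K ({G} : Set (Module.End K V)) :=
    LinearMap.codRestrict (Subalgebra.centralizer K ({G} : Set (Module.End K V))).toSubmodule
      (E.coprod (LinearMap.toSpanSingleton K (Module.End K V) Q)) fun c => by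
        rw [Subalgebra.mem_toSubmodule, Subalgebra.mem_centralizer_iff]
        intro y hy
        rw [Set.mem_singleton_iff] at hy
        subst hy
        simp only [LinearMap.coprod_apply, LinearMap.toSpanSingleton_apply, mul_add, add_mul,
          mul_smul_comm, smul_mul_assoc, hEG, hQG]
  have hJ : Function.Injective J := by
    rw [← LinearMap.ker_eq_bot, LinearMap.ker_eq_bot']
    rintro ⟨u, a⟩ hua
    have h1 : E u + a • Q = 0 := congrArg Subtype.val hua
    have hu : u = 0 := by
      have h2 := LinearMap.congr_fun h1 v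
      simpa [hEv, hQv] using h2
    subst hu
    rw [map_zero, zero_add, smul_eq_zero] at h1
    simp [h1.resolve_right hQ0]
  have h5 := LinearMap.finrank_le_finrank_of_injective hJ
  rw [Module.finrank_prod, Module.finrank_self] at h5
  omega

end Field

section Krylov

variable {B : Type u} [CommRing B] {n : ℕ}

/-- The matrix with columns `v, g v, …, g^(n-1) v`. -/
def krylov (g : Matrix (Fin n) (Fin n) B) (v : Fin n → B) : Matrix (Fin n) (Fin n) B :=
  Matrix.of fun i j => ((g ^ (j : ℕ)).mulVec v) i

/-- `∑ cⱼ gʲ`. -/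
def powSum (g : Matrix (Fin n) (Fin n) B) (c : Fin n → B) : Matrix (Fin n) (Fin n) B :=
  ∑ j : Fin n, c j • g ^ (j : ℕ)

theorem commute_powSum (g : Matrix (Fin n) (Fin n) B) (c : Fin n → B) :
    Commute (powSum g c) g :=
  Commute.sum_left _ _ _ fun j _ => ((Commute.refl g).pow_left _).smul_left _

theorem powSum_comm (g : Matrix (Fin n) (Fin n) B) (c d : Fin n → B) :
    powSum g c * powSum g d = powSum g d * powSum g c :=
  Commute.sum_left _ _ _ fun _ _ => Commute.sum_right _ _ _ fun _ _ =>
    (((Commute.refl g).pow_pow _ _).smul_right _).smul_left _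

theorem map_powSum {C : Type v} [CommRing C] (φ : B →+* C) (g : Matrix (Fin n) (Fin n) B)
    (c : Fin n → B) : (powSum g c).map φ = powSum (g.map φ) (fun j => φ (c j)) := by
  have h : (powSum g c).map φ = φ.mapMatrix (powSum g c) := rfl
  rw [h]
  simp only [powSum, map_sum]
  refine Finset.sum_congr rfl fun j _ => ?_
  rw [show g.map φ = φ.mapMatrix g from rfl, ← map_pow]
  ext a b
  simp

theorem map_krylov {C : Type v} [CommRing C] (φ : B →+* C) (g : Matrix (Fin n) (Fin n) B)
    (v : Fin n → B) : (krylov g v).map φ = krylov (g.map φ) (φ ∘ v) := by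
  ext i j
  simp only [krylov, Matrix.map_apply, Matrix.of_apply]
  rw [RingHom.map_mulVec, show g.map φ = φ.mapMatrix g from rfl, ← map_pow]
  rfl

theorem powSum_mulVec (g : Matrix (Fin n) (Fin n) B) (c v : Fin n → B) :
    (powSum g c).mulVec v = (krylov g v).mulVec c := by
  ext i
  rw [powSum, Matrix.sum_mulVec, Finset.sum_apply]
  simp only [Matrix.smul_mulVec, Pi.smul_apply, smul_eq_mul]
  simp [krylov, Matrix.mulVec, dotProduct, mul_comm]

theorem eq_zero_of_powSum_eq_zero {g : Matrix (Fin n) (Fin n) B} {v : Fin n → B}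
    (hu : IsUnit (krylov g v).det) {c : Fin n → B} (h : powSum g c = 0) : c = 0 := by
  have h1 : (krylov g v).mulVec c = 0 := by rw [← powSum_mulVec, h, Matrix.zero_mulVec]
  have h2 := congrArg ((krylov g v)⁻¹.mulVec) h1
  rwa [Matrix.mulVec_mulVec, Matrix.nonsing_inv_mul _ hu, Matrix.one_mulVec,
    Matrix.mulVec_zero] at h2

theorem exists_powSum_of_commute {g : Matrix (Fin n) (Fin n) B} {v : Fin n → B}
    (hu : IsUnit (krylov g v).det) {x : Matrix (Fin n) (Fin n) B} (hx : Commute x g) :
    ∃ c, x = powSum g c := by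
  refine ⟨(krylov g v)⁻¹.mulVec (x.mulVec v), ?_⟩
  set c := (krylov g v)⁻¹.mulVec (x.mulVec v)
  set y := x - powSum g c with hy
  have hyv : y.mulVec v = 0 := by
    rw [hy, Matrix.sub_mulVec, powSum_mulVec, Matrix.mulVec_mulVec,
      Matrix.mul_nonsing_inv _ hu, Matrix.one_mulVec, sub_self]
  have hyg : Commute y g := hx.sub_left (commute_powSum g c)
  have hyK : y * krylov g v = 0 := by
    ext i j
    have h1 : y.mulVec ((g ^ (j : ℕ)).mulVec v) = 0 := by
      rw [Matrix.mulVec_mulVec, (hyg.pow_right _).eq, ← Matrix.mulVec_mulVec, hyv,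
        Matrix.mulVec_zero]
    exact congrFun h1 i
  have h2 := congrArg (· * (krylov g v)⁻¹) hyK
  simp only [Matrix.mul_nonsing_inv_cancel_right _ _ hu, Matrix.zero_mul] at h2
  exact sub_eq_zero.mp h2

end Krylov

theorem exists_krylov_det_ne_zero {K : Type u} [Field K] {n : ℕ}
    (g : Matrix (Fin n) (Fin n) K)
    (h : finrank K (Subalgebra.centralizer K ({g} : Set (Matrix (Fin n) (Fin n) K))) ≤ n) :
    ∃ v, (krylov g v).det ≠ 0 := by
  classical
  let G : Module.End K (Fin n → K) := Matrix.toLinAlgEquiv' g
  have h' : finrank K (Subalgebra.centralizer K ({G} : Set (Module.End K (Fin n → K)))) ≤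
      finrank K (Fin n → K) := by
    rw [Module.finrank_fin_fun]
    refine le_trans ?_ h
    let T : Subalgebra.centralizer K ({G} : Set (Module.End K (Fin n → K))) →ₗ[K]
        Subalgebra.centralizer K ({g} : Set (Matrix (Fin n) (Fin n) K)) :=
      LinearMap.codRestrict
        (Subalgebra.centralizer K ({g} : Set (Matrix (Fin n) (Fin n) K))).toSubmodule
        (Matrix.toLinAlgEquiv'.symm.toLinearMap.comp
          (Subalgebra.centralizer K ({G} : Set (Module.End K (Fin n → K)))).val.toLinearMap)
        fun c => by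
          rw [Subalgebra.mem_toSubmodule, Subalgebra.mem_centralizer_iff]
          intro y hy
          rw [Set.mem_singleton_iff] at hy
          subst hy
          apply Matrix.toLinAlgEquiv'.injective
          simp only [map_mul, LinearMap.coe_comp, Function.comp_apply,
            AlgEquiv.toLinearMap_apply, AlgEquiv.apply_symm_apply, AlgHom.toLinearMap_apply,
            Subalgebra.coe_val]
          exact (Subalgebra.mem_centralizer_iff (R := K)).mp c.2 G rfl
    refine LinearMap.finrank_le_finrank_of_injective (f := T) ?_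
    intro a b hab
    exact Subtype.ext (Matrix.toLinAlgEquiv'.symm.injective (congrArg Subtype.val hab))
  obtain ⟨v, hv⟩ := exists_cyclic_vector G h'
  refine ⟨v, fun hdet => ?_⟩
  -- the columns span
  have hsurj : Function.Surjective (krylov g v).mulVec := by
    intro w
    obtain ⟨p, hp⟩ := hv w
    set q := p %ₘ g.charpoly
    have hq : aeval g q = aeval g p :=
      aeval_modByMonic_eq_self_of_root (Matrix.aeval_self_charpoly g)
    refine ⟨fun j => q.coeff j, ?_⟩
    rw [← powSum_mulVec]
    have h1 : powSum g (fun j => q.coeff j) = aeval g q := by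
      rcases Nat.eq_zero_or_pos n with rfl | hn
      · exact Subsingleton.elim _ _
      · have hlt : q.natDegree < n := by
          have := natDegree_modByMonic_lt p g.charpoly_monic (by
            intro hc
            have := g.charpoly_natDegree_eq_dim
            rw [hc, natDegree_one, Fintype.card_fin] at this
            omega)
          rwa [g.charpoly_natDegree_eq_dim, Fintype.card_fin] at this
        rw [aeval_eq_sum_range' hlt, powSum, Finset.sum_range]
    rw [h1, hq, ← hp]
    have h2 : aeval G p = Matrix.toLinAlgEquiv' (aeval g p) :=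
      (aeval_algHom_apply Matrix.toLinAlgEquiv'.toAlgHom g p)
    rw [h2, Matrix.toLinAlgEquiv'_apply]
  have h3 : IsUnit (krylov g v) := Matrix.mulVec_surjective_iff_isUnit.mp hsurj
  rw [Matrix.isUnit_iff_isUnit_det, hdet] at h3
  exact not_isUnit_zero h3

section Global

variable (A : Type u) [CommRing A] {n : ℕ}

/-- Pointwise regularity of a matrix. -/
def IsRegularPointwise (g : Matrix (Fin n) (Fin n) A) : Prop :=
  ∀ (K : Type u) [Field K] (φ : A →+* K),
    finrank K (Subalgebra.centralizer K ({g.map φ} : Set (Matrix (Fin n) (Fin n) K))) = n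

variable {A} {g : Matrix (Fin n) (Fin n) A}

theorem exists_isUnit_det_local (hreg : IsRegularPointwise A g) (B : Type u) [CommRing B]
    [IsLocalRing B] (ψ : A →+* B) : ∃ v, IsUnit (krylov (g.map ψ) v).det := by
  let k := IsLocalRing.ResidueField B
  let r : B →+* k := IsLocalRing.residue B
  obtain ⟨w, hw⟩ := exists_krylov_det_ne_zero (g.map (r.comp ψ)) (hreg k (r.comp ψ)).le
  choose v hv using fun i => IsLocalRing.residue_surjective (w i)
  refine ⟨v, ?_⟩
  by_contra hnu
  apply hw
  have h1 : r (krylov (g.map ψ) v).det = 0 :=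
    (IsLocalRing.residue_eq_zero_iff _).mpr hnu
  rw [RingHom.map_det, RingHom.mapMatrix_apply, map_krylov, Matrix.map_map] at h1
  rw [show r ∘ v = w from funext hv] at h1
  exact h1

theorem powSum_injective (hreg : IsRegularPointwise A g) (B : Type u) [CommRing B]
    (ψ : A →+* B) {c : Fin n → B} (h : powSum (g.map ψ) c = 0) : c = 0 := by
  refine funext fun j => Module.eq_zero_of_localization_maximal (R := B)
    (fun P _ => Localization.AtPrime P) (fun P _ => Algebra.linearMap B _) (c j) fun P hP => ?_
  let l : B →+* Localization.AtPrime P := algebraMap _ _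
  obtain ⟨v, hv⟩ := exists_isUnit_det_local hreg (Localization.AtPrime P) (l.comp ψ)
  have h1 := map_powSum l (g.map ψ) c
  rw [h, Matrix.map_zero _ (map_zero l), Matrix.map_map] at h1
  have h2 := eq_zero_of_powSum_eq_zero hv h1.symm
  simpa [l] using congrFun h2 j

theorem exists_powSum (hreg : IsRegularPointwise A g) (B : Type u) [CommRing B]
    (ψ : A →+* B) {x : Matrix (Fin n) (Fin n) B} (hx : Commute x (g.map ψ)) :
    ∃ c, x = powSum (g.map ψ) c := by
  classical
  let P : (Fin n → B) →ₗ[B] Matrix (Fin n) (Fin n) B :=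
    ∑ j : Fin n, (LinearMap.proj j).smulRight ((g.map ψ) ^ (j : ℕ))
  have hP : ∀ c, P c = powSum (g.map ψ) c := fun c => by simp [P, powSum]
  suffices hxm : x ∈ LinearMap.range P by
    obtain ⟨c, hc⟩ := hxm
    exact ⟨c, by rw [← hc, hP]⟩
  let I : Ideal B := (LinearMap.range P).comap (LinearMap.toSpanSingleton B _ x)
  suffices hI : I = ⊤ by
    have h1 : (1 : B) ∈ I := hI ▸ Submodule.mem_top
    simpa [I] using h1
  by_contra hI
  obtain ⟨M, hM, hIM⟩ := Ideal.exists_le_maximal I hI
  let l : B →+* Localization.AtPrime M := algebraMap _ _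
  obtain ⟨v, hv⟩ := exists_isUnit_det_local hreg (Localization.AtPrime M) (l.comp ψ)
  have hgl : (g.map ψ).map l = g.map (l.comp ψ) := by rw [Matrix.map_map]; rfl
  have hxl : Commute (x.map l) (g.map (l.comp ψ)) := by
    rw [← hgl]
    exact hx.map l.mapMatrix
  obtain ⟨c, hc⟩ := exists_powSum_of_commute hv hxl
  obtain ⟨s, hs⟩ := IsLocalization.exist_integer_multiples M.primeCompl Finset.univ c
  choose a ha using fun j => hs j (Finset.mem_univ j)
  have h1 : ((s : B) • x).map l = (P a).map l := by
    rw [hP, map_powSum, hgl]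
    have h2 : ((s : B) • x).map l = l s • x.map l := by ext; simp
    rw [h2, hc, powSum, powSum, Finset.smul_sum]
    refine Finset.sum_congr rfl fun j _ => ?_
    rw [smul_smul]
    congr 1
    rw [show l (a j) = (s : B) • c j from ha j, Algebra.smul_def]
  have h3 : ∀ ij : Fin n × Fin n,
      ∃ t : M.primeCompl, (t : B) * ((s : B) • x) ij.1 ij.2 = (t : B) * (P a) ij.1 ij.2 :=
    fun ij => IsLocalization.exists_of_eq (S := Localization.AtPrime M)
      (congrFun (congrFun h1 ij.1) ij.2)
  choose t ht using h3
  let T : M.primeCompl := ∏ ij : Fin n × Fin n, t ij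
  have hmem : ((T : B) * (s : B)) ∈ I := by
    refine ⟨(T : B) • a, ?_⟩
    rw [map_smul, LinearMap.toSpanSingleton_apply, mul_smul]
    ext i j
    obtain ⟨d, hd⟩ : t (i, j) ∣ T := Finset.dvd_prod_of_mem _ (Finset.mem_univ _)
    have h4 := ht (i, j)
    simp only [Matrix.smul_apply, smul_eq_mul] at h4 ⊢
    rw [hd, Submonoid.coe_mul]
    linear_combination (-(d : B)) * h4
  exact (T * s).2 (hIM hmem)

theorem commute_of_regular (hreg : IsRegularPointwise A g) (B : Type u) [CommRing B]
    (ψ : A →+* B) {x y : Matrix (Fin n) (Fin n) B} (hx : Commute x (g.map ψ))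
    (hy : Commute y (g.map ψ)) : x * y = y * x := by
  obtain ⟨c, rfl⟩ := exists_powSum hreg B ψ hx
  obtain ⟨d, rfl⟩ := exists_powSum hreg B ψ hy
  exact powSum_comm _ _ _

end Global

section Flat

variable {A : Type u} [CommRing A] {n : ℕ} (g : Matrix (Fin n) (Fin n) A)

/-- The ideal of the commutant of `g` in the affine space of matrices. -/
noncomputable abbrev commutantIdeal : Ideal (MvPolynomial (Fin n × Fin n) A) :=
  Ideal.span (Set.range fun ij : Fin n × Fin n =>
    (Matrix.mvPolynomialX (Fin n) (Fin n) A * g.map MvPolynomial.C -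
      g.map MvPolynomial.C * Matrix.mvPolynomialX (Fin n) (Fin n) A :
        Matrix (Fin n) (Fin n) (MvPolynomial (Fin n × Fin n) A)) ij.1 ij.2)

variable {g}

theorem nonempty_algEquiv_commutant (hreg : IsRegularPointwise A g) :
    Nonempty ((MvPolynomial (Fin n × Fin n) A ⧸ commutantIdeal g) ≃ₐ[A]
      MvPolynomial (Fin n) A) := by
  let P := MvPolynomial (Fin n × Fin n) A
  let I := commutantIdeal g
  let R := P ⧸ I
  let S := MvPolynomial (Fin n) A
  let q : P →ₐ[A] R := Ideal.Quotient.mkₐ A I
  let X : Matrix (Fin n) (Fin n) P := Matrix.mvPolynomialX (Fin n) (Fin n) A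
  let gR : Matrix (Fin n) (Fin n) R := g.map (algebraMap A R)
  have hgq : (g.map MvPolynomial.C).map q = gR := by
    refine Matrix.ext fun i j => ?_
    exact q.commutes (g i j)
  have hcomm : Commute (X.map q) gR := by
    show X.map q * gR = gR * X.map q
    rw [← hgq]
    have h1 : q.mapMatrix (X * g.map MvPolynomial.C - g.map MvPolynomial.C * X) = 0 := by
      refine Matrix.ext fun i j => ?_
      exact Ideal.Quotient.eq_zero_iff_mem.mpr (Ideal.subset_span ⟨(i, j), rfl⟩)
    rw [map_sub, map_mul, map_mul, sub_eq_zero] at h1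
    exact h1
  obtain ⟨c, hc⟩ := exists_powSum hreg R (algebraMap A R) hcomm
  let gS : Matrix (Fin n) (Fin n) S := g.map (algebraMap A S)
  let Y : Matrix (Fin n) (Fin n) S := powSum gS (fun k => MvPolynomial.X k)
  let α₀ : P →ₐ[A] S := MvPolynomial.aeval fun ij => Y ij.1 ij.2
  have hαX : X.map α₀ = Y := by
    refine Matrix.ext fun i j => ?_
    exact MvPolynomial.aeval_X _ (i, j)
  have hαg : (g.map MvPolynomial.C).map α₀ = gS := by
    refine Matrix.ext fun i j => ?_
    exact α₀.commutes (g i j)
  have hker : ∀ a ∈ I, α₀ a = 0 := by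
    intro a ha
    have hle : I ≤ RingHom.ker α₀ := by
      refine Ideal.span_le.mpr ?_
      rintro _ ⟨ij, rfl⟩
      have h1 : α₀.mapMatrix (X * g.map MvPolynomial.C - g.map MvPolynomial.C * X) = 0 := by
        rw [map_sub, map_mul, map_mul, AlgHom.mapMatrix_apply, AlgHom.mapMatrix_apply, hαX, hαg,
          sub_eq_zero]
        exact commute_powSum gS _
      exact congrFun (congrFun h1 ij.1) ij.2
    exact hle ha
  let α : R →ₐ[A] S := Ideal.Quotient.liftₐ I α₀ hker
  let β : S →ₐ[A] R := MvPolynomial.aeval c
  have hαc : (fun k => α (c k)) = fun k => MvPolynomial.X k := by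
    have h1 : powSum gS (fun k => α (c k)) = Y := by
      have h2 : (X.map q).map α = Y := by
        rw [← hαX]; exact Matrix.ext fun i j => rfl
      rw [hc, show ((powSum (g.map (algebraMap A R)) c).map α) =
        (powSum (g.map (algebraMap A R)) c).map (α : R →+* S) from rfl, map_powSum] at h2
      rw [← h2]
      congr 1
      refine Matrix.ext fun i j => ?_
      exact (α.commutes (g i j)).symm
    have h3 : powSum gS (fun k => α (c k) - MvPolynomial.X k) = 0 := by
      have : powSum gS (fun k => α (c k) - MvPolynomial.X k) =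
          powSum gS (fun k => α (c k)) - Y := by
        simp [powSum, Y, sub_smul, Finset.sum_sub_distrib]
      rw [this, h1, sub_self]
    have h4 := powSum_injective hreg S (algebraMap A S) h3
    funext k
    exact sub_eq_zero.mp (congrFun h4 k)
  refine ⟨AlgEquiv.ofAlgHom α β ?_ ?_⟩
  · refine MvPolynomial.algHom_ext fun k => ?_
    simpa [β] using congrFun hαc k
  · apply Ideal.Quotient.algHom_ext
    refine MvPolynomial.algHom_ext fun ij => ?_
    have h1 : β (Y ij.1 ij.2) = (powSum gR c) ij.1 ij.2 := by
      have h2 : Y.map (β : S →+* R) = powSum gR c := by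
        rw [map_powSum]
        congr 1
        · refine Matrix.ext fun i j => ?_
          exact β.commutes (g i j)
        · funext k
          exact MvPolynomial.aeval_X c k
      exact congrFun (congrFun h2 ij.1) ij.2
    have h5 : β (α₀ (MvPolynomial.X ij)) = β (Y ij.1 ij.2) :=
      congrArg β (MvPolynomial.aeval_X _ ij)
    show β (α₀ (MvPolynomial.X ij)) = Ideal.Quotient.mk I (MvPolynomial.X ij)
    rw [h5, h1, ← hc]
    rfl

theorem flat_commutant (hreg : IsRegularPointwise A g) :
    Module.Flat A (MvPolynomial (Fin n × Fin n) A ⧸ commutantIdeal g) := by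
  obtain ⟨e⟩ := nonempty_algEquiv_commutant hreg
  exact Module.Flat.of_linearEquiv e.toLinearEquiv

end Flat

end Groth.L13.RegularMatrix
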