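import Mathlib.LinearAlgebra.Matrix.Transvection
import Mathlib.LinearAlgebra.Matrix.SpecialLinearGroup
import Mathlib.Algebra.Polynomial.Eval.Defs
import Mathlib.Tactic.Module
import Mathlib.Tactic.FieldSimp

/-!
# Polynomial paths in `SL_n` over a field
-/

set_option autoImplicit false
universe u

open Matrix Polynomial

noncomputable section

namespace Groth.L13.SLPath

variable {K : Type u} [Field K] {n : Type} [Fintype n] [DecidableEq n]

/-- `A` is the end of a polynomial path of determinant one starting at `1` -/
def Path (A : Matrix n n K) : Prop :=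
  ∃ M : Matrix n n K[X], M.det = 1 ∧ M.map (evalRingHom 0) = 1 ∧ M.map (evalRingHom 1) = A

theorem Path.one : Path (1 : Matrix n n K) :=
  ⟨1, det_one, Matrix.map_one _ (map_zero _) (map_one _), Matrix.map_one _ (map_zero _) (map_one _)⟩

theorem Path.mul {A B : Matrix n n K} (hA : Path A) (hB : Path B) : Path (A * B) := by
  obtain ⟨M, hM, h0, h1⟩ := hA
  obtain ⟨N, hN, g0, g1⟩ := hB
  refine ⟨M * N, by rw [det_mul, hM, hN, mul_one], ?_, ?_⟩
  · rw [Matrix.map_mul, h0, g0, one_mul]
  · rw [Matrix.map_mul, h1, g1]

theorem Path.list {L : List (Matrix n n K)} (h : ∀ A ∈ L, Path A) : Path L.prod := by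
  induction L with
  | nil => simpa using Path.one
  | cons a L ih =>
    rw [List.prod_cons]
    exact (h a List.mem_cons_self).mul (ih fun A hA => h A (List.mem_cons_of_mem _ hA))

theorem map_transvection {R S : Type*} [CommRing R] [CommRing S] (f : R →+* S) (i j : n) (c : R) :
    (transvection i j c).map f = transvection i j (f c) := by
  rw [transvection, transvection, Matrix.map_add _ (map_add f), Matrix.map_one _ (map_zero f) (map_one f)]
  congr 1
  ext p q
  simp [single_apply, apply_ite f]

theorem Path.transvection {i j : n} (h : i ≠ j) (c : K) : Path (Matrix.transvection i j c) := by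
  refine ⟨Matrix.transvection i j (C c * X), det_transvection_of_ne _ _ h _, ?_, ?_⟩ <;>
    rw [map_transvection]
  · simp
  · simp

theorem w_eq {i j : n} (h : i ≠ j) (a : K) (ha : a ≠ 0) :
    transvection i j a * transvection j i (-a⁻¹) * transvection i j a =
      1 + a • single i j (1 : K) - a⁻¹ • single j i 1 - single i i 1 - single j j 1 := by
  have e : ∀ (p q : n) (c : K), single p q c = c • single p q (1 : K) := fun p q c => by simp
  have := h.symm
  rw [transvection, transvection, e i j a, e j i (-a⁻¹)]
  simp only [add_mul, mul_add, one_mul, mul_one, smul_mul_smul_comm, single_mul_single_same,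
    single_mul_single_of_ne _ _ _ _ h, single_mul_single_of_ne _ _ _ _ h.symm, smul_zero, add_zero]
  match_scalars <;> field_simp
  ring

theorem d_eq {i j : n} (h : i ≠ j) (a : K) (ha : a ≠ 0) :
    (transvection i j a * transvection j i (-a⁻¹) * transvection i j a) *
      (transvection i j (-1) * transvection j i (-(-1 : K)⁻¹) * transvection i j (-1)) =
      1 + (a - 1) • single i i (1 : K) + (a⁻¹ - 1) • single j j 1 := by
  rw [w_eq h a ha, w_eq h (-1) (by simp)]
  have := h.symm
  simp only [add_mul, mul_add, sub_mul, mul_sub, one_mul, mul_one, smul_mul_smul_comm, smul_mul_assoc, mul_smul_comm,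
    single_mul_single_same, single_mul_single_of_ne _ _ _ _ h, single_mul_single_of_ne _ _ _ _ h.symm, smul_zero,
    add_zero, sub_zero, inv_neg, inv_one]
  match_scalars <;> field_simp <;> ring

theorem Path.pair {i j : n} (h : i ≠ j) (a : K) (ha : a ≠ 0) :
    Path (diagonal fun k => if k = i then a else if k = j then a⁻¹ else 1) := by
  have e : (diagonal fun k => if k = i then a else if k = j then a⁻¹ else 1) =
      1 + (a - 1) • single i i (1 : K) + (a⁻¹ - 1) • single j j 1 := by
    ext p q
    rcases eq_or_ne p q with rfl | hpq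
    · rcases eq_or_ne p i with rfl | hpi
      · simp [h, h.symm]
      · rcases eq_or_ne p j with rfl | hpj
        · simp [h, h.symm]
        · simp [hpi, hpi.symm, hpj, hpj.symm]
    · simp [diagonal_apply_ne _ hpq, one_apply_ne hpq, single_apply]
      rw [if_neg (by rintro ⟨rfl, rfl⟩; exact hpq rfl), if_neg (by rintro ⟨rfl, rfl⟩; exact hpq rfl)]
      simp
  rw [e, ← d_eq h a ha]
  exact (((Path.transvection h _).mul (Path.transvection h.symm _)).mul (Path.transvection h _)).mul
    (((Path.transvection h _).mul (Path.transvection h.symm _)).mul (Path.transvection h _))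

theorem Path.diagonal (a₀ : n) (d : n → K) (hd : ∏ k, d k = 1) : Path (Matrix.diagonal d) := by
  have hne : ∀ k, d k ≠ 0 := fun k h0 =>
    one_ne_zero (α := K) (hd ▸ Finset.prod_eq_zero (Finset.mem_univ k) h0)
  have key : ∀ s : Finset n, a₀ ∉ s →
      Path (Matrix.diagonal fun k => if k = a₀ then (∏ m ∈ s, d m)⁻¹ else if k ∈ s then d k else 1) := by
    intro s
    induction s using Finset.induction with
    | empty => intro _; simpa using Path.one
    | @insert i s hi ih =>
      intro hs
      obtain ⟨hia, hs'⟩ := not_or.1 (by simpa [Finset.mem_insert] using hs)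
      convert (ih hs').mul (Path.pair (Ne.symm hia) (d i) (hne i)) using 1
      rw [diagonal_mul_diagonal]
      congr 1
      funext k
      rw [Finset.prod_insert hi]
      split_ifs <;> simp_all [mul_comm]
  convert key (Finset.univ.erase a₀) (by simp) using 2
  funext k
  split_ifs with hk hk'
  · subst hk
    refine eq_inv_of_mul_eq_one_left ?_
    rw [Finset.mul_prod_erase _ _ (Finset.mem_univ k), hd]
  · rfl
  · simp [hk] at hk'

theorem exists_path (a₀ : n) (A : Matrix.SpecialLinearGroup n K) :
    ∃ M : Matrix.SpecialLinearGroup n K[X],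
      Matrix.SpecialLinearGroup.map (evalRingHom (0 : K)) M = 1 ∧
      Matrix.SpecialLinearGroup.map (evalRingHom (1 : K)) M = A := by
  obtain ⟨L, L', d, h⟩ := Pivot.exists_list_transvec_mul_diagonal_mul_list_transvec A.1
  have hl : ∀ L : List (TransvectionStruct n K), Path (L.map TransvectionStruct.toMatrix).prod := fun L =>
    Path.list fun B hB => by
      obtain ⟨t, -, rfl⟩ := List.mem_map.1 hB
      exact Path.transvection t.hij t.c
  have hd : ∏ k, d k = 1 := by
    have := A.2
    rw [h, det_mul, det_mul, TransvectionStruct.det_toMatrix_prod, TransvectionStruct.det_toMatrix_prod,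
      det_diagonal, one_mul, mul_one] at this
    exact this
  obtain ⟨M, hM, h0, h1⟩ := (h ▸ ((hl L).mul (Path.diagonal a₀ d hd)).mul (hl L') : Path A.1)
  exact ⟨⟨M, hM⟩, Subtype.ext h0, Subtype.ext h1⟩

end Groth.L13.SLPath
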