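import Mathlib.LinearAlgebra.Dimension.Constructions
import Mathlib.LinearAlgebra.Dimension.Finrank
import Mathlib.LinearAlgebra.Dimension.OrzechProperty
import Mathlib.LinearAlgebra.FiniteDimensional.Lemmas
import Mathlib.LinearAlgebra.Quotient.Basic
import Mathlib.RingTheory.Artinian.Module
import Mathlib.RingTheory.Noetherian.Basic
import Mathlib.Algebra.BigOperators.Fin
import Mathlib.Tactic.Abel
import Mathlib.Tactic.Module

/-! Semilinear endomorphisms of finite-dimensional vector spaces: Fitting decomposition and fixed bases. -/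

namespace Groth.L13.SigmaFitting

section Basic
variable {k V : Type*} [Field k] [AddCommGroup V] [Module k V] {σ : k →+* k} (T : V →ₛₗ[σ] V)

/-- The span of the image of the `n`-th iterate. -/
abbrev img (n : ℕ) : Submodule k V := Submodule.span k (Set.range ((⇑T)^[n]))

theorem map_mem_span {s : Set V} {x : V} (hx : x ∈ Submodule.span k s) :
    T x ∈ Submodule.span k (T '' s) := by
  induction hx using Submodule.span_induction with
  | mem x hx => exact Submodule.subset_span ⟨x, hx, rfl⟩
  | zero => simp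
  | add x y _ _ hx hy => rw [map_add]; exact add_mem hx hy
  | smul c x _ hx => rw [map_smulₛₗ]; exact Submodule.smul_mem _ _ hx

theorem img_succ (n : ℕ) : img T (n + 1) = Submodule.span k (T '' (img T n : Set V)) := by
  apply le_antisymm <;> rw [Submodule.span_le]
  · rintro _ ⟨v, rfl⟩
    exact Submodule.subset_span ⟨_, Submodule.subset_span ⟨v, rfl⟩,
      (Function.iterate_succ_apply' _ _ _).symm⟩
  · rintro _ ⟨x, hx, rfl⟩
    refine Submodule.span_mono ?_ (map_mem_span T hx)
    rintro _ ⟨_, ⟨v, rfl⟩, rfl⟩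
    exact ⟨v, Function.iterate_succ_apply' _ _ _⟩

theorem img_anti : Antitone (img T) := antitone_nat_of_succ_le fun n => Submodule.span_mono (by
  rintro _ ⟨v, rfl⟩; exact ⟨T v, (Function.iterate_succ_apply _ _ _).symm⟩)

/-- The semisimple part. -/
abbrev ssPart : Submodule k V := ⨅ n : ℕ, img T n

theorem map_ssPart {v : V} (hv : v ∈ ssPart T) : T v ∈ ssPart T := by
  rw [Submodule.mem_iInf] at hv ⊢
  intro n
  apply img_anti T (Nat.le_succ n)
  rw [img_succ]
  exact Submodule.subset_span ⟨v, hv n, rfl⟩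

variable [FiniteDimensional k V]

theorem exists_img_stable : ∃ N, ∀ n, N ≤ n → img T n = ssPart T := by
  obtain ⟨N, hN⟩ := IsArtinian.monotone_stabilizes
    (⟨fun n => OrderDual.toDual (img T n), img_anti T⟩ : ℕ →o (Submodule k V)ᵒᵈ)
  refine ⟨N, fun n hn => le_antisymm (le_iInf fun m => ?_) (iInf_le _ n)⟩
  rcases le_total n m with h | h
  · exact le_of_eq ((OrderDual.toDual_inj.1 (hN n hn)).symm.trans (OrderDual.toDual_inj.1 (hN m (le_trans hn h))))
  · exact img_anti T h

theorem span_image_ssPart : Submodule.span k (T '' (ssPart T : Set V)) = ssPart T := by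
  obtain ⟨N, hN⟩ := exists_img_stable T
  conv_lhs => rw [← hN N le_rfl]
  rw [← img_succ, hN (N + 1) (by omega)]

theorem injOn_ssPart {v : V} (hv : v ∈ ssPart T) (hTv : T v = 0) : v = 0 := by
  let S := ssPart T
  let b := Module.finBasis k S
  have hspan : S ≤ Submodule.span k (Set.range fun i => T (b i : V)) := by
    conv_lhs => rw [show S = Submodule.span k (T '' (S : Set V)) from (span_image_ssPart T).symm]
    rw [Submodule.span_le]
    rintro _ ⟨x, hx, rfl⟩
    have := congrArg (Subtype.val) (b.sum_repr ⟨x, hx⟩)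
    simp only [Submodule.coe_sum, Submodule.coe_smul] at this
    rw [← this, map_sum]
    refine sum_mem fun i _ => ?_
    rw [map_smulₛₗ]
    exact Submodule.smul_mem _ _ (Submodule.subset_span ⟨i, rfl⟩)
  let g : Fin (Module.finrank k S) → S := fun i => ⟨T (b i : V), map_ssPart T (b i).2⟩
  have hg : LinearIndependent k g := by
    refine linearIndependent_of_top_le_span_of_card_eq_finrank ?_ (by simp)
    intro x _
    have hx : (x : V) ∈ Submodule.map S.subtype (Submodule.span k (Set.range g)) := by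
      rw [Submodule.map_span, ← Set.range_comp]; exact hspan x.2
    obtain ⟨y, hy, hyx⟩ := hx
    rwa [show x = y from Subtype.ext hyx.symm]
  have hsum := congrArg (Subtype.val) (b.sum_repr ⟨v, hv⟩)
  simp only [Submodule.coe_sum, Submodule.coe_smul] at hsum
  have h0 : ∑ i, σ (b.repr ⟨v, hv⟩ i) • g i = 0 := by
    apply Subtype.ext
    simp only [Submodule.coe_sum, Submodule.coe_smul, g, Submodule.coe_zero]
    rw [← hsum, map_sum] at hTv
    simpa only [map_smulₛₗ] using hTv
  have hz := Fintype.linearIndependent_iff.1 hg _ h0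
  rw [← hsum]
  exact Finset.sum_eq_zero fun i _ => by rw [(map_eq_zero σ).1 (hz i), zero_smul]

theorem iterate_mem_ssPart {v : V} (hv : v ∈ ssPart T) (n : ℕ) : (⇑T)^[n] v ∈ ssPart T := by
  induction n with
  | zero => exact hv
  | succ n ih => rw [Function.iterate_succ_apply']; exact map_ssPart T ih

theorem eq_zero_of_iterate {v : V} (hv : v ∈ ssPart T) (hn : ∃ n : ℕ, (⇑T)^[n] v = 0) : v = 0 := by
  obtain ⟨n, hn⟩ := hn
  induction n generalizing v with
  | zero => exact hn
  | succ n ih =>
    exact injOn_ssPart T hv (ih (map_ssPart T hv) (by rwa [← Function.iterate_succ_apply]))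

/-- The nilpotent part. -/
def nilPart : Submodule k V where
  carrier := {v : V | ∃ n : ℕ, (⇑T)^[n] v = 0}
  zero_mem' := ⟨0, rfl⟩
  add_mem' := by
    rintro a b ⟨m, hm⟩ ⟨n, hn⟩
    refine ⟨m + n, ?_⟩
    rw [iterate_map_add, Function.iterate_add_apply _ m n b, hn, iterate_map_zero, add_comm m n,
      Function.iterate_add_apply _ n m a, hm, iterate_map_zero, add_zero]
  smul_mem' := by
    rintro c v ⟨n, hn⟩
    refine ⟨n, ?_⟩
    suffices h : ∀ (n : ℕ) (c : k) (v : V), (⇑T)^[n] (c • v) = (⇑σ)^[n] c • (⇑T)^[n] v by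
      rw [h, hn, smul_zero]
    intro n
    induction n with
    | zero => simp
    | succ n ih =>
      intro c v
      simp only [Function.iterate_succ_apply', ih, map_smulₛₗ]

theorem exists_iterate_nilPart : ∃ N : ℕ, ∀ v ∈ nilPart T, (⇑T)^[N] v = 0 := by
  obtain ⟨s, hs⟩ := (IsNoetherian.noetherian (nilPart T) : (nilPart T).FG)
  have hmem : ∀ x ∈ s, ∃ n : ℕ, (⇑T)^[n] x = 0 := fun x hx => by
    have : x ∈ nilPart T := hs ▸ Submodule.subset_span hx
    exact this
  choose! n hn using hmem
  refine ⟨s.sup n, fun v hv => ?_⟩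
  rw [← hs] at hv
  induction hv using Submodule.span_induction with
  | mem x hx =>
    obtain ⟨d, hd⟩ := Nat.exists_eq_add_of_le (Finset.le_sup (f := n) hx)
    rw [hd, add_comm, Function.iterate_add_apply, hn x hx, iterate_map_zero]
  | zero => exact iterate_map_zero T _
  | add x y _ _ hx hy => rw [iterate_map_add, hx, hy, add_zero]
  | smul c x _ hx =>
    suffices h : ∀ (N : ℕ) (x : V) (c : k), (⇑T)^[N] (c • x) = (⇑σ)^[N] c • (⇑T)^[N] x by
      rw [h, hx, smul_zero]
    intro N
    induction N with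
    | zero => simp
    | succ N ih => intro x c; simp only [Function.iterate_succ_apply', ih, map_smulₛₗ]

variable (hσ : Function.Surjective σ)
include hσ

theorem surjOn_ssPart {w : V} (hw : w ∈ ssPart T) : ∃ v ∈ ssPart T, T v = w := by
  haveI : RingHomSurjective σ := ⟨hσ⟩
  have h := hw
  rw [← span_image_ssPart T] at h
  have e : Submodule.span k (T '' (ssPart T : Set V)) = Submodule.map T (ssPart T) := by
    rw [← Submodule.map_coe T (ssPart T), Submodule.span_eq]
  rw [e] at h
  exact h

theorem iterate_surjOn_ssPart (n : ℕ) {w : V} (hw : w ∈ ssPart T) :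
    ∃ v ∈ ssPart T, (⇑T)^[n] v = w := by
  induction n generalizing w with
  | zero => exact ⟨w, hw, rfl⟩
  | succ n ih =>
    obtain ⟨u, hu, rfl⟩ := surjOn_ssPart T hσ hw
    obtain ⟨v, hv, rfl⟩ := ih hu
    exact ⟨v, hv, Function.iterate_succ_apply' _ _ _⟩

theorem isCompl_nilPart : IsCompl (nilPart T) (ssPart T) := by
  constructor
  · rw [Submodule.disjoint_def]
    intro x hx hx'
    exact eq_zero_of_iterate T hx' hx
  · rw [codisjoint_iff, eq_top_iff]
    intro v _
    obtain ⟨N, hN⟩ := exists_img_stable T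
    obtain ⟨s, hs, hTs⟩ := iterate_surjOn_ssPart T hσ N (w := (⇑T)^[N] v)
      (hN N le_rfl ▸ Submodule.subset_span ⟨v, rfl⟩)
    refine Submodule.mem_sup.2 ⟨v - s, ⟨N, ?_⟩, s, hs, sub_add_cancel v s⟩
    rw [iterate_map_sub, hTs, sub_self]

end Basic

section Fixed
variable {k : Type*} [Field k] {σ : k →+* k}
variable (h2 : ∀ (n : ℕ) (b : Fin (n + 1) → k), b ≠ 0 →
      ∃ x : k, x ≠ 0 ∧ x = ∑ i : Fin (n + 1), (⇑σ)^[i.val + 1] x * (⇑σ)^[i.val] (b (Fin.rev i)))

include h2

theorem exists_fixed {V : Type*} [AddCommGroup V] [Module k V] [FiniteDimensional k V]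
    (T : V →ₛₗ[σ] V) (e : V) (he : ∀ m : ℕ, (⇑T)^[m] e ≠ 0) :
    ∃ v ∈ Submodule.span k (Set.range (fun m : ℕ => (⇑T)^[m] e)), v ≠ 0 ∧ T v = v := by
  classical
  have hex : ∃ n, ¬ LinearIndependent k (fun i : Fin (n + 1) => (⇑T)^[(i : ℕ)] e) := by
    refine ⟨Module.finrank k V, fun h => ?_⟩
    have := h.fintype_card_le_finrank
    simp at this
  obtain ⟨n, hn, hmin⟩ : ∃ n, ¬ LinearIndependent k (fun i : Fin (n + 1) => (⇑T)^[(i : ℕ)] e) ∧
      ∀ m < n, LinearIndependent k (fun i : Fin (m + 1) => (⇑T)^[(i : ℕ)] e) :=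
    ⟨Nat.find hex, Nat.find_spec hex, fun m hm => not_not.1 (Nat.find_min hex hm)⟩
  cases n with
  | zero =>
    exfalso; apply hn
    haveI : Subsingleton (Fin (0 + 1)) := inferInstanceAs (Subsingleton (Fin 1))
    refine LinearIndependent.of_subsingleton 0 ?_
    exact he _
  | succ n =>
    have hli := hmin n (Nat.lt_succ_self n)
    have hmem : (⇑T)^[n + 1] e ∈ Submodule.span k (Set.range fun i : Fin (n + 1) => (⇑T)^[(i : ℕ)] e) := by
      by_contra hc
      apply hn
      rw [linearIndependent_finSucc']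
      refine ⟨hli, ?_⟩
      unfold Fin.init
      simpa [Fin.val_castSucc] using hc
    obtain ⟨b, hb⟩ := Submodule.mem_span_range_iff_exists_fun k |>.1 hmem
    have hb0 : b ≠ 0 := by
      rintro rfl
      apply he (n + 1)
      rw [← hb]; simp
    obtain ⟨x, hx0, hx⟩ := h2 n b hb0
    let b' : ℕ → k := fun i => if h : i < n + 1 then b ⟨i, h⟩ else 0
    let c : ℕ → k := fun i => Nat.rec (σ x * b' 0) (fun j cj => σ cj + σ x * b' (j + 1)) i
    have hc : ∀ i, c i = ∑ j ∈ Finset.range (i + 1), (⇑σ)^[j + 1] x * (⇑σ)^[j] (b' (i - j)) := by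
      intro i
      induction i with
      | zero => simp [c]
      | succ i ih =>
        show σ (c i) + σ x * b' (i + 1) = _
        rw [Finset.sum_range_succ' _ (i + 1), ih, map_sum]
        simp only [Nat.succ_sub_succ, map_mul, Function.iterate_succ_apply', Function.iterate_zero_apply,
          Nat.sub_zero]
    have hcn : c n = x := by
      conv_rhs => rw [hx]
      rw [hc n, ← Fin.sum_univ_eq_sum_range (fun j => (⇑σ)^[j + 1] x * (⇑σ)^[j] (b' (n - j)))]
      refine Finset.sum_congr rfl fun i _ => ?_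
      congr 2
      have : n - (i : ℕ) < n + 1 := by omega
      simp only [b', dif_pos this]
      congr 1
      apply Fin.ext; simp
    let v : V := ∑ i : Fin (n + 1), c i • (⇑T)^[(i : ℕ)] e
    refine ⟨v, ?_, ?_, ?_⟩
    · exact sum_mem fun i _ => Submodule.smul_mem _ _ (Submodule.subset_span ⟨(i : ℕ), rfl⟩)
    · intro hv
      have := Fintype.linearIndependent_iff.1 hli (fun i => c i) hv (Fin.last n)
      simp only [Fin.val_last, hcn] at this
      exact hx0 this
    · have hTv : T v = ∑ i : Fin (n + 1), σ (c i) • (⇑T)^[(i : ℕ) + 1] e := by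
        simp only [v, map_sum, map_smulₛₗ, Function.iterate_succ_apply']
      have hb' : (⇑T)^[n + 1] e = ∑ i ∈ Finset.range (n + 1), b' i • (⇑T)^[i] e := by
        rw [← hb, ← Fin.sum_univ_eq_sum_range (fun i => b' i • (⇑T)^[i] e)]
        refine Finset.sum_congr rfl fun i _ => ?_
        simp only [b', dif_pos i.2, Fin.eta]
      rw [hTv, Fin.sum_univ_eq_sum_range (fun i => σ (c i) • (⇑T)^[i + 1] e),
        Finset.sum_range_succ, hcn, hb', Finset.smul_sum, Finset.sum_range_succ' (fun i => σ x • b' i • (⇑T)^[i] e)]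
      simp only [v, Fin.sum_univ_eq_sum_range (fun i => c i • (⇑T)^[i] e), Finset.sum_range_succ']
      rw [← add_assoc, ← Finset.sum_add_distrib]
      congr 1
      · refine Finset.sum_congr rfl fun j _ => ?_
        show σ (c j) • _ + σ x • b' (j + 1) • _ = (σ (c j) + σ x * b' (j + 1)) • _
        rw [add_smul, mul_smul]
      · show σ x • b' 0 • _ = (σ x * b' 0) • _
        rw [mul_smul]

variable (h3 : ∀ c : k, ∃ y : k, σ y - y + c = 0)
include h3

theorem fixed_span_eq_top {V : Type*} [AddCommGroup V] [Module k V] [FiniteDimensional k V]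
    (T : V →ₛₗ[σ] V) (h1 : Submodule.span k (Set.range ⇑T) = ⊤) :
    Submodule.span k {v : V | T v = v} = ⊤ := by
  set W := Submodule.span k {v : V | T v = v} with hW
  have hTW : W ≤ W.comap T := Submodule.span_le.2 fun v hv => by
    show T v ∈ W
    rw [show T v = v from hv]; exact Submodule.subset_span hv
  by_contra hne
  let Tq : (V ⧸ W) →ₛₗ[σ] (V ⧸ W) := W.mapQ W T hTW
  have hq1 : Submodule.span k (Set.range ⇑Tq) = ⊤ := by
    rw [eq_top_iff]
    have hh : Submodule.map W.mkQ (Submodule.span k (Set.range ⇑T)) ≤ Submodule.span k (Set.range ⇑Tq) := by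
      rw [Submodule.map_span_le]
      rintro _ ⟨x, rfl⟩
      exact Submodule.subset_span ⟨W.mkQ x, rfl⟩
    rwa [h1, Submodule.map_top, Submodule.range_mkQ] at hh
  have hss : ssPart Tq = ⊤ := by
    have : ∀ n, img Tq n = ⊤ := by
      intro n
      induction n with
      | zero => simp [img]
      | succ n ih => rw [img_succ, ih, Submodule.top_coe, Set.image_univ, hq1]
    simp only [ssPart, this, iInf_top]
  obtain ⟨e, he⟩ : ∃ e : V, e ∉ W := by
    by_contra hc; push Not at hc
    exact hne (eq_top_iff.2 fun x _ => hc x)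
  have he0 : ∀ m : ℕ, (⇑Tq)^[m] (W.mkQ e) ≠ 0 := fun m hm => he <| by
    have := eq_zero_of_iterate Tq (v := W.mkQ e) (hss ▸ Submodule.mem_top) ⟨m, hm⟩
    simpa using this
  obtain ⟨q, _, hq0, hqT⟩ := exists_fixed h2 Tq _ he0
  obtain ⟨v, rfl⟩ := W.mkQ_surjective q
  have hw : T v - v ∈ W := (Submodule.Quotient.eq W).1 hqT
  have hy : ∃ y ∈ W, T y - y = -(T v - v) := by
    generalize T v - v = w at hw
    induction hw using Submodule.span_induction with
    | mem f hf =>
      obtain ⟨y, hy⟩ := h3 1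
      refine ⟨y • f, Submodule.smul_mem _ _ (Submodule.subset_span hf), ?_⟩
      rw [map_smulₛₗ, show T f = f from hf, ← sub_smul, eq_neg_of_add_eq_zero_left hy, neg_one_smul]
    | zero => exact ⟨0, zero_mem _, by simp⟩
    | add a b _ _ ha hb =>
      obtain ⟨ya, hya, ea⟩ := ha
      obtain ⟨yb, hyb, eb⟩ := hb
      refine ⟨ya + yb, add_mem hya hyb, ?_⟩
      rw [map_add, neg_add, ← ea, ← eb]; abel
    | smul c a hamem ha =>
      clear ha
      induction hamem using Submodule.span_induction generalizing c with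
      | mem f hf =>
        obtain ⟨y, hy⟩ := h3 c
        refine ⟨y • f, Submodule.smul_mem _ _ (Submodule.subset_span hf), ?_⟩
        rw [map_smulₛₗ, show T f = f from hf, ← sub_smul, eq_neg_of_add_eq_zero_left hy, neg_smul]
      | zero => exact ⟨0, zero_mem _, by simp⟩
      | add a b _ _ ha hb =>
        obtain ⟨ya, hya, ea⟩ := ha c
        obtain ⟨yb, hyb, eb⟩ := hb c
        refine ⟨ya + yb, add_mem hya hyb, ?_⟩
        rw [map_add, smul_add, neg_add, ← ea, ← eb]; abel
      | smul d a _ ha => rw [smul_smul]; exact ha (c * d)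
  obtain ⟨y, hyW, hy⟩ := hy
  apply hq0
  have hfix : v + y ∈ W := Submodule.subset_span (by
    show T (v + y) = v + y
    rw [map_add, eq_add_of_sub_eq hy]; abel)
  simpa using (add_mem_cancel_right hyW).1 hfix

theorem exists_fixed_basis_and_surjective {V : Type*} [AddCommGroup V] [Module k V] [FiniteDimensional k V]
    (T : V →ₛₗ[σ] V) (h1 : Submodule.span k (Set.range ⇑T) = ⊤) :
    (∃ b : Module.Basis (Fin (Module.finrank k V)) k V, ∀ i, T (b i) = b i) ∧
    Function.Surjective (fun v : V => v - T v) := by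
  have hspan := fixed_span_eq_top h2 h3 T h1
  obtain ⟨s, hs, hsspan, hli⟩ := exists_linearIndependent k {v : V | T v = v}
  let b₀ : Module.Basis s k V := Module.Basis.mk hli (by rw [Subtype.range_coe, hsspan, hspan])
  haveI : Fintype s := FiniteDimensional.fintypeBasisIndex b₀
  let b := b₀.reindex (Fintype.equivFinOfCardEq (Module.finrank_eq_card_basis b₀).symm)
  have hb : ∀ i, T (b i) = b i := fun i => by
    simp only [b, b₀, Module.Basis.reindex_apply, Module.Basis.mk_apply]
    exact hs (Subtype.prop _)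
  refine ⟨⟨b, hb⟩, fun v => ?_⟩
  choose y hy using fun i => h3 (b.repr v i)
  refine ⟨∑ i, y i • b i, ?_⟩
  simp only [map_sum, map_smulₛₗ, hb, ← Finset.sum_sub_distrib, ← sub_smul]
  conv_rhs => rw [← b.sum_repr v]
  refine Finset.sum_congr rfl fun i _ => ?_
  rw [eq_comm]
  congr 1
  rw [← neg_sub (σ (y i)), eq_neg_of_add_eq_zero_left (hy i), neg_neg]

omit h2 h3 in
theorem surjective_sub_of_nilpotent {V : Type*} [AddCommGroup V] [Module k V]
    (T : V →ₛₗ[σ] V) (N : ℕ) (v : V) (hN : (⇑T)^[N] v = 0) : ∃ x, x - T x = v := by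
  refine ⟨∑ i ∈ Finset.range N, (⇑T)^[i] v, ?_⟩
  rw [map_sum, ← Finset.sum_sub_distrib]
  have := Finset.sum_range_sub' (fun i => (⇑T)^[i] v) N
  simp only [Function.iterate_succ_apply', hN, sub_zero, Function.iterate_zero_apply] at this
  exact this

theorem surjective_sub_and_fixed_basis_ssPart {V : Type*} [AddCommGroup V] [Module k V] [FiniteDimensional k V]
    (hσ : Function.Surjective σ) (T : V →ₛₗ[σ] V) :
    Function.Surjective (fun v : V => v - T v) ∧
    ∃ b : Module.Basis (Fin (Module.finrank k ↥(ssPart T))) k ↥(ssPart T),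
      ∀ i, T (b i : V) = (b i : V) := by
  let TS : ssPart T →ₛₗ[σ] ssPart T :=
    { toFun := fun x => ⟨T x, map_ssPart T x.2⟩
      map_add' := fun x y => Subtype.ext (map_add T _ _)
      map_smul' := fun c x => Subtype.ext (map_smulₛₗ T c _) }
  have h1 : Submodule.span k (Set.range ⇑TS) = ⊤ := by
    rw [eq_top_iff]
    intro x _
    obtain ⟨v, hv, hvx⟩ := surjOn_ssPart T hσ x.2
    exact Submodule.subset_span ⟨⟨v, hv⟩, Subtype.ext hvx⟩
  obtain ⟨⟨b, hb⟩, hsurj⟩ := exists_fixed_basis_and_surjective h2 h3 TS h1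
  refine ⟨fun v => ?_, b, fun i => congrArg Subtype.val (hb i)⟩
  have hv : v ∈ nilPart T ⊔ ssPart T := by rw [(isCompl_nilPart T hσ).sup_eq_top]; trivial
  obtain ⟨w, ⟨N, hN⟩, s, hs, rfl⟩ := Submodule.mem_sup.1 hv
  obtain ⟨a, ha⟩ := surjective_sub_of_nilpotent T N w hN
  obtain ⟨c, hc⟩ := hsurj ⟨s, hs⟩
  refine ⟨a + c, ?_⟩
  have hc' : (c : V) - T c = s := congrArg Subtype.val hc
  simp only [map_add, ← ha, ← hc']
  abel

end Fixed
end Groth.L13.SigmaFitting
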