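import Groth.Agent.L13.SigmaFitting
import Mathlib.RingTheory.LocalRing.ResidueField.Basic
import Mathlib.RingTheory.Ideal.Quotient.Basic
import Mathlib.RingTheory.Finiteness.Basic
import Mathlib.LinearAlgebra.Isomorphisms
import Mathlib.RingTheory.Nakayama
import Mathlib.Algebra.Module.Torsion.Basic

/-! Semilinear endomorphisms of finite modules over a local ring whose maximal ideal is generated by a nilpotent. -/

namespace Groth.L13.SigmaLocal

open IsLocalRing Groth.L13.SigmaFitting

section
variable {R : Type*} [CommRing R] [IsLocalRing R] (π : R) (hmax : maximalIdeal R = Ideal.span {π})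
    {σ : R →+* R} (hπ : σ π = π) (σbar : ResidueField R →+* ResidueField R)
    (hσbar : ∀ r : R, σbar (residue R r) = residue R (σ r))
    (hsurj : Function.Surjective σbar)
    (h2 : ∀ (n : ℕ) (b : Fin (n + 1) → ResidueField R), b ≠ 0 →
      ∃ x : ResidueField R, x ≠ 0 ∧ x = ∑ i : Fin (n + 1), (⇑σbar)^[i.val + 1] x * (⇑σbar)^[i.val] (b (Fin.rev i)))
    (h3 : ∀ c : ResidueField R, ∃ y : ResidueField R, σbar y - y + c = 0)

include hmax in
theorem mem_smul_top_iff {M : Type*} [AddCommGroup M] [Module R M] (x : M) :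
    x ∈ (maximalIdeal R • ⊤ : Submodule R M) ↔ ∃ m, π • m = x := by
  rw [hmax, Submodule.ideal_span_singleton_smul, Submodule.mem_smul_pointwise_iff_exists]; simp

include hmax hπ hσbar hsurj h2 h3

theorem exists_sub_eq_add_smul {M : Type*} [AddCommGroup M] [Module R M] [Module.Finite R M]
    (T : M →ₛₗ[σ] M) (m : M) : ∃ x m', x - T x + π • m' = m := by
  let W : Submodule R M := maximalIdeal R • ⊤
  have hWT : W ≤ W.comap T := fun x hx => by
    obtain ⟨y, rfl⟩ := (mem_smul_top_iff π hmax x).1 hx
    show T (π • y) ∈ W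
    rw [map_smulₛₗ, hπ]
    exact (mem_smul_top_iff π hmax _).2 ⟨T y, rfl⟩
  letI : Module (ResidueField R) (M ⧸ W) :=
    (inferInstance : Module (R ⧸ maximalIdeal R) (M ⧸ (maximalIdeal R • (⊤ : Submodule R M))))
  have hc : ∀ (r : R) (z : M ⧸ W), residue R r • z = r • z := fun r z => by
    induction z using Submodule.Quotient.induction_on with
    | _ z => rfl
  haveI : Module.Finite (ResidueField R) (M ⧸ W) := by
    obtain ⟨s, hs⟩ := (Module.Finite.fg_top (R := R) (M := M ⧸ W))
    refine ⟨⟨s, eq_top_iff.2 fun z hzt => ?_⟩⟩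
    have hz : z ∈ Submodule.span R (s : Set (M ⧸ W)) := by rw [hs]; trivial
    clear hzt
    induction hz using Submodule.span_induction with
    | mem z hz => exact Submodule.subset_span hz
    | zero => exact zero_mem _
    | add a b _ _ ha hb => exact add_mem ha hb
    | smul r z _ hz => rw [← hc]; exact Submodule.smul_mem _ _ hz
  let Tq : (M ⧸ W) →ₛₗ[σbar] (M ⧸ W) :=
    { toFun := W.mapQ W T hWT
      map_add' := map_add _
      map_smul' := fun c z => by
        obtain ⟨r, rfl⟩ := residue_surjective c
        rw [hc, map_smulₛₗ, hσbar, hc] }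
  obtain ⟨z, hz⟩ := (surjective_sub_and_fixed_basis_ssPart h2 h3 hsurj Tq).1 (Submodule.Quotient.mk m)
  obtain ⟨x, rfl⟩ := Submodule.Quotient.mk_surjective W z
  have : m - (x - T x) ∈ W := (Submodule.Quotient.eq W).1 (by rw [← hz]; rfl)
  obtain ⟨m', hm'⟩ := (mem_smul_top_iff π hmax _).1 this
  exact ⟨x, m', by rw [hm']; abel⟩

theorem surjective_sub {n : ℕ} (hn : π ^ n = 0) {M : Type*} [AddCommGroup M] [Module R M] [Module.Finite R M]
    (T : M →ₛₗ[σ] M) : Function.Surjective (fun m : M => m - T m) := by
  suffices h : ∀ (i : ℕ) (m : M), ∃ x m', x - T x + π ^ i • m' = m by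
    intro m
    obtain ⟨x, m', hx⟩ := h n m
    rw [hn, zero_smul, add_zero] at hx
    exact ⟨x, hx⟩
  intro i
  induction i with
  | zero => intro m; exact ⟨0, m, by simp⟩
  | succ i ih =>
    intro m
    obtain ⟨x, m', hx⟩ := ih m
    obtain ⟨y, m'', hy⟩ := exists_sub_eq_add_smul π hmax hπ σbar hσbar hsurj h2 h3 T m'
    refine ⟨x + π ^ i • y, m'', ?_⟩
    rw [map_add, map_smulₛₗ, map_pow, hπ, ← hx, ← hy, pow_succ, mul_smul, smul_add, smul_sub]
    abel

omit h2 h3 hsurj in
theorem exists_fixed_generators
    (hlift : ∀ x : ResidueField R, σbar x = x → ∃ r : R, σ r = r ∧ residue R r = x)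
    (n : ℕ) {M : Type*} [AddCommGroup M] [Module R M] [Module.Finite R M]
    (hn : ∀ m : M, π ^ n • m = 0) (T : M →ₛₗ[σ] M) :
    ∃ (t : ℕ) (g : Fin t → M), (∀ j, T (g j) = g j) ∧
      ∀ m : M, T m = m → ∃ c : Fin t → R, (∀ j, σ (c j) = c j) ∧ m = ∑ j, c j • g j := by
  classical
  induction n generalizing M with
  | zero =>
    refine ⟨0, Fin.elim0, fun j => j.elim0, fun m _ => ⟨Fin.elim0, fun j => j.elim0, ?_⟩⟩
    simpa using hn m
  | succ n ih =>
    let W : Submodule R M := maximalIdeal R • ⊤
    have hWT : ∀ x ∈ W, T x ∈ W := fun x hx => by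
      obtain ⟨y, rfl⟩ := (mem_smul_top_iff π hmax x).1 hx
      rw [map_smulₛₗ, hπ]
      exact (mem_smul_top_iff π hmax _).2 ⟨T y, rfl⟩
    haveI : Module.Finite R W := Module.Finite.iff_fg.2 (by
      have : W = Submodule.map (LinearMap.lsmul R M π) ⊤ := by
        ext x; rw [mem_smul_top_iff π hmax]; simp
      rw [this]; exact Module.Finite.fg_top.map _)
    let TW : W →ₛₗ[σ] W :=
      { toFun := fun x => ⟨T x, hWT x x.2⟩
        map_add' := fun x y => Subtype.ext (map_add T _ _)
        map_smul' := fun c x => Subtype.ext (map_smulₛₗ T c _) }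
    obtain ⟨t, g, hg, hspan⟩ := ih (M := W) (fun x => by
      apply Subtype.ext
      obtain ⟨y, hy⟩ := (mem_smul_top_iff π hmax (x : M)).1 x.2
      rw [Submodule.coe_smul, ← hy, smul_smul, ← pow_succ, hn, Submodule.coe_zero]) TW
    letI : Module (ResidueField R) (M ⧸ W) :=
      (inferInstance : Module (R ⧸ maximalIdeal R) (M ⧸ (maximalIdeal R • (⊤ : Submodule R M))))
    have hc : ∀ (r : R) (z : M ⧸ W), residue R r • z = r • z := fun r z => by
      induction z using Submodule.Quotient.induction_on with
      | _ z => rfl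
    haveI : Module.Finite (ResidueField R) (M ⧸ W) := by
      obtain ⟨s, hs⟩ := (Module.Finite.fg_top (R := R) (M := M ⧸ W))
      refine ⟨⟨s, eq_top_iff.2 fun z hzt => ?_⟩⟩
      have hz : z ∈ Submodule.span R (s : Set (M ⧸ W)) := by rw [hs]; trivial
      clear hzt
      induction hz using Submodule.span_induction with
      | mem z hz => exact Submodule.subset_span hz
      | zero => exact zero_mem _
      | add a b _ _ ha hb => exact add_mem ha hb
      | smul r z _ hz => rw [← hc]; exact Submodule.smul_mem _ _ hz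
    let F : Set (M ⧸ W) := {z | ∃ m, T m = m ∧ Submodule.Quotient.mk m = z}
    obtain ⟨s, hsF, hsspan, hli⟩ := exists_linearIndependent (ResidueField R) F
    haveI : Fintype s := hli.setFinite.fintype
    have hlifts : ∀ z : s, ∃ m, T m = m ∧ Submodule.Quotient.mk m = (z : M ⧸ W) := fun z => hsF z.2
    choose l hl hlz using hlifts
    let e := Fintype.equivFin s
    refine ⟨Fintype.card s + t, Fin.append (fun j => l (e.symm j)) (fun j => (g j : M)), ?_, ?_⟩
    · intro j
      induction j using Fin.addCases with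
      | left j => simp [hl]
      | right j => rw [Fin.append_right]; exact congrArg Subtype.val (hg j)
    intro m hm
    have hmem : (Submodule.Quotient.mk m : M ⧸ W) ∈
        Submodule.span (ResidueField R) (Set.range fun z : s => (z : M ⧸ W)) := by
      rw [Subtype.range_coe, hsspan]; exact Submodule.subset_span ⟨m, hm, rfl⟩
    obtain ⟨c, hc'⟩ := Submodule.mem_span_range_iff_exists_fun (ResidueField R) |>.1 hmem
    have hcfix : ∀ z, σbar (c z) = c z := by
      have e1 : ∑ z : s, (σbar (c z) - c z) • (z : M ⧸ W) = 0 := by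
        choose r hr using fun z => residue_surjective (c z)
        have h1 : (Submodule.Quotient.mk (∑ z : s, r z • l z) : M ⧸ W) = Submodule.Quotient.mk m := by
          rw [← hc', ← Submodule.mkQ_apply, map_sum]
          refine Finset.sum_congr rfl fun z _ => ?_
          rw [map_smul, Submodule.mkQ_apply, hlz, ← hr, hc]
        have h2' : (Submodule.Quotient.mk (T (∑ z : s, r z • l z)) : M ⧸ W) = Submodule.Quotient.mk m := by
          conv_rhs => rw [← hm]
          rw [Submodule.Quotient.eq, ← map_sub]
          exact hWT _ ((Submodule.Quotient.eq W).1 h1)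
        rw [← sub_self (Submodule.Quotient.mk m : M ⧸ W)]
        conv_rhs => arg 2; rw [← hc']
        rw [← h2', map_sum, ← Submodule.mkQ_apply, map_sum, ← Finset.sum_sub_distrib]
        refine Finset.sum_congr rfl fun z _ => ?_
        rw [map_smulₛₗ, map_smul, hl, sub_smul, Submodule.mkQ_apply, hlz, ← hr, hσbar, hc, hc]
      intro z
      exact sub_eq_zero.1 (Fintype.linearIndependent_iff.1 hli _ e1 z)
    choose r hrfix hr using fun z => hlift (c z) (hcfix z)
    have hd : m - ∑ z : s, r z • l z ∈ W := by
      rw [← Submodule.Quotient.eq, ← hc', ← Submodule.mkQ_apply, map_sum]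
      refine Finset.sum_congr rfl fun z _ => ?_
      rw [map_smul, Submodule.mkQ_apply, hlz, ← hr, hc]
    obtain ⟨d, hdfix, hd'⟩ := hspan ⟨_, hd⟩ (by
      apply Subtype.ext
      show T (m - ∑ z : s, r z • l z) = m - ∑ z : s, r z • l z
      simp only [map_sub, map_sum, map_smulₛₗ, hrfix, hl, hm])
    refine ⟨Fin.append (fun j => r (e.symm j)) d, ?_, ?_⟩
    · intro j
      induction j using Fin.addCases with
      | left j => simp [hrfix]
      | right j => simp [hdfix]
    · have := congrArg Subtype.val hd'
      simp only [Submodule.coe_sum, Submodule.coe_smul] at this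
      rw [Fin.sum_univ_add]
      simp only [Fin.append_left, Fin.append_right]
      rw [← this, e.symm.sum_comp (fun z => r z • l z), add_sub_cancel]

end
end Groth.L13.SigmaLocal
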