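import Groth.Agent.L13.SigmaLocal
import Groth.Prelude.Def_WittGrp
import Mathlib.RingTheory.WittVector.DiscreteValuationRing
import Mathlib.RingTheory.WittVector.Identities
import Mathlib.FieldTheory.IsAlgClosed.Basic
import Mathlib.FieldTheory.Perfect
import Mathlib.Algebra.Polynomial.Roots
import Mathlib.RingTheory.LocalRing.RingHom.Basic

/-! Semilinear endomorphisms over an algebraically closed field and over truncated Witt vectors. -/

namespace Groth.L13.SigmaWitt

open Polynomial

section Field
variable {k : Type*} [Field k] [IsAlgClosed k]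

theorem exists_root_ne_zero (P : Polynomial k) (hP : P ≠ 0) (h : P.natTrailingDegree < P.natDegree) :
    ∃ x : k, x ≠ 0 ∧ P.eval x = 0 := by
  classical
  by_contra hc
  push Not at hc
  have hsp := IsAlgClosed.splits P
  have hcard : P.roots.card = P.natDegree := hsp.natDegree_eq_card_roots.symm
  have hall : ∀ x ∈ P.roots, x = 0 := fun x hx => by
    by_contra hx0
    exact hc x hx0 (isRoot_of_mem_roots hx)
  have : P.rootMultiplicity 0 = P.natDegree := by
    rw [← count_roots, Multiset.eq_replicate_card.2 hall, Multiset.count_replicate_self]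
    exact hcard
  rw [rootMultiplicity_eq_natTrailingDegree'] at this
  omega

variable (p : ℕ) [hp : Fact p.Prime] [CharP k p]

theorem h3_frob (c : k) : ∃ y : k, frobenius k p y - y + c = 0 := by
  obtain ⟨y, hy⟩ := IsAlgClosed.exists_root (X ^ p - X + C c : k[X]) (by
    rw [degree_eq_natDegree]
    · have : (X ^ p - X + C c : k[X]).natDegree = p := by
        rw [natDegree_add_C, natDegree_sub_eq_left_of_natDegree_lt] <;>
          simp [hp.out.one_lt]
      rw [this]; exact_mod_cast hp.out.pos.ne'
    · intro h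
      have := congrArg (Polynomial.coeff · p) h
      simp [coeff_X, coeff_C, hp.out.ne_zero, hp.out.one_lt.ne] at this)
  exact ⟨y, by simpa [frobenius_def] using hy⟩

theorem h2_frob (n : ℕ) (b : Fin (n + 1) → k) (hb : b ≠ 0) :
    ∃ x : k, x ≠ 0 ∧ x = ∑ i : Fin (n + 1), (⇑(frobenius k p))^[i.val + 1] x * (⇑(frobenius k p))^[i.val] (b (Fin.rev i)) := by
  classical
  let P : k[X] := (∑ i : Fin (n + 1), C ((b (Fin.rev i)) ^ p ^ (i : ℕ)) * X ^ (p ^ ((i : ℕ) + 1))) - X
  have hinj : ∀ i j : Fin (n + 1), p ^ ((i : ℕ) + 1) = p ^ ((j : ℕ) + 1) → i = j := fun i j h =>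
    Fin.ext (Nat.add_right_cancel (Nat.pow_right_injective hp.out.two_le h))
  obtain ⟨i₀, hi₀⟩ : ∃ i, b (Fin.rev i) ≠ 0 := by
    by_contra h; push Not at h
    exact hb (funext fun i => by simpa using h (Fin.rev i))
  have hone : ∀ i : Fin (n + 1), p ^ ((i : ℕ) + 1) ≠ 1 := fun i =>
    (Nat.one_lt_pow (by omega) hp.out.one_lt).ne'
  have hcoef : P.coeff (p ^ ((i₀ : ℕ) + 1)) ≠ 0 := by
    simp only [P, coeff_sub, finsetSum_coeff, coeff_C_mul, coeff_X_pow, coeff_X]
    rw [Finset.sum_eq_single i₀ (fun j _ hj => by rw [if_neg (fun h => hj (hinj _ _ h.symm)), mul_zero])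
      (by simp), if_pos rfl, if_neg (fun h => hone i₀ h.symm)]
    simp [hi₀]
  have h1 : P.coeff 1 ≠ 0 := by
    simp only [P, coeff_sub, finsetSum_coeff, coeff_C_mul, coeff_X_pow, coeff_X]
    rw [Finset.sum_eq_zero (fun j _ => by rw [if_neg (fun h => hone j h.symm), mul_zero])]
    simp
  have hP : P ≠ 0 := fun h => h1 (by rw [h, coeff_zero])
  obtain ⟨x, hx0, hx⟩ := exists_root_ne_zero P hP (lt_of_le_of_lt (natTrailingDegree_le_of_ne_zero h1)
    (lt_of_lt_of_le (Nat.one_lt_pow (by omega) hp.out.one_lt) (le_natDegree_of_ne_zero hcoef)))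
  refine ⟨x, hx0, ?_⟩
  simp only [P, eval_sub, eval_finsetSum, eval_mul, eval_C, eval_pow, eval_X, sub_eq_zero] at hx
  simp only [iterate_frobenius]
  conv_lhs => rw [← hx]
  exact Finset.sum_congr rfl fun i _ => mul_comm _ _

theorem h3_frobInv (c : k) : ∃ y : k, (frobeniusEquiv k p).symm.toRingHom y - y + c = 0 := by
  obtain ⟨z, hz⟩ := h3_frob p (-c)
  refine ⟨frobenius k p z, ?_⟩
  show (frobeniusEquiv k p).symm (frobenius k p z) - frobenius k p z + c = 0
  rw [frobeniusEquiv_symm_apply_frobenius]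
  linear_combination -hz

theorem h2_frobInv (n : ℕ) (b : Fin (n + 1) → k) (hb : b ≠ 0) :
    ∃ x : k, x ≠ 0 ∧ x = ∑ i : Fin (n + 1), (⇑(frobeniusEquiv k p).symm.toRingHom)^[i.val + 1] x *
      (⇑(frobeniusEquiv k p).symm.toRingHom)^[i.val] (b (Fin.rev i)) := by
  classical
  set τ := (frobeniusEquiv k p).symm.toRingHom with hτ
  have hτF : ∀ a, τ (frobenius k p a) = a := fun a => frobeniusEquiv_symm_apply_frobenius k p a
  have hit : ∀ (m : ℕ) (a : k), (⇑τ)^[m] (a ^ p ^ m) = a := fun m a => by
    induction m with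
    | zero => simp
    | succ m ih =>
      rw [Function.iterate_succ_apply, pow_succ, pow_mul, ← frobenius_def, hτF, ih]
  -- substitute `x = y ^ p ^ (n + 1)`
  let P : k[X] := (∑ i : Fin (n + 1), C ((⇑τ)^[(i : ℕ)] (b (Fin.rev i))) * X ^ (p ^ (n - (i : ℕ)))) -
    X ^ (p ^ (n + 1))
  obtain ⟨i₀, hi₀⟩ : ∃ i, b (Fin.rev i) ≠ 0 := by
    by_contra h; push Not at h
    exact hb (funext fun i => by simpa using h (Fin.rev i))
  have hinj : ∀ i j : Fin (n + 1), p ^ (n - (i : ℕ)) = p ^ (n - (j : ℕ)) → i = j := fun i j h =>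
    Fin.ext (by have := Nat.pow_right_injective hp.out.two_le h; omega)
  have hne : ∀ i : Fin (n + 1), p ^ (n - (i : ℕ)) < p ^ (n + 1) := fun i =>
    Nat.pow_lt_pow_right hp.out.one_lt (by omega)
  have hcoef : P.coeff (p ^ (n + 1)) ≠ 0 := by
    simp only [P, coeff_sub, finsetSum_coeff, coeff_C_mul, coeff_X_pow]
    rw [Finset.sum_eq_zero (fun j _ => by rw [if_neg (fun h => (hne j).ne h.symm), mul_zero])]
    simp
  have h1 : P.coeff (p ^ (n - (i₀ : ℕ))) ≠ 0 := by
    simp only [P, coeff_sub, finsetSum_coeff, coeff_C_mul, coeff_X_pow]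
    rw [Finset.sum_eq_single i₀ (fun j _ hj => by rw [if_neg (fun h => hj (hinj _ _ h.symm)), mul_zero])
      (by simp), if_neg (hne i₀).ne, sub_zero, if_pos rfl, mul_one]
    exact fun h => hi₀ ((τ.injective.iterate (i₀ : ℕ)) (h.trans (iterate_map_zero τ _).symm))
  have hP : P ≠ 0 := fun h => h1 (by rw [h, coeff_zero])
  obtain ⟨y, hy0, hy⟩ := exists_root_ne_zero P hP (lt_of_le_of_lt (natTrailingDegree_le_of_ne_zero h1)
    (lt_of_lt_of_le (hne i₀) (le_natDegree_of_ne_zero hcoef)))
  refine ⟨y ^ p ^ (n + 1), pow_ne_zero _ hy0, ?_⟩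
  simp only [P, eval_sub, eval_finsetSum, eval_mul, eval_C, eval_pow, eval_X, sub_eq_zero] at hy
  conv_lhs => rw [← hy]
  refine Finset.sum_congr rfl fun i _ => ?_
  have e : y ^ p ^ (n + 1) = (y ^ p ^ (n - (i : ℕ))) ^ p ^ ((i : ℕ) + 1) := by
    rw [← pow_mul, ← pow_add]; congr 2; omega
  rw [e, hit, mul_comm]

theorem finite_fixed_frob : {x : k | frobenius k p x = x}.Finite := by
  apply Set.Finite.subset (Polynomial.finite_setOf_isRoot (p := (X ^ p - X : k[X])) ?_)
  · intro x hx
    simp only [Set.mem_setOf_eq, IsRoot.def, eval_sub, eval_pow, eval_X]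
    rw [← frobenius_def, show frobenius k p x = x from hx, sub_self]
  · intro h
    have := congrArg (Polynomial.coeff · p) h
    simp [coeff_X, hp.out.one_lt.ne] at this

end Field

section Witt
variable (p : ℕ) [hp : Fact p.Prime] (k : Type*) [Field k] [CharP k p] [PerfectRing k p] (m : ℕ)

/-- The zeroth component. -/
noncomputable def res : TruncatedWittVector p (m + 1) k →+* k where
  toFun x := x.coeff 0
  map_one' := by
    rw [← map_one (WittVector.truncate (p := p) (R := k) (m + 1))]
    exact (WittVector.coeff_truncate _ _).trans (WittVector.one_coeff_zero ..)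
  map_zero' := by
    rw [← map_zero (WittVector.truncate (p := p) (R := k) (m + 1))]
    exact (WittVector.coeff_truncate _ _).trans (WittVector.zero_coeff ..)
  map_mul' x y := by
    obtain ⟨X, rfl⟩ := WittVector.truncate_surjective p (m + 1) k x
    obtain ⟨Y, rfl⟩ := WittVector.truncate_surjective p (m + 1) k y
    rw [← map_mul]
    simp only [WittVector.coeff_truncate, Fin.val_zero, WittVector.mul_coeff_zero]
  map_add' x y := by
    obtain ⟨X, rfl⟩ := WittVector.truncate_surjective p (m + 1) k x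
    obtain ⟨Y, rfl⟩ := WittVector.truncate_surjective p (m + 1) k y
    rw [← map_add]
    simp only [WittVector.coeff_truncate, Fin.val_zero, WittVector.add_coeff_zero]

theorem res_surjective : Function.Surjective (res p k m) := fun a =>
  ⟨TruncatedWittVector.mk p fun _ => a, by simp [res]⟩

theorem isUnit_of_res_ne_zero (x : TruncatedWittVector p (m + 1) k) (hx : res p k m x ≠ 0) : IsUnit x := by
  obtain ⟨X, rfl⟩ := WittVector.truncate_surjective p (m + 1) k x
  refine (WittVector.isUnit_of_coeff_zero_ne_zero X ?_).map _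
  simpa [res, WittVector.coeff_truncate] using hx

instance : IsLocalHom (res p k m) :=
  ⟨fun x hx => isUnit_of_res_ne_zero p k m x hx.ne_zero⟩

instance : Nontrivial (TruncatedWittVector p (m + 1) k) :=
  (res p k m).domain_nontrivial

instance : IsLocalRing (TruncatedWittVector p (m + 1) k) :=
  IsLocalRing.of_surjective' (WittVector.truncate (p := p) (R := k) (m + 1))
    (WittVector.truncate_surjective p (m + 1) k)

theorem natCast_pow_eq_zero : ((p : TruncatedWittVector p (m + 1) k)) ^ (m + 1) = 0 := by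
  rw [← map_natCast (WittVector.truncate (p := p) (R := k) (m + 1)), ← map_pow, ← RingHom.mem_ker,
    WittVector.mem_ker_truncate]
  intro i hi
  exact WittVector.coeff_p_pow_eq_zero p k (by omega)

theorem maximalIdeal_eq :
    IsLocalRing.maximalIdeal (TruncatedWittVector p (m + 1) k) = Ideal.span {(p : TruncatedWittVector p (m + 1) k)} := by
  apply le_antisymm
  · intro x hx
    obtain ⟨X, rfl⟩ := WittVector.truncate_surjective p (m + 1) k x
    have hX : X ∈ IsLocalRing.maximalIdeal (WittVector p k) := fun hu => hx (hu.map _)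
    rw [(WittVector.irreducible p (k := k)).maximalIdeal_eq, Ideal.mem_span_singleton] at hX
    obtain ⟨Y, rfl⟩ := hX
    rw [Ideal.mem_span_singleton, map_mul, map_natCast]
    exact dvd_mul_right _ _
  · rw [Ideal.span_le, Set.singleton_subset_iff]
    intro hu
    exact not_isUnit_zero (natCast_pow_eq_zero p k m ▸ hu.pow (m + 1))

/-- The residue field of the truncated Witt vectors. -/
noncomputable def resEquiv : IsLocalRing.ResidueField (TruncatedWittVector p (m + 1) k) ≃+* k :=
  RingEquiv.ofBijective (IsLocalRing.ResidueField.lift (res p k m))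
    ⟨(IsLocalRing.ResidueField.lift (res p k m)).injective, fun a => by
      obtain ⟨x, rfl⟩ := res_surjective p k m a
      exact ⟨IsLocalRing.residue _ x, rfl⟩⟩

theorem resEquiv_residue (x : TruncatedWittVector p (m + 1) k) :
    resEquiv p k m (IsLocalRing.residue _ x) = res p k m x := rfl

variable {k} (φ : k →+* k)

/-- The map induced by `φ` on the residue field. -/
noncomputable def sbar :
    IsLocalRing.ResidueField (TruncatedWittVector p (m + 1) k) →+*
      IsLocalRing.ResidueField (TruncatedWittVector p (m + 1) k) :=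
  ((resEquiv p k m).symm.toRingHom.comp φ).comp (resEquiv p k m).toRingHom

theorem resEquiv_sbar (z) : resEquiv p k m (sbar p m φ z) = φ (resEquiv p k m z) :=
  (resEquiv p k m).apply_symm_apply _

theorem sbar_residue (x : TruncatedWittVector p (m + 1) k) :
    sbar p m φ (IsLocalRing.residue _ x) = IsLocalRing.residue _ (WittGrp.truncMap p (m + 1) φ x) := by
  apply (resEquiv p k m).injective
  rw [resEquiv_sbar, resEquiv_residue, resEquiv_residue]
  rfl

theorem resEquiv_iterate (i : ℕ) (z) :
    resEquiv p k m ((⇑(sbar p m φ))^[i] z) = (⇑φ)^[i] (resEquiv p k m z) := by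
  induction i generalizing z with
  | zero => rfl
  | succ i ih => rw [Function.iterate_succ_apply, ih, resEquiv_sbar, Function.iterate_succ_apply]

theorem sbar_surjective (h : Function.Surjective φ) : Function.Surjective (sbar p m φ) := fun z => by
  obtain ⟨a, ha⟩ := h (resEquiv p k m z)
  exact ⟨(resEquiv p k m).symm a, (resEquiv p k m).injective (by simp [resEquiv_sbar, ha])⟩

theorem h2_transport
    (h : ∀ (n : ℕ) (b : Fin (n + 1) → k), b ≠ 0 →
      ∃ x : k, x ≠ 0 ∧ x = ∑ i : Fin (n + 1), (⇑φ)^[i.val + 1] x * (⇑φ)^[i.val] (b (Fin.rev i)))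
    (n : ℕ) (b : Fin (n + 1) → IsLocalRing.ResidueField (TruncatedWittVector p (m + 1) k)) (hb : b ≠ 0) :
    ∃ x, x ≠ 0 ∧ x = ∑ i : Fin (n + 1), (⇑(sbar p m φ))^[i.val + 1] x * (⇑(sbar p m φ))^[i.val] (b (Fin.rev i)) := by
  obtain ⟨x, hx0, hx⟩ := h n (fun i => resEquiv p k m (b i))
    (fun e => hb (funext fun i => (resEquiv p k m).injective (by simpa using congrFun e i)))
  refine ⟨(resEquiv p k m).symm x, by simpa using hx0, (resEquiv p k m).injective ?_⟩
  simp only [map_sum, map_mul, resEquiv_iterate, RingEquiv.apply_symm_apply]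
  exact hx

theorem h3_transport (h : ∀ c : k, ∃ y : k, φ y - y + c = 0)
    (c : IsLocalRing.ResidueField (TruncatedWittVector p (m + 1) k)) : ∃ y, sbar p m φ y - y + c = 0 := by
  obtain ⟨y, hy⟩ := h (resEquiv p k m c)
  exact ⟨(resEquiv p k m).symm y, (resEquiv p k m).injective (by simp [resEquiv_sbar, hy])⟩

theorem hlift (z : IsLocalRing.ResidueField (TruncatedWittVector p (m + 1) k)) (hz : sbar p m φ z = z) :
    ∃ r, WittGrp.truncMap p (m + 1) φ r = r ∧ IsLocalRing.residue _ r = z := by
  have hc : φ (resEquiv p k m z) = resEquiv p k m z := by rw [← resEquiv_sbar, hz]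
  refine ⟨TruncatedWittVector.mk p fun _ => resEquiv p k m z, ?_, (resEquiv p k m).injective ?_⟩
  · show WittGrp.truncMapFun p (m + 1) φ _ = _
    apply TruncatedWittVector.ext; intro i
    simp [WittGrp.truncMapFun, hc]
  · rw [resEquiv_residue]; simp [res]

omit [PerfectRing k p] in
theorem finite_fixed_truncMap (n : ℕ) (hφ : {x : k | φ x = x}.Finite) :
    {r : TruncatedWittVector p n k | WittGrp.truncMap p n φ r = r}.Finite := by
  have : ({f : Fin n → k | ∀ i, φ (f i) = f i}).Finite := by
    simpa [Set.pi, Set.mem_setOf_eq] using Set.Finite.pi (fun _ : Fin n => hφ)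
  refine (this.preimage (f := fun r : TruncatedWittVector p n k => fun i => r.coeff i) ?_).subset ?_
  · intro a _ b _ h; exact TruncatedWittVector.ext fun i => congrFun h i
  · intro r hr i
    conv_rhs => rw [← (hr : WittGrp.truncMap p n φ r = r)]
    show φ (r.coeff i) = (WittGrp.truncMapFun p n φ r).coeff i
    simp [WittGrp.truncMapFun]

theorem truncMap_natCast : WittGrp.truncMap p (m + 1) φ (p : TruncatedWittVector p (m + 1) k) = p :=
  map_natCast _ _

theorem surjective_sub (hs : Function.Surjective φ)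
    (h2 : ∀ (n : ℕ) (b : Fin (n + 1) → k), b ≠ 0 →
      ∃ x : k, x ≠ 0 ∧ x = ∑ i : Fin (n + 1), (⇑φ)^[i.val + 1] x * (⇑φ)^[i.val] (b (Fin.rev i)))
    (h3 : ∀ c : k, ∃ y : k, φ y - y + c = 0) (n : ℕ)
    {M : Type*} [AddCommGroup M] [Module (TruncatedWittVector p n k) M]
    [Module.Finite (TruncatedWittVector p n k) M] (T : M →ₛₗ[WittGrp.truncMap p n φ] M) :
    Function.Surjective (fun x : M => T x - x) := by
  cases n with
  | zero =>
    haveI : Subsingleton (TruncatedWittVector p 0 k) := ⟨fun a b => TruncatedWittVector.ext fun i => i.elim0⟩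
    haveI : Subsingleton M := Module.subsingleton (TruncatedWittVector p 0 k) M
    intro x; exact ⟨0, Subsingleton.elim _ _⟩
  | succ m =>
    intro x
    obtain ⟨a, ha⟩ := SigmaLocal.surjective_sub (p : TruncatedWittVector p (m + 1) k) (maximalIdeal_eq p k m)
      (truncMap_natCast p m φ) (sbar p m φ) (sbar_residue p m φ) (sbar_surjective p m φ hs)
      (h2_transport p m φ h2) (h3_transport p m φ h3) (natCast_pow_eq_zero p k m) T x
    refine ⟨-a, ?_⟩
    show T (-a) - -a = x
    rw [map_neg, neg_sub_neg]; exact ha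

theorem finite_fixed (hφ : {x : k | φ x = x}.Finite) (n : ℕ)
    {M : Type*} [AddCommGroup M] [Module (TruncatedWittVector p n k) M]
    [Module.Finite (TruncatedWittVector p n k) M] (T : M →ₛₗ[WittGrp.truncMap p n φ] M) :
    {x : M | T x = x}.Finite := by
  cases n with
  | zero =>
    haveI : Subsingleton (TruncatedWittVector p 0 k) := ⟨fun a b => TruncatedWittVector.ext fun i => i.elim0⟩
    haveI : Subsingleton M := Module.subsingleton (TruncatedWittVector p 0 k) M
    exact Set.toFinite _
  | succ m =>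
    obtain ⟨t, g, _, hg⟩ := SigmaLocal.exists_fixed_generators (p : TruncatedWittVector p (m + 1) k)
      (maximalIdeal_eq p k m) (truncMap_natCast p m φ) (sbar p m φ) (sbar_residue p m φ) (hlift p m φ)
      (m + 1) (M := M) (fun x => by rw [natCast_pow_eq_zero, zero_smul]) T
    refine ((Set.Finite.pi (fun _ : Fin t => finite_fixed_truncMap p φ (m + 1) hφ)).image
      (fun c => ∑ j, c j • g j)).subset ?_
    intro x hx
    obtain ⟨c, hc, rfl⟩ := hg x hx
    exact ⟨c, fun j _ => hc j, rfl⟩

end Witt
end Groth.L13.SigmaWitt
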