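import Mathlib.LinearAlgebra.Trace
import Mathlib.LinearAlgebra.Pi
import Mathlib.Data.Int.Interval
import Mathlib.Tactic.Ring
import Mathlib.Algebra.Order.Ring.Int

/-! Supertraces. -/

namespace Groth.L13.SuperTrace

variable {R ι : Type*} [CommRing R] [Fintype ι] [DecidableEq ι]
    (deg : ι → ℤ) (M : ι → Type*) [∀ i, AddCommGroup (M i)] [∀ i, Module R (M i)]

/-- The sign involution. -/
def eps : (Π k, M k) →ₗ[R] (Π k, M k) :=
  ∑ i : ι, (LinearMap.single R M i) ∘ₗ (((-1 : R) ^ (deg i).natAbs) • (LinearMap.proj i : (Π k, M k) →ₗ[R] M i))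

theorem eps_apply (x : Π k, M k) (j : ι) : eps deg M (R := R) x j = (-1 : R) ^ (deg j).natAbs • x j := by
  simp [eps, LinearMap.sum_apply]

theorem neg_one_pow_natAbs (m n : ℤ) :
    (-1 : R) ^ (m + n).natAbs = (-1) ^ m.natAbs * (-1) ^ n.natAbs := by
  rw [← pow_add, neg_one_pow_congr]
  simp only [Nat.even_add, Int.natAbs_even, Int.even_add]

variable (φ : (Π k, M k) →ₗ[R] (Π k, M k)) (a : ℤ)
  (hφ : ∀ i j : ι, deg j ≠ deg i + a → (LinearMap.proj j) ∘ₗ φ ∘ₗ (LinearMap.single R M i) = 0)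

include hφ

theorem eps_comm : eps deg M (R := R) ∘ₗ φ = (-1 : R) ^ a.natAbs • (φ ∘ₗ eps deg M) := by
  apply LinearMap.pi_ext
  intro i m
  funext j
  simp only [LinearMap.comp_apply, eps_apply, LinearMap.smul_apply, Pi.smul_apply]
  by_cases hd : deg j = deg i + a
  · have : eps deg M (R := R) (Pi.single i m) = (-1 : R) ^ (deg i).natAbs • Pi.single i m := by
      funext k
      rw [eps_apply, Pi.smul_apply]
      by_cases hk : k = i
      · subst hk; rfl
      · simp [Pi.single_eq_of_ne hk]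
    rw [this, map_smul, Pi.smul_apply, smul_smul, hd, neg_one_pow_natAbs, mul_comm]
  · have h0 := LinearMap.congr_fun (hφ i j hd) m
    simp only [LinearMap.comp_apply, LinearMap.proj_apply, LinearMap.zero_apply] at h0
    have : eps deg M (R := R) (Pi.single i m) = (-1 : R) ^ (deg i).natAbs • Pi.single i m := by
      funext k
      rw [eps_apply, Pi.smul_apply]
      by_cases hk : k = i
      · subst hk; rfl
      · simp [Pi.single_eq_of_ne hk]
    rw [this, map_smul, Pi.smul_apply]
    erw [h0]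
    simp

theorem trace_eq_zero [∀ i, Module.Free R (M i)] [∀ i, Module.Finite R (M i)] (ha : a ≠ 0) :
    LinearMap.trace R (Π k, M k) (eps deg M ∘ₗ φ) = 0 := by
  have hs : eps deg M (R := R) ∘ₗ φ = ∑ i : ι,
      ((LinearMap.single R M i) ∘ₗ (((-1 : R) ^ (deg i).natAbs) • (LinearMap.proj i : (Π k, M k) →ₗ[R] M i))) ∘ₗ φ := by
    apply LinearMap.ext; intro x; simp [eps, LinearMap.sum_apply]
  rw [hs, map_sum]
  refine Finset.sum_eq_zero fun i _ => ?_
  rw [LinearMap.comp_assoc, LinearMap.trace_comp_comm', LinearMap.comp_assoc,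
    LinearMap.smul_comp, hφ i i (by omega), smul_zero, map_zero]

end Groth.L13.SuperTrace
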