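import Groth.Prelude.Def_W4c3tautjacobianRel
import Mathlib.RingTheory.MvPolynomial.EulerIdentity
import Mathlib.RingTheory.MvPolynomial.WeightedHomogeneous
import Mathlib.Tactic

/-!
The `sl₂`-relation `[F, E] = g - i` of the formal relation ring and its consequences.
-/

set_option autoImplicit false

namespace Groth.Agent.L13.TautJac

open W4c3tautjacobian MvPolynomial

variable {g : ℕ}

lemma mem_idx {p : ℕ × ℕ} (h : Valid g p) : p ∈ idx g := by
  obtain ⟨h1, h2, -, -⟩ := h
  simp only [idx, Finset.mem_product, Finset.mem_range]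
  omega

lemma not_valid_zero : ¬ Valid g (0, 0) := fun h => h.2.2.2 rfl

lemma valid_two (hg : 1 ≤ g) : Valid g (2, 0) := by
  refine ⟨?_, ?_, ?_, ?_⟩ <;> simp
  omega

noncomputable instance : Fintype {p : ℕ × ℕ // Valid g p} :=
  Fintype.subtype ((idx g).filter (Valid g)) (fun p => by
    simp only [Finset.mem_filter, and_iff_right_iff_imp]; exact mem_idx)

/-- The integral bidegree. -/
def W (g : ℕ) (v : Var g) : ℤ × ℤ := (((wt g v).1 : ℤ), ((wt g v).2 : ℤ))

lemma xv_var (p : {p : ℕ × ℕ // Valid g p}) :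
    xv g (p.1.1 : ℤ) (p.1.2 : ℤ) = X (some p) := by
  have hne : ¬ ((p.1.1 : ℤ) = 0 ∧ (p.1.2 : ℤ) = 0) := fun h =>
    p.2.2.2.2 (Prod.ext (by exact_mod_cast h.1) (by exact_mod_cast h.2))
  rw [xv, if_neg hne, dif_pos ⟨Int.natCast_nonneg _, Int.natCast_nonneg _, by
    simpa using p.2⟩]
  congr 2

lemma dv_var (p : {p : ℕ × ℕ // Valid g p}) (P : RelRing g) :
    dv g p.1 P = pderiv (some p) P := by
  rw [dv, dif_pos p.2]

lemma weight_W (d : Var g →₀ ℕ) :
    Finsupp.weight (W g) d =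
      (((Finsupp.weight (wt g) d).1 : ℤ), ((Finsupp.weight (wt g) d).2 : ℤ)) := by
  induction d using Finsupp.induction with
  | zero => simp [Prod.zero_eq_mk]
  | single_add a b f _ _ ih =>
    rw [map_add, map_add, ih, Finsupp.weight_single, Finsupp.weight_single]
    simp [W, Prod.ext_iff, Prod.smul_fst, Prod.smul_snd]

lemma isWH_of_wt {P : RelRing g} {i n : ℕ} (h : IsWeightedHomogeneous (wt g) P ((i, n) : ℕ × ℕ)) :
    IsWeightedHomogeneous (W g) P ((i : ℤ), (n : ℤ)) := fun d hd => by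
  rw [weight_W, h hd]

lemma eq_zero_of_neg {P : RelRing g} {i n : ℤ} (h : IsWeightedHomogeneous (W g) P (i, n))
    (hi : i < 0 ∨ n < 0) : P = 0 := by
  ext d
  by_contra hd
  have := h hd
  rw [weight_W, Prod.ext_iff] at this
  dsimp only at this
  omega

lemma natCast_isWH (c : ℕ) : IsWeightedHomogeneous (W g) (c : RelRing g) (0, 0) :=
  isWeightedHomogeneous_C _ (c : ℚ)

lemma xv_isWH (i j : ℤ) : IsWeightedHomogeneous (W g) (xv g i j) (i, j) := by
  rw [xv]
  split_ifs with h h'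
  · rw [h.1, h.2]; exact natCast_isWH g
  · convert isWeightedHomogeneous_X (R := ℚ) (W g) (some (⟨(i.toNat, j.toNat), h'.2.2⟩ :
      {p : ℕ × ℕ // Valid g p})) using 1
    simp [W, wt, h'.1, h'.2.1]
  · exact isWeightedHomogeneous_zero _ _ _

lemma dv_isWH {P : RelRing g} {m : ℤ × ℤ} (h : IsWeightedHomogeneous (W g) P m) (p : ℕ × ℕ) :
    IsWeightedHomogeneous (W g) (dv g p P) (m - ((p.1 : ℤ), (p.2 : ℤ))) := by
  rw [dv]
  split_ifs with hp
  · exact h.pderiv (by simp [W, wt, sub_add_cancel])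
  · exact isWeightedHomogeneous_zero _ _ _

lemma F_isWH {P : RelRing g} {i n : ℤ} (h : IsWeightedHomogeneous (W g) P (i, n)) :
    IsWeightedHomogeneous (W g) (F g P) (i - 2, n) := by
  rw [W4c3tautjacobian.F]
  refine IsWeightedHomogeneous.add ?_ (IsWeightedHomogeneous.sum _ _ _ fun p _ => ?_)
  · refine Submodule.smul_mem (weightedHomogeneousSubmodule ℚ (W g) _) _
      (IsWeightedHomogeneous.sum _ _ _ fun p _ => IsWeightedHomogeneous.sum _ _ _ fun q _ => ?_)
    rw [sub_mul]
    refine IsWeightedHomogeneous.sub ?_ ?_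
    · convert (((isWeightedHomogeneous_X (R := ℚ) (W g) none).mul (xv_isWH _ _)).mul
        (xv_isWH _ _)).mul (dv_isWH (dv_isWH h q) p) using 1
      · rfl
      · simp only [W, wt, Prod.mk_add_mk, Prod.mk_sub_mk, Prod.mk.injEq]
        push_cast
        omega
    · convert ((natCast_isWH _).mul (xv_isWH _ _)).mul (dv_isWH (dv_isWH h q) p) using 1
      · rfl
      · simp only [Prod.mk_add_mk, Prod.mk_sub_mk, Prod.mk.injEq]
        omega
  · convert (xv_isWH _ _).mul (dv_isWH h p) using 1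
    simp only [Prod.mk_add_mk, Prod.mk_sub_mk, Prod.mk.injEq]
    omega

lemma iterate_F_isWH {P : RelRing g} {i n : ℤ} (h : IsWeightedHomogeneous (W g) P (i, n)) :
    ∀ k : ℕ, IsWeightedHomogeneous (W g) ((F g)^[k] P) (i - 2 * k, n)
  | 0 => by simpa using h
  | k + 1 => by
    rw [Function.iterate_succ_apply']
    convert F_isWH (iterate_F_isWH h k) using 2
    push_cast; ring

lemma mergeCoeff_comm (i k : ℕ) : mergeCoeff i k = mergeCoeff k i := by
  unfold mergeCoeff
  by_cases h : i = 0 ∨ k = 0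
  · rw [if_pos h, if_pos h.symm]
  · rw [if_neg h, if_neg fun h' => h h'.symm, add_comm k i]
    rw [← Nat.choose_symm (show k - 1 ≤ i + k - 2 by omega)]
    congr 1
    omega

lemma mergeCoeff_two (k : ℕ) : mergeCoeff 2 k = k := by
  unfold mergeCoeff
  rcases k with _ | k
  · simp
  · rw [if_neg (by simp), show 2 + (k + 1) - 2 = k + 1 by omega, show 2 - 1 = 1 from rfl,
      Nat.choose_one_right]

/-- The coefficient of the second order part. -/
noncomputable def cc (g : ℕ) (p q : ℕ × ℕ) : RelRing g :=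
  X none * xv g ((p.1 : ℤ) - 1) ((p.2 : ℤ) - 1) * xv g ((q.1 : ℤ) - 1) ((q.2 : ℤ) - 1)
    - (mergeCoeff p.1 q.1 : RelRing g) * xv g ((p.1 : ℤ) + q.1 - 2) ((p.2 : ℤ) + q.2)

lemma cc_comm (p q : ℕ × ℕ) : cc g p q = cc g q p := by
  rw [cc, cc, mergeCoeff_comm, add_comm (q.1 : ℤ) p.1, add_comm (q.2 : ℤ) p.2]
  ring

lemma cc_two (q : ℕ × ℕ) :
    cc g (2, 0) q = -((q.1 : RelRing g) * xv g (q.1 : ℤ) (q.2 : ℤ)) := by
  rw [cc, mergeCoeff_two]
  have : xv g (1 : ℤ) (-1) = 0 := by
    rw [xv, if_neg (by simp), dif_neg (by simp)]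
  simp [this]

lemma F_eq (P : RelRing g) : F g P = (1 / 2 : ℚ) • (∑ p ∈ idx g, ∑ q ∈ idx g,
    cc g p q * dv g p (dv g q P)) + ∑ p ∈ idx g, xv g ((p.1 : ℤ) - 2) (p.2 : ℤ) * dv g p P := rfl

lemma dv_add (p : ℕ × ℕ) (P Q : RelRing g) : dv g p (P + Q) = dv g p P + dv g p Q := by
  unfold dv; split_ifs <;> simp

lemma dv_smul (p : ℕ × ℕ) (c : ℚ) (P : RelRing g) : dv g p (c • P) = c • dv g p P := by
  unfold dv; split_ifs <;> simp [Derivation.map_smul]

lemma F_add (P Q : RelRing g) : F g (P + Q) = F g P + F g Q := by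
  simp only [F_eq, dv_add, mul_add, Finset.sum_add_distrib, smul_add]
  abel

lemma F_smul (c : ℚ) (P : RelRing g) : F g (c • P) = c • F g P := by
  simp only [F_eq, dv_smul, mul_smul_comm, ← Finset.smul_sum, smul_add, smul_comm c (1 / 2 : ℚ)]

lemma F_zero : F g (0 : RelRing g) = 0 := by
  simpa using F_smul (0 : ℚ) (0 : RelRing g)

lemma dv_E (hg : 1 ≤ g) (p : ℕ × ℕ) (P : RelRing g) :
    dv g p (E g P) = (if p = (2, 0) then P else 0) + E g (dv g p P) := by
  have hx : xv g 2 0 = X (some (⟨(2, 0), valid_two hg⟩ : {p : ℕ × ℕ // Valid g p})) :=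
    xv_var ⟨(2, 0), valid_two hg⟩
  simp only [E, hx]
  by_cases hp : Valid g p
  · rw [dv, dif_pos hp, dv, dif_pos hp, Derivation.leibniz, smul_eq_mul, smul_eq_mul, add_comm]
    congr 1
    by_cases h : p = (2, 0)
    · subst h; rw [pderiv_X_self, mul_one, if_pos rfl]
    · rw [pderiv_X_of_ne (by simpa using Ne.symm h), mul_zero, if_neg h]
  · rw [dv, dif_neg hp, dv, dif_neg hp, mul_zero,
      if_neg (fun h => hp (by subst h; exact valid_two hg)), add_zero]

lemma sum_idx_eq (f : ℕ × ℕ → RelRing g) (hf : ∀ p, ¬ Valid g p → f p = 0) :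
    ∑ p ∈ idx g, f p = ∑ p : {p : ℕ × ℕ // Valid g p}, f p.1 := by
  rw [← Finset.sum_filter_of_ne (p := Valid g) fun p _ hne => by_contra fun h => hne (hf p h)]
  exact Finset.sum_subtype _ (fun p => by
    simp only [Finset.mem_filter, and_iff_right_iff_imp]; exact mem_idx) f

lemma euler {P : RelRing g} {i n : ℕ} (h : IsWeightedHomogeneous (wt g) P ((i, n) : ℕ × ℕ)) :
    ∑ q ∈ idx g, (q.1 : RelRing g) * xv g (q.1 : ℤ) (q.2 : ℤ) * dv g q P = (i : RelRing g) * P := by
  rw [sum_idx_eq _ fun q hq => by simp [dv, hq]]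
  have h1 : IsWeightedHomogeneous (fun v => (wt g v).1) P i := fun d hd => by
    have := congrArg Prod.fst (h hd)
    dsimp only at this
    rw [← this]
    clear this hd
    induction d using Finsupp.induction with
    | zero => simp
    | single_add a b f _ _ ih =>
      rw [map_add, map_add, Prod.fst_add, ih, Finsupp.weight_single, Finsupp.weight_single]
      simp
  have := h1.sum_weight_X_mul_pderiv
  rw [Fintype.sum_option, nsmul_eq_mul] at this
  rw [← nsmul_eq_mul, ← this]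
  simp only [wt, zero_smul, zero_add, Nat.cast_zero, zero_mul]
  refine Finset.sum_congr rfl fun p _ => ?_
  rw [xv_var, dv_var, nsmul_eq_mul, mul_assoc]

/-- The commutation relation. -/
theorem F_E (hg : 1 ≤ g) {P : RelRing g} {i n : ℕ}
    (h : IsWeightedHomogeneous (wt g) P ((i, n) : ℕ × ℕ)) :
    F g (E g P) = E g (F g P) + ((g : RelRing g) - i) * P := by
  have hvv : (2, 0) ∈ idx g := mem_idx (valid_two hg)
  have h1 : ∀ p, ∑ q ∈ idx g, cc g p q * dv g p (dv g q (E g P)) =
      cc g p (2, 0) * dv g p P + (if p = (2, 0) then ∑ q ∈ idx g, cc g p q * dv g q P else 0) +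
        E g (∑ q ∈ idx g, cc g p q * dv g p (dv g q P)) := by
    intro p
    have : ∀ q, cc g p q * dv g p (dv g q (E g P)) =
        (if q = (2, 0) then cc g p q * dv g p P else 0) +
        (if p = (2, 0) then cc g p q * dv g q P else 0) +
        E g (cc g p q * dv g p (dv g q P)) := by
      intro q
      rw [dv_E hg q, dv_add, dv_E hg p]
      have h0 : dv g p (0 : RelRing g) = 0 := by simpa using dv_smul p (0 : ℚ) (0 : RelRing g)
      split_ifs <;> (try simp only [h0, E]) <;> ring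
    simp only [this, Finset.sum_add_distrib, Finset.sum_ite_eq', if_pos hvv]
    simp only [E, Finset.mul_sum]
    congr 2
    split_ifs with hp <;> simp
  have h2 : ∑ p ∈ idx g, ∑ q ∈ idx g, cc g p q * dv g p (dv g q (E g P)) =
      -(2 : RelRing g) * ((i : RelRing g) * P) +
        E g (∑ p ∈ idx g, ∑ q ∈ idx g, cc g p q * dv g p (dv g q P)) := by
    simp only [h1, Finset.sum_add_distrib, Finset.sum_ite_eq', if_pos hvv]
    simp only [E, ← Finset.mul_sum]
    simp only [cc_comm _ (2, 0), cc_two, neg_mul, Finset.sum_neg_distrib, euler h]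
    ring
  have h3 : ∑ p ∈ idx g, xv g ((p.1 : ℤ) - 2) (p.2 : ℤ) * dv g p (E g P) =
      (g : RelRing g) * P + E g (∑ p ∈ idx g, xv g ((p.1 : ℤ) - 2) (p.2 : ℤ) * dv g p P) := by
    have : ∀ p : ℕ × ℕ, xv g ((p.1 : ℤ) - 2) (p.2 : ℤ) * dv g p (E g P) =
        (if p = (2, 0) then xv g ((p.1 : ℤ) - 2) (p.2 : ℤ) * P else 0) +
        E g (xv g ((p.1 : ℤ) - 2) (p.2 : ℤ) * dv g p P) := by
      intro p
      rw [dv_E hg p]
      split_ifs <;> (try simp only [E]) <;> ring
    simp only [this, Finset.sum_add_distrib, Finset.sum_ite_eq', if_pos hvv]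
    simp only [E, Finset.mul_sum]
    congr 2
  rw [F_eq (E g P), h2, h3, F_eq P]
  simp only [E, mul_add, smul_add, mul_smul_comm, neg_mul, smul_neg]
  rw [show (1 / 2 : ℚ) • ((2 : RelRing g) * ((i : RelRing g) * P)) = (i : RelRing g) * P by
    rw [show (2 : RelRing g) = C (2 : ℚ) from (map_ofNat C 2).symm, ← MvPolynomial.smul_eq_C_mul,
      smul_smul]
    norm_num]
  ring

lemma isWH_nat {P : RelRing g} {i n : ℕ}
    (h : IsWeightedHomogeneous (W g) P ((i : ℤ), (n : ℤ))) :
    IsWeightedHomogeneous (wt g) P ((i, n) : ℕ × ℕ) := fun d hd => by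
  have := h hd
  rw [weight_W, Prod.ext_iff] at this
  dsimp only at this
  exact Prod.ext (by exact_mod_cast this.1) (by exact_mod_cast this.2)

lemma iterate_F_eq_zero {P : RelRing g} {i n k : ℕ}
    (h : IsWeightedHomogeneous (wt g) P ((i, n) : ℕ × ℕ)) (hk : i < 2 * k) :
    (F g)^[k] P = 0 :=
  eq_zero_of_neg (iterate_F_isWH (isWH_of_wt h) k) (Or.inl (by omega))

/-- `F^m E = E F^m + m (g - i + m - 1) F^(m-1)` on first degree `i`, for `2 (m - 1) ≤ i`. -/
lemma iterate_F_E (hg : 1 ≤ g) {P : RelRing g} {i n : ℕ}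
    (h : IsWeightedHomogeneous (wt g) P ((i, n) : ℕ × ℕ)) :
    ∀ m : ℕ, 2 * m ≤ i → (F g)^[m + 1] (E g P) = E g ((F g)^[m + 1] P) +
      ((m + 1 : ℕ) : RelRing g) * ((g : RelRing g) - i + m) * (F g)^[m] P
  | 0, _ => by
    simp only [Function.iterate_one, zero_add, Nat.cast_one, Nat.cast_zero, add_zero, one_mul,
      Function.iterate_zero, id]
    exact F_E hg h
  | m + 1, hm => by
    have hlin : ∀ (c : RelRing g) (q : ℚ) (Q : RelRing g), c = C q →
        F g (c * Q) = c * F g Q := fun c q Q hc => by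
      rw [hc, ← MvPolynomial.smul_eq_C_mul, F_smul, MvPolynomial.smul_eq_C_mul]
    have hd : IsWeightedHomogeneous (wt g) ((F g)^[m + 1] P) ((i - 2 * (m + 1), n) : ℕ × ℕ) := by
      apply isWH_nat
      convert iterate_F_isWH (isWH_of_wt h) (m + 1) using 2
      push_cast [Nat.cast_sub hm]; ring
    rw [Function.iterate_succ_apply', iterate_F_E hg h m (by omega), F_add, F_E hg hd,
      hlin _ (((m + 1 : ℕ) : ℚ) * ((g : ℚ) - i + m)) _ (by simp [map_sub, map_add, map_natCast]),
      ← Function.iterate_succ_apply' (F g), ← Function.iterate_succ_apply' (F g), Nat.cast_sub hm]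
    push_cast
    ring

/-- The top relation. -/
theorem iterate_F_E_top (hg : 1 ≤ g) {P : RelRing g} {n : ℕ}
    (h : IsWeightedHomogeneous (wt g) P ((2 * g, n) : ℕ × ℕ)) :
    (F g)^[g + 1] (E g P) = 0 := by
  rw [iterate_F_E hg h g le_rfl, iterate_F_eq_zero h (by omega)]
  simp only [E, mul_zero, zero_add]
  push_cast
  ring

end Groth.Agent.L13.TautJac
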