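import Groth.Agent.L13.TautJac
import Mathlib.RingTheory.Adjoin.Basic

/-!
The relation ideal in first degree zero: vanishing in low second degree and generation by the low
symbols.
-/

set_option autoImplicit false

namespace Groth.Agent.L13.TautJac

open W4c3tautjacobian MvPolynomial

variable {g : ℕ}

lemma exists_two_of_weight (d : Var g →₀ ℕ) {i n : ℕ}
    (hd : Finsupp.weight (wt g) d = ((i, n) : ℕ × ℕ)) (hin : 3 * n < i) :
    ∃ h : Valid g (2, 0), 1 ≤ d (some ⟨(2, 0), h⟩) := by
  by_contra hne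
  push Not at hne
  have : ∀ e : Var g →₀ ℕ, (∀ v, d v = 0 → e v = 0) →
      (Finsupp.weight (wt g) e).1 ≤ 3 * (Finsupp.weight (wt g) e).2 := by
    intro e
    induction e using Finsupp.induction with
    | zero => simp
    | single_add a b f ha hb ih =>
      intro hsupp
      have hf : ∀ v, d v = 0 → f v = 0 := fun v hv => by
        have := hsupp v hv
        rw [Finsupp.add_apply] at this
        omega
      have hda : d a ≠ 0 := fun h0 => hb (by
        have := hsupp a h0
        rw [Finsupp.add_apply, Finsupp.single_eq_same] at this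
        omega)
      have hw : (wt g a).1 ≤ 3 * (wt g a).2 := by
        match a with
        | none => simp [wt]
        | some ⟨(p, q), hpq⟩ =>
          obtain ⟨h1, h2, h3, h4⟩ := id hpq
          show p ≤ 3 * q
          dsimp only at h1 h3
          rcases Nat.eq_zero_or_pos q with rfl | hq
          · exfalso
            have hp : p = 2 := by
              rw [add_zero] at h3
              obtain ⟨c, rfl⟩ := h3
              rcases Nat.eq_zero_or_pos c with rfl | hc
              · exact absurd rfl h4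
              · omega
            subst hp
            exact hda (Nat.lt_one_iff.mp (hne hpq))
          · omega
      rw [map_add, Finsupp.weight_single, Prod.fst_add, Prod.snd_add, Prod.smul_fst,
        Prod.smul_snd, smul_eq_mul, smul_eq_mul]
      have := ih hf
      nlinarith [Nat.mul_le_mul_left b hw]
  have := this d fun v hv => hv
  rw [hd] at this
  dsimp only at this
  omega

/-- Monomials of high first degree and low second degree are killed by the top power of `F`. -/
lemma iterate_F_monomial_eq_zero (hg : 1 ≤ g) {n : ℕ} (hn : 3 * n ≤ 2 * g) :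
    ∀ (k : ℕ) (d : Var g →₀ ℕ), g < k →
      Finsupp.weight (wt g) d = ((2 * k, n) : ℕ × ℕ) → (F g)^[k] (monomial d 1) = 0 := by
  intro k
  induction k with
  | zero => intro d h; omega
  | succ k ih =>
    intro d hk hd
    obtain ⟨h20, hpos⟩ := exists_two_of_weight d hd (by omega)
    set v : Var g := some ⟨(2, 0), h20⟩
    obtain ⟨d', rfl⟩ : ∃ d', d = Finsupp.single v 1 + d' :=
      ⟨d - Finsupp.single v 1, (add_tsub_cancel_of_le (Finsupp.single_le_iff.mpr hpos)).symm⟩
    have hd' : Finsupp.weight (wt g) d' = ((2 * k, n) : ℕ × ℕ) := by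
      rw [map_add, Finsupp.weight_single, one_smul, Prod.ext_iff, Prod.fst_add, Prod.snd_add] at hd
      have e1 : (wt g v).1 = 2 := rfl
      have e2 : (wt g v).2 = 0 := rfl
      exact Prod.ext (by have := hd.1; simp only [e1] at this; dsimp only at this ⊢; omega)
        (by have := hd.2; simp only [e2] at this; dsimp only at this ⊢; omega)
    have hE : monomial (Finsupp.single v 1 + d') 1 = E g (monomial d' 1) := by
      rw [monomial_single_add, pow_one, E,
        show xv g 2 0 = X v from xv_var ⟨(2, 0), h20⟩]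
    have hhom : IsWeightedHomogeneous (wt g) (monomial d' (1 : ℚ)) ((2 * k, n) : ℕ × ℕ) :=
      isWeightedHomogeneous_monomial _ _ _ hd'
    rw [hE]
    rcases eq_or_lt_of_le (show g + 1 ≤ k + 1 by omega) with h | h
    · obtain rfl : k = g := by omega
      exact iterate_F_E_top hg hhom
    · rw [iterate_F_E hg hhom k le_rfl, iterate_F_eq_zero hhom (by omega), ih d' (by omega) hd']
      simp [E]

/-- The relation ideal is zero in first degree zero and low second degree. -/
theorem coeff_relIdeal_eq_zero (hg : 1 ≤ g) {n : ℕ} (hn : 3 * n ≤ 2 * g) {z : RelRing g}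
    (hz : z ∈ relIdeal g) :
    ∀ d : Var g →₀ ℕ, (Finsupp.weight (wt g) d).1 = 0 → (Finsupp.weight (wt g) d).2 ≤ n →
      coeff d z = 0 := by
  classical
  refine Submodule.span_induction (p := fun z _ => ∀ d : Var g →₀ ℕ,
    (Finsupp.weight (wt g) d).1 = 0 → (Finsupp.weight (wt g) d).2 ≤ n → coeff d z = 0) ?_ ?_ ?_ ?_ hz
  · rintro _ ⟨e, m, he, rfl⟩ d hd1 hd2
    by_contra hne
    set i := (Finsupp.weight (wt g) e).1
    set n' := (Finsupp.weight (wt g) e).2
    have he' : Finsupp.weight (wt g) e = ((i, n') : ℕ × ℕ) := rfl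
    have := iterate_F_isWH (isWH_of_wt (isWeightedHomogeneous_monomial _ e (1 : ℚ) he')) m hne
    rw [weight_W, Prod.ext_iff] at this
    dsimp only at this
    have hm : i = 2 * m := by omega
    have hn' : n' ≤ n := by omega
    rw [iterate_F_monomial_eq_zero hg (n := n') (by omega) m e (by omega) (by rw [he', hm]),
      coeff_zero] at hne
    exact hne rfl
  · intro d _ _; exact coeff_zero d
  · intro a b _ _ ha hb d h1 h2
    rw [coeff_add, ha d h1 h2, hb d h1 h2, add_zero]
  · intro s z _ hz d h1 h2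
    rw [smul_eq_mul, coeff_mul]
    refine Finset.sum_eq_zero fun x hx => ?_
    rw [Finset.mem_antidiagonal] at hx
    rw [← hx, map_add, Prod.fst_add] at h1
    rw [← hx, map_add, Prod.snd_add] at h2
    rw [hz x.2 (by omega) (by omega), mul_zero]

/-- Non-negative coefficients. -/
def NN (P : RelRing g) : Prop := ∀ d, 0 ≤ coeff d P

lemma NN.zero : NN (0 : RelRing g) := fun d => (coeff_zero d).symm.le

lemma NN.add {P Q : RelRing g} (hP : NN P) (hQ : NN Q) : NN (P + Q) := fun d => by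
  rw [coeff_add]; exact add_nonneg (hP d) (hQ d)

lemma NN.mul {P Q : RelRing g} (hP : NN P) (hQ : NN Q) : NN (P * Q) := fun d => by
  classical
  rw [coeff_mul]; exact Finset.sum_nonneg fun x _ => mul_nonneg (hP _) (hQ _)

lemma NN.C {c : ℚ} (hc : 0 ≤ c) : NN (MvPolynomial.C c : RelRing g) := fun d => by
  classical
  rw [coeff_C]; split_ifs <;> simp [hc]

lemma NN.natCast (c : ℕ) : NN (c : RelRing g) := by
  have := NN.C (g := g) (c := (c : ℚ)) (Nat.cast_nonneg c)
  rwa [map_natCast] at this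

lemma NN.pow {P : RelRing g} (hP : NN P) : ∀ n : ℕ, NN (P ^ n)
  | 0 => by simpa using NN.natCast (g := g) 1
  | n + 1 => by rw [pow_succ]; exact (hP.pow n).mul hP

lemma NN.smul {c : ℚ} (hc : 0 ≤ c) {P : RelRing g} (hP : NN P) : NN (c • P) := fun d => by
  rw [coeff_smul]; exact mul_nonneg hc (hP d)

lemma NN.X (v : Var g) : NN (MvPolynomial.X v : RelRing g) := fun d => by
  classical
  rw [coeff_X]; split_ifs <;> simp

lemma NN.sum {ι : Type*} (s : Finset ι) {f : ι → RelRing g} (h : ∀ i ∈ s, NN (f i)) :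
    NN (∑ i ∈ s, f i) := fun d => by
  rw [coeff_sum]; exact Finset.sum_nonneg fun i hi => h i hi d

lemma NN.pderiv {P : RelRing g} (hP : NN P) (v : Var g) : NN (pderiv v P) := fun d => by
  rw [coeff_pderiv]
  exact mul_nonneg (hP _) (add_nonneg (Nat.cast_nonneg _) zero_le_one)

lemma NN.dv {P : RelRing g} (hP : NN P) (p : ℕ × ℕ) : NN (dv g p P) := by
  unfold W4c3tautjacobian.dv; split_ifs
  · exact hP.pderiv _
  · exact NN.zero

lemma NN.xv (i j : ℤ) : NN (xv g i j) := by
  unfold W4c3tautjacobian.xv; split_ifs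
  · exact NN.natCast g
  · exact NN.X _
  · exact NN.zero

/-- The positive model of `F` modulo `y`, with the signs of all symbols changed. -/
noncomputable def G (g : ℕ) (Q : RelRing g) : RelRing g :=
  (1 / 2 : ℚ) • (∑ p ∈ idx g, ∑ q ∈ idx g,
      (mergeCoeff p.1 q.1 : RelRing g) * xv g ((p.1 : ℤ) + q.1 - 2) ((p.2 : ℤ) + q.2) *
        dv g p (dv g q Q)) +
    ∑ p ∈ (idx g).filter (fun p => 1 ≤ p.2), xv g ((p.1 : ℤ) - 2) (p.2 : ℤ) * dv g p Q

lemma G_add (P Q : RelRing g) : G g (P + Q) = G g P + G g Q := by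
  simp only [G, dv_add, mul_add, Finset.sum_add_distrib, smul_add]
  abel

lemma G_smul (c : ℚ) (P : RelRing g) : G g (c • P) = c • G g P := by
  simp only [G, dv_smul, mul_smul_comm, ← Finset.smul_sum, smul_add, smul_comm c (1 / 2 : ℚ)]

lemma NN.G {P : RelRing g} (hP : NN P) : NN (G g P) :=
  (NN.smul (by norm_num) (NN.sum _ fun p _ => NN.sum _ fun q _ =>
    ((NN.natCast _).mul (NN.xv _ _)).mul ((hP.dv q).dv p))).add
    (NN.sum _ fun p _ => (NN.xv _ _).mul (hP.dv p))

/-- `Q` dominates a positive multiple of `T`. -/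
def Dom (Q T : RelRing g) : Prop := ∃ c : ℚ, 0 < c ∧ NN (Q - c • T)

lemma Dom.of_nn {Q T : RelRing g} (h : NN (Q - T)) : Dom Q T :=
  ⟨1, one_pos, by rwa [one_smul]⟩

lemma Dom.trans {Q T U : RelRing g} (h : Dom Q T) (h' : Dom T U) : Dom Q U := by
  obtain ⟨c, hc, h⟩ := h
  obtain ⟨c', hc', h'⟩ := h'
  refine ⟨c * c', mul_pos hc hc', ?_⟩
  rw [show Q - (c * c') • U = (Q - c • T) + c • (T - c' • U) by rw [smul_sub, smul_smul]; abel]
  exact h.add (NN.smul hc.le h')

lemma Dom.G {Q T : RelRing g} (h : Dom Q T) : Dom (G g Q) (G g T) := by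
  obtain ⟨c, hc, h⟩ := h
  refine ⟨c, hc, ?_⟩
  have := h.G
  rwa [sub_eq_add_neg, ← neg_smul, G_add, G_smul, neg_smul, ← sub_eq_add_neg] at this

/-- The variable `x i j` is absent. -/
def Free (p : ℕ × ℕ) (Q : RelRing g) : Prop := dv g p Q = 0

lemma dv_comm (p q : ℕ × ℕ) (P : RelRing g) : dv g p (dv g q P) = dv g q (dv g p P) := by
  classical
  by_cases hp : Valid g p
  · by_cases hq : Valid g q
    · rw [dv_var ⟨p, hp⟩, dv_var ⟨q, hq⟩, dv_var ⟨q, hq⟩, dv_var ⟨p, hp⟩]
      induction P using MvPolynomial.induction_on with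
      | C c => simp
      | add x y hx hy => simp [hx, hy]
      | mul_X x v hx =>
        simp only [Derivation.leibniz, map_add, smul_eq_mul, pderiv_X, Pi.single_apply, hx]
        split_ifs <;>
          (try simp [pderiv_X, Pi.single_apply]) <;> (try split_ifs) <;> (try simp) <;> (try ring)
    · simp [W4c3tautjacobian.dv, hq]
  · simp [W4c3tautjacobian.dv, hp]

lemma Free.mul {p : ℕ × ℕ} {P Q : RelRing g} (hP : Free p P) (hQ : Free p Q) : Free p (P * Q) := by
  unfold Free dv at *
  split_ifs with h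
  · rw [dif_pos h] at hP hQ
    rw [Derivation.leibniz, hP, hQ, smul_zero, smul_zero, add_zero]
  · rfl

lemma Free.natCast (p : ℕ × ℕ) (c : ℕ) : Free p (c : RelRing g) := by
  unfold Free dv
  split_ifs
  · exact Derivation.map_natCast _ c
  · rfl

lemma Free.X {p : ℕ × ℕ} (q : {p : ℕ × ℕ // Valid g p}) (h : q.1 ≠ p) :
    Free p (MvPolynomial.X (some q) : RelRing g) := by
  unfold Free dv
  split_ifs with hp
  · exact pderiv_X_of_ne fun e => h (congrArg Subtype.val (Option.some_injective _ e))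
  · rfl

lemma Free.xv_of_pos {i j : ℤ} (hj : 1 ≤ j) : Free (2, 0) (xv g i j) := by
  unfold W4c3tautjacobian.xv
  rw [if_neg (by omega)]
  split_ifs with h
  · exact Free.X _ (fun e => by simp only [Prod.ext_iff] at e; omega)
  · exact dv_smul (2, 0) (0 : ℚ) (0 : RelRing g) |> fun e => by simpa [Free] using e

lemma Free.add {p : ℕ × ℕ} {P Q : RelRing g} (hP : Free p P) (hQ : Free p Q) : Free p (P + Q) := by
  unfold Free at *; rw [dv_add, hP, hQ, add_zero]

lemma Free.sum {ι : Type*} (p : ℕ × ℕ) (s : Finset ι) {f : ι → RelRing g}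
    (h : ∀ i ∈ s, Free p (f i)) : Free p (∑ i ∈ s, f i) :=
  Finset.sum_induction _ (Free p) (fun _ _ => Free.add)
    (by simpa [Free] using dv_smul p (0 : ℚ) (0 : RelRing g)) h

lemma Free.dv {p : ℕ × ℕ} {P : RelRing g} (hP : Free p P) (q : ℕ × ℕ) : Free p (dv g q P) := by
  unfold Free at *
  rw [dv_comm, hP]
  simpa using dv_smul q (0 : ℚ) (0 : RelRing g)

lemma dv_eq_zero_of_snd {Q : RelRing g} (hQ : Free (2, 0) Q) {p : ℕ × ℕ} (hp : p.2 = 0) :
    dv g p Q = 0 := by
  by_cases h : Valid g p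
  · obtain ⟨h1, -, h3, h4⟩ := id h
    obtain ⟨a, b⟩ := p
    dsimp only at hp h1 h3
    subst hp
    obtain ⟨c, hc⟩ := h3
    have : c ≠ 0 := fun e => h4 (by ext <;> simp only <;> omega)
    obtain rfl : a = 2 := by omega
    exact hQ
  · simp [W4c3tautjacobian.dv, h]

lemma Free.G {Q : RelRing g} (hQ : Free (2, 0) Q) : Free (2, 0) (G g Q) := by
  refine Free.add ?_ (Free.sum _ _ fun p hp => ?_)
  · unfold Free
    rw [dv_smul, show W4c3tautjacobian.dv g (2, 0) _ = 0 from Free.sum _ _ fun p _ => Free.sum _ _ fun q _ => ?_,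
      smul_zero]
    by_cases hp : p.2 = 0
    · rw [dv_comm p q, dv_eq_zero_of_snd hQ hp,
        show W4c3tautjacobian.dv g q (0 : RelRing g) = 0 by simpa using dv_smul q (0 : ℚ) (0 : RelRing g), mul_zero]
      simpa [Free] using dv_smul (2, 0) (0 : ℚ) (0 : RelRing g)
    · exact ((Free.natCast _ _).mul (Free.xv_of_pos (by omega))).mul ((hQ.dv q).dv p)
  · exact (Free.xv_of_pos (by simpa using (Finset.mem_filter.mp hp).2)).mul (hQ.dv p)

/-- Kill `y` and change the signs of the symbols. -/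
noncomputable def σ (g : ℕ) : RelRing g →ₐ[ℚ] RelRing g :=
  aeval fun v => match v with
    | none => 0
    | some p => -X (some p)

lemma σ_pderiv (p : {p : ℕ × ℕ // Valid g p}) (P : RelRing g) :
    σ g (pderiv (some p) P) = -pderiv (some p) (σ g P) := by
  induction P using MvPolynomial.induction_on with
  | C c => simp [σ]
  | add a b ha hb => rw [map_add, map_add, ha, hb, map_add, map_add, neg_add]
  | mul_X a v ha =>
    rw [Derivation.leibniz, map_add, smul_eq_mul, smul_eq_mul, map_mul, map_mul, ha, map_mul,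
      Derivation.leibniz, smul_eq_mul, smul_eq_mul]
    rcases v with _ | q
    · simp [σ, pderiv_X_of_ne]
    · have hX : σ g (X (some q)) = -X (some q) := by simp [σ]
      rw [hX, map_neg]
      by_cases h : q = p
      · subst h; simp [pderiv_X_self]; ring
      · rw [pderiv_X_of_ne (by simpa using h), map_zero]; ring

lemma σ_dv (p : ℕ × ℕ) (P : RelRing g) : σ g (dv g p P) = -dv g p (σ g P) := by
  unfold dv
  split_ifs
  · exact σ_pderiv _ P
  · simp

lemma σ_xv {i j : ℤ} (h : ¬ (i = 0 ∧ j = 0)) : σ g (xv g i j) = -xv g i j := by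
  unfold xv
  rw [if_neg h]
  split_ifs <;> simp [σ]

lemma σ_F {P : RelRing g} (h : Free (2, 0) (σ g P)) : σ g (F g P) = G g (σ g P) := by
  have h0 : ∀ p : ℕ × ℕ, dv g p (0 : RelRing g) = 0 := fun p => by
    simpa using dv_smul p (0 : ℚ) (0 : RelRing g)
  have hneg : ∀ (p : ℕ × ℕ) (Q : RelRing g), dv g p (-Q) = -dv g p Q := fun p Q => by
    simpa using dv_smul p (-1 : ℚ) Q
  rw [F_eq, map_add, map_smul, map_sum, G]
  congr 1
  · congr 1
    refine Finset.sum_congr rfl fun p _ => ?_
    rw [map_sum]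
    refine Finset.sum_congr rfl fun q _ => ?_
    rw [map_mul, σ_dv, σ_dv, hneg, neg_neg]
    by_cases hp : p.2 = 0
    · rw [dv_comm p q, dv_eq_zero_of_snd h hp, h0, mul_zero, mul_zero]
    · rw [cc, map_sub, map_mul, map_mul, map_mul, map_natCast, σ_xv (i := (p.1 : ℤ) + q.1 - 2)
        (by omega), show σ g (X none) = 0 by simp [σ]]
      ring
  · rw [map_sum, Finset.sum_filter]
    refine Finset.sum_congr rfl fun p _ => ?_
    rw [map_mul, σ_dv]
    split_ifs with hp
    · rw [σ_xv (by omega)]; ring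
    · rw [dv_eq_zero_of_snd h (by omega), neg_zero, mul_zero]

lemma sub_single_nn {ι : Type*} {s : Finset ι} {f : ι → RelRing g} (hf : ∀ i ∈ s, NN (f i)) {a : ι}
    (ha : a ∈ s) : NN (∑ i ∈ s, f i - f a) := by
  classical
  rw [← Finset.add_sum_erase _ _ ha, add_sub_cancel_left]
  exact NN.sum _ fun i hi => hf i (Finset.mem_of_mem_erase hi)

lemma NN.sub_X_mul_pderiv {S : RelRing g} (hS : NN S) (v : Var g) :
    NN (MvPolynomial.pderiv v (MvPolynomial.X v * S) - S) := by
  rw [Derivation.leibniz, pderiv_X_self, smul_eq_mul, smul_eq_mul, mul_one, add_sub_cancel_right]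
  exact (NN.X v).mul (hS.pderiv v)

lemma dom_merge {p q : {p : ℕ × ℕ // Valid g p}} {R : RelRing g} (hR : NN R)
    (hm : 0 < mergeCoeff p.1.1 q.1.1) :
    Dom (G g (X (some p) * X (some q) * R))
      (xv g ((p.1.1 : ℤ) + q.1.1 - 2) ((p.1.2 : ℤ) + q.1.2) * R) := by
  set T : RelRing g := X (some p) * X (some q) * R with hTdef
  have hT : NN T := ((NN.X _).mul (NN.X _)).mul hR
  set x := xv g ((p.1.1 : ℤ) + q.1.1 - 2) ((p.1.2 : ℤ) + q.1.2)
  have hd : NN (dv g p.1 (dv g q.1 T) - R) := by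
    rw [dv_var q, dv_var p]
    have h1 : NN (pderiv (some q) T - X (some p) * R) := by
      rw [hTdef, show X (some p) * X (some q) * R = X (some q) * (X (some p) * R) by ring]
      exact ((NN.X _).mul hR).sub_X_mul_pderiv _
    have h2 := h1.pderiv (some p)
    rw [map_sub] at h2
    rw [show pderiv (some p) (pderiv (some q) T) - R =
      (pderiv (some p) (pderiv (some q) T) - pderiv (some p) (X (some p) * R)) +
      (pderiv (some p) (X (some p) * R) - R) by abel]
    exact h2.add (hR.sub_X_mul_pderiv _)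
  set c : ℚ := (1 / 2) * (mergeCoeff p.1.1 q.1.1 : ℚ) with hc
  refine ⟨c, by rw [hc]; positivity, ?_⟩
  set f : ℕ × ℕ → ℕ × ℕ → RelRing g := fun a b =>
    (mergeCoeff a.1 b.1 : RelRing g) * xv g ((a.1 : ℤ) + b.1 - 2) ((a.2 : ℤ) + b.2) *
      dv g a (dv g b T)
  have hf : ∀ a b, NN (f a b) := fun a b =>
    ((NN.natCast _).mul (NN.xv _ _)).mul ((hT.dv b).dv a)
  have e : G g T - c • (x * R) =
      (1 / 2 : ℚ) • (∑ a ∈ idx g, ∑ b ∈ idx g, f a b - ∑ b ∈ idx g, f p.1 b) +
      (1 / 2 : ℚ) • (∑ b ∈ idx g, f p.1 b - f p.1 q.1) +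
      c • (x * (dv g p.1 (dv g q.1 T) - R)) +
      ∑ a ∈ (idx g).filter (fun a => 1 ≤ a.2), xv g ((a.1 : ℤ) - 2) (a.2 : ℤ) * dv g a T := by
    have hfc : (1 / 2 : ℚ) • f p.1 q.1 = c • (x * dv g p.1 (dv g q.1 T)) := by
      simp only [f, x, hc, MvPolynomial.smul_eq_C_mul, map_mul, map_natCast]
      ring
    rw [mul_sub, smul_sub, smul_sub, smul_sub, hfc, W4c3tautjacobian.dv]
    simp only [G, f]
    abel
  rw [e]
  refine ((NN.add (NN.smul (by norm_num) (sub_single_nn (fun a _ => NN.sum _ fun b _ => hf a b)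
    (mem_idx p.2))) (NN.smul (by norm_num) (sub_single_nn (fun b _ => hf p.1 b) (mem_idx q.2)))).add
      ?_).add (NN.sum _ fun a _ => (NN.xv _ _).mul (hT.dv a))
  exact NN.smul (by rw [hc]; positivity) ((NN.xv _ _).mul hd)

lemma dom_step {p : {p : ℕ × ℕ // Valid g p}} (hp : 1 ≤ p.1.2) :
    Dom (G g (X (some p) : RelRing g)) (xv g ((p.1.1 : ℤ) - 2) (p.1.2 : ℤ)) := by
  refine Dom.of_nn ?_
  have hd : dv g p.1 (X (some p) : RelRing g) = 1 := by rw [dv_var p, pderiv_X_self]
  have e : G g (X (some p) : RelRing g) - xv g ((p.1.1 : ℤ) - 2) (p.1.2 : ℤ) =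
      (1 / 2 : ℚ) • (∑ a ∈ idx g, ∑ b ∈ idx g,
        (mergeCoeff a.1 b.1 : RelRing g) * xv g ((a.1 : ℤ) + b.1 - 2) ((a.2 : ℤ) + b.2) *
          dv g a (dv g b (X (some p) : RelRing g))) +
      (∑ a ∈ (idx g).filter (fun a => 1 ≤ a.2),
          xv g ((a.1 : ℤ) - 2) (a.2 : ℤ) * dv g a (X (some p) : RelRing g) -
        xv g ((p.1.1 : ℤ) - 2) (p.1.2 : ℤ) * dv g p.1 (X (some p) : RelRing g)) := by
    rw [hd, mul_one]
    simp only [G]
    abel
  rw [e]
  refine (NN.smul (by norm_num) (NN.sum _ fun a _ => NN.sum _ fun b _ =>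
    ((NN.natCast _).mul (NN.xv _ _)).mul (((NN.X _).dv b).dv a))).add ?_
  exact sub_single_nn (fun a _ => (NN.xv _ _).mul ((NN.X _).dv a))
    (Finset.mem_filter.mpr ⟨mem_idx p.2, hp⟩)

lemma valid_top {t : ℕ} (h1 : 1 ≤ t) (h2 : t + 2 ≤ 2 * g) : Valid g (t + 2, t) :=
  ⟨le_refl _, h2, ⟨t + 1, by ring⟩, fun e => by simp at e⟩

lemma mergeCoeff_pos {i k : ℕ} (hi : 1 ≤ i) (hk : 1 ≤ k) : 0 < mergeCoeff i k := by
  rw [mergeCoeff, if_neg (by omega)]
  exact Nat.choose_pos (by omega)

/-- The chain of merges and steps reaching the symbol `x 0 (2 i)`. -/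
lemma dom_iterate (i : ℕ) (hi : 1 ≤ i) (hg : i + 1 ≤ g) :
    Dom ((G g)^[3 * i] (X (some ⟨(3, 1), valid_top (t := 1) le_rfl (by omega)⟩) ^ (2 * i) :
      RelRing g))
      (xv g 0 (2 * (i : ℤ))) := by
  set B : RelRing g := X (some ⟨(3, 1), valid_top (t := 1) le_rfl (by omega)⟩) with hB
  have merge : ∀ s, (hs : s + 1 ≤ 2 * i) →
      Dom ((G g)^[s] (B ^ (2 * i)))
        (X (some ⟨(s + 1 + 2, s + 1), valid_top (by omega) (by omega)⟩) * B ^ (2 * i - (s + 1))) := by
    intro s
    induction s with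
    | zero =>
      intro hs
      refine Dom.of_nn ?_
      rw [Function.iterate_zero, id, hB, ← pow_succ', show 2 * i - (0 + 1) + 1 = 2 * i by omega,
        sub_self]
      exact NN.zero
    | succ s ih =>
      intro hs
      rw [Function.iterate_succ_apply']
      refine (ih (by omega)).G.trans ?_
      rw [show B ^ (2 * i - (s + 1)) = B * B ^ (2 * i - (s + 1 + 1)) by
        rw [← pow_succ']; congr 1; omega, hB, ← mul_assoc]
      have hv : Valid g (s + 1 + 1 + 2, s + 1 + 1) := valid_top (by omega) (by omega)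
      refine (dom_merge (NN.pow (NN.X _) _) ?_).trans (Dom.of_nn ?_)
      · exact mergeCoeff_pos (by dsimp only; omega) (by dsimp only; omega)
      rw [← xv_var ⟨(s + 1 + 1 + 2, s + 1 + 1), hv⟩]
      push_cast
      ring_nf
      simpa using (NN.zero (g := g))
  have h1 := merge (2 * i - 1) (by omega)
  rw [show 2 * i - (2 * i - 1 + 1) = 0 by omega, pow_zero, mul_one] at h1
  have steps : ∀ t, t ≤ i + 1 →
      Dom ((G g)^[2 * i - 1 + t] (B ^ (2 * i))) (xv g (2 * i + 2 - 2 * (t : ℤ)) (2 * (i : ℤ))) := by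
    intro t
    induction t with
    | zero =>
      intro _
      refine h1.trans (Dom.of_nn ?_)
      rw [← xv_var]
      have : (2 * i - 1 + 1 + 2 : ℕ) = 2 * i + 2 := by omega
      simp only [this, show 2 * i - 1 + 1 = 2 * i by omega]
      push_cast
      simpa using (NN.zero (g := g))
    | succ t ih =>
      intro ht
      rw [← add_assoc, Function.iterate_succ_apply']
      refine (ih (by omega)).G.trans ?_
      have hv : Valid g (2 * i + 2 - 2 * t, 2 * i) := by
        refine ⟨by dsimp only; omega, by dsimp only; omega, ⟨2 * i + 1 - t, by dsimp only; omega⟩,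
          fun e => ?_⟩
        simp only [Prod.ext_iff] at e; omega
      rw [show (2 * (i : ℤ) + 2 - 2 * (t : ℤ)) = ((2 * i + 2 - 2 * t : ℕ) : ℤ) by omega,
        show (2 * (i : ℤ)) = ((2 * i : ℕ) : ℤ) by omega, xv_var ⟨_, hv⟩]
      refine (dom_step (by dsimp only; omega)).trans (Dom.of_nn ?_)
      dsimp only
      rw [show ((2 * i + 2 - 2 * t : ℕ) : ℤ) - 2 =
        ((2 * i : ℕ) : ℤ) + 2 - 2 * ((t + 1 : ℕ) : ℤ) by omega, sub_self]
      exact NN.zero
  have h2 := steps (i + 1) le_rfl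
  rwa [show 2 * i - 1 + (i + 1) = 3 * i by omega,
    show 2 * (i : ℤ) + 2 - 2 * ((i + 1 : ℕ) : ℤ) = 0 by push_cast; ring] at h2

lemma iterate_σ_F {P : RelRing g} (h : Free (2, 0) (σ g P)) :
    ∀ k, σ g ((F g)^[k] P) = (G g)^[k] (σ g P) ∧ Free (2, 0) (σ g ((F g)^[k] P))
  | 0 => ⟨rfl, h⟩
  | k + 1 => by
    obtain ⟨e, hf⟩ := iterate_σ_F h k
    rw [Function.iterate_succ_apply', Function.iterate_succ_apply', σ_F hf, e]
    exact ⟨rfl, Free.G (e ▸ hf)⟩

lemma dv_σ_adjoin {i : ℕ} {q : RelRing g}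
    (hq : q ∈ Algebra.adjoin ℚ ({X none} ∪
      {P | ∃ j : ℕ, 1 ≤ j ∧ j < i ∧ P = xv g 0 (2 * j)})) :
    dv g (0, 2 * i) (σ g q) = 0 := by
  refine Algebra.adjoin_induction (p := fun q _ => Free (0, 2 * i) (σ g q)) ?_ ?_ ?_ ?_ hq
  · rintro x (rfl | ⟨j, hj, hji, rfl⟩)
    · simpa [σ, Free] using dv_smul (0, 2 * i) (0 : ℚ) (0 : RelRing g)
    · rw [σ_xv (by omega)]
      unfold W4c3tautjacobian.xv
      rw [if_neg (by omega)]
      split_ifs with h
      · have := Free.X (p := (0, 2 * i))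
          (⟨((0 : ℤ).toNat, (2 * (j : ℤ)).toNat), h.2.2⟩ : {p : ℕ × ℕ // Valid g p})
          (fun e => by simp only [Prod.ext_iff] at e; omega)
        unfold Free at this ⊢
        rw [show ∀ Q, dv g (0, 2 * i) (-Q) = -dv g (0, 2 * i) Q from fun Q => by
          simpa using dv_smul (0, 2 * i) (-1 : ℚ) Q, this, neg_zero]
      · simpa [Free] using dv_smul (0, 2 * i) (0 : ℚ) (0 : RelRing g)
  · intro r
    rw [AlgHom.commutes, MvPolynomial.algebraMap_eq]
    unfold Free W4c3tautjacobian.dv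
    split_ifs <;> simp
  · intro x y _ _ hx hy; rw [map_add]; exact hx.add hy
  · intro x y _ _ hx hy; rw [map_mul]; exact hx.mul hy

/-- Reduction of `x 0 (2 i)`, `g < 3 i`, to lower symbols. -/
lemma exists_reduce (i : ℕ) (hgi : g < 3 * i) (hi1 : 1 ≤ i) (hig : i + 1 ≤ g) :
    ∃ q ∈ Algebra.adjoin ℚ ({X none} ∪ {P | ∃ j : ℕ, 1 ≤ j ∧ j < i ∧ P = xv g 0 (2 * j)} :
        Set (RelRing g)),
      xv g 0 (2 * (i : ℤ)) - q ∈ relIdeal g := by
  classical
  set b : Var g := some ⟨(3, 1), valid_top (t := 1) le_rfl (by omega)⟩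
  set A := Algebra.adjoin ℚ ({X none} ∪ {P | ∃ j : ℕ, 1 ≤ j ∧ j < i ∧ P = xv g 0 (2 * j)} :
    Set (RelRing g))
  set M : RelRing g := monomial (Finsupp.single b (2 * i)) 1 with hM
  have hv : Valid g (0, 2 * i) := ⟨by simp, by dsimp only; omega, ⟨i, by dsimp only; omega⟩,
    fun e => by simp only [Prod.ext_iff] at e; omega⟩
  set v : Var g := some ⟨(0, 2 * i), hv⟩
  have hMw : Finsupp.weight (wt g) (Finsupp.single b (2 * i)) = ((6 * i, 2 * i) : ℕ × ℕ) := by
    rw [Finsupp.weight_single]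
    show (2 * i) • ((3, 1) : ℕ × ℕ) = _
    rw [Prod.smul_mk, smul_eq_mul, smul_eq_mul]
    exact Prod.ext (by dsimp only; omega) (by dsimp only; omega)
  set P := (F g)^[3 * i] M
  have hPI : P ∈ relIdeal g :=
    Ideal.subset_span ⟨_, 3 * i, by rw [hMw]; dsimp only; omega, rfl⟩
  have hPhom : IsWeightedHomogeneous (W g) P ((0 : ℤ), (2 * i : ℤ)) := by
    convert iterate_F_isWH (isWH_of_wt (isWeightedHomogeneous_monomial _ _ (1 : ℚ) hMw)) (3 * i)
      using 2 <;> push_cast <;> ring
  set d₀ : Var g →₀ ℕ := Finsupp.single v 1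
  set c := coeff d₀ P
  have hq : P - c • X v ∈ A := by
    rw [MvPolynomial.as_sum (P - c • X v)]
    refine sum_mem fun d hd => ?_
    have hne : d ≠ d₀ := by
      rintro rfl
      rw [MvPolynomial.mem_support_iff, coeff_sub, coeff_smul] at hd
      simp [c, d₀, coeff_X] at hd
    have hdP : coeff d P ≠ 0 := by
      rw [MvPolynomial.mem_support_iff, coeff_sub, coeff_smul] at hd
      rwa [show coeff d (X v : RelRing g) = 0 by
        rw [coeff_X]; exact if_neg (Ne.symm hne), smul_zero, sub_zero] at hd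
    have hw := hPhom hdP
    rw [weight_W, Prod.ext_iff] at hw
    dsimp only at hw
    rw [monomial_eq]
    refine mul_mem (Subalgebra.algebraMap_mem A _) (prod_mem fun a ha => ?_)
    refine pow_mem ?_ _
    obtain ⟨e, rfl⟩ : ∃ e, d = Finsupp.single a 1 + e :=
      ⟨d - Finsupp.single a 1, (add_tsub_cancel_of_le (Finsupp.single_le_iff.mpr
        (Nat.one_le_iff_ne_zero.mpr (Finsupp.mem_support_iff.mp ha)))).symm⟩
    rw [map_add, Finsupp.weight_single, one_smul, Prod.fst_add, Prod.snd_add] at hw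
    match a with
    | none => exact Algebra.subset_adjoin (Or.inl rfl)
    | some ⟨(p, q), hpq⟩ =>
      have e1 : (wt g (some ⟨(p, q), hpq⟩)).1 = p := rfl
      have e2 : (wt g (some ⟨(p, q), hpq⟩)).2 = q := rfl
      rw [e1, e2] at hw
      obtain rfl : p = 0 := by omega
      obtain ⟨-, h2, h3, h4⟩ := id hpq
      dsimp only at h2 h3
      rw [zero_add] at h3
      obtain ⟨j, rfl⟩ := h3
      refine Algebra.subset_adjoin (Or.inr ⟨j, ?_, ?_, ?_⟩)
      · by_contra h
        exact h4 (by ext <;> simp only <;> omega)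
      · by_contra h
        have hji : j = i := by omega
        subst hji
        have he0 : e = 0 := by
          by_contra he
          obtain ⟨w, hw'⟩ := Finsupp.ne_iff.mp he
          obtain ⟨e', rfl⟩ : ∃ e', e = Finsupp.single w 1 + e' :=
            ⟨e - Finsupp.single w 1, (add_tsub_cancel_of_le (Finsupp.single_le_iff.mpr
              (Nat.one_le_iff_ne_zero.mpr hw'))).symm⟩
          rw [map_add, Finsupp.weight_single, one_smul, Prod.fst_add, Prod.snd_add] at hw
          match w with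
          | none =>
            have : (wt g (none : Var g)).2 = 2 := rfl
            omega
          | some ⟨(a', b'), hab⟩ =>
            have f1 : (wt g (some ⟨(a', b'), hab⟩)).1 = a' := rfl
            have f2 : (wt g (some ⟨(a', b'), hab⟩)).2 = b' := rfl
            exact hab.2.2.2 (by ext <;> simp only <;> omega)
        exact hne (by rw [he0, add_zero]; simp only [d₀, v]; congr 3; ext <;> simp only <;> omega)
      · rw [show (2 * (j : ℤ)) = (((j + j : ℕ)) : ℤ) by push_cast; ring]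
        exact (xv_var ⟨(0, j + j), hpq⟩).symm
  have hc : c ≠ 0 := by
    intro h0
    rw [h0, zero_smul, sub_zero] at hq
    have hzero := dv_σ_adjoin hq
    have hσM : σ g M = (X b : RelRing g) ^ (2 * i) := by
      rw [hM, ← X_pow_eq_monomial, map_pow, show σ g (X b) = -X b by simp [σ, b],
        Even.neg_pow ⟨i, by omega⟩]
    have hfree : Free (2, 0) (σ g M) := by
      rw [hσM]
      refine Finset.pow_eq_prod_const (X b : RelRing g) (2 * i) ▸ ?_
      exact Finset.prod_induction _ (Free (2, 0)) (fun _ _ => Free.mul)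
        (by simpa using Free.natCast (g := g) (2, 0) 1) fun _ _ => Free.X _ (by simp)
    have hG := (iterate_σ_F hfree (3 * i)).1
    obtain ⟨c', hc', hnn⟩ := hσM ▸ dom_iterate (g := g) i hi1 hig
    have := (hnn.dv (0, 2 * i)) 0
    rw [← hG, sub_eq_add_neg, ← neg_smul, dv_add, dv_smul, hzero, zero_add,
      show (2 * (i : ℤ)) = (((0, 2 * i) : ℕ × ℕ).2 : ℤ) by push_cast; rfl,
      show (0 : ℤ) = (((0, 2 * i) : ℕ × ℕ).1 : ℤ) from rfl, xv_var ⟨(0, 2 * i), hv⟩,
      dv_var ⟨(0, 2 * i), hv⟩, pderiv_X_self, coeff_smul, coeff_one, if_pos rfl] at this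
    simp at this
    linarith
  refine ⟨-(c⁻¹ • (P - c • X v)), neg_mem (Subalgebra.smul_mem A hq _), ?_⟩
  rw [show (2 * (i : ℤ)) = (((0, 2 * i) : ℕ × ℕ).2 : ℤ) by push_cast; rfl,
    show (0 : ℤ) = (((0, 2 * i) : ℕ × ℕ).1 : ℤ) from rfl, xv_var ⟨(0, 2 * i), hv⟩, sub_neg_eq_add,
    smul_sub, smul_smul, inv_mul_cancel₀ hc, one_smul, add_sub_cancel]
  rw [MvPolynomial.smul_eq_C_mul]
  exact Ideal.mul_mem_left _ _ hPI

/-- Every `x 0 (2 i)` is a polynomial in the low generators modulo relations. -/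
theorem exists_low (hg : 1 ≤ g) (i : ℕ) :
    ∃ q ∈ Algebra.adjoin ℚ (lowGens g), xv g 0 (2 * (i : ℤ)) - q ∈ relIdeal g := by
  induction i using Nat.strong_induction_on with
  | _ i ih =>
    by_cases h0 : i = 0
    · subst h0
      refine ⟨_, Subalgebra.natCast_mem _ g, ?_⟩
      simp [xv]
    by_cases hlow : 3 * i ≤ g
    · exact ⟨_, Algebra.subset_adjoin (Or.inr ⟨i, by omega, hlow, rfl⟩), by simp⟩
    by_cases hig : i + 1 ≤ g
    · obtain ⟨q, hq, hqI⟩ := exists_reduce (g := g) i (by omega) (by omega) hig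
      suffices ∃ q' ∈ Algebra.adjoin ℚ (lowGens g), q - q' ∈ relIdeal g by
        obtain ⟨q', h1, h2⟩ := this
        exact ⟨q', h1, by simpa using add_mem hqI h2⟩
      refine Algebra.adjoin_induction (p := fun q _ =>
        ∃ q' ∈ Algebra.adjoin ℚ (lowGens g), q - q' ∈ relIdeal g) ?_ ?_ ?_ ?_ hq
      · rintro x (rfl | ⟨j, hj, hji, rfl⟩)
        · exact ⟨_, Algebra.subset_adjoin (Or.inl rfl), by simp⟩
        · exact ih j hji
      · exact fun r => ⟨_, Subalgebra.algebraMap_mem _ r, by simp⟩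
      · rintro x y _ _ ⟨x', hx1, hx2⟩ ⟨y', hy1, hy2⟩
        exact ⟨x' + y', add_mem hx1 hy1, by simpa [add_sub_add_comm] using add_mem hx2 hy2⟩
      · rintro x y _ _ ⟨x', hx1, hx2⟩ ⟨y', hy1, hy2⟩
        refine ⟨x' * y', mul_mem hx1 hy1, ?_⟩
        rw [show x * y - x' * y' = (x - x') * y + x' * (y - y') by ring]
        exact add_mem (Ideal.mul_mem_right _ _ hx2) (Ideal.mul_mem_left _ _ hy2)
    · refine ⟨0, zero_mem _, ?_⟩
      have : xv g 0 (2 * (i : ℤ)) = 0 := by
        unfold W4c3tautjacobian.xv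
        rw [if_neg (by omega), dif_neg]
        rintro ⟨-, -, -, h2, -, -⟩
        dsimp only at h2
        omega
      simp [this]

end Groth.Agent.L13.TautJac
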