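import Mathlib.RingTheory.MvPolynomial.Homogeneous
import Mathlib.Algebra.Polynomial.Degree.Operations
import Mathlib.Algebra.Polynomial.BigOperators
import Mathlib.Algebra.Polynomial.AlgebraMap
import Mathlib.FieldTheory.Perfect

/-!
# Leading coefficient after the substitution `x ↦ x + t^S g`
-/

set_option autoImplicit false
universe u v

open Polynomial

noncomputable section

namespace Groth.L13.TwistLead

variable {k : Type u} [CommRing k] {r : ℕ} {K : Type v} [CommRing K] [Algebra k K] (S : ℕ) (g : Fin r → K)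

local notation "L" => MvPolynomial (Fin r) K

/-- the substitution -/
def sub : MvPolynomial (Fin r) k →ₐ[k] (MvPolynomial (Fin r) K)[X] :=
  MvPolynomial.aeval fun i : Fin r => C (MvPolynomial.X i) + C (MvPolynomial.C (g i)) * X ^ S

/-- degree at most `S n` with given top coefficient -/
def G (q : (MvPolynomial (Fin r) K)[X]) (n : ℕ) (v : K) : Prop :=
  q.natDegree ≤ S * n ∧ q.coeff (S * n) = MvPolynomial.C v

variable {S g}

theorem G.one : G (r := r) S (1 : L[X]) 0 (1 : K) := ⟨by simp, by simp⟩

theorem G.mul {q q' : L[X]} {n n' : ℕ} {v v' : K} (h : G S q n v) (h' : G S q' n' v') :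
    G S (q * q') (n + n') (v * v') :=
  ⟨natDegree_mul_le.trans (by rw [Nat.mul_add]; exact Nat.add_le_add h.1 h'.1),
    by rw [Nat.mul_add, coeff_mul_add_eq_of_natDegree_le h.1 h'.1, h.2, h'.2, map_mul]⟩

theorem G.pow {q : L[X]} {n : ℕ} {v : K} (h : G S q n v) : ∀ e : ℕ, G S (q ^ e) (e * n) (v ^ e)
  | 0 => by simpa using G.one
  | e + 1 => by rw [pow_succ, pow_succ, Nat.succ_mul]; exact (G.pow h e).mul h

theorem G_var (hS : 0 < S) (i : Fin r) :
    G S (C (MvPolynomial.X i : L) + C (MvPolynomial.C (g i)) * X ^ S) 1 (g i) := by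
  refine ⟨?_, ?_⟩
  · rw [mul_one]
    exact natDegree_add_le_of_degree_le (by rw [natDegree_C]; exact Nat.zero_le S)
      (natDegree_C_mul_X_pow_le _ _)
  · rw [mul_one, coeff_add, coeff_C, if_neg hS.ne', coeff_C_mul_X_pow, if_pos rfl, zero_add]

theorem G_monomial (hS : 0 < S) (α : Fin r →₀ ℕ) (c : k) :
    G S (sub (k := k) S g (MvPolynomial.monomial α c)) α.degree (MvPolynomial.aeval g (MvPolynomial.monomial α c)) := by
  classical
  have key : ∀ s : Finset (Fin r),
      G S (∏ i ∈ s, (C (MvPolynomial.X i : L) + C (MvPolynomial.C (g i)) * X ^ S) ^ α i) (∑ i ∈ s, α i)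
        (∏ i ∈ s, g i ^ α i) := by
    intro s
    induction s using Finset.induction with
    | empty => simpa using G.one
    | @insert i s hi ih =>
      rw [Finset.prod_insert hi, Finset.sum_insert hi, Finset.prod_insert hi]
      simpa using ((G_var hS i).pow (α i)).mul ih
  have h0 : G S (algebraMap k L[X] c) 0 (algebraMap k K c) := by
    rw [Polynomial.algebraMap_apply, MvPolynomial.algebraMap_apply]
    exact ⟨by simp, by simp⟩
  rw [sub, MvPolynomial.aeval_monomial, MvPolynomial.aeval_monomial, Finsupp.prod, Finsupp.prod,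
    Finsupp.degree]
  simpa using h0.mul (key α.support)

theorem G_sub (hS : 0 < S) (P : MvPolynomial (Fin r) k) (D : ℕ) (hP : P.totalDegree ≤ D) :
    G S (sub (k := k) S g P) D (MvPolynomial.aeval g (MvPolynomial.homogeneousComponent D P)) := by
  classical
  have hmon : ∀ α ∈ P.support, α.degree ≤ D := fun α hα =>
    le_trans (by simpa [Finsupp.degree, Finsupp.sum] using MvPolynomial.le_totalDegree hα) hP
  refine ⟨?_, ?_⟩
  · conv_lhs => rw [P.as_sum, map_sum]
    exact natDegree_sum_le_of_forall_le _ _ fun α hα =>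
      (G_monomial hS α _).1.trans (Nat.mul_le_mul_left _ (hmon α hα))
  · conv_lhs => rw [P.as_sum, map_sum, finsetSum_coeff]
    rw [MvPolynomial.homogeneousComponent_apply, map_sum, map_sum, Finset.sum_filter]
    refine Finset.sum_congr rfl fun α hα => ?_
    split_ifs with h
    · subst h
      exact (G_monomial hS α _).2
    · exact coeff_eq_zero_of_natDegree_lt ((G_monomial hS α _).1.trans_lt
        (Nat.mul_lt_mul_of_pos_left (lt_of_le_of_ne (hmon α hα) h) hS))

end Groth.L13.TwistLead

namespace Groth.L13.TwistLead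

theorem exists_leading {k : Type u} [Field k] (r m : ℕ)
    (f : Polynomial (MvPolynomial (Fin r) k)) (hf : f ≠ 0) :
    ∃ h : MvPolynomial (Fin r) k, h ≠ 0 ∧ ∃ s₀ : ℕ, ∀ s : ℕ, s₀ ≤ s →
      ∀ (K : Type v) [Field K] [Algebra k K] (g : Fin r → K), MvPolynomial.aeval g h ≠ 0 →
        ∃ c : K, c ≠ 0 ∧
          (Polynomial.eval₂ (sub (k := k) (s * (m + 1)) g).toRingHom Polynomial.X f).leadingCoeff =
            MvPolynomial.C c := by
  classical
  obtain ⟨j₀, hj₀, hD⟩ := Finset.exists_max_image f.support (fun j => (f.coeff j).totalDegree)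
    (Finset.nonempty_iff_ne_empty.2 fun h => hf (Polynomial.support_eq_empty.1 h))
  set D := (f.coeff j₀).totalDegree
  let s1 := f.support.filter fun j => (f.coeff j).totalDegree = D
  have hs1 : j₀ ∈ s1 := Finset.mem_filter.2 ⟨hj₀, rfl⟩
  obtain ⟨hj, hjD⟩ := Finset.mem_filter.1 (s1.max'_mem ⟨j₀, hs1⟩)
  set j := s1.max' ⟨j₀, hs1⟩
  have hne : f.coeff j ≠ 0 := Polynomial.mem_support_iff.1 hj
  refine ⟨MvPolynomial.homogeneousComponent D (f.coeff j), ?_, f.natDegree + 1,
    fun s hs K _ _ g hg => ⟨_, hg, ?_⟩⟩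
  · obtain ⟨α, hα, hαD⟩ := (f.coeff j).support.exists_mem_eq_sup (MvPolynomial.support_nonempty.2 hne)
      fun α => α.sum fun _ e => e
    intro h0
    have h1 := congrArg (MvPolynomial.coeff α) h0
    rw [MvPolynomial.coeff_homogeneousComponent, if_pos, MvPolynomial.coeff_zero] at h1
    · exact MvPolynomial.mem_support_iff.1 hα h1
    · rw [← hjD]
      exact hαD.symm
  · set S := s * (m + 1)
    have hSgt : f.natDegree < S := lt_of_lt_of_le hs (Nat.le_mul_of_pos_right s (Nat.succ_pos m))
    have hS : 0 < S := lt_of_le_of_lt (Nat.zero_le _) hSgt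
    have hGs : ∀ i ∈ f.support, G S (sub (k := k) S g (f.coeff i)) D
        (MvPolynomial.aeval g (MvPolynomial.homogeneousComponent D (f.coeff i))) :=
      fun i hi => G_sub hS _ D (hD i hi)
    have hexp : Polynomial.eval₂ (sub (k := k) S g).toRingHom Polynomial.X f =
        ∑ i ∈ f.support, sub (k := k) S g (f.coeff i) * X ^ i := by
      rw [Polynomial.eval₂_eq_sum, Polynomial.sum_def]; rfl
    have htop : ∀ i ∈ f.support, i ≠ j →
        ∀ N, S * D + j ≤ N → (sub (k := k) S g (f.coeff i) * X ^ i).coeff N = 0 := by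
      intro i hi hij N hN
      rw [coeff_mul_X_pow']
      split_ifs with hiN
      · refine coeff_eq_zero_of_natDegree_lt ?_
        rcases lt_or_eq_of_le (hD i hi) with hlt | heq
        · obtain ⟨D', hD'⟩ : ∃ D', D = D' + 1 := ⟨D - 1, by omega⟩
          refine (G_sub hS _ D' (by omega)).1.trans_lt ?_
          rw [hD', Nat.mul_succ] at hN
          have := Polynomial.le_natDegree_of_mem_supp i hi
          omega
        · have hle : i ≤ j := s1.le_max' i (Finset.mem_filter.2 ⟨hi, heq⟩)
          refine (hGs i hi).1.trans_lt ?_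
          omega
      · rfl
    have hjle : ∀ N, S * D + j < N → (sub (k := k) S g (f.coeff j) * X ^ j).coeff N = 0 := fun N hN => by
      rw [coeff_mul_X_pow', if_pos (by omega)]
      exact coeff_eq_zero_of_natDegree_lt ((hGs j hj).1.trans_lt (by omega))
    have hdeg : (Polynomial.eval₂ (sub (k := k) S g).toRingHom Polynomial.X f).natDegree = S * D + j := by
      refine le_antisymm (natDegree_le_iff_coeff_eq_zero.2 fun N hN => ?_) (le_natDegree_of_ne_zero ?_)
      · rw [hexp, finsetSum_coeff]
        refine Finset.sum_eq_zero fun i hi => ?_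
        rcases eq_or_ne i j with rfl | hij
        · exact hjle N hN
        · exact htop i hi hij N hN.le
      · rw [hexp, finsetSum_coeff, Finset.sum_eq_single_of_mem j hj fun i hi hij => htop i hi hij _ le_rfl,
          coeff_mul_X_pow, (hGs j hj).2]
        exact fun h => hg (MvPolynomial.C_eq_zero.1 h)
    rw [leadingCoeff, hdeg, hexp, finsetSum_coeff,
      Finset.sum_eq_single_of_mem j hj fun i hi hij => htop i hi hij _ le_rfl, coeff_mul_X_pow, (hGs j hj).2]

end Groth.L13.TwistLead
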