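import Groth.Agent.L22.FibreDim
import Groth.Agent.L22.FibreBound
import Groth.Agent.L06.Constr
import Mathlib.AlgebraicGeometry.Morphisms.FinitePresentation
import Mathlib.AlgebraicGeometry.Morphisms.Separated
import Mathlib.AlgebraicGeometry.Noetherian
import Mathlib.AlgebraicGeometry.PullbackCarrier
import Mathlib.RingTheory.RingHom.PurelyInseparable
import Mathlib.FieldTheory.PurelyInseparable.Tower

/-!
Well intersecting closed subsets with respect to a morphism.
-/

universe u

open CategoryTheory AlgebraicGeometry TopologicalSpace Topology Set Limits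

namespace Groth.L13.WellInter

/-- `Y ×_S Z` minus the diagonal. -/
def offDiag {X S : Scheme.{u}} (f : X ⟶ S) (Y Z : Set X) : Set ↥(pullback f f) :=
  {p | pullback.fst f f p ∈ Y ∧ pullback.snd f f p ∈ Z ∧ p ∉ Set.range (pullback.diagonal f)}

theorem not_natCast_le {T D : WithBot ℕ∞} {y z : ℕ}
    (h : T + D ≤ (y : WithBot ℕ∞) + (z : WithBot ℕ∞)) (hz : (z : WithBot ℕ∞) < D) :
    ¬ (y : WithBot ℕ∞) ≤ T := by
  intro hy
  replace h := (add_le_add hy le_rfl).trans h
  induction D with
  | bot => exact not_lt_bot hz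
  | coe D =>
    induction D with
    | top =>
      have h' : ((y : ℕ∞) + ⊤ : ℕ∞) ≤ (y : ℕ∞) + (z : ℕ∞) := WithBot.coe_le_coe.1 h
      simp at h'
    | coe d =>
      have h1 : y + d ≤ y + z := by exact_mod_cast h
      have h2 : z < d := by exact_mod_cast hz
      omega

theorem specializes_range {X : Scheme.{u}} {p p' : X} {C : Set X} (hC : IsClosed C) (h : p ⤳ p')
    (hp : p ∈ C) : p' ∈ C := h.mem_closed hC hp

variable (k : Type u) [Field k] {X S : Scheme.{u}} (q : S ⟶ Spec (CommRingCat.of k)) (f : X ⟶ S)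
  [LocallyOfFiniteType q] [LocallyOfFiniteType f]

include k q in
theorem dim_closure_fst_le [IsSeparated f] {Y Z : Set X} (hY : IsClosed Y) (hZ : IsClosed Z)
    {p : ↥(pullback f f)} (hp : p ∈ offDiag f Y Z) :
    topologicalKrullDim (closure ({pullback.fst f f p} : Set X)) ≤
      topologicalKrullDim (offDiag f Y Z) := by
  letI : X.Over (Spec (CommRingCat.of k)) := ⟨f ≫ q⟩
  letI : (pullback f f).Over (Spec (CommRingCat.of k)) := ⟨pullback.fst f f ≫ f ≫ q⟩
  haveI : LocallyOfFiniteType (X ↘ Spec (CommRingCat.of k)) :=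
    (inferInstance : LocallyOfFiniteType (f ≫ q))
  haveI : LocallyOfFiniteType (pullback f f ↘ Spec (CommRingCat.of k)) :=
    (inferInstance : LocallyOfFiniteType (pullback.fst f f ≫ f ≫ q))
  obtain ⟨a, b, ha, -, hab⟩ := L22.FibreDim.exists_dim_closure_add k (pullback.fst f f) rfl p
  have hD : IsClosed (Set.range (pullback.diagonal f)) :=
    (pullback.diagonal f).isClosedEmbedding.isClosed_range
  obtain ⟨_, ⟨V, hV, rfl⟩, hpV, hVD⟩ :=
    (pullback f f).isBasis_affineOpens.exists_subset_of_mem_open hp.2.2 hD.isOpen_compl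
  change (pullback f f).Opens at V
  replace hV : IsAffineOpen V := hV
  refine le_trans ?_ (le_trans (le_of_eq (show topologicalKrullDim (closure ({p} : Set ↥(pullback f f))) =
    topologicalKrullDim (closure ({p} : Set ↥(pullback f f)) ∩ V : Set ↥(pullback f f)) from ?_))
    (L22.SchemeDim.topologicalKrullDim_mono ?_))
  · rw [ha]
    exact (show (a : WithBot ℕ∞) ≤ ((a + b : ℕ) : WithBot ℕ∞) by
      exact_mod_cast Nat.le_add_right a b).trans_eq hab.symm
  · rw [L22.FibreBound.dim_closure_eq k hV hpV,
      ← L22.SchemeDim.topologicalKrullDim_closure_inter hV hpV]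
  · rintro p' ⟨hp', hp'V⟩
    have h : p ⤳ p' := specializes_iff_mem_closure.2 hp'
    exact ⟨(h.map (pullback.fst f f).continuous).mem_closed hY hp.1,
      (h.map (pullback.snd f f).continuous).mem_closed hZ hp.2.1, hVD hp'V⟩

include k q in
/-- The generic point of `Y` is not the first projection of an off-diagonal point. -/
theorem fst_ne [IsSeparated f] {Y Z : Set X} (hY : IsClosed Y) (hZ : IsClosed Z)
    (hZi : IsIrreducible Z) {η : X} (hη : IsGenericPoint η Y)
    (hWI : topologicalKrullDim (offDiag f Y Z) + topologicalKrullDim S ≤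
      topologicalKrullDim Y + topologicalKrullDim Z)
    (hZS : topologicalKrullDim Z < topologicalKrullDim S)
    {p : ↥(pullback f f)} (hp : p ∈ offDiag f Y Z) : pullback.fst f f p ≠ η := by
  intro he
  letI : X.Over (Spec (CommRingCat.of k)) := ⟨f ≫ q⟩
  haveI : LocallyOfFiniteType (X ↘ Spec (CommRingCat.of k)) :=
    (inferInstance : LocallyOfFiniteType (f ≫ q))
  have h := dim_closure_fst_le k q f hY hZ hp
  rw [he] at h
  obtain ⟨y, hy, -⟩ := L22.SchemeDim.exists_dim_closure_eq_trdeg k X η
  obtain ⟨ζ, hζ⟩ := QuasiSober.sober hZi hZ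
  obtain ⟨z, hz, -⟩ := L22.SchemeDim.exists_dim_closure_eq_trdeg k X ζ
  rw [hy] at h
  rw [hη.def] at hy
  rw [hζ.def] at hz
  rw [hy, hz] at hWI
  rw [hz] at hZS
  exact not_natCast_le hWI hZS h

omit [LocallyOfFiniteType f] in
/-- If every pair of points of `Spec κ(x) ×_S Spec κ(x)` is diagonal, then `κ(x)` is purely
inseparable over `κ(f x)`. -/
theorem isPurelyInseparable_of_forall_diag (x : X)
    (h : ∀ p : ↥(pullback f f), pullback.fst f f p = x → pullback.snd f f p = x →
      p ∈ Set.range (pullback.diagonal f)) :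
    (f.residueFieldMap x).hom.IsPurelyInseparable := by
  letI : Algebra (S.residueField (f x)) (X.residueField x) := (f.residueFieldMap x).hom.toAlgebra
  show IsPurelyInseparable (S.residueField (f x)) (X.residueField x)
  refine isPurelyInseparable_of_finSepDegree_eq_one (Nat.card_eq_one_iff_unique.2 ⟨⟨fun a b => ?_⟩,
    ⟨Classical.arbitrary _⟩⟩)
  let Ω := CommRingCat.of (AlgebraicClosure (X.residueField x))
  let a' : X.residueField x ⟶ Ω := CommRingCat.ofHom a.toRingHom
  let b' : X.residueField x ⟶ Ω := CommRingCat.ofHom b.toRingHom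
  have hab : f.residueFieldMap x ≫ a' = f.residueFieldMap x ≫ b' := by
    ext c
    exact (a.commutes c).trans (b.commutes c).symm
  let ha := Spec.map a' ≫ X.fromSpecResidueField x
  let hb := Spec.map b' ≫ X.fromSpecResidueField x
  have hcomm : ha ≫ f = hb ≫ f := by
    simp only [ha, hb, Category.assoc, ← Scheme.Hom.SpecMap_residueFieldMap_fromSpecResidueField,
      ← Spec.map_comp_assoc, hab]
  let g := pullback.lift ha hb hcomm
  obtain ⟨p, θ, hgθ⟩ : ∃ (p : ↥(pullback f f)) (θ : (pullback f f).residueField p ⟶ Ω),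
      g = Spec.map θ ≫ (pullback f f).fromSpecResidueField p :=
    ⟨_, _, ((Scheme.SpecToEquivOfField (AlgebraicClosure (X.residueField x)) (pullback f f)).symm_apply_apply g).symm⟩
  have hp : ∀ (pr : pullback f f ⟶ X) (c : X.residueField x ⟶ Ω),
      g ≫ pr = Spec.map c ≫ X.fromSpecResidueField x → pr p = x := by
    intro pr c hc
    have h1 := congrArg (fun φ => φ (IsLocalRing.closedPoint Ω)) hc
    rw [hgθ] at h1
    change pr ((pullback f f).fromSpecResidueField p (Spec.map θ _)) =
      X.fromSpecResidueField x (Spec.map c _) at h1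
    rwa [Scheme.fromSpecResidueField_apply, Scheme.fromSpecResidueField_apply] at h1
  obtain ⟨y, rfl⟩ := h p (hp _ a' (pullback.lift_fst ..)) (hp _ b' (pullback.lift_snd ..))
  haveI : IsIso ((pullback.diagonal f).residueFieldMap y) :=
    (ConcreteCategory.isIso_iff_bijective _).2
      (L22.FibreDim.residueFieldMap_bijective (pullback.diagonal f) y)
  have hfac : (pullback f f).fromSpecResidueField (pullback.diagonal f y) =
      Spec.map (inv ((pullback.diagonal f).residueFieldMap y)) ≫ X.fromSpecResidueField y ≫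
        pullback.diagonal f := by
    rw [← Scheme.Hom.SpecMap_residueFieldMap_fromSpecResidueField, ← Spec.map_comp_assoc,
      IsIso.hom_inv_id, Spec.map_id, Category.id_comp]
  have heq : ha = hb := by
    refine (pullback.lift_fst ha hb hcomm).symm.trans (Eq.trans ?_ (pullback.lift_snd ha hb hcomm))
    show g ≫ _ = g ≫ _
    rw [hgθ, hfac]
    simp only [Category.assoc, pullback.diagonal_fst, pullback.diagonal_snd]
  have := Spec.map_injective ((cancel_mono _).1 heq)
  exact AlgHom.ext fun c => congrArg (fun φ => φ.hom c) this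

end Groth.L13.WellInter
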